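import Mathlib
import Cfsg.Statements.S4035
import Cfsg.Agent.Lib.Helper7.SylowFix
import Cfsg.Agent.Lib.Helper7.ClassCount

set_option autoImplicit false
open Cfsg

namespace Cfsg.Agent.S4035

open Cfsg.Agent.Lib.Helper7

theorem not_dvd_index_centralizer {G : Type*} [Group G] [Finite G] {p : ℕ} [Fact p.Prime]
    (h : ∀ x : G, (orderOf x).Coprime p → ¬ p ∣ (ConjClasses.mk x).carrier.ncard)
    (x : G) (hx : (orderOf x).Coprime p) :
    ¬ p ∣ (Subgroup.centralizer ({x} : Set G)).index := by
  have h1 := ncard_cls_mul_card_centralizer x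
  have h2 : (ConjClasses.mk x).carrier = {y : G | IsConj x y} := by
    ext y
    rw [ConjClasses.mem_carrier_iff_mk_eq, Set.mem_setOf_eq, ConjClasses.mk_eq_mk_iff_isConj]
    exact ⟨fun h => h.symm, fun h => h.symm⟩
  have h3 : (Subgroup.centralizer ({x} : Set G)).index = (ConjClasses.mk x).carrier.ncard := by
    have h4 := (Subgroup.centralizer ({x} : Set G)).card_mul_index
    rw [← h1, mul_comm] at h4
    rw [h2]
    exact Nat.eq_of_mul_eq_mul_right Nat.card_pos h4
  rw [h3]
  exact h x hx

/-- Let G be a finite group and p a prime such that p divides the size of no conjugacy class of p-regular elements (elements of order prime to p). Then G is the internal direct product of a Sylow p-subgroup P and a normal subgroup H of order prime to p: P is normal, P ⊓ H = 1 and PH = G. -/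
theorem result {G : Type*} [Group G] [Finite G] {p : ℕ} [Fact p.Prime]
    (h : ∀ x : G, (orderOf x).Coprime p → ¬ p ∣ (ConjClasses.mk x).carrier.ncard) (P : Sylow p G) :
    (P : Subgroup G).Normal ∧ ∃ H : Subgroup G, H.Normal ∧ ¬ p ∣ Nat.card H ∧
      (P : Subgroup G) ⊓ H = ⊥ ∧ (P : Subgroup G) ⊔ H = ⊤ := by
  have hp : p.Prime := Fact.out
  -- every element normalizes a Sylow subgroup
  have hfix : ∀ g : G, ∃ R : Sylow p G, g • R = R := by
    intro g
    obtain ⟨x, y, hxy, hx, hy, hg⟩ := exists_p_decomp p g
    have hidx := not_dvd_index_centralizer h x hx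
    have hyC : Subgroup.zpowers y ≤ Subgroup.centralizer ({x} : Set G) := by
      rw [Subgroup.zpowers_le, Subgroup.mem_centralizer_singleton_iff]
      exact hxy.eq.symm
    obtain ⟨R, hyR, hRC⟩ := exists_sylow_between _ hidx _ hy hyC
    refine ⟨R, ?_⟩
    rw [Sylow.smul_eq_iff_mem_normalizer]
    have hcl : Subgroup.closure ({x, y} : Set G) ≤ Subgroup.normalizer (R : Set G) := by
      rw [Subgroup.closure_le]
      intro z hz
      rcases hz with rfl | rfl
      · -- z centralizes R
        change z ∈ Subgroup.normalizer ((R : Subgroup G) : Set G)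
        rw [Subgroup.mem_normalizer_iff]
        intro r
        constructor
        · intro hr
          have := Subgroup.mem_centralizer_singleton_iff.mp (hRC hr)
          have e : z * r * z⁻¹ = r := by rw [← this, mul_inv_cancel_right]
          rw [e]; exact hr
        · intro hr
          have hr' : z * r * z⁻¹ ∈ Subgroup.centralizer ({z} : Set G) := hRC hr
          have hz : z ∈ Subgroup.centralizer ({z} : Set G) :=
            Subgroup.mem_centralizer_singleton_iff.mpr rfl
          have hrc : r ∈ Subgroup.centralizer ({z} : Set G) := by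
            have := Subgroup.mul_mem _ (Subgroup.mul_mem _ (Subgroup.inv_mem _ hz) hr') hz
            simpa [mul_assoc] using this
          have := Subgroup.mem_centralizer_singleton_iff.mp hrc
          have e : z * r * z⁻¹ = r := by rw [← this, mul_inv_cancel_right]
          rwa [e] at hr
      · exact Subgroup.le_normalizer (hyR (Subgroup.mem_zpowers _))
    exact hcl hg
  have hcard : Nat.card (Sylow p G) = 1 := card_eq_one_of_forall_fixed hfix
  haveI : Subsingleton (Sylow p G) := (Nat.card_eq_one_iff_unique.mp hcard).1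
  have hPn : (P : Subgroup G).Normal := Sylow.normal_of_subsingleton P
  refine ⟨hPn, ?_⟩
  obtain ⟨K, hK⟩ := Subgroup.exists_right_complement'_of_coprime P.card_coprime_index
  have hKcard : Nat.card K = (P : Subgroup G).index := hK.symm.index_eq_card.symm
  have hKp : ¬ p ∣ Nat.card K := by rw [hKcard]; exact P.not_dvd_index
  -- K centralizes P
  have hcent : ∀ k ∈ K, ∀ a ∈ (P : Subgroup G), a * k = k * a := by
    intro k hk a ha
    have hko : (orderOf k).Coprime p := by
      have h1 : orderOf k ∣ Nat.card K := by
        have := orderOf_dvd_natCard (⟨k, hk⟩ : K)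
        rwa [Subgroup.orderOf_mk] at this
      exact Nat.Coprime.coprime_dvd_left h1
        ((Nat.Prime.coprime_iff_not_dvd hp).mpr hKp).symm
    have hidx := not_dvd_index_centralizer h k hko
    obtain ⟨R, -, hRC⟩ := exists_sylow_between _ hidx ⊥ IsPGroup.of_bot bot_le
    have hRP : R = P := Subsingleton.elim _ _
    rw [hRP] at hRC
    exact Subgroup.mem_centralizer_singleton_iff.mp (hRC ha)
  refine ⟨K, ?_, hKp, disjoint_iff.mp hK.disjoint, hK.sup_eq_top⟩
  constructor
  intro k hk g
  obtain ⟨⟨⟨a, ha⟩, ⟨b, hb⟩⟩, hab⟩ := hK.existsUnique g |>.exists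
  simp only at hab
  subst hab
  have e : a * b * k * (a * b)⁻¹ = b * k * b⁻¹ := by
    have h1 := hcent (b * k * b⁻¹) (K.mul_mem (K.mul_mem hb hk) (K.inv_mem hb)) a ha
    rw [mul_inv_rev]
    calc a * b * k * (b⁻¹ * a⁻¹) = (a * (b * k * b⁻¹)) * a⁻¹ := by group
      _ = (b * k * b⁻¹ * a) * a⁻¹ := by rw [h1]
      _ = b * k * b⁻¹ := by group
  rw [e]
  exact K.mul_mem (K.mul_mem hb hk) (K.inv_mem hb)

end Cfsg.Agent.S4035
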