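import Cfsg.Statements.S4036
import Mathlib

set_option autoImplicit false
open Cfsg

namespace Cfsg.Agent.S4036

/-- Let P be a finite abelian p-group and K a group of automorphisms of P (a subgroup of Aut P) whose order is divisible by p. If all non-identity elements of K have the same fixed-point subgroup on P, then K has no non-trivial normal subgroup of order prime to p. -/
theorem result {P : Type*} [CommGroup P] [Finite P] {p : ℕ}
    [Fact p.Prime] (hP : IsPGroup p P) (K : Subgroup (MulAut P)) (hK : p ∣ Nat.card K)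
    (hfix : ∀ x y : MulAut P, x ∈ K → y ∈ K → x ≠ 1 → y ≠ 1 → ∀ v : P, x v = v ↔ y v = v) :
    ∀ N : Subgroup ↥K, N.Normal → ¬ p ∣ Nat.card N → N = ⊥ := by
  classical
  intro N hNn hNp
  have hp : p.Prime := Fact.out
  haveI : Fintype (MulAut P) := Fintype.ofFinite _
  -- N inside MulAut P
  set N' : Subgroup (MulAut P) := N.map K.subtype with hN'
  have hN'K : N' ≤ K := by
    rintro _ ⟨n, -, rfl⟩; exact n.2
  have hN'card : Nat.card N' = Nat.card N := Subgroup.card_map_of_injective K.subtype_injective
  have hN'conj : ∀ c ∈ K, ∀ n ∈ N', c * n * c⁻¹ ∈ N' := by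
    rintro c hc _ ⟨n, hn, rfl⟩
    refine ⟨⟨c, hc⟩ * n * ⟨c, hc⟩⁻¹, hNn.conj_mem n hn ⟨c, hc⟩, ?_⟩
    simp
  -- an element of order p
  obtain ⟨g, hg⟩ := exists_prime_orderOf_dvd_card' p hK
  set g' : MulAut P := (g : MulAut P) with hg'
  have hg'o : orderOf g' = p := by rw [hg', Subgroup.orderOf_coe, hg]
  have hg'K : g' ∈ K := g.2
  have hg'1 : g' ≠ 1 := by
    intro h; rw [h, orderOf_one] at hg'o; exact hp.one_lt.ne hg'o
  -- W = [P, N]
  set W : Subgroup P := Subgroup.closure {w : P | ∃ v : P, ∃ n ∈ N', w = v⁻¹ * n v} with hW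
  have hWinv : ∀ c ∈ K, ∀ w ∈ W, c w ∈ W := by
    intro c hc w hw
    have : W ≤ W.comap c.toMonoidHom := by
      rw [hW, Subgroup.closure_le]
      rintro _ ⟨v, n, hn, rfl⟩
      show c (v⁻¹ * n v) ∈ W
      apply Subgroup.subset_closure
      refine ⟨c v, c * n * c⁻¹, hN'conj c hc n hn, ?_⟩
      simp [MulAut.mul_apply]
    exact this hw
  -- norm map
  let T : P →* P :=
    { toFun := fun v => ∏ n ∈ Finset.univ.filter (fun n : MulAut P => n ∈ N'), n v
      map_one' := by simp
      map_mul' := by intro x y; simp [Finset.prod_mul_distrib] }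
  have hT_apply : ∀ v, T v = ∏ n ∈ Finset.univ.filter (fun n : MulAut P => n ∈ N'), n v :=
    fun v => rfl
  have hT_inv : ∀ n₁ ∈ N', ∀ v, T (n₁ v) = T v := by
    intro n₁ hn₁ v
    rw [hT_apply, hT_apply]
    apply Finset.prod_equiv (Equiv.mulRight n₁)
    · intro n
      simp only [Finset.mem_filter, Finset.mem_univ, true_and, Equiv.coe_mulRight]
      constructor
      · intro h; exact N'.mul_mem h hn₁
      · intro h
        have := N'.mul_mem h (N'.inv_mem hn₁)
        simpa using this
    · intro n _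
      rfl
  have hTW : ∀ w ∈ W, T w = 1 := by
    intro w hw
    have : W ≤ T.ker := by
      rw [hW, Subgroup.closure_le]
      rintro _ ⟨v, n, hn, rfl⟩
      show T (v⁻¹ * n v) = 1
      rw [map_mul, map_inv, hT_inv n hn, inv_mul_cancel]
    exact this hw
  have hcardfilter : (Finset.univ.filter (fun n : MulAut P => n ∈ N')).card = Nat.card N' := by
    rw [Nat.card_eq_fintype_card, Fintype.card_subtype]
  -- W ∩ Fix(g') = 1
  have hWF : ∀ w ∈ W, g' w = w → w = 1 := by
    intro w hw hgw
    have hall : ∀ n ∈ N', n w = w := by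
      intro n hn
      by_cases hn1 : n = 1
      · rw [hn1]; rfl
      · exact (hfix g' n hg'K (hN'K hn) hg'1 hn1 w).mp hgw
    have h1 : T w = w ^ Nat.card N' := by
      rw [hT_apply, ← hcardfilter, ← Finset.prod_const]
      apply Finset.prod_congr rfl
      intro n hn
      exact hall n (Finset.mem_filter.mp hn).2
    rw [hTW w hw] at h1
    have hd1 : orderOf w ∣ Nat.card N' := orderOf_dvd_of_pow_eq_one h1.symm
    obtain ⟨k, hk⟩ := (IsPGroup.iff_orderOf.mp hP) w
    have hcop : Nat.Coprime (Nat.card N') (p ^ k) := by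
      apply Nat.Coprime.pow_right
      rw [hN'card]
      exact ((Nat.Prime.coprime_iff_not_dvd hp).mpr hNp).symm
    have hd2 : orderOf w ∣ p ^ k := by rw [hk]
    have := Nat.dvd_gcd hd1 hd2
    rw [hcop] at this
    exact orderOf_eq_one_iff.mp (Nat.dvd_one.mp this)
  -- the action of ⟨g'⟩ on W
  set Z : Subgroup (MulAut P) := Subgroup.zpowers g' with hZ
  have hZK : Z ≤ K := by rw [hZ, Subgroup.zpowers_le]; exact hg'K
  letI : MulAction Z W :=
    { smul := fun z w => ⟨(z : MulAut P) (w : P), hWinv _ (hZK z.2) _ w.2⟩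
      one_smul := by intro w; apply Subtype.ext; rfl
      mul_smul := by intro a b w; apply Subtype.ext; rfl }
  have hsmul : ∀ (z : Z) (w : W), ((z • w : W) : P) = (z : MulAut P) (w : P) := fun z w => rfl
  have hZp : IsPGroup p Z := by
    apply IsPGroup.of_card (n := 1)
    rw [pow_one, hZ, Nat.card_zpowers, hg'o]
  have hWbot : W = ⊥ := by
    by_contra hWne
    have hWp : IsPGroup p W := hP.to_subgroup W
    haveI : Nontrivial W := (Subgroup.nontrivial_iff_ne_bot W).mpr hWne
    obtain ⟨k, hk0, hk⟩ := hWp.nontrivial_iff_card.mp inferInstance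
    have hpW : p ∣ Nat.card W := by rw [hk]; exact dvd_pow_self p hk0.ne'
    have h1fix : (1 : W) ∈ MulAction.fixedPoints Z W := by
      intro z
      apply Subtype.ext
      rw [hsmul]
      simp
    obtain ⟨b, hb, hb1⟩ := hZp.exists_fixed_point_of_prime_dvd_card_of_fixed_point W hpW h1fix
    apply hb1
    have hgb : g' (b : P) = b := by
      have := hb ⟨g', Subgroup.mem_zpowers g'⟩
      have := congrArg Subtype.val this
      rw [hsmul] at this
      exact this
    have := hWF b b.2 hgb
    exact (Subtype.ext this).symm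
  -- conclude
  have hN'bot : N' = ⊥ := by
    rw [eq_bot_iff]
    intro n hn
    rw [Subgroup.mem_bot]
    apply MulEquiv.ext
    intro v
    have : v⁻¹ * n v ∈ W := Subgroup.subset_closure ⟨v, n, hn, rfl⟩
    rw [hWbot, Subgroup.mem_bot] at this
    have h2 : n v = v := by
      have := congrArg (fun t => v * t) this
      simpa using this
    rw [h2]; rfl
  exact (Subgroup.map_eq_bot_iff_of_injective N K.subtype_injective).mp hN'bot

end Cfsg.Agent.S4036
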