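import Mathlib
import Cfsg.Statements.S4037
import Cfsg.Agent.Lib.Helper8.KZ6
import Cfsg.Agent.Lib.Helper8.UP3

set_option autoImplicit false
open Cfsg

namespace Cfsg.Agent.S4037

open Cfsg.Agent.Lib.Helper1 Cfsg.Agent.Lib.Helper8 Cfsg.Agent.Lib.Helper8.KZ

/-- If an element x of a finite group G has a conjugacy class of prime-power size, then the normal closure of x in G (the subgroup generated by the conjugacy class of x) is solvable. -/
theorem result {G : Type*} [Group G] [Finite G]
    (x : G) {p : ℕ} (hp : p.Prime) (k : ℕ) (hx : (ConjClasses.mk x).carrier.ncard = p ^ k) :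
    Group.IsSolvable ↥(Subgroup.normalClosure ({x} : Set G)) := by
  have h1 : (Subgroup.centralizer ({x} : Set G)).index = p ^ k := by
    rw [← hx, ← Nat.card_coe_set_eq, card_carrier_mk]
    have e1 := card_isConj_mul_card_centralizer x
    have e2 := (Subgroup.centralizer ({x} : Set G)).card_mul_index
    have h2 : Nat.card (Subgroup.centralizer ({x} : Set G)) *
        (Subgroup.centralizer ({x} : Set G)).index =
        Nat.card (Subgroup.centralizer ({x} : Set G)) * Nat.card {v : G // IsConj x v} := by
      rw [e2, mul_comm, e1]
    exact Nat.eq_of_mul_eq_mul_left Nat.card_pos h2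
  exact kazarin_normalClosure hp x k h1

end Cfsg.Agent.S4037
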