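import Mathlib
import Cfsg.Statements.S4043
import Cfsg.Agent.Lib.Lead.CoprimeAction
import Cfsg.Agent.Lib.Lead.CoprimeTools
import Cfsg.Agent.Lib.Lead.CoprimeSylow
import Cfsg.Agent.Lib.Lead.FrobNPC5
import Cfsg.Agent.Lib.Lead.Nilpotent
import Cfsg.Agent.Lib.Lead.HallTools

set_option autoImplicit false
open Cfsg

namespace Cfsg.Agent.S4043

open Cfsg.Agent.Lib.Lead
open scoped Pointwise

section
variable {G : Type*} [Group G] [Finite G] {p : ℕ} [hp : Fact p.Prime]

/-- data extracted from a `p`-nilpotent complement `A` of the normal `p`-subgroup `N` -/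
theorem complement_data (N : Subgroup G) [hNn : N.Normal] (hN : IsPGroup p N) (A : Subgroup G)
    (hA : A.IsComplement' N) (hAp : Cfsg.HasNormalPComplement p A) :
    ∃ K P : Subgroup G, K ≤ A ∧ P ≤ A ∧ A ≤ Subgroup.normalizer (K : Set G) ∧ IsPGroup p P ∧
      (Nat.card K).Coprime p ∧ K ⊔ P = A ∧
      Nat.card K * p ^ (Nat.card A).factorization p = Nat.card A := by
  obtain ⟨P, K, hKn, hc⟩ := hAp
  refine ⟨K.map A.subtype, (P : Subgroup A).map A.subtype, Subgroup.map_subtype_le _,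
    Subgroup.map_subtype_le _, ?_, P.isPGroup'.map _, ?_, ?_, ?_⟩
  · intro a ha
    rw [mem_normalizer_iff_conj_smul]
    apply le_antisymm
    · rintro x ⟨y, ⟨k, hk, rfl⟩, rfl⟩
      refine ⟨⟨a, ha⟩ * k * ⟨a, ha⟩⁻¹, hKn.conj_mem k hk _, ?_⟩
      simp [MulAut.smul_def]
    · rintro x ⟨k, hk, rfl⟩
      rw [mem_conj_smul_iff]
      refine ⟨⟨a, ha⟩⁻¹ * k * ⟨a, ha⟩, ?_, ?_⟩
      · have := hKn.conj_mem k hk (⟨a, ha⟩⁻¹ : A)
        simpa using this
      · simp
  · rw [card_map_subtype]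
    have h1 := hc.card_mul_card
    have h2 : Nat.card (P : Subgroup A) = p ^ (Nat.card A).factorization p := P.card_eq_multiplicity
    have h3 : Nat.card K = Nat.card A / p ^ (Nat.card A).factorization p := by
      rw [h2] at h1
      exact (Nat.div_eq_of_eq_mul_left (pow_pos hp.out.pos _) h1.symm).symm
    rw [h3]
    exact (Nat.coprime_ordCompl hp.out Nat.card_pos.ne').symm
  · have h1 : K ⊔ (P : Subgroup A) = ⊤ := hc.sup_eq_top
    rw [← Subgroup.map_sup, h1, ← MonoidHom.range_eq_map, Subgroup.range_subtype]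
  · rw [card_map_subtype]
    have h1 := hc.card_mul_card
    rw [P.card_eq_multiplicity] at h1
    exact h1

end

/-- Let G be a finite group that is the semidirect product of a normal p-subgroup N by a subgroup A, and also of N by a subgroup A₁, where p is a prime and A and A₁ both have normal p-complements. If C_N(A) = C_N(A₁) = 1, then A₁ is conjugate to A by an element of N. -/
theorem result {G : Type*} [Group G] [Finite G] {p : ℕ}
    [Fact p.Prime] (N : Subgroup G) [N.Normal] (hN : IsPGroup p N) (A A₁ : Subgroup G)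
    (hA : A.IsComplement' N) (hA₁ : A₁.IsComplement' N)
    (hAp : Cfsg.HasNormalPComplement p A) (hA₁p : Cfsg.HasNormalPComplement p A₁)
    (hC : ∀ n : G, n ∈ N → (∀ a : G, a ∈ A → a * n * a⁻¹ = n) → n = 1)
    (hC₁ : ∀ n : G, n ∈ N → (∀ a : G, a ∈ A₁ → a * n * a⁻¹ = n) → n = 1) :
    ∃ n : G, n ∈ N ∧ A₁ = A.map (MulAut.conj n).toMonoidHom := by
  classical
  have hp : p.Prime := Fact.out
  obtain ⟨K₀, P₀, hK₀A, hP₀A, hAK₀, hP₀p, hK₀cop, hKP₀, hcard₀⟩ := complement_data N hN A hA hAp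
  obtain ⟨K₁, P₁, hK₁A, hP₁A, hAK₁, hP₁p, hK₁cop, hKP₁, hcard₁⟩ :=
    complement_data N hN A₁ hA₁ hA₁p
  have hcA : Nat.card A * Nat.card N = Nat.card G := hA.card_mul_card
  have hcA₁ : Nat.card A₁ * Nat.card N = Nat.card G := hA₁.card_mul_card
  have hAA₁ : Nat.card A = Nat.card A₁ :=
    Nat.eq_of_mul_eq_mul_right Nat.card_pos (hcA.trans hcA₁.symm)
  have hKK : Nat.card K₁ = Nat.card K₀ := by
    rw [← hAA₁] at hcard₁
    exact Nat.eq_of_mul_eq_mul_right (pow_pos hp.pos _) (hcard₁.trans hcard₀.symm)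
  obtain ⟨e, he⟩ := (IsPGroup.iff_card).mp hN
  have hcopKN : ∀ K : Subgroup G, (Nat.card K).Coprime p → (Nat.card K).Coprime (Nat.card N) := by
    intro K hK
    rw [he]; exact Nat.Coprime.pow_right _ hK
  have hdisjA : A ⊓ N = ⊥ := hA.disjoint.eq_bot
  have hdisjA₁ : A₁ ⊓ N = ⊥ := hA₁.disjoint.eq_bot
  have hNnorm : ∀ H : Subgroup G, H ≤ Subgroup.normalizer (N : Set G) := by
    intro H
    rw [Subgroup.normalizer_eq_top]; exact le_top
  -- Step 1: `K₁ ≤ K₀ ⊔ N`
  have hK₀N : K₀ ⊓ N = ⊥ := le_bot_iff.mp ((inf_le_inf_right N hK₀A).trans hdisjA.le)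
  have hcardM : Nat.card (K₀ ⊔ N : Subgroup G) = Nat.card K₀ * Nat.card N :=
    card_sup_of_disjoint K₀ N (hNnorm K₀) hK₀N
  have hMnormal : (K₀ ⊔ N : Subgroup G).Normal := by
    rw [← Subgroup.normalizer_eq_top_iff, eq_top_iff, ← hA.sup_eq_top]
    apply sup_le
    · intro a ha
      rw [mem_normalizer_iff_conj_smul, Subgroup.smul_sup,
        (mem_normalizer_iff_conj_smul a K₀).mp (hAK₀ ha),
        (mem_normalizer_iff_conj_smul a N).mp (hNnorm A ha)]
    · exact le_sup_right.trans Subgroup.le_normalizer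
  have hMidx : ∃ k : ℕ, (K₀ ⊔ N : Subgroup G).index = p ^ k := by
    refine ⟨(Nat.card A).factorization p, ?_⟩
    have h1 := (K₀ ⊔ N : Subgroup G).card_mul_index
    rw [hcardM, ← hcA, ← hcard₀] at h1
    have h2 : Nat.card K₀ * Nat.card N * (K₀ ⊔ N : Subgroup G).index =
        Nat.card K₀ * Nat.card N * p ^ (Nat.card A).factorization p := by
      rw [h1]; ring
    exact Nat.eq_of_mul_eq_mul_left (Nat.mul_pos Nat.card_pos Nat.card_pos) h2
  have hK₁M : K₁ ≤ K₀ ⊔ N := by
    intro g hg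
    haveI := hMnormal
    apply mem_of_coprime_orderOf (K₀ ⊔ N) hMidx g
    have h1 : orderOf g ∣ Nat.card K₁ := by
      have := orderOf_dvd_natCard (⟨g, hg⟩ : K₁)
      rwa [← Subgroup.orderOf_coe] at this
    exact Nat.Coprime.coprime_dvd_left h1 hK₁cop
  -- Step 2: conjugate `K₀` to `K₁` by an element of `N`
  obtain ⟨n, hnN, hn⟩ := coprime_conj_complement K₀ N (hNnorm K₀) (hcopKN K₀ hK₀cop)
    (Or.inr (by haveI := hN.isNilpotent; infer_instance)) K₁ hK₁M hKK
  refine ⟨n, hnN, ?_⟩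
  -- Step 3
  have hCbot : Subgroup.normalizer (K₁ : Set G) ⊓ N = ⊥ := by
    by_contra hne
    set C := Subgroup.normalizer (K₁ : Set G) ⊓ N with hCdef
    have hCp : IsPGroup p C := hN.to_le inf_le_right
    have hK₁N : K₁ ⊓ N = ⊥ := le_bot_iff.mp ((inf_le_inf_right N hK₁A).trans hdisjA₁.le)
    have hCK : ∀ c ∈ C, ∀ k ∈ K₁, k * c = c * k := by
      intro c hc k hk
      have h1 : c * k * c⁻¹ * k⁻¹ ∈ K₁ ⊓ N := by
        refine ⟨K₁.mul_mem ((Subgroup.mem_normalizer_iff.mp hc.1 k).mp hk) (K₁.inv_mem hk), ?_⟩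
        have : c * k * c⁻¹ * k⁻¹ = c * (k * c⁻¹ * k⁻¹) := by group
        rw [this]
        exact N.mul_mem hc.2 ((inferInstance : N.Normal).conj_mem _ (N.inv_mem hc.2) k)
      rw [hK₁N, Subgroup.mem_bot] at h1
      have : c * k = k * c := by
        have h2 : c * k * c⁻¹ * k⁻¹ * (k * c) = k * c := by rw [h1, one_mul]
        rw [← h2]; group
      exact this.symm
    have hP₁C : P₁ ≤ Subgroup.normalizer (C : Set G) := by
      refine le_trans ?_ Subgroup.inf_normalizer_le_normalizer_inf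
      exact le_inf ((hP₁A.trans hAK₁).trans Subgroup.le_normalizer) (hNnorm P₁)
    have hTp : IsPGroup p (P₁ ⊔ C : Subgroup G) :=
      IsPGroup.to_sup_of_normal_right' hP₁p hCp hP₁C
    set T := (P₁ ⊔ C : Subgroup G) with hT
    haveI : Group.IsNilpotent T := hTp.isNilpotent
    have hCT : C ≤ T := le_sup_right
    haveI : (C.subgroupOf T).Normal := by
      apply Subgroup.normal_subgroupOf_of_le_normalizer
      exact sup_le hP₁C Subgroup.le_normalizer
    have hC'ne : C.subgroupOf T ≠ ⊥ := by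
      intro h
      apply hne
      rw [Subgroup.subgroupOf_eq_bot] at h
      exact disjoint_self.mp (h.mono_right hCT) |> fun h' => h'
    have h2 := inf_center_ne_bot (C.subgroupOf T) hC'ne
    obtain ⟨⟨c, hc⟩, hc1⟩ := (Subgroup.ne_bot_iff_exists_ne_one).mp h2
    have hcC : (c : G) ∈ C := hc.1
    have hcZ : c ∈ Subgroup.center T := hc.2
    have hcne : (c : G) ≠ 1 := by
      intro h
      apply hc1
      apply Subtype.ext
      apply Subtype.ext
      exact h
    -- `c` is centralized by `A₁`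
    have hcA₁ : A₁ ≤ Subgroup.centralizer {(c : G)} := by
      rw [← hKP₁]
      apply sup_le
      · intro k hk
        rw [Subgroup.mem_centralizer_singleton_iff]
        exact hCK c hcC k hk
      · intro x hx
        rw [Subgroup.mem_centralizer_singleton_iff]
        have hxT : x ∈ T := (le_sup_left : P₁ ≤ T) hx
        have := Subgroup.mem_center_iff.mp hcZ ⟨x, hxT⟩
        exact congrArg Subtype.val this
    apply hcne
    apply hC₁ (c : G) hcC.2
    intro a ha
    have := Subgroup.mem_centralizer_singleton_iff.mp (hcA₁ ha)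
    rw [this, mul_assoc, mul_inv_cancel, mul_one]
  -- the normalizer of `K₁` is `A₁`
  have hNK₁ : Subgroup.normalizer (K₁ : Set G) ≤ A₁ := by
    intro g hg
    have htop : A₁ ⊔ N = ⊤ := hA₁.sup_eq_top
    have hgtop : g ∈ A₁ ⊔ N := by rw [htop]; exact Subgroup.mem_top g
    rw [Subgroup.mem_sup_of_normal_right] at hgtop
    obtain ⟨a, ha, m, hm, rfl⟩ := hgtop
    have h1 : m ∈ Subgroup.normalizer (K₁ : Set G) ⊓ N := by
      refine ⟨?_, hm⟩
      have : m = a⁻¹ * (a * m) := by group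
      rw [this]
      exact Subgroup.mul_mem _ (Subgroup.inv_mem _ (hAK₁ ha)) hg
    rw [hCbot, Subgroup.mem_bot] at h1
    rw [h1, mul_one]; exact ha
  have hA' : MulAut.conj n • A ≤ A₁ := by
    refine le_trans ?_ hNK₁
    intro x hx
    rw [mem_conj_smul_iff] at hx
    rw [← hn, mem_normalizer_iff_conj_smul]
    have h1 := (mem_normalizer_iff_conj_smul _ K₀).mp (hAK₀ hx)
    have h2 : MulAut.conj x • MulAut.conj n • K₀ =
        MulAut.conj n • MulAut.conj (n⁻¹ * x * n) • K₀ := by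
      rw [smul_smul, smul_smul, ← map_mul, ← map_mul]
      congr 2
      group
    rw [h2, h1]
  have hcard' : Nat.card (MulAut.conj n • A : Subgroup G) = Nat.card A := by
    exact card_conj_smul n A
  have heq : MulAut.conj n • A = A₁ :=
    Subgroup.eq_of_le_of_card_ge hA' (by rw [hcard', hAA₁])
  rw [← heq]
  rfl

end Cfsg.Agent.S4043
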