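import Mathlib
import Cfsg.Statements.S4049
import Cfsg.Agent.Lib.Helper7.RealOdd

set_option autoImplicit false
open Cfsg

namespace Cfsg.Agent.S4049

open Cfsg.Agent.Lib.Helper7

/-- Let G be a finite group such that N_G(H)/C_G(H) has odd order for every nontrivial subgroup H of odd order. Then the Sylow 2-subgroups of G are normal. -/
theorem result {G : Type*} [Group G] [Finite G]
    (hhom : ∀ H : Subgroup G, H ≠ ⊥ → ¬ 2 ∣ Nat.card ↥H →
        ¬ 2 ∣ (Subgroup.centralizer (H : Set G)).relIndex (Subgroup.normalizer (H : Set G))) (P : Sylow 2 G) :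
    (P : Subgroup G).Normal := by
  apply sylow_two_normal_of_noRealOdd _ P
  intro x hx1 hodd hreal
  obtain ⟨g, hg⟩ := isConj_iff.mp hreal
  set H := Subgroup.zpowers x with hH
  have hHne : H ≠ ⊥ := by
    rw [hH, Ne, Subgroup.zpowers_eq_bot]; exact hx1
  have hcard : ¬ 2 ∣ Nat.card ↥H := by
    rw [hH, Nat.card_zpowers]
    intro h
    exact (Nat.not_even_iff_odd.mpr hodd) (even_iff_two_dvd.mpr h)
  apply hhom H hHne hcard
  -- the kernel of `N(H) → Aut(H)`
  have hker := Subgroup.normalizerMonoidHom_ker H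
  rw [Subgroup.relIndex, ← hker, Subgroup.index_ker]
  have hgN : g ∈ Subgroup.normalizer (H : Set G) := zpowers_conj_eq_of_inv hg
  set φ := H.normalizerMonoidHom with hφ
  set γ : φ.range := ⟨φ ⟨g, hgN⟩, ⟨_, rfl⟩⟩ with hγ
  have hxH : x ∈ H := Subgroup.mem_zpowers x
  -- γ ≠ 1
  have hγ1 : γ ≠ 1 := by
    intro h
    have h1 : φ ⟨g, hgN⟩ = 1 := congrArg Subtype.val h
    have h2 : (φ ⟨g, hgN⟩) ⟨x, hxH⟩ = ⟨x, hxH⟩ := by rw [h1]; rfl
    have h3 : g * x * g⁻¹ = x := congrArg Subtype.val h2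
    have h5 : x = x⁻¹ := by rw [← hg, h3]
    have hxx : x ^ 2 = 1 := by
      rw [pow_two]
      nth_rewrite 2 [h5]
      exact mul_inv_cancel x
    have h6 : orderOf x ∣ 2 := orderOf_dvd_of_pow_eq_one hxx
    have h7 : orderOf x = 1 :=
      Nat.Coprime.eq_one_of_dvd (Nat.coprime_two_right.mpr hodd) h6
    exact hx1 (orderOf_eq_one_iff.mp h7)
  -- γ ^ 2 = 1
  have hγ2 : γ ^ 2 = 1 := by
    apply Subtype.ext
    show (φ ⟨g, hgN⟩) ^ 2 = 1
    apply MulEquiv.ext
    intro ⟨y, hy⟩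
    apply Subtype.ext
    show g * (g * y * g⁻¹) * g⁻¹ = y
    -- y is a power of x
    obtain ⟨k, rfl⟩ := Subgroup.mem_zpowers_iff.mp hy
    have e1 : g * x ^ k * g⁻¹ = (x⁻¹) ^ k := by
      rw [← conj_zpow, hg]
    have hg' : g * x⁻¹ * g⁻¹ = x := by
      have : g * x⁻¹ * g⁻¹ = (g * x * g⁻¹)⁻¹ := by group
      rw [this, hg, inv_inv]
    rw [e1, ← conj_zpow, hg']
  have hord : orderOf γ = 2 := orderOf_eq_prime hγ2 hγ1
  rw [← hord]
  exact orderOf_dvd_natCard γ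

end Cfsg.Agent.S4049
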