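import Mathlib
import Cfsg.Statements.S4050
import Cfsg.Agent.Lib.Helper7.PiClosed5

set_option autoImplicit false
open Cfsg

namespace Cfsg.Agent.S4050

open Cfsg.Agent.Lib.Helper7.PiClosed

universe u

/-- A π-group quotient or π'-group is π-closed. -/
theorem piClosed_of_card {Q : Type u} [Group Q] [Finite Q] (π : Set ℕ)
    (h : (∀ q : ℕ, q.Prime → q ∣ Nat.card Q → q ∈ π) ∨ (∀ q : ℕ, q.Prime → q ∣ Nat.card Q → q ∉ π)) :
    PiClosed π Q := by
  rcases h with h | h
  · refine ⟨⊤, fun x => ⟨fun _ p hp hpx => h p hp (hpx.trans (orderOf_dvd_natCard x)),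
      fun _ => Subgroup.mem_top x⟩⟩
  · refine ⟨⊥, fun x => ⟨?_, ?_⟩⟩
    · intro hx p hp hpx
      rw [Subgroup.mem_bot] at hx
      rw [hx, orderOf_one] at hpx
      exact absurd (Nat.dvd_one.1 hpx) hp.ne_one
    · intro hx
      rw [Subgroup.mem_bot, ← orderOf_eq_one_iff, Nat.eq_one_iff_not_exists_prime_dvd]
      intro p hp hpx
      exact h p hp (hpx.trans (orderOf_dvd_natCard x)) (hx p hp hpx)

theorem forward {G : Type u} [Group G] [Finite G] (π : Set ℕ) (T : Subgroup G)
    (hT : ∀ x : G, x ∈ T ↔ ∀ p : ℕ, p.Prime → p ∣ orderOf x → p ∈ π) :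
    T.Normal ∧ (∀ q : ℕ, q.Prime → q ∣ Nat.card T → q ∈ π) ∧
      (∀ q : ℕ, q.Prime → q ∣ T.index → q ∉ π) := by
  refine ⟨⟨fun x hx g => ?_⟩, ?_, ?_⟩
  · rw [hT] at hx ⊢
    have : orderOf (g * x * g⁻¹) = orderOf x := MulEquiv.orderOf_eq (MulAut.conj g) x
    rw [this]; exact hx
  · intro q hq hqT
    haveI : Fact q.Prime := ⟨hq⟩
    obtain ⟨t, ht⟩ := exists_prime_orderOf_dvd_card' q hqT
    have h1 := (hT t).1 t.2 q hq
    rw [← Subgroup.orderOf_coe] at ht
    exact h1 (ht ▸ dvd_rfl)
  · intro q hq hqT hqπ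
    haveI : Fact q.Prime := ⟨hq⟩
    have Q : Sylow q G := default
    have hQT : (Q : Subgroup G) ≤ T := by
      intro y hy
      rw [hT]
      intro p' hp' hp'y
      obtain ⟨k, hk⟩ := (IsPGroup.iff_orderOf.1 Q.isPGroup') ⟨y, hy⟩
      have h4 : orderOf (⟨y, hy⟩ : (Q : Subgroup G)) = orderOf y :=
        (Subgroup.orderOf_coe (H := (Q : Subgroup G)) ⟨y, hy⟩).symm
      rw [h4] at hk
      rw [hk] at hp'y
      have := (Nat.prime_dvd_prime_iff_eq hp' hq).1 (hp'.dvd_of_dvd_pow hp'y)
      rw [this]; exact hqπ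
    exact Q.not_dvd_index (hqT.trans (Subgroup.index_dvd_of_le hQT))

/-- Let π be a set of primes and G a finite group. The π-elements of G (elements whose order is divisible only by primes of π) form a subgroup if and only if G is π-separable (it has a chain of normal subgroups from 1 to G with each successive index divisible only by primes in π or only by primes outside π) and N_G(H)/C_G(H) is a π'-group for every nontrivial π'-subgroup H of G. -/
theorem result {G : Type*} [Group G] [Finite G] (π : Set ℕ)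
    (hπ : ∀ p ∈ π, p.Prime) :
    (∃ K : Subgroup G, ∀ x : G, x ∈ K ↔ ∀ p : ℕ, p.Prime → p ∣ orderOf x → p ∈ π) ↔
    ((∃ (n : ℕ) (H : Fin (n + 1) → Subgroup G), H 0 = ⊥ ∧ H (Fin.last n) = ⊤ ∧ Monotone H ∧ (∀ i, (H i).Normal) ∧
      ∀ i : Fin n, (∀ q : ℕ, q.Prime → q ∣ (H i.castSucc).relIndex (H i.succ) → q ∈ π) ∨
        (∀ q : ℕ, q.Prime → q ∣ (H i.castSucc).relIndex (H i.succ) → q ∉ π)) ∧
     (∀ H : Subgroup G, H ≠ ⊥ → (∀ p : ℕ, p.Prime → p ∣ Nat.card ↥H → p ∉ π) →
        ∀ p : ℕ, p.Prime → p ∣ (Subgroup.centralizer (H : Set G)).relIndex (Subgroup.normalizer (H : Set G)) → p ∉ π)) := by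
  constructor
  · rintro ⟨T, hT⟩
    obtain ⟨hTn, hTπ, hTi⟩ := forward π T hT
    refine ⟨⟨2, ![⊥, T, ⊤], rfl, rfl, ?_, ?_, ?_⟩, ?_⟩
    · rw [Fin.monotone_iff_le_succ]
      intro i
      fin_cases i
      · exact bot_le
      · exact le_top
    · intro i
      fin_cases i
      · exact Subgroup.normal_bot
      · exact hTn
      · exact Subgroup.normal_top
    · intro i
      fin_cases i
      · left
        intro q hq hqd
        have : (⊥ : Subgroup G).relIndex T = Nat.card T := Subgroup.relIndex_bot_left T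
        exact hTπ q hq (this ▸ hqd)
      · right
        intro q hq hqd
        have : T.relIndex (⊤ : Subgroup G) = T.index := Subgroup.relIndex_top_right T
        exact hTi q hq (this ▸ hqd)
    · intro H hH hHπ p hp hpd
      apply hTi p hp
      set N := Subgroup.normalizer (H : Set G) with hN
      set C := Subgroup.centralizer (H : Set G) with hC
      have hle : N ⊓ T ≤ C := by
        intro x hx
        rw [hC, Subgroup.mem_centralizer_iff]
        intro h hh
        have h1 : x * h * x⁻¹ ∈ H := (Subgroup.mem_normalizer_iff.1 hx.1 h).1 hh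
        have h2 : x * h * x⁻¹ * h⁻¹ ∈ H := H.mul_mem h1 (H.inv_mem hh)
        have h3 : x * h * x⁻¹ * h⁻¹ ∈ T := by
          have : x * h * x⁻¹ * h⁻¹ = x * (h * x⁻¹ * h⁻¹) := by group
          rw [this]
          exact T.mul_mem hx.2 (hTn.conj_mem _ (T.inv_mem hx.2) h)
        have h4 : x * h * x⁻¹ * h⁻¹ = 1 := by
          rw [← orderOf_eq_one_iff, Nat.eq_one_iff_not_exists_prime_dvd]
          intro p' hp' hp'd
          have h5 := (hT _).1 h3 p' hp' hp'd
          have h6 : orderOf (x * h * x⁻¹ * h⁻¹) ∣ Nat.card H := by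
            have : orderOf (⟨_, h2⟩ : H) ∣ Nat.card H := orderOf_dvd_natCard _
            rwa [← Subgroup.orderOf_coe] at this
          exact hHπ p' hp' (hp'd.trans h6) h5
        have : h * x = (x * h * x⁻¹ * h⁻¹)⁻¹ * (x * h) := by group
        rw [this, h4]; simp
      have h1 : C.relIndex N ∣ (N ⊓ T).relIndex N := Subgroup.relIndex_dvd_of_le_left N hle
      rw [Subgroup.inf_relIndex_left] at h1
      exact hpd.trans (h1.trans (Subgroup.relIndex_dvd_index_of_normal T N))
  · rintro ⟨⟨n, H, h0, hlast, hmono, hnorm, hidx⟩, hhom⟩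
    have hom' := hom'_of_hhom π hhom
    have hcl : ∀ i : Fin (n + 1), PiClosed π (H i) := by
      intro i
      induction i using Fin.induction with
      | zero =>
        rw [h0]
        apply piClosed_of_card
        left
        intro q hq hqd
        rw [Subgroup.card_bot] at hqd
        exact absurd (Nat.dvd_one.1 hqd) hq.ne_one
      | succ i ih =>
        have hAB : H i.castSucc ≤ H i.succ := hmono (Fin.castSucc_lt_succ (i := i)).le
        haveI := hnorm i.castSucc
        haveI : ((H i.castSucc).subgroupOf (H i.succ)).Normal := Subgroup.normal_subgroupOf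
        have hA' : PiClosed π ((H i.castSucc).subgroupOf (H i.succ)) :=
          PiClosed.of_mulEquiv π (Subgroup.subgroupOfEquivOfLe hAB) ih
        have hquot : PiClosed π ((H i.succ) ⧸ (H i.castSucc).subgroupOf (H i.succ)) := by
          apply piClosed_of_card
          have : Nat.card ((H i.succ) ⧸ (H i.castSucc).subgroupOf (H i.succ)) =
              (H i.castSucc).relIndex (H i.succ) := by
            rw [← Subgroup.index_eq_card]; rfl
          rw [this]
          exact hidx i
        exact piClosed_extension π (Hom'.subgroup π hom' (H i.succ)) _ hA' hquot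
    have h1 := hcl (Fin.last n)
    rw [hlast] at h1
    exact PiClosed.of_mulEquiv π Subgroup.topEquiv.symm h1

end Cfsg.Agent.S4050
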