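import Mathlib
import Cfsg.Statements.S4056
import Cfsg.Agent.Lib.Lead.Frattini2

set_option autoImplicit false
open Cfsg

namespace Cfsg.Agent.S4056

open scoped commutatorElement

variable {P : Type*} [Group P]

/-- class two computation: if `y * x = x * y * c` with `c` central then `(x*y)^4 = x^4*y^4*c^6`
and `y * x^2 = x^2 * y * c^2`. -/
theorem class_two_calc (x y c : P) (hc : ∀ g, c * g = g * c) (h : y * x = x * y * c) :
    y * x ^ 2 = x ^ 2 * y * c ^ 2 ∧ (x * y) ^ 4 = x ^ 4 * y ^ 4 * c ^ 6 := by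
  have hc2 : ∀ g, c ^ 2 * g = g * c ^ 2 := by
    intro g
    calc c ^ 2 * g = c * (c * g) := by rw [pow_two]; group
      _ = c * (g * c) := by rw [hc g]
      _ = (c * g) * c := by group
      _ = g * c * c := by rw [hc g]
      _ = g * c ^ 2 := by rw [pow_two]; group
  have h1 : y * x ^ 2 = x ^ 2 * y * c ^ 2 := by
    calc y * x ^ 2 = (y * x) * x := by rw [pow_two]; group
      _ = x * y * (c * x) := by rw [h]; group
      _ = x * y * (x * c) := by rw [hc x]
      _ = x * (y * x) * c := by group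
      _ = x * (x * y * c) * c := by rw [h]
      _ = x ^ 2 * y * c ^ 2 := by rw [pow_two, pow_two]; group
  have h2 : y ^ 2 * x ^ 2 = x ^ 2 * y ^ 2 * c ^ 4 := by
    calc y ^ 2 * x ^ 2 = y * (y * x ^ 2) := by rw [pow_two y]; group
      _ = y * (x ^ 2 * y * c ^ 2) := by rw [h1]
      _ = (y * x ^ 2) * y * c ^ 2 := by group
      _ = x ^ 2 * y * (c ^ 2 * y) * c ^ 2 := by rw [h1]; group
      _ = x ^ 2 * y * (y * c ^ 2) * c ^ 2 := by rw [hc2 y]
      _ = x ^ 2 * y ^ 2 * c ^ 4 := by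
        rw [pow_two y, show c ^ 4 = c ^ 2 * c ^ 2 by rw [← pow_add]]; group
  have h3 : (x * y) ^ 2 = x ^ 2 * y ^ 2 * c := by
    calc (x * y) ^ 2 = x * (y * x) * y := by rw [pow_two]; group
      _ = x * x * y * (c * y) := by rw [h]; group
      _ = x * x * y * (y * c) := by rw [hc y]
      _ = x ^ 2 * y ^ 2 * c := by rw [pow_two, pow_two]; group
  refine ⟨h1, ?_⟩
  calc (x * y) ^ 4 = (x * y) ^ 2 * (x * y) ^ 2 := by rw [← pow_add]
    _ = x ^ 2 * y ^ 2 * (c * (x ^ 2 * y ^ 2)) * c := by rw [h3]; group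
    _ = x ^ 2 * y ^ 2 * ((x ^ 2 * y ^ 2) * c) * c := by rw [hc (x ^ 2 * y ^ 2)]
    _ = x ^ 2 * (y ^ 2 * x ^ 2) * y ^ 2 * c * c := by group
    _ = x ^ 2 * (x ^ 2 * y ^ 2 * c ^ 4) * y ^ 2 * c * c := by rw [h2]
    _ = x ^ 2 * x ^ 2 * y ^ 2 * (c ^ 4 * y ^ 2) * c * c := by group
    _ = x ^ 2 * x ^ 2 * y ^ 2 * (y ^ 2 * c ^ 4) * c * c := by
        have : c ^ 4 * y ^ 2 = y ^ 2 * c ^ 4 := by
          rw [show c ^ 4 = c ^ 2 * c ^ 2 by rw [← pow_add]]
          calc c ^ 2 * c ^ 2 * y ^ 2 = c ^ 2 * (c ^ 2 * y ^ 2) := by group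
            _ = c ^ 2 * (y ^ 2 * c ^ 2) := by rw [hc2 (y ^ 2)]
            _ = (c ^ 2 * y ^ 2) * c ^ 2 := by group
            _ = y ^ 2 * c ^ 2 * c ^ 2 := by rw [hc2 (y ^ 2)]
            _ = y ^ 2 * (c ^ 2 * c ^ 2) := by group
        rw [this]
    _ = x ^ 4 * y ^ 4 * c ^ 6 := by
        rw [show x ^ 4 = x ^ 2 * x ^ 2 by rw [← pow_add], show y ^ 4 = y ^ 2 * y ^ 2 by rw [← pow_add],
          show c ^ 6 = c ^ 4 * c * c by rw [← pow_succ, ← pow_succ]]
        group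

/-- In a finite 2-group of nilpotency class at most 2 and exponent dividing 4, the Frattini subgroup lies in the centre and is elementary abelian. -/
theorem result {P : Type*} [Group P] [Finite P] (hP : IsPGroup 2 P)
    (hcl : Group.nilpotencyClass P ≤ 2) (hexp : Monoid.exponent P ∣ 4) :
    frattini P ≤ Subgroup.center P ∧ Cfsg.IsElementaryAbelian 2 (frattini P) := by
  have : Group.IsNilpotent P := hP.isNilpotent
  have hpow4 : ∀ x : P, x ^ 4 = 1 := fun x => by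
    obtain ⟨k, hk⟩ := hexp
    rw [hk, pow_mul, Monoid.pow_exponent_eq_one, one_pow]
  -- commutators are central
  have hlcs : Subgroup.lowerCentralSeries (⊤ : Subgroup P) 2 = ⊥ :=
    Subgroup.lowerCentralSeries_eq_bot_iff_nilpotencyClass_le.mpr hcl
  have hcc : ∀ a b g : P, ⁅a, b⁆ * g = g * ⁅a, b⁆ := by
    intro a b g
    have h1 : ⁅⁅a, b⁆, g⁆ ∈ Subgroup.lowerCentralSeries (⊤ : Subgroup P) 2 := by
      rw [Subgroup.lowerCentralSeries_succ, Subgroup.lowerCentralSeries_succ,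
        Subgroup.lowerCentralSeries_zero]
      exact Subgroup.commutator_mem_commutator
        (Subgroup.commutator_mem_commutator (Subgroup.mem_top a) (Subgroup.mem_top b))
        (Subgroup.mem_top g)
    rw [hlcs, Subgroup.mem_bot, commutatorElement_eq_one_iff_mul_comm] at h1
    exact h1
  -- the key facts
  have key : ∀ x y : P, y * x ^ 2 = x ^ 2 * y ∧ ⁅y⁻¹, x⁻¹⁆ ^ 2 = 1 := by
    intro x y
    have h : y * x = x * y * ⁅y⁻¹, x⁻¹⁆ := by rw [commutatorElement_def]; group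
    obtain ⟨h1, h2⟩ := class_two_calc x y ⁅y⁻¹, x⁻¹⁆ (hcc _ _) h
    rw [hpow4, hpow4, hpow4, one_mul, one_mul] at h2
    have h3 : ⁅y⁻¹, x⁻¹⁆ ^ 2 = 1 := by
      have : ⁅y⁻¹, x⁻¹⁆ ^ 6 = ⁅y⁻¹, x⁻¹⁆ ^ 4 * ⁅y⁻¹, x⁻¹⁆ ^ 2 := by rw [← pow_add]
      rw [this, hpow4, one_mul] at h2
      exact h2.symm
    rw [h3, mul_one] at h1
    exact ⟨h1, h3⟩
  -- the subgroup of central elements of order at most 2
  let N : Subgroup P :=
    { carrier := {z | z ∈ Subgroup.center P ∧ z ^ 2 = 1}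
      one_mem' := ⟨Subgroup.one_mem _, one_pow 2⟩
      mul_mem' := by
        rintro a b ⟨ha, ha2⟩ ⟨hb, hb2⟩
        refine ⟨Subgroup.mul_mem _ ha hb, ?_⟩
        have hab : Commute a b := (Subgroup.mem_center_iff.mp ha b).symm
        rw [hab.mul_pow, ha2, hb2, one_mul]
      inv_mem' := by
        rintro a ⟨ha, ha2⟩
        exact ⟨Subgroup.inv_mem _ ha, by rw [inv_pow, ha2, inv_one]⟩ }
  have hN1 : commutator P ≤ N := by
    rw [commutator_def, Subgroup.commutator_le]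
    intro a _ b _
    refine ⟨?_, ?_⟩
    · rw [Subgroup.mem_center_iff]
      intro g
      exact (hcc a b g).symm
    · have := (key b⁻¹ a⁻¹).2
      simpa using this
  have hN2 : ∀ x : P, x ^ 2 ∈ N := by
    intro x
    refine ⟨?_, ?_⟩
    · rw [Subgroup.mem_center_iff]
      intro g
      exact (key x g).1
    · rw [← pow_mul]; exact hpow4 x
  have hle : frattini P ≤ N := Cfsg.Agent.Lib.Lead.frattini_le_of_elementary_quotient N hN1 hN2
  refine ⟨fun z hz => (hle hz).1, ?_, fun a ha => (hle ha).2⟩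
  refine ⟨⟨?_⟩⟩
  rintro ⟨a, ha⟩ ⟨b, hb⟩
  apply Subtype.ext
  exact (Subgroup.mem_center_iff.mp (hle ha).1 b).symm

end Cfsg.Agent.S4056
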