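import Mathlib
import Cfsg.Statements.S4058
import Cfsg.Agent.Lib.Helper7.FSCount1
import Cfsg.Agent.Lib.Lead.Frattini
import Cfsg.Agent.S0158
import Cfsg.Agent.S0159
import Cfsg.Agent.S0185

set_option autoImplicit false
open Cfsg

namespace Cfsg.Agent.S4058

open Cfsg.Agent.Lib.Helper7.FSCount Cfsg.Agent.Lib.Lead
open scoped commutatorElement

/-- Let G be a finite 2-group with #(G/Φ(G)) ≥ 2^(2k+1). Then the number of elements x of G with x² = 1 is divisible by 2^(k+1). -/
theorem result {G : Type*} [Group G] [Finite G] (hG : IsPGroup 2 G) (k : ℕ)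
    (hgen : 2 ^ (2 * k + 1) ≤ Nat.card (G ⧸ frattini G)) :
    2 ^ (k + 1) ∣ Nat.card {x : G // x ^ 2 = 1} := by
  classical
  have hfinG : Fintype G := Fintype.ofFinite G
  have hfinI : Fintype (IrrCharacter G) := Fintype.ofFinite _
  haveI : Fact (Nat.Prime 2) := ⟨Nat.prime_two⟩
  -- squares and commutators lie in the Frattini subgroup
  have hsq : ∀ g : G, g * g ∈ frattini G := fun g => by
    rw [← pow_two]
    exact pow_mem_frattini_of_isPGroup hG g
  have hcomm : ∀ a b : G ⧸ frattini G, a * b = b * a := by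
    intro a b
    induction a using QuotientGroup.induction_on with
    | H x =>
      induction b using QuotientGroup.induction_on with
      | H y =>
        rw [← QuotientGroup.mk_mul, ← QuotientGroup.mk_mul, eq_comm, QuotientGroup.eq]
        apply commutator_le_frattini_of_isPGroup hG
        rw [commutator_def]
        have h1 := Subgroup.commutator_mem_commutator (Subgroup.mem_top x⁻¹)
          (Subgroup.mem_top y⁻¹) (G := G)
        have h2 : (y * x)⁻¹ * (x * y) = ⁅x⁻¹, y⁻¹⁆ := by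
          rw [commutatorElement_def]
          group
        rw [h2]
        exact h1
  have hΛ : Nat.card ((G ⧸ frattini G) →* ℂˣ) = Nat.card (G ⧸ frattini G) :=
    card_hom_of_comm hcomm
  -- the order of `G` and of the dual group
  obtain ⟨n, hn⟩ := hG.exists_card_eq
  have hdvdQ : Nat.card (G ⧸ frattini G) ∣ 2 ^ n := by
    rw [← hn, ← Subgroup.index_eq_card]
    exact Subgroup.index_dvd_card _
  obtain ⟨D, hDn, hD⟩ := (Nat.dvd_prime_pow Nat.prime_two).mp hdvdQ
  have hDk : 2 * k + 1 ≤ D := by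
    rw [hD] at hgen
    exact (Nat.pow_le_pow_iff_right (by norm_num)).mp hgen
  -- degrees and indicators
  have hdeg : ∀ χ : IrrCharacter G, ∃ d : ℕ, χ.1 1 = d ∧ d ∣ Nat.card G :=
    fun χ => Cfsg.Agent.S0185.irr_degree_dvd χ.2
  choose deg hdeg1 hdeg2 using hdeg
  have hν : ∀ χ : IrrCharacter G, ∃ v : ℤ,
      (Nat.card G : ℂ)⁻¹ * ∑ s : G, χ.1 (s * s) = v := by
    intro χ
    obtain ⟨m, ρ, hirr, hρ⟩ := χ.2
    haveI := hirr
    have h1 := (Cfsg.Agent.S0158.result ρ).1
    rw [hρ] at h1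
    rcases h1 with h1 | h1 | h1
    · exact ⟨0, by rw [h1]; simp⟩
    · exact ⟨1, by rw [h1]; simp⟩
    · exact ⟨-1, by rw [h1]; simp⟩
  choose ν hν1 using hν
  -- the count
  have hcount := Cfsg.Agent.S0159.result (G := G)
  rw [finsum_eq_sum_of_fintype] at hcount
  have hZ : ((Nat.card {s : G // s * s = 1} : ℕ) : ℤ) = ∑ χ : IrrCharacter G, ν χ * (deg χ : ℤ) := by
    have h1 : (((Nat.card {s : G // s * s = 1} : ℕ) : ℤ) : ℂ)
        = ((∑ χ : IrrCharacter G, ν χ * (deg χ : ℤ) : ℤ) : ℂ) := by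
      push_cast
      rw [hcount]
      refine Finset.sum_congr rfl fun χ _ => ?_
      rw [hν1, hdeg1]
    exact_mod_cast h1
  have hcard : Nat.card {x : G // x ^ 2 = 1} = Nat.card {s : G // s * s = 1} :=
    Nat.card_congr (Equiv.subtypeEquivRight fun x => by rw [pow_two])
  rw [hcard]
  have hgoal : ((2 ^ (k + 1) : ℕ) : ℤ) ∣ ((Nat.card {s : G // s * s = 1} : ℕ) : ℤ) := by
    rw [hZ]
    letI : MulAction ((G ⧸ frattini G) →* ℂˣ) (IrrCharacter G) := twistAction (frattini G)
    apply dvd_sum_of_orbit (Λ := (G ⧸ frattini G) →* ℂˣ)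
    · -- invariance
      intro l χ
      change ν (twist (frattini G) l χ) * (deg (twist (frattini G) l χ) : ℤ) = ν χ * (deg χ : ℤ)
      have h1 : ν (twist (frattini G) l χ) = ν χ := by
        have h2 : ((ν (twist (frattini G) l χ) : ℤ) : ℂ) = ((ν χ : ℤ) : ℂ) := by
          rw [← hν1, ← hν1, twist_sum_sq (frattini G) hsq]
        exact_mod_cast h2
      have h3 : deg (twist (frattini G) l χ) = deg χ := by
        have h4 : ((deg (twist (frattini G) l χ) : ℕ) : ℂ) = ((deg χ : ℕ) : ℂ) := by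
          rw [← hdeg1, ← hdeg1, twist_apply_one]
        exact_mod_cast h4
      rw [h1, h3]
    · -- each orbit
      intro χ
      have hos : Nat.card (MulAction.orbit ((G ⧸ frattini G) →* ℂˣ) χ)
          * Nat.card (MulAction.stabilizer ((G ⧸ frattini G) →* ℂˣ) χ) = 2 ^ D := by
        rw [← hD, ← hΛ, ← Subgroup.card_mul_index
          (MulAction.stabilizer ((G ⧸ frattini G) →* ℂˣ) χ), MulAction.index_stabilizer,
          mul_comm, Nat.card_coe_set_eq]
      have hsdvd : Nat.card (MulAction.stabilizer ((G ⧸ frattini G) →* ℂˣ) χ) ∣ 2 ^ D :=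
        Dvd.intro_left _ hos
      obtain ⟨s, hsD, hs⟩ := (Nat.dvd_prime_pow Nat.prime_two).mp hsdvd
      have hdd : deg χ ∣ 2 ^ n := hn ▸ hdeg2 χ
      obtain ⟨e, hen, he⟩ := (Nat.dvd_prime_pow Nat.prime_two).mp hdd
      have hle : Nat.card (MulAction.stabilizer ((G ⧸ frattini G) →* ℂˣ) χ) ≤ deg χ ^ 2 := by
        apply card_le_of_twist_eq (frattini G) χ (deg χ) (hdeg1 χ)
          (MulAction.stabilizer ((G ⧸ frattini G) →* ℂˣ) χ : Set ((G ⧸ frattini G) →* ℂˣ))
        intro f hf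
        exact hf
      rw [hs, he, ← pow_mul] at hle
      have hse : s ≤ e * 2 := (Nat.pow_le_pow_iff_right (by norm_num)).mp hle
      have horb : Nat.card (MulAction.orbit ((G ⧸ frattini G) →* ℂˣ) χ) = 2 ^ (D - s) := by
        rw [hs] at hos
        have h5 : 2 ^ D = 2 ^ (D - s) * 2 ^ s := by
          rw [← pow_add, Nat.sub_add_cancel hsD]
        rw [h5] at hos
        exact Nat.eq_of_mul_eq_mul_right (by positivity) hos
      rw [horb, he]
      have h6 : k + 1 ≤ (D - s) + e := by omega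
      have h7 : ((2 ^ (k + 1) : ℕ) : ℤ) ∣ ((2 ^ (D - s) : ℕ) : ℤ) * ((2 ^ e : ℕ) : ℤ) := by
        rw [← Nat.cast_mul, ← pow_add]
        exact Int.natCast_dvd_natCast.mpr (pow_dvd_pow 2 h6)
      have h8 : ((2 ^ (D - s) : ℕ) : ℤ) * (ν χ * ((2 ^ e : ℕ) : ℤ))
          = (((2 ^ (D - s) : ℕ) : ℤ) * ((2 ^ e : ℕ) : ℤ)) * ν χ := by ring
      rw [h8]
      exact Dvd.dvd.mul_right h7 _
  exact Int.natCast_dvd_natCast.mp hgoal

end Cfsg.Agent.S4058
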