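import Cfsg.Statements.S4059
import Mathlib
import Cfsg.Agent.S3863

set_option autoImplicit false
open Cfsg

namespace Cfsg.Agent.S4059

open scoped commutatorElement

theorem closure_normal_of_conj {G : Type*} [Group G] (S : Set G)
    (h : ∀ g x : G, x ∈ S → g * x * g⁻¹ ∈ S) : (Subgroup.closure S).Normal := by
  have hS : Group.conjugatesOfSet S = S := by
    apply Set.Subset.antisymm
    · intro x hx
      rw [Group.mem_conjugatesOfSet_iff] at hx
      obtain ⟨a, ha, hac⟩ := hx
      obtain ⟨c, hc⟩ := isConj_iff.mp hac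
      rw [← hc]
      exact h c a ha
    · exact Group.subset_conjugatesOfSet
  have : Subgroup.closure S = Subgroup.normalClosure S := by
    unfold Subgroup.normalClosure
    rw [hS]
  rw [this]
  exact Subgroup.normalClosure_normal

/-- Let G be a finite group in which every element is conjugate to its inverse. Then: every non-identity element commuting with all elements of some Sylow 2-subgroup is an involution; the centre of G is an elementary abelian 2-group; the commutator quotient G/G' is an elementary abelian 2-group; and G is generated by its 2-elements. -/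
theorem result {G : Type*} [Group G] [Finite G] (hamb : ∀ x : G, IsConj x x⁻¹) :
    (∀ (S : Sylow 2 G) (x : G), x ∈ Subgroup.centralizer ((S : Subgroup G) : Set G) → x ≠ 1 → orderOf x = 2) ∧
    (∀ z : G, z ∈ Subgroup.center G → z ^ 2 = 1) ∧
    (∀ x : G, x ^ 2 ∈ commutator G) ∧
    Subgroup.closure {x : G | ∃ k : ℕ, orderOf x = 2 ^ k} = ⊤ := by
  haveI : Fact (Nat.Prime 2) := ⟨Nat.prime_two⟩
  have hodd_of_sylow_le : ∀ (S : Sylow 2 G) (K : Subgroup G), (S : Subgroup G) ≤ K → Odd K.index := by
    intro S K hSK
    have h1 : K.index ∣ (S : Subgroup G).index := Subgroup.index_dvd_of_le hSK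
    have h2 : ¬ 2 ∣ (S : Subgroup G).index := S.not_dvd_index
    rw [← Nat.not_even_iff_odd, even_iff_two_dvd]
    exact fun h => h2 (dvd_trans h h1)
  refine ⟨?_, ?_, ?_, ?_⟩
  · intro S x hx hx1
    have hle : (S : Subgroup G) ≤ Subgroup.centralizer ({x} : Set G) := by
      intro s hs
      rw [Subgroup.mem_centralizer_iff]
      intro y hy
      rw [Set.mem_singleton_iff.mp hy]
      exact (Subgroup.mem_centralizer_iff.mp hx s hs).symm
    have hsq := (Cfsg.Agent.S3863.result x (hamb x)).2.1 (hodd_of_sylow_le S _ hle)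
    exact orderOf_eq_prime hsq hx1
  · intro z hz
    obtain ⟨c, hc⟩ := isConj_iff.mp (hamb z)
    have hcomm : c * z = z * c := (Subgroup.mem_center_iff.mp hz c)
    have : z = z⁻¹ := by
      rw [← hc, hcomm, mul_inv_cancel_right]
    rw [pow_two]
    nth_rewrite 2 [this]
    exact mul_inv_cancel z
  · intro x
    obtain ⟨c, hc⟩ := isConj_iff.mp (hamb x)
    have : x ^ 2 = ⁅x, c⁆ := by
      rw [commutatorElement_def, pow_two]
      have : x * c * x⁻¹ * c⁻¹ = x * (c * x * c⁻¹)⁻¹ := by group
      rw [this, hc, inv_inv]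
    rw [this, commutator_def]
    exact Subgroup.commutator_mem_commutator (Subgroup.mem_top _) (Subgroup.mem_top _)
  · set N := Subgroup.closure {x : G | ∃ k : ℕ, orderOf x = 2 ^ k} with hN
    haveI hNn : N.Normal := by
      apply closure_normal_of_conj
      rintro g x ⟨k, hk⟩
      refine ⟨k, ?_⟩
      rw [← hk]
      exact (MulAut.conj g).orderOf_eq x
    obtain ⟨S⟩ : Nonempty (Sylow 2 G) := inferInstance
    have hSN : (S : Subgroup G) ≤ N := by
      intro s hs
      apply Subgroup.subset_closure
      obtain ⟨k, hk⟩ := (IsPGroup.iff_orderOf.mp S.isPGroup') ⟨s, hs⟩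
      rw [Subgroup.orderOf_mk] at hk
      exact ⟨k, hk⟩
    have hoddN := hodd_of_sylow_le S N hSN
    rw [eq_top_iff]
    intro x _
    obtain ⟨hxN, -⟩ := (Cfsg.Agent.S3863.result x (hamb x)).2.2 N hoddN
    exact hxN

end Cfsg.Agent.S4059
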