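import Mathlib
import Cfsg.Statements.S4060
import Cfsg.Agent.Lib.Lead.Brodkey

set_option autoImplicit false
open Cfsg

namespace Cfsg.Agent.S4060

open scoped Pointwise commutatorElement

universe u

/-- a nontrivial finite solvable group has a nontrivial normal `r`-subgroup for some prime `r`. -/
theorem exists_normal_pgroup {G : Type u} [Group G] [Finite G] [hs : Group.IsSolvable G]
    [Nontrivial G] : ∃ (N : Subgroup G) (r : ℕ), N.Normal ∧ N ≠ ⊥ ∧ r.Prime ∧ IsPGroup r ↥N := by
  classical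
  obtain ⟨n, hn⟩ := hs.solvable
  have hex : ∃ n, derivedSeries G n = ⊥ := ⟨n, hn⟩
  set k := Nat.find hex with hk
  have hk0 : k ≠ 0 := by
    intro h0
    have := Nat.find_spec hex
    rw [← hk, h0, derivedSeries_zero] at this
    exact top_ne_bot this
  obtain ⟨j, hj⟩ := Nat.exists_eq_succ_of_ne_zero hk0
  set A := derivedSeries G j with hA
  have hAne : A ≠ ⊥ := by
    intro h
    have := Nat.find_min' hex h
    omega
  have hAA : ⁅A, A⁆ = ⊥ := by
    have := Nat.find_spec hex
    rw [← hk, hj] at this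
    exact this
  haveI hAn : A.Normal := derivedSeries_normal G j
  have hcomm : ∀ a ∈ A, ∀ b ∈ A, a * b = b * a := by
    intro a ha b hb
    have h1 : ⁅a, b⁆ ∈ ⁅A, A⁆ := Subgroup.commutator_mem_commutator ha hb
    rw [hAA, Subgroup.mem_bot, commutatorElement_eq_one_iff_mul_comm] at h1
    exact h1
  have hcard : Nat.card ↥A ≠ 1 := fun h => hAne (Subgroup.card_eq_one.mp h)
  obtain ⟨r, hr, hrd⟩ := Nat.exists_prime_and_dvd hcard
  haveI : Fact r.Prime := ⟨hr⟩
  let N : Subgroup G :=
    { carrier := {a | a ∈ A ∧ a ^ r = 1}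
      one_mem' := ⟨A.one_mem, one_pow r⟩
      mul_mem' := by
        rintro a b ⟨ha, ha2⟩ ⟨hb, hb2⟩
        refine ⟨A.mul_mem ha hb, ?_⟩
        have hab : Commute a b := hcomm a ha b hb
        rw [hab.mul_pow, ha2, hb2, one_mul]
      inv_mem' := by
        rintro a ⟨ha, ha2⟩
        exact ⟨A.inv_mem ha, by rw [inv_pow, ha2, inv_one]⟩ }
  refine ⟨N, r, ?_, ?_, hr, ?_⟩
  · constructor
    rintro a ⟨ha, ha2⟩ g
    refine ⟨hAn.conj_mem a ha g, ?_⟩
    rw [conj_pow, ha2]; group
  · obtain ⟨a, ha⟩ := exists_prime_orderOf_dvd_card' r hrd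
    intro hbot
    have h1 : (a : G) ∈ N := by
      refine ⟨a.2, ?_⟩
      have : (a : G) ^ r = ((a ^ r : ↥A) : G) := by simp
      rw [this, ← ha, pow_orderOf_eq_one]; rfl
    rw [hbot, Subgroup.mem_bot] at h1
    have h2 : a = 1 := Subtype.ext h1
    rw [h2, orderOf_one] at ha
    exact hr.one_lt.ne ha
  · rintro ⟨a, ha, ha2⟩
    exact ⟨1, Subtype.ext (by simpa using ha2)⟩

theorem main : ∀ (n : ℕ) (G : Type u) [Group G] [Finite G] [Group.IsSolvable G],
    Nat.card G = n → ∀ (S : Sylow 2 G) (x : G), Odd (orderOf x) →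
    x ∈ Subgroup.normalizer ((S : Subgroup G) : Set G) → IsConj x x⁻¹ → x = 1 := by
  intro n
  induction n using Nat.strong_induction_on with
  | _ n ih =>
  intro G _ _ _ hcard S x hodd hnorm hconj
  by_cases hnt : Nontrivial G
  swap
  · rw [not_nontrivial_iff_subsingleton] at hnt
    exact Subsingleton.elim _ _
  obtain ⟨N, r, hNn, hNne, hr, hNr⟩ := exists_normal_pgroup (G := G)
  haveI := hNn
  -- x ∈ N by induction
  have hxN : x ∈ N := by
    have hlt : Nat.card (G ⧸ N) < n := by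
      rw [← hcard, Subgroup.card_eq_card_quotient_mul_card_subgroup N]
      have h1 : 1 < Nat.card ↥N := by
        rcases Nat.lt_or_ge 1 (Nat.card ↥N) with h | h
        · exact h
        · exact absurd (Subgroup.card_eq_one.mp (le_antisymm h Nat.card_pos)) hNne
      have h2 : 0 < Nat.card (G ⧸ N) := Nat.card_pos
      nlinarith
    have hsurj := QuotientGroup.mk'_surjective N
    have h1 := ih _ hlt (G ⧸ N) rfl (S.mapSurjective hsurj) (QuotientGroup.mk' N x)
      (Odd.of_dvd_nat hodd (orderOf_map_dvd _ x))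
      (by
        rw [Sylow.coe_mapSurjective]
        exact Subgroup.le_normalizer_map _ ⟨x, hnorm, rfl⟩)
      (by
        have := (QuotientGroup.mk' N).map_isConj hconj
        rwa [map_inv] at this)
    exact (QuotientGroup.eq_one_iff x).mp h1
  by_cases hr2 : r = 2
  · -- N is a 2-group
    subst hr2
    obtain ⟨k, hk⟩ := hNr ⟨x, hxN⟩
    have hk' : x ^ 2 ^ k = 1 := congrArg Subtype.val hk
    have h1 : orderOf x ∣ 2 ^ k := orderOf_dvd_of_pow_eq_one hk'
    have h2 : (orderOf x).Coprime (2 ^ k) := Nat.Coprime.pow_right _ hodd.coprime_two_right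
    exact orderOf_eq_one_iff.mp (Nat.Coprime.eq_one_of_dvd h2 h1)
  · -- S ∩ N = 1
    have hdisj : ∀ g : G, g ∈ (S : Subgroup G) → g ∈ N → g = 1 := by
      intro g hgS hgN
      obtain ⟨a, ha⟩ := S.2 ⟨g, hgS⟩
      obtain ⟨b, hb⟩ := hNr ⟨g, hgN⟩
      have ha' : g ^ 2 ^ a = 1 := congrArg Subtype.val ha
      have hb' : g ^ r ^ b = 1 := congrArg Subtype.val hb
      have h1 := orderOf_dvd_of_pow_eq_one ha'
      have h2 := orderOf_dvd_of_pow_eq_one hb'
      have hc : (2 ^ a).Coprime (r ^ b) :=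
        Nat.Coprime.pow _ _ ((Nat.coprime_primes Nat.prime_two hr).mpr (Ne.symm hr2))
      exact orderOf_eq_one_iff.mp (Nat.eq_one_of_dvd_coprimes hc h1 h2)
    have hSC : (S : Subgroup G) ≤ Subgroup.centralizer ({x} : Set G) := by
      intro s hs
      rw [Subgroup.mem_centralizer_singleton_iff]
      have h1 : x * s * x⁻¹ ∈ (S : Subgroup G) := (Subgroup.mem_normalizer_iff.mp hnorm s).mp hs
      have h2 : x * s * x⁻¹ * s⁻¹ ∈ (S : Subgroup G) := Subgroup.mul_mem _ h1 (Subgroup.inv_mem _ hs)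
      have h3 : x * s * x⁻¹ * s⁻¹ ∈ N := by
        have : x * s * x⁻¹ * s⁻¹ = x * (s * x⁻¹ * s⁻¹) := by group
        rw [this]
        exact N.mul_mem hxN (hNn.conj_mem _ (N.inv_mem hxN) s)
      have h4 := hdisj _ h2 h3
      calc s * x = (x * s * x⁻¹ * s⁻¹)⁻¹ * (x * s) := by group
        _ = x * s := by rw [h4]; group
    obtain ⟨g, hg⟩ := isConj_iff.mp hconj
    -- g² centralizes x
    have hg2 : g ^ 2 * x = x * g ^ 2 := by
      have : g * x⁻¹ * g⁻¹ = x := by
        have := congrArg (·⁻¹) hg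
        simpa [mul_assoc] using this
      calc g ^ 2 * x = g * (g * x * g⁻¹) * g⁻¹ * g ^ 2 := by rw [pow_two]; group
        _ = g * x⁻¹ * g⁻¹ * g ^ 2 := by rw [hg]
        _ = x * g ^ 2 := by rw [this]
    obtain ⟨e, m, hm, hgem⟩ := Nat.exists_eq_two_pow_mul_odd (orderOf_pos g).ne'
    have hm0 : m ≠ 0 := by rintro rfl; exact (by decide : ¬ Odd 0) hm
    set h := g ^ m with hh
    have hoh : orderOf h = 2 ^ e := by
      rw [hh, orderOf_pow_of_dvd hm0 (Dvd.intro_left _ hgem.symm), hgem,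
        Nat.mul_div_cancel _ (Nat.pos_of_ne_zero hm0)]
    have hinv : h * x * h⁻¹ = x⁻¹ := by
      obtain ⟨j, hj⟩ := hm
      have hc : Commute (g ^ 2) x := hg2
      have hcj : Commute ((g ^ 2) ^ j) x := hc.pow_left j
      have hh' : h = (g ^ 2) ^ j * g := by rw [hh, hj, pow_succ, pow_mul]
      have hcj' : (g ^ 2) ^ j * x⁻¹ = x⁻¹ * (g ^ 2) ^ j := (hcj.inv_right).eq
      calc h * x * h⁻¹ = (g ^ 2) ^ j * (g * x * g⁻¹) * ((g ^ 2) ^ j)⁻¹ := by rw [hh']; group
        _ = ((g ^ 2) ^ j * x⁻¹) * ((g ^ 2) ^ j)⁻¹ := by rw [hg]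
        _ = x⁻¹ := by rw [hcj']; group
    -- h lies in the normalizer M of ⟨x⟩
    set M := Subgroup.normalizer ((Subgroup.zpowers x : Subgroup G) : Set G) with hM
    have hCM : Subgroup.centralizer ({x} : Set G) ≤ M := by
      intro c hc
      rw [Subgroup.mem_centralizer_singleton_iff] at hc
      rw [hM, Subgroup.mem_normalizer_iff_map_conj_eq, MonoidHom.map_zpowers]
      congr 1
      show c * x * c⁻¹ = x
      rw [hc]; group
    have hhM : h ∈ M := by
      rw [hM, Subgroup.mem_normalizer_iff_map_conj_eq]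
      refine Subgroup.eq_of_le_of_card_ge ?_
        (by rw [Subgroup.card_map_of_injective (MulAut.conj h).injective])
      rw [MonoidHom.map_zpowers, Subgroup.zpowers_le]
      show h * x * h⁻¹ ∈ Subgroup.zpowers x
      rw [hinv]
      exact Subgroup.inv_mem _ (Subgroup.mem_zpowers x)
    have hSM : (S : Subgroup G) ≤ M := hSC.trans hCM
    have hpg : IsPGroup 2 ↥(Subgroup.zpowers h) := by
      apply IsPGroup.of_card (n := e)
      rw [Nat.card_zpowers, hoh]
    obtain ⟨a, haM, hle⟩ := Cfsg.Agent.Lib.Lead.pgroup_le_conj_sylow_in_subgroup S M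
      (Subgroup.zpowers h) hSM (by rw [Subgroup.zpowers_le]; exact hhM) hpg
    have h1 : h ∈ MulAut.conj a • (S : Subgroup G) := hle (Subgroup.mem_zpowers h)
    rw [Subgroup.mem_pointwise_smul_iff_inv_smul_mem] at h1
    have h2 : a⁻¹ * h * a ∈ (S : Subgroup G) := by simpa [MulAut.smul_def] using h1
    have h3 := hSC h2
    rw [Subgroup.mem_centralizer_singleton_iff] at h3
    -- a⁻¹ x a ∈ ⟨x⟩ so h commutes with ... conclude h commutes with x
    have h4 : a * x * a⁻¹ ∈ Subgroup.zpowers x :=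
      (Subgroup.mem_normalizer_iff.mp haM x).mp (Subgroup.mem_zpowers x)
    -- h commutes with a x a⁻¹
    have h5 : h * (a * x * a⁻¹) = (a * x * a⁻¹) * h := by
      calc h * (a * x * a⁻¹) = a * ((a⁻¹ * h * a) * x) * a⁻¹ := by group
        _ = a * (x * (a⁻¹ * h * a)) * a⁻¹ := by rw [h3]
        _ = (a * x * a⁻¹) * h := by group
    -- x ∈ zpowers (a x a⁻¹)
    have h6 : x ∈ Subgroup.zpowers (a * x * a⁻¹) := by
      have hle2 : Subgroup.zpowers (a * x * a⁻¹) ≤ Subgroup.zpowers x := by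
        rw [Subgroup.zpowers_le]; exact h4
      have hcard2 : Nat.card ↥(Subgroup.zpowers x) ≤ Nat.card ↥(Subgroup.zpowers (a * x * a⁻¹)) := by
        rw [Nat.card_zpowers, Nat.card_zpowers]
        have := (MulAut.conj a).orderOf_eq x
        rw [MulAut.conj_apply] at this
        rw [this]
      rw [Subgroup.eq_of_le_of_card_ge hle2 hcard2]
      exact Subgroup.mem_zpowers x
    obtain ⟨i, hi⟩ := Subgroup.mem_zpowers_iff.mp h6
    have h7 : h * x = x * h := by
      have hc : Commute h (a * x * a⁻¹) := h5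
      have := (hc.zpow_right i).eq
      rw [hi] at this
      exact this
    -- so x = x⁻¹
    have h8 : x = x⁻¹ := by
      rw [← hinv, h7]; group
    have h9 : x ^ 2 = 1 := by
      rw [pow_two]
      nth_rewrite 1 [h8]
      group
    have h10 : orderOf x ∣ 2 := orderOf_dvd_of_pow_eq_one h9
    exact orderOf_eq_one_iff.mp (Nat.Coprime.eq_one_of_dvd hodd.coprime_two_right h10)

/-- Let G be a finite solvable group with Sylow 2-subgroup S, and let x ≠ 1 be an element of odd order normalizing S. Then x is not conjugate to its inverse in G. -/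
theorem result {G : Type*} [Group G] [Finite G] [Group.IsSolvable G]
    (S : Sylow 2 G) (x : G) (hx : x ≠ 1) (hodd : Odd (orderOf x))
    (hnorm : x ∈ Subgroup.normalizer ((S : Subgroup G) : Set G)) : ¬ IsConj x x⁻¹ := by
  intro hconj
  exact hx (main _ G rfl S x hodd hnorm hconj)

end Cfsg.Agent.S4060
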