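import Mathlib
import Cfsg.Statements.S4066
import Cfsg.Agent.Lib.Helper7.Wielandt1

set_option autoImplicit false
open Cfsg

namespace Cfsg.Agent.S4066

open Cfsg.Agent.Lib.Helper7
open scoped Pointwise

variable {G : Type*} [Group G]

/-- Claim A: if `y ≠ 1` commutes with `x` then `C(y) ≤ N(C(x))`. -/
theorem claimA (hTI : ∀ x : G, Cfsg.IsTISubset (Subgroup.centralizer ({x} : Set G) : Set G))
    (x y : G) (hy : y ≠ 1) (hxy : y * x = x * y) :
    Subgroup.centralizer ({y} : Set G)
      ≤ Subgroup.normalizer ((Subgroup.centralizer ({x} : Set G) : Subgroup G) : Set G) := by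
  intro g hg
  by_contra hgn
  apply hy
  refine hTI x g hgn y ?_ ?_
  · exact Subgroup.mem_centralizer_singleton_iff.mpr hxy
  · rw [Subgroup.mem_centralizer_singleton_iff] at hg
    have : g * y * g⁻¹ = y := by rw [hg]; group
    rw [this]
    exact Subgroup.mem_centralizer_singleton_iff.mpr hxy

/-- an abelian group generated by `p`-elements is a `p`-group. -/
theorem isPGroup_closure_of_comm {p : ℕ} (S : Set G)
    (hcomm : ∀ a ∈ S, ∀ b ∈ S, a * b = b * a) (hp : ∀ a ∈ S, ∃ k : ℕ, a ^ p ^ k = 1) :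
    IsPGroup p ↥(Subgroup.closure S) := by
  haveI := Subgroup.isMulCommutative_closure hcomm
  have key : ∀ w (hw : w ∈ Subgroup.closure S), ∃ k : ℕ, w ^ p ^ k = 1 := by
    intro w hw
    induction hw using Subgroup.closure_induction with
    | mem x hx => exact hp x hx
    | one => exact ⟨0, one_pow _⟩
    | mul x y hx hy ihx ihy =>
      obtain ⟨a, ha⟩ := ihx
      obtain ⟨b, hb⟩ := ihy
      have hc : Commute x y := by
        have := (inferInstance : IsMulCommutative ↥(Subgroup.closure S)).is_comm.comm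
          (⟨x, hx⟩ : ↥(Subgroup.closure S)) ⟨y, hy⟩
        exact congrArg Subtype.val this
      refine ⟨a + b, ?_⟩
      rw [hc.mul_pow, pow_add, pow_mul, ha, one_pow, mul_comm (p ^ a), pow_mul, hb, one_pow,
        one_mul]
    | inv x hx ih =>
      obtain ⟨a, ha⟩ := ih
      exact ⟨a, by rw [inv_pow, ha, inv_one]⟩
  intro w
  obtain ⟨k, hk⟩ := key w.1 w.2
  exact ⟨k, Subtype.ext hk⟩

/-- main lemma -/
theorem mem_sylow_of_mem_centralizer [Finite G]
    (hTI : ∀ x : G, Cfsg.IsTISubset (Subgroup.centralizer ({x} : Set G) : Set G))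
    {p : ℕ} [Fact p.Prime] (P : Sylow p G) (z : G) (hz : z ≠ 1)
    (hPC : (P : Subgroup G) ≤ Subgroup.centralizer ({z} : Set G))
    (y : G) (hyC : y ∈ Subgroup.centralizer ({z} : Set G))
    (hyp : ∃ k : ℕ, y ^ p ^ k = 1) : y ∈ (P : Subgroup G) := by
  set C := Subgroup.centralizer ({z} : Set G) with hC
  have hyz : y * z = z * y := Subgroup.mem_centralizer_singleton_iff.mp hyC
  -- C normalizes C(y)
  have hCN : C ≤ Subgroup.normalizer
      ((Subgroup.centralizer ({y} : Set G) : Subgroup G) : Set G) :=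
    claimA hTI y z hz hyz.symm
  have hconj : ∀ c ∈ C, (c * y * c⁻¹) * y = y * (c * y * c⁻¹) := by
    intro c hc
    have h1 := (Subgroup.mem_normalizer_iff.mp (hCN hc)) y
    have h2 : y ∈ Subgroup.centralizer ({y} : Set G) :=
      Subgroup.mem_centralizer_singleton_iff.mpr rfl
    exact Subgroup.mem_centralizer_singleton_iff.mp (h1.mp h2)
  set S : Set G := {w | ∃ c ∈ C, w = c * y * c⁻¹} with hS
  have hcomm : ∀ a ∈ S, ∀ b ∈ S, a * b = b * a := by
    rintro a ⟨c1, hc1, rfl⟩ b ⟨c2, hc2, rfl⟩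
    have h := hconj (c1⁻¹ * c2) (C.mul_mem (C.inv_mem hc1) hc2)
    have e1 : c1 * y * c1⁻¹ * (c2 * y * c2⁻¹)
        = c1 * (y * ((c1⁻¹ * c2) * y * (c1⁻¹ * c2)⁻¹)) * c1⁻¹ := by group
    have e2 : c2 * y * c2⁻¹ * (c1 * y * c1⁻¹)
        = c1 * (((c1⁻¹ * c2) * y * (c1⁻¹ * c2)⁻¹) * y) * c1⁻¹ := by group
    rw [e1, e2, h]
  have hpS : ∀ a ∈ S, ∃ k : ℕ, a ^ p ^ k = 1 := by
    rintro a ⟨c, _, rfl⟩
    obtain ⟨k, hk⟩ := hyp
    refine ⟨k, ?_⟩
    rw [conj_pow, hk]; group
  set Y := Subgroup.closure S with hY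
  have hYp : IsPGroup p ↥Y := isPGroup_closure_of_comm S hcomm hpS
  have hyY : y ∈ Y := by
    apply Subgroup.subset_closure
    exact ⟨1, C.one_mem, by group⟩
  -- C normalizes Y
  have hCY : C ≤ Subgroup.normalizer (Y : Set G) := by
    intro c hc
    rw [mem_normalizer_iff_cj]
    refine Subgroup.eq_of_le_of_card_ge ?_ (by rw [card_cj])
    show Subgroup.map _ Y ≤ Y
    rw [Subgroup.map_le_iff_le_comap, hY, Subgroup.closure_le]
    rintro w ⟨c', hc', rfl⟩
    show (MulAut.conj c) (c' * y * c'⁻¹) ∈ Subgroup.closure S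
    apply Subgroup.subset_closure
    refine ⟨c * c', C.mul_mem hc hc', ?_⟩
    rw [MulAut.conj_apply]; group
  have hsup : IsPGroup p ↥((P : Subgroup G) ⊔ Y) :=
    IsPGroup.to_sup_of_normal_right' P.2 hYp (hPC.trans hCY)
  have := P.is_maximal' hsup le_sup_left
  have hYP : Y ≤ (P : Subgroup G) := by
    rw [← this]; exact le_sup_right
  exact hYP hyY

/-- Let G be a finite group in which the centralizer of every element meets each of its conjugates by elements outside its normalizer trivially. Then any two distinct Sylow p-subgroups of G, for any prime p, intersect trivially. -/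
theorem result {G : Type*} [Group G] [Finite G] (hTI : ∀ x : G, Cfsg.IsTISubset (Subgroup.centralizer ({x} : Set G) : Set G))
    {p : ℕ} [Fact p.Prime] (P Q : Sylow p G) (hPQ : P ≠ Q) : (P : Subgroup G) ⊓ (Q : Subgroup G) = ⊥ := by
  by_contra hne
  haveI := (Subgroup.nontrivial_iff_ne_bot _).mpr hne
  obtain ⟨u, hu, hu1⟩ := Subgroup.exists_ne_one_of_nontrivial ((P : Subgroup G) ⊓ (Q : Subgroup G))
  have huP : u ∈ (P : Subgroup G) := (Subgroup.mem_inf.mp hu).1
  have huQ : u ∈ (Q : Subgroup G) := (Subgroup.mem_inf.mp hu).2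
  -- a nontrivial central element of P
  haveI : Nontrivial ↥(P : Subgroup G) := ⟨⟨⟨u, huP⟩, 1, fun h => hu1 (congrArg Subtype.val h)⟩⟩
  haveI := P.2.center_nontrivial
  obtain ⟨z', hz', hz'1⟩ := Subgroup.exists_ne_one_of_nontrivial (Subgroup.center ↥(P : Subgroup G))
  set z : G := (z' : G) with hz
  have hz1 : z ≠ 1 := fun h => hz'1 (Subtype.ext h)
  have hPC : (P : Subgroup G) ≤ Subgroup.centralizer ({z} : Set G) := by
    intro x hx
    rw [Subgroup.mem_centralizer_singleton_iff]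
    have := Subgroup.mem_center_iff.mp hz' ⟨x, hx⟩
    exact (congrArg Subtype.val this)
  set C := Subgroup.centralizer ({z} : Set G) with hC
  obtain ⟨g, hg⟩ := MulAction.exists_smul_eq G P Q
  have hQ : (Q : Subgroup G) = cj g (P : Subgroup G) := by rw [← hg]; rfl
  -- g normalizes C
  have hgN : g ∈ Subgroup.normalizer (C : Set G) := by
    by_contra hgn
    have hu' : g⁻¹ * u * g ∈ (P : Subgroup G) := by
      rw [hQ, mem_cj] at huQ; exact huQ
    have h1 := hTI z g hgn (g⁻¹ * u * g) (hPC hu') (by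
      have : g * (g⁻¹ * u * g) * g⁻¹ = u := by group
      rw [this]; exact hPC huP)
    apply hu1
    have : u = g * (g⁻¹ * u * g) * g⁻¹ := by group
    rw [this, h1]; group
  have hQC : (Q : Subgroup G) ≤ C := by
    intro q hq
    rw [hQ, mem_cj] at hq
    have h1 := (Subgroup.mem_normalizer_iff.mp hgN (g⁻¹ * q * g)).mp (hPC hq)
    have : g * (g⁻¹ * q * g) * g⁻¹ = q := by group
    rwa [this] at h1
  have hQP : (Q : Subgroup G) ≤ (P : Subgroup G) := by
    intro q hq
    by_cases hq1 : q = 1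
    · rw [hq1]; exact Subgroup.one_mem _
    · refine mem_sylow_of_mem_centralizer hTI P z hz1 hPC q (hQC hq) ?_
      obtain ⟨k, hk⟩ := Q.2 ⟨q, hq⟩
      exact ⟨k, congrArg Subtype.val hk⟩
  apply hPQ
  exact (Sylow.ext (Subgroup.eq_of_le_of_card_ge hQP
    (by rw [Sylow.card_eq_multiplicity, Sylow.card_eq_multiplicity]))).symm

end Cfsg.Agent.S4066
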