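import Mathlib
import Cfsg.Statements.S4067
import Cfsg.Agent.Lib.Helper3.AO1
import Cfsg.Agent.Lib.Helper3.AO2
import Cfsg.Agent.Lib.Helper3.AO4
import Cfsg.Agent.Lib.Helper3.AO7
import Cfsg.Agent.Lib.Helper3.AO8
import Cfsg.Agent.Lib.Helper3.AO9

set_option autoImplicit false
open Cfsg

namespace Cfsg.Agent.S4067

open Cfsg.Agent.Lib.Helper3.AO MulAction

/-- Let G be a finite non-abelian group and p the least prime dividing its order. Then the automorphism group of G has at most #G/p orbits on G. -/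
theorem result {G : Type*} [Group G] [Finite G] (hna : ¬ IsMulCommutative G) :
    Nat.card (MulAction.orbitRel.Quotient (MulAut G) G) ≤ Nat.card G / (Nat.card G).minFac := by
  by_cases hk : Nat.card (ConjClasses G) * (Nat.card G).minFac ≤ Nat.card G
  · refine le_trans card_orbits_le_card_conjClasses ?_
    rw [Nat.le_div_iff_mul_le (Nat.minFac_pos _)]
    exact hk
  rw [not_le] at hk
  have hc := card_commutator_eq_minFac hna hk
  have hle := commutator_le_center hc
  have hz := sq_mul_card_center_le hna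
  have hn1 : Nat.card G ≠ 1 := by
    intro h1
    apply hna
    have : Subsingleton G := (Nat.card_eq_one_iff_unique.1 h1).1
    exact ⟨⟨fun a b => Subsingleton.elim _ _⟩⟩
  have hpp : (Nat.card G).minFac.Prime := Nat.minFac_prime hn1
  obtain ⟨p, hp⟩ : ∃ p, p = (Nat.card G).minFac := ⟨_, rfl⟩
  rw [← hp] at hc hz hpp ⊢
  have : Fact p.Prime := ⟨hpp⟩
  obtain ⟨D⟩ := exists_cdata hc hle
  -- a noncentral element
  have hexv : ∃ v : G, v ∉ Subgroup.center G := by
    by_contra h
    apply hna
    refine ⟨⟨fun a b => ?_⟩⟩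
    have hb : b ∈ Subgroup.center G := not_not.1 fun hb => h ⟨b, hb⟩
    exact Subgroup.mem_center_iff.1 hb a
  have hcen : ∀ x, x ∉ Subgroup.center G → p ≤ (orbit (MulAut G) x).ncard :=
    fun x hx => le_ncard_orbit D hx
  by_cases hA : ∃ w ∈ Subgroup.center G, w ^ p = 1 ∧ w ∉ commutator G
  · obtain ⟨w, hwZ, hwp, hwc⟩ := hA
    obtain ⟨v, hv⟩ := hexv
    refine final_count hp hpp.one_lt.le hz v hv hcen ?_
    intro x hx
    have hxz : x ∉ Subgroup.center G := fun h => hx (Subgroup.mem_center_iff.1 h v).symm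
    exact caseA D hwZ hwp hwc hxz
  · have hW : ∀ w ∈ Subgroup.center G, w ^ p = 1 → w ∈ commutator G := by
      intro w hwZ hwp
      by_contra hwc
      exact hA ⟨w, hwZ, hwp, hwc⟩
    by_cases hp2 : p = 2
    · subst hp2
      have hnab : ∃ x y : G, D.β x y ≠ 0 := by
        obtain ⟨v, hv⟩ := hexv
        obtain ⟨y, hy⟩ := D.exists_β_ne_zero hv
        exact ⟨y, v, hy⟩
      obtain ⟨v, hv, hv2⟩ := exists_noncentral_sq D hnab hc hW
      exact final_count hp hpp.one_lt.le hz v hv hcen (fun x hx => caseC D hv hv2 hx)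
    · obtain ⟨v, hv, hvp⟩ := exists_noncentral_order_p D hp2 hz hc hW
      exact final_count hp hpp.one_lt.le hz v hv hcen (fun x hx => caseB D hp2 hv hvp hx)

end Cfsg.Agent.S4067
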