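import Mathlib
import Cfsg.Statements.S4071
import Cfsg.Agent.Lib.Lead.CoprimeTools
import Cfsg.Agent.Lib.Lead.Frattini
import Cfsg.Agent.Lib.Helper7.IrredCard

set_option autoImplicit false
open Cfsg

namespace Cfsg.Agent.S4071

open Cfsg.Agent.Lib Cfsg.Agent.Lib.Helper7

section
variable {G : Type*} [Group G] [Finite G]

/-- a normal maximal subgroup has prime index -/
theorem index_prime_of_normal_coatom {M : Subgroup G} [hMn : M.Normal] (hM : IsCoatom M) :
    M.index.Prime := by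
  have hne : Nat.card (G ⧸ M) ≠ 1 := by
    rw [← Subgroup.index_eq_card]
    intro h; exact hM.1 (Subgroup.index_eq_one.mp h)
  obtain ⟨q, hq, hqd⟩ := Nat.exists_prime_and_dvd hne
  haveI : Fact q.Prime := ⟨hq⟩
  obtain ⟨x, hx⟩ := exists_prime_orderOf_dvd_card' q hqd
  have hK : M ≤ (Subgroup.zpowers x).comap (QuotientGroup.mk' M) := by
    intro m hm
    rw [Subgroup.mem_comap, QuotientGroup.mk'_apply, (QuotientGroup.eq_one_iff m).mpr hm]
    exact one_mem _
  have hKne : (Subgroup.zpowers x).comap (QuotientGroup.mk' M) ≠ M := by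
    intro heq
    obtain ⟨g, rfl⟩ := QuotientGroup.mk'_surjective M x
    have h1 : g ∈ (Subgroup.zpowers (QuotientGroup.mk' M g)).comap (QuotientGroup.mk' M) :=
      Subgroup.mem_zpowers _
    rw [heq] at h1
    have h2 : (QuotientGroup.mk' M g) = 1 := (QuotientGroup.eq_one_iff g).mpr h1
    rw [h2, orderOf_one] at hx
    exact hq.one_lt.ne hx
  have hKtop : (Subgroup.zpowers x).comap (QuotientGroup.mk' M) = ⊤ :=
    hM.2 _ (lt_of_le_of_ne hK (Ne.symm hKne))
  have hz : Subgroup.zpowers x = ⊤ := by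
    rw [← Subgroup.map_comap_eq_self_of_surjective (QuotientGroup.mk'_surjective M)
      (Subgroup.zpowers x), hKtop, ← MonoidHom.range_eq_map, MonoidHom.range_eq_top]
    exact QuotientGroup.mk'_surjective M
  have : M.index = q := by
    rw [Subgroup.index_eq_card, ← hx, ← Nat.card_zpowers, hz, Subgroup.card_top]
  rw [this]; exact hq

/-- conjugates of `x` by elements of `A` are distinct when `x` acts without fixed points -/
theorem conj_inj (A : Subgroup G) (x : G) (hfpf : ∀ a ∈ A, x * a * x⁻¹ = a → a = 1)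
    {b c : G} (hb : b ∈ A) (hc : c ∈ A) (h : b * x * b⁻¹ = c * x * c⁻¹) : b = c := by
  have h1 : x * (c⁻¹ * b) * x⁻¹ = c⁻¹ * b := by
    calc x * (c⁻¹ * b) * x⁻¹ = c⁻¹ * (c * x * c⁻¹) * b * x⁻¹ := by group
      _ = c⁻¹ * (b * x * b⁻¹) * b * x⁻¹ := by rw [h]
      _ = c⁻¹ * b := by group
  have h2 := hfpf _ (mul_mem (inv_mem hc) hb) h1
  calc b = c * (c⁻¹ * b) := by group
    _ = c := by rw [h2, mul_one]

/-- the core of the converse: a subgroup containing `x` is self-normalizing -/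
theorem core (A : Subgroup G) [hAn : A.Normal] (x : G)
    (hgen : ∀ g : G, ∃ i : ℕ, ∃ a ∈ A, g = x ^ i * a)
    (hfpf : ∀ a ∈ A, x * a * x⁻¹ = a → a = 1) (H : Subgroup G) (hxH : x ∈ H) :
    Subgroup.normalizer (H : Set G) ≤ H := by
  intro g hg
  obtain ⟨i, a, ha, rfl⟩ := hgen g
  have hxi : x ^ i ∈ H := pow_mem hxH i
  have haN : a ∈ Subgroup.normalizer (H : Set G) := by
    have : a = (x ^ i)⁻¹ * (x ^ i * a) := by group
    rw [this]
    exact mul_mem (inv_mem (Subgroup.le_normalizer hxi)) hg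
  suffices a ∈ H from mul_mem hxi this
  have hθA : ∀ b ∈ A, b * x * b⁻¹ * x⁻¹ ∈ A := fun b hb => by
    have : b * x * b⁻¹ * x⁻¹ = b * (x * b⁻¹ * x⁻¹) := by group
    rw [this]; exact mul_mem hb (hAn.conj_mem _ (inv_mem hb) x)
  have hθH : ∀ b ∈ Subgroup.normalizer (H : Set G), b * x * b⁻¹ * x⁻¹ ∈ H := fun b hb =>
    mul_mem ((Subgroup.mem_normalizer_iff.mp hb x).mp hxH) (inv_mem hxH)
  let f : (H ⊓ A : Subgroup G) → (H ⊓ A : Subgroup G) := fun b =>
    ⟨(b : G) * x * (b : G)⁻¹ * x⁻¹,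
      Subgroup.mem_inf.mpr ⟨hθH b (Subgroup.le_normalizer (Subgroup.mem_inf.mp b.2).1),
        hθA b (Subgroup.mem_inf.mp b.2).2⟩⟩
  have hfinj : Function.Injective f := by
    intro b c hbc
    have h1 : (b : G) * x * (b : G)⁻¹ * x⁻¹ = (c : G) * x * (c : G)⁻¹ * x⁻¹ :=
      congrArg Subtype.val hbc
    exact Subtype.ext (conj_inj A x hfpf (Subgroup.mem_inf.mp b.2).2 (Subgroup.mem_inf.mp c.2).2
      (mul_right_cancel h1))
  have hfsurj := Finite.surjective_of_injective hfinj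
  obtain ⟨b, hb⟩ := hfsurj ⟨a * x * a⁻¹ * x⁻¹, Subgroup.mem_inf.mpr ⟨hθH a haN, hθA a ha⟩⟩
  have h1 : (b : G) * x * (b : G)⁻¹ * x⁻¹ = a * x * a⁻¹ * x⁻¹ := congrArg Subtype.val hb
  have h2 : (b : G) = a := conj_inj A x hfpf (Subgroup.mem_inf.mp b.2).2 ha (mul_right_cancel h1)
  rw [← h2]
  exact (Subgroup.mem_inf.mp b.2).1

/-- the converse direction -/
theorem backward (x : G) (A : Subgroup G) (p : ℕ) (hp : p.Prime) [hAn : A.Normal]
    (hAc : IsMulCommutative A) (k : ℕ) (hk : orderOf x = p ^ k)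
    (hcomp : (Subgroup.zpowers x).IsComplement' A) (hxp : x ^ p ∈ Subgroup.center G)
    (hfpf : ∀ a : G, a ∈ A → a ≠ 1 → x * a * x⁻¹ ≠ a) (H : Subgroup G)
    (hH : ¬ IsMulCommutative H) : Subgroup.normalizer (H : Set G) = H := by
  classical
  have hAc' : ∀ a ∈ A, ∀ b ∈ A, a * b = b * a := by
    intro a ha b hb
    exact congrArg Subtype.val (hAc.is_comm.comm ⟨a, ha⟩ ⟨b, hb⟩)
  have hfpf' : ∀ a ∈ A, x * a * x⁻¹ = a → a = 1 := by
    intro a ha h
    by_contra h1
    exact hfpf a ha h1 h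
  have hgen : ∀ g : G, ∃ i : ℕ, ∃ a ∈ A, g = x ^ i * a := by
    intro g
    have hg : g ∈ ((Subgroup.zpowers x ⊔ A : Subgroup G) : Set G) := by
      rw [hcomp.sup_eq_top]; trivial
    rw [Subgroup.mul_normal] at hg
    obtain ⟨h, hh, a, ha, rfl⟩ := Set.mem_mul.mp hg
    obtain ⟨i, rfl⟩ := (isOfFinOrder_of_finite x).mem_powers_iff_mem_zpowers.mpr hh
    exact ⟨i, a, ha, rfl⟩
  -- two non-commuting elements
  obtain ⟨h₁, hh₁, h₂, hh₂, hne⟩ : ∃ h₁ ∈ H, ∃ h₂ ∈ H, h₁ * h₂ ≠ h₂ * h₁ := by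
    by_contra hcon
    push Not at hcon
    exact hH ⟨⟨fun a b => Subtype.ext (hcon a a.2 b b.2)⟩⟩
  -- an element of `H` outside the abelian part
  obtain ⟨h, hhH, i, a, ha, hhe, hpi⟩ : ∃ h ∈ H, ∃ (i : ℕ) (a : G), a ∈ A ∧ h = x ^ i * a ∧
      ¬ p ∣ i := by
    obtain ⟨i₁, a₁, ha₁, he₁⟩ := hgen h₁
    obtain ⟨i₂, a₂, ha₂, he₂⟩ := hgen h₂
    by_cases hp1 : p ∣ i₁
    · by_cases hp2 : p ∣ i₂
      · exfalso
        apply hne
        obtain ⟨j₁, rfl⟩ := hp1
        obtain ⟨j₂, rfl⟩ := hp2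
        have hc1 : ∀ g : G, Commute (x ^ (p * j₁)) g := by
          intro g
          rw [pow_mul]
          exact (Commute.pow_left (Subgroup.mem_center_iff.mp hxp g).symm j₁)
        have hc2 : ∀ g : G, Commute (x ^ (p * j₂)) g := by
          intro g
          rw [pow_mul]
          exact (Commute.pow_left (Subgroup.mem_center_iff.mp hxp g).symm j₂)
        rw [he₁, he₂]
        have c4 : Commute a₁ a₂ := hAc' a₁ ha₁ a₂ ha₂
        exact (((hc1 _).mul_right (hc1 _)).mul_left (((hc2 _).symm).mul_right c4)).eq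
      · exact ⟨h₂, hh₂, i₂, a₂, ha₂, he₂, hp2⟩
    · exact ⟨h₁, hh₁, i₁, a₁, ha₁, he₁, hp1⟩
  have hk0 : k ≠ 0 := by
    intro h0
    rw [h0, pow_zero, orderOf_eq_one_iff] at hk
    apply hne
    obtain ⟨i₁, a₁, ha₁, he₁⟩ := hgen h₁
    obtain ⟨i₂, a₂, ha₂, he₂⟩ := hgen h₂
    rw [he₁, he₂, hk, one_pow, one_pow, one_mul, one_mul]
    exact hAc' a₁ ha₁ a₂ ha₂
  -- an element `x * a'` of `H`
  obtain ⟨a', ha', hxa'⟩ : ∃ a' ∈ A, x * a' ∈ H := by
    have hcop : Nat.Coprime i (p ^ k) :=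
      Nat.Coprime.pow_right k ((Nat.Coprime.symm ((Nat.Prime.coprime_iff_not_dvd hp).mpr hpi)))
    obtain ⟨m, -, hm⟩ := Nat.exists_mul_mod_eq_one_of_coprime hcop
      (Nat.one_lt_pow hk0 hp.one_lt)
    have hxim : x ^ (i * m) = x := by
      rw [← pow_mod_orderOf, hk, hm, pow_one]
    have hπa : QuotientGroup.mk' A a = 1 := (QuotientGroup.eq_one_iff a).mpr ha
    have hπ : (QuotientGroup.mk' A (h ^ m)) = QuotientGroup.mk' A x := by
      rw [map_pow, hhe, map_mul, hπa, mul_one, ← map_pow, ← pow_mul, hxim]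
    have hmem : x⁻¹ * h ^ m ∈ A := QuotientGroup.eq.mp hπ.symm
    refine ⟨x⁻¹ * h ^ m, hmem, ?_⟩
    rw [mul_inv_cancel_left]
    exact pow_mem hhH m
  -- `x * a'` is conjugate to `x` under `A`
  have hψA : ∀ b ∈ A, x⁻¹ * b * x * b⁻¹ ∈ A := fun b hb => by
    have h1 : x⁻¹ * b * x ∈ A := by
      have := hAn.conj_mem b hb x⁻¹
      simpa using this
    exact mul_mem h1 (inv_mem hb)
  let ψ : A → A := fun b => ⟨x⁻¹ * (b : G) * x * (b : G)⁻¹, hψA b b.2⟩
  have hψinj : Function.Injective ψ := by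
    intro b c hbc
    have h1 : x⁻¹ * (b : G) * x * (b : G)⁻¹ = x⁻¹ * (c : G) * x * (c : G)⁻¹ :=
      congrArg Subtype.val hbc
    have h2 : (b : G) * x * (b : G)⁻¹ = (c : G) * x * (c : G)⁻¹ := by
      have := congrArg (x * ·) h1
      simpa [mul_assoc] using this
    exact Subtype.ext (conj_inj A x hfpf' b.2 c.2 h2)
  obtain ⟨b, hb⟩ := Finite.surjective_of_injective hψinj ⟨a', ha'⟩
  have hb' : x⁻¹ * (b : G) * x * (b : G)⁻¹ = a' := congrArg Subtype.val hb
  have hy : (b : G) * x * (b : G)⁻¹ = x * a' := by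
    rw [← hb']; group
  have hyH : (b : G) * x * (b : G)⁻¹ ∈ H := by rw [hy]; exact hxa'
  apply le_antisymm _ Subgroup.le_normalizer
  refine core A ((b : G) * x * (b : G)⁻¹) ?_ ?_ H hyH
  · intro g
    obtain ⟨j, a, ha, hg⟩ := hgen ((b : G)⁻¹ * g * b)
    refine ⟨j, (b : G) * a * (b : G)⁻¹, hAn.conj_mem a ha b, ?_⟩
    rw [conj_pow]
    have : g = (b : G) * ((b : G)⁻¹ * g * b) * (b : G)⁻¹ := by group
    rw [this, hg]; group
  · intro a ha hya
    have ha₁ : (b : G)⁻¹ * a * b ∈ A := by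
      have := hAn.conj_mem a ha (b : G)⁻¹
      simpa using this
    have h1 : x * ((b : G)⁻¹ * a * b) * x⁻¹ = (b : G)⁻¹ * a * b := by
      calc x * ((b : G)⁻¹ * a * b) * x⁻¹
          = (b : G)⁻¹ * (((b : G) * x * (b : G)⁻¹) * a * ((b : G) * x * (b : G)⁻¹)⁻¹) * b := by
            group
        _ = (b : G)⁻¹ * a * b := by rw [hya]
    have h2 := hfpf' _ ha₁ h1
    calc a = (b : G) * ((b : G)⁻¹ * a * b) * (b : G)⁻¹ := by group
      _ = 1 := by rw [h2]; group

/-- the forward direction -/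
theorem forward [Group.IsSolvable G] (hnn : ¬ Group.IsNilpotent G)
    (hsn : ∀ H : Subgroup G, ¬ IsMulCommutative H → Subgroup.normalizer (H : Set G) = H) :
    ∃ (x : G) (A : Subgroup G) (p : ℕ), p.Prime ∧ A.Normal ∧ IsMulCommutative A ∧
      (∃ k : ℕ, orderOf x = p ^ k) ∧
      ¬ p ∣ Nat.card A ∧ (Subgroup.zpowers x).IsComplement' A ∧ x ^ p ∈ Subgroup.center G ∧
      ∀ a : G, a ∈ A → a ≠ 1 → x * a * x⁻¹ ≠ a := by
  classical
  haveI : Nontrivial G := by
    by_contra h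
    rw [not_nontrivial_iff_subsingleton] at h
    exact hnn inferInstance
  -- proper normal subgroups are abelian
  have hnorm_ab : ∀ H : Subgroup G, H.Normal → H ≠ ⊤ → IsMulCommutative H := by
    intro H hHn hH
    by_contra hc
    have h1 := hsn H hc
    rw [Subgroup.normalizer_eq_top_iff.mpr hHn] at h1
    exact hH h1.symm
  -- a normal subgroup of prime index
  have hlt := Group.IsSolvable.commutator_lt_top_of_nontrivial G
  obtain ⟨M, hMco, hcM⟩ := (eq_top_or_exists_le_coatom (commutator G)).resolve_left hlt.ne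
  haveI hMn : M.Normal := Subgroup.Normal.of_commutator_le G hcM
  have hMidx := index_prime_of_normal_coatom hMco
  obtain ⟨p, hp_def⟩ : ∃ p, M.index = p := ⟨_, rfl⟩
  rw [hp_def] at hMidx
  have hpp : p.Prime := hMidx
  haveI : Fact p.Prime := ⟨hMidx⟩
  have hMab := hnorm_ab M hMn hMco.1
  have hMc : ∀ a ∈ M, ∀ b ∈ M, a * b = b * a := by
    intro a ha b hb
    exact congrArg Subtype.val (hMab.is_comm.comm ⟨a, ha⟩ ⟨b, hb⟩)
  -- the `p'`-part of `M`
  obtain ⟨v, hv_def⟩ : ∃ v, (Nat.card M).factorization p = v := ⟨_, rfl⟩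
  obtain ⟨m, hm_def⟩ : ∃ m, Nat.card M / p ^ v = m := ⟨_, rfl⟩
  have hpm : ¬ p ∣ m := by
    rw [← hm_def, ← hv_def]; exact Nat.not_dvd_ordCompl hpp Nat.card_pos.ne'
  have hvm : p ^ v * m = Nat.card M := by
    rw [← hm_def, ← hv_def]; exact Nat.ordProj_mul_ordCompl_eq_self _ _
  let A : Subgroup G :=
    { carrier := {g | g ∈ M ∧ g ^ m = 1}
      one_mem' := ⟨M.one_mem, one_pow m⟩
      mul_mem' := by
        rintro a b ⟨ha, hap⟩ ⟨hb, hbp⟩
        refine ⟨M.mul_mem ha hb, ?_⟩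
        have : Commute a b := hMc a ha b hb
        rw [this.mul_pow, hap, hbp, one_mul]
      inv_mem' := by
        rintro a ⟨ha, hap⟩
        exact ⟨M.inv_mem ha, by rw [inv_pow, hap, inv_one]⟩ }
  have hAmem : ∀ g, g ∈ A ↔ g ∈ M ∧ g ^ m = 1 := fun g => Iff.rfl
  haveI hAn : A.Normal := by
    refine ⟨fun a ha g => ?_⟩
    obtain ⟨haM, hap⟩ := (hAmem a).mp ha
    exact (hAmem _).mpr ⟨hMn.conj_mem a haM g, by rw [conj_pow, hap]; group⟩
  have hAM : A ≤ M := fun g hg => ((hAmem g).mp hg).1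
  have hAc' : ∀ a ∈ A, ∀ b ∈ A, a * b = b * a := fun a ha b hb => hMc a (hAM ha) b (hAM hb)
  have hAab : IsMulCommutative A := ⟨⟨fun a b => Subtype.ext (hAc' a a.2 b b.2)⟩⟩
  have hpA : ¬ p ∣ Nat.card A := by
    intro hdvd
    obtain ⟨z, hz⟩ := exists_prime_orderOf_dvd_card' (G := A) p hdvd
    have h1 : (z : G) ^ m = 1 := ((hAmem z).mp z.2).2
    have h2 : orderOf (z : G) ∣ m := orderOf_dvd_of_pow_eq_one h1
    rw [Subgroup.orderOf_coe, hz] at h2
    exact hpm h2
  have hpowM : ∀ g : G, g ^ p ∈ M := by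
    intro g
    have h1 : (QuotientGroup.mk g : G ⧸ M) ^ Nat.card (G ⧸ M) = 1 := pow_card_eq_one'
    have h2 : Nat.card (G ⧸ M) = p := by rw [← Subgroup.index_eq_card]; exact hp_def
    rw [h2, ← QuotientGroup.mk_pow] at h1
    exact (QuotientGroup.eq_one_iff _).mp h1
  have hpowA : ∀ g : G, g ^ (p ^ (v + 1)) ∈ A := by
    intro g
    have h1 : g ^ (p ^ (v + 1)) = (g ^ p) ^ (p ^ v) := by
      rw [← pow_mul, pow_succ, mul_comm]
    rw [h1, hAmem]
    refine ⟨pow_mem (hpowM g) _, ?_⟩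
    rw [← pow_mul, hvm]
    have h2 : (⟨g ^ p, hpowM g⟩ : M) ^ Nat.card M = 1 := pow_card_eq_one'
    exact congrArg Subtype.val h2
  have hquoP : IsPGroup p (G ⧸ A) := by
    intro g
    obtain ⟨g', rfl⟩ := QuotientGroup.mk_surjective g
    refine ⟨v + 1, ?_⟩
    rw [← QuotientGroup.mk_pow]
    exact (QuotientGroup.eq_one_iff _).mpr (hpowA g')
  obtain ⟨n, hn⟩ := IsPGroup.iff_card.mp hquoP
  have hcardG : Nat.card G = p ^ n * Nat.card A := by
    rw [← hn]; exact Subgroup.card_eq_card_quotient_mul_card_subgroup A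
  obtain ⟨P⟩ : Nonempty (Sylow p G) := inferInstance
  have hPcard : Nat.card (P : Subgroup G) = p ^ n := by
    rw [P.card_eq_multiplicity, hcardG,
      Nat.factorization_mul (pow_pos hpp.pos _).ne' Nat.card_pos.ne',
      Finsupp.add_apply, Nat.Prime.factorization_pow hpp, Finsupp.single_eq_same,
      Nat.factorization_eq_zero_of_not_dvd hpA, add_zero]
  have hcop : Nat.Coprime (Nat.card (P : Subgroup G)) (Nat.card A) := by
    rw [hPcard]; exact Nat.Coprime.pow_left n ((Nat.Prime.coprime_iff_not_dvd hpp).mpr hpA)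
  have hcompl : (P : Subgroup G).IsComplement' A :=
    Subgroup.isComplement'_of_coprime (by rw [hPcard, hcardG]) hcop
  have hPA : (P : Subgroup G) ⊔ A = ⊤ := hcompl.sup_eq_top
  have hdisj : (P : Subgroup G) ⊓ A = ⊥ := disjoint_iff.mp hcompl.disjoint
  have hn0 : n ≠ 0 := by
    intro h0
    apply hpA
    have h1 : p ∣ Nat.card G := by
      rw [← Subgroup.card_mul_index M, hp_def]; exact dvd_mul_left _ _
    rw [hcardG, h0, pow_zero, one_mul] at h1
    exact h1
  -- normal proper subgroups of `P` centralize `A`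
  have hL : ∀ P₀ : Subgroup G, P₀ ≤ P → (P : Subgroup G) ≤ Subgroup.normalizer (P₀ : Set G) →
      P₀ ≠ P → ∀ g ∈ P₀, ∀ a ∈ A, g * a = a * g := by
    intro P₀ hP₀P hnorm hne g hg a ha
    have hHn : (P₀ ⊔ A).Normal := by
      refine normal_of_sup_eq_top hPA ?_ ?_
      · intro h hh b hb
        have hb' : b ∈ ((P₀ ⊔ A : Subgroup G) : Set G) := hb
        rw [Subgroup.mul_normal] at hb'
        obtain ⟨u, hu, w, hw, rfl⟩ := Set.mem_mul.mp hb'
        have : h * (u * w) * h⁻¹ = (h * u * h⁻¹) * (h * w * h⁻¹) := by group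
        rw [this]
        exact mul_mem ((le_sup_left : P₀ ≤ P₀ ⊔ A)
          ((Subgroup.mem_normalizer_iff.mp (hnorm hh) u).mp hu))
          ((le_sup_right : A ≤ P₀ ⊔ A) (hAn.conj_mem w hw h))
      · intro k hk b hb
        exact mul_mem (mul_mem ((le_sup_right : A ≤ P₀ ⊔ A) hk) hb)
          (inv_mem ((le_sup_right : A ≤ P₀ ⊔ A) hk))
    have hHne : P₀ ⊔ A ≠ ⊤ := by
      intro htop
      have hd : P₀ ⊓ A = ⊥ := by
        rw [eq_bot_iff, ← hdisj]; exact inf_le_inf_right A hP₀P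
      have h1 := Lead.card_sup_of_disjoint P₀ A
        (by rw [Subgroup.normalizer_eq_top A]; exact le_top) hd
      rw [htop, Subgroup.card_top, hcardG, ← hPcard] at h1
      have h2 : Nat.card (P : Subgroup G) = Nat.card P₀ :=
        Nat.eq_of_mul_eq_mul_right Nat.card_pos h1
      exact hne (Subgroup.eq_of_le_of_card_ge hP₀P h2.le)
    have hHab := hnorm_ab _ hHn hHne
    exact congrArg Subtype.val (hHab.is_comm.comm
      ⟨g, (le_sup_left : P₀ ≤ P₀ ⊔ A) hg⟩ ⟨a, (le_sup_right : A ≤ P₀ ⊔ A) ha⟩)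
  -- `A` is not central
  have hAnc : ¬ A ≤ Subgroup.center G := by
    intro hAZ
    apply hnn
    haveI : Group.IsNilpotent (G ⧸ A) := hquoP.isNilpotent
    exact Subgroup.isNilpotent_of_ker_le_center (QuotientGroup.mk' A)
      (by rw [QuotientGroup.ker_mk']; exact hAZ)
  have hcentral_of : (∀ g ∈ (P : Subgroup G), ∀ a ∈ A, g * a = a * g) → False := by
    intro h
    apply hAnc
    intro a ha
    rw [Subgroup.mem_center_iff]
    intro g
    have hg : g ∈ (((P : Subgroup G) ⊔ A : Subgroup G) : Set G) := by rw [hPA]; trivial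
    rw [Subgroup.mul_normal] at hg
    obtain ⟨u, hu, w, hw, rfl⟩ := Set.mem_mul.mp hg
    have c1 : Commute u a := h u hu a ha
    have c2 : Commute w a := hAc' w hw a ha
    exact (c1.mul_left c2).eq
  -- `P` is cyclic
  have hcyc : IsCyclic (P : Subgroup G) := by
    by_contra hnc
    apply hcentral_of
    intro g hg a ha
    have hz : Subgroup.zpowers (⟨g, hg⟩ : (P : Subgroup G)) ≠ ⊤ := by
      intro h; exact hnc (isCyclic_iff_exists_zpowers_eq_top.mpr ⟨_, h⟩)
    obtain ⟨P₀, hP₀co, hzP₀⟩ := (eq_top_or_exists_le_coatom _).resolve_left hz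
    obtain ⟨hP₀n, -⟩ := Lead.coatom_normal_index_of_isPGroup P.isPGroup' hP₀co
    refine hL (P₀.map (P : Subgroup G).subtype) (Subgroup.map_subtype_le _) ?_ ?_ g ?_ a ha
    · intro h hh
      apply Subgroup.mem_normalizer_fintype
      rintro _ ⟨b', hb', rfl⟩
      exact ⟨⟨h, hh⟩ * b' * ⟨h, hh⟩⁻¹, hP₀n.conj_mem b' hb' ⟨h, hh⟩, by simp⟩
    · intro heq
      apply hP₀co.1
      rw [eq_top_iff]
      intro y _
      have : (y : G) ∈ P₀.map (P : Subgroup G).subtype := by rw [heq]; exact y.2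
      obtain ⟨b, hb, hby⟩ := this
      have : b = y := Subtype.ext hby
      rw [← this]; exact hb
    · exact ⟨⟨g, hg⟩, hzP₀ (Subgroup.mem_zpowers _), rfl⟩
  obtain ⟨x', hx'⟩ := isCyclic_iff_exists_zpowers_eq_top.mp hcyc
  obtain ⟨x, hx_def⟩ : ∃ x : G, x = (x' : G) := ⟨_, rfl⟩
  have hzx : Subgroup.zpowers x = P := by
    have h1 : Subgroup.zpowers x = (Subgroup.zpowers x').map (P : Subgroup G).subtype := by
      rw [MonoidHom.map_zpowers, hx_def]; rfl
    rw [h1, hx', ← MonoidHom.range_eq_map, Subgroup.range_subtype]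
  have hox : orderOf x = p ^ n := by rw [← Nat.card_zpowers, hzx, hPcard]
  have hxP : ∀ u ∈ (P : Subgroup G), Commute x u := by
    intro u hu
    rw [← hzx] at hu
    obtain ⟨i, rfl⟩ := Subgroup.mem_zpowers_iff.mp hu
    exact (Commute.refl x).zpow_right i
  -- `x ^ p` centralizes `A`
  have hxpA : ∀ a ∈ A, x ^ p * a = a * x ^ p := by
    intro a ha
    refine hL (Subgroup.zpowers (x ^ p)) ?_ ?_ ?_ (x ^ p) (Subgroup.mem_zpowers _) a ha
    · rw [← hzx]; exact Subgroup.zpowers_le.mpr (pow_mem (Subgroup.mem_zpowers x) p)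
    · intro h hh
      apply Subgroup.mem_normalizer_fintype
      intro b hb
      have hb' : b ∈ Subgroup.zpowers (x ^ p) := hb
      obtain ⟨j, rfl⟩ := Subgroup.mem_zpowers_iff.mp hb'
      have hcm : Commute h ((x ^ p) ^ j) := (((hxP h hh).symm).pow_right p).zpow_right j
      rw [hcm.eq, mul_inv_cancel_right]
      exact hb
    · intro heq
      have h1 : Nat.card (Subgroup.zpowers (x ^ p)) = Nat.card (P : Subgroup G) := by rw [heq]
      rw [Nat.card_zpowers, hPcard, orderOf_pow' x hpp.ne_zero, hox] at h1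
      have hg : Nat.gcd (p ^ n) p = p := Nat.gcd_eq_right (dvd_pow_self p hn0)
      rw [hg] at h1
      have : p ^ n / p < p ^ n := Nat.div_lt_self (pow_pos hpp.pos n) hpp.one_lt
      omega
  have hxpZ : x ^ p ∈ Subgroup.center G := by
    rw [Subgroup.mem_center_iff]
    intro g
    have hg : g ∈ (((P : Subgroup G) ⊔ A : Subgroup G) : Set G) := by rw [hPA]; trivial
    rw [Subgroup.mul_normal] at hg
    obtain ⟨u, hu, w, hw, rfl⟩ := Set.mem_mul.mp hg
    have c1 : Commute u (x ^ p) := ((hxP u hu).symm).pow_right p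
    have c2 : Commute w (x ^ p) := (hxpA w hw).symm
    exact (c1.mul_left c2).eq
  -- the key computation for fixed points
  have hM' : ∀ a ∈ A, x * (a * x * a⁻¹ * x⁻¹) = (a * x * a⁻¹ * x⁻¹) * x →
      a * x * a⁻¹ * x⁻¹ = 1 := by
    intro a ha hcom
    obtain ⟨c, hc⟩ : ∃ c, c = a * x * a⁻¹ * x⁻¹ := ⟨_, rfl⟩
    rw [← hc] at hcom ⊢
    have hcA : c ∈ A := by
      have : c = a * (x * a⁻¹ * x⁻¹) := by rw [hc]; group
      rw [this]; exact mul_mem ha (hAn.conj_mem _ (inv_mem ha) x)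
    have hdA : c⁻¹ ∈ A := inv_mem hcA
    have hxd : Commute x c⁻¹ := (show Commute x c from hcom).inv_right
    have hxa : x * a * x⁻¹ = c⁻¹ * a := by rw [hc]; group
    have hiter : ∀ j : ℕ, x ^ j * a * (x ^ j)⁻¹ = c⁻¹ ^ j * a := by
      intro j
      induction j with
      | zero => simp
      | succ j ih =>
        have h1 : x ^ (j + 1) * a * (x ^ (j + 1))⁻¹ = x * (x ^ j * a * (x ^ j)⁻¹) * x⁻¹ := by
          rw [pow_succ']; group
        rw [h1, ih]
        have h2 : x * (c⁻¹ ^ j * a) * x⁻¹ = (x * c⁻¹ ^ j * x⁻¹) * (x * a * x⁻¹) := by group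
        rw [h2, hxa]
        have h3 : x * c⁻¹ ^ j * x⁻¹ = c⁻¹ ^ j := by
          have cm : Commute x (c⁻¹ ^ j) := hxd.pow_right j
          rw [cm.eq, mul_inv_cancel_right]
        rw [h3, pow_succ, mul_assoc]
    have h4 := hiter (orderOf x)
    rw [pow_orderOf_eq_one, one_mul, inv_one, mul_one] at h4
    have h5 : c⁻¹ ^ orderOf x = 1 := by
      have : c⁻¹ ^ orderOf x * a = 1 * a := by rw [one_mul]; exact h4.symm
      exact mul_right_cancel this
    have h6 : orderOf c⁻¹ ∣ p ^ n := by rw [← hox]; exact orderOf_dvd_of_pow_eq_one h5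
    have h7 : orderOf c⁻¹ ∣ Nat.card A := by
      have := orderOf_dvd_natCard (⟨c⁻¹, hdA⟩ : A)
      rwa [Subgroup.orderOf_mk] at this
    have h8 : orderOf c⁻¹ = 1 :=
      Nat.eq_one_of_dvd_coprimes (by rw [← hPcard]; exact hcop) h6 h7
    have h9 : c⁻¹ = 1 := orderOf_eq_one_iff.mp h8
    exact inv_eq_one.mp h9
  -- fixed-point-freeness
  have hfpf : ∀ c ∈ A, x * c * x⁻¹ = c → c = 1 := by
    intro c hcA hxc
    by_contra hc1
    have hxc' : Commute x c := by
      show x * c = c * x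
      calc x * c = (x * c * x⁻¹) * x := by group
        _ = c * x := by rw [hxc]
    have hθA : ∀ a ∈ A, a * x * a⁻¹ * x⁻¹ ∈ A := fun a ha => by
      have : a * x * a⁻¹ * x⁻¹ = a * (x * a⁻¹ * x⁻¹) := by group
      rw [this]; exact mul_mem ha (hAn.conj_mem _ (inv_mem ha) x)
    let θ : A →* A :=
      { toFun := fun a => ⟨(a : G) * x * (a : G)⁻¹ * x⁻¹, hθA a a.2⟩
        map_one' := by
          apply Subtype.ext
          simp
        map_mul' := by
          intro a b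
          apply Subtype.ext
          show ((a : G) * (b : G)) * x * ((a : G) * (b : G))⁻¹ * x⁻¹ =
            ((a : G) * x * (a : G)⁻¹ * x⁻¹) * ((b : G) * x * (b : G)⁻¹ * x⁻¹)
          have hcm : ((b : G) * x * (b : G)⁻¹ * x⁻¹) * (x * (a : G)⁻¹ * x⁻¹) =
              (x * (a : G)⁻¹ * x⁻¹) * ((b : G) * x * (b : G)⁻¹ * x⁻¹) :=
            hAc' _ (hθA b b.2) _ (hAn.conj_mem _ (inv_mem a.2) x)
          calc ((a : G) * (b : G)) * x * ((a : G) * (b : G))⁻¹ * x⁻¹
              = (a : G) * (((b : G) * x * (b : G)⁻¹ * x⁻¹) * (x * (a : G)⁻¹ * x⁻¹)) := by group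
            _ = (a : G) * ((x * (a : G)⁻¹ * x⁻¹) * ((b : G) * x * (b : G)⁻¹ * x⁻¹)) := by
                rw [hcm]
            _ = _ := by group }
    obtain ⟨A₁, hA₁_def⟩ : ∃ A₁ : Subgroup G, A₁ = θ.range.map A.subtype := ⟨_, rfl⟩
    have hA₁mem : ∀ g, g ∈ A₁ ↔ ∃ a ∈ A, g = a * x * a⁻¹ * x⁻¹ := by
      intro g
      rw [hA₁_def]
      constructor
      · rintro ⟨_, ⟨a, rfl⟩, rfl⟩
        exact ⟨a, a.2, rfl⟩
      · rintro ⟨a, ha, rfl⟩
        exact ⟨θ ⟨a, ha⟩, ⟨⟨a, ha⟩, rfl⟩, rfl⟩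
    have hA₁A : A₁ ≤ A := by
      rw [hA₁_def]; exact Subgroup.map_subtype_le _
    have hzA : Subgroup.zpowers x ⊔ A = ⊤ := by rw [hzx]; exact hPA
    have hxN : x ∈ Subgroup.normalizer (A₁ : Set G) := by
      apply Subgroup.mem_normalizer_fintype
      intro b hb
      obtain ⟨a, ha, rfl⟩ := (hA₁mem b).mp hb
      refine (hA₁mem _).mpr ⟨x * a * x⁻¹, hAn.conj_mem a ha x, ?_⟩
      group
    have hA₁n : A₁.Normal := by
      refine normal_of_sup_eq_top hzA ?_ ?_
      · intro h hh b hb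
        have : h ∈ Subgroup.normalizer (A₁ : Set G) := (Subgroup.zpowers_le.mpr hxN) hh
        exact (Subgroup.mem_normalizer_iff.mp this b).mp hb
      · intro k hk b hb
        rw [hAc' k hk b (hA₁A hb), mul_inv_cancel_right]
        exact hb
    have hHnab : ¬ IsMulCommutative (Subgroup.zpowers x ⊔ A₁ : Subgroup G) := by
      intro hab
      apply hcentral_of
      intro g hg a ha
      have h1 : a * x * a⁻¹ * x⁻¹ = 1 := by
        apply hM' a ha
        exact congrArg Subtype.val (hab.is_comm.comm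
          ⟨x, (le_sup_left : Subgroup.zpowers x ≤ _) (Subgroup.mem_zpowers x)⟩
          ⟨a * x * a⁻¹ * x⁻¹, (le_sup_right : A₁ ≤ _) ((hA₁mem _).mpr ⟨a, ha, rfl⟩)⟩)
      have h2 : Commute a x := by
        show a * x = x * a
        calc a * x = (a * x * a⁻¹ * x⁻¹) * (x * a) := by group
          _ = x * a := by rw [h1, one_mul]
      rw [← hzx] at hg
      obtain ⟨i, rfl⟩ := Subgroup.mem_zpowers_iff.mp hg
      exact ((h2.zpow_right i).symm).eq
    have hcZ : c ∈ Subgroup.center G := by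
      rw [Subgroup.mem_center_iff]
      intro g
      have hg : g ∈ (((P : Subgroup G) ⊔ A : Subgroup G) : Set G) := by rw [hPA]; trivial
      rw [Subgroup.mul_normal] at hg
      obtain ⟨u, hu, w, hw, rfl⟩ := Set.mem_mul.mp hg
      have c1 : Commute u c := by
        rw [← hzx] at hu
        obtain ⟨i, rfl⟩ := Subgroup.mem_zpowers_iff.mp hu
        exact hxc'.zpow_left i
      have c2 : Commute w c := hAc' w hw c hcA
      exact (c1.mul_left c2).eq
    have hcH : c ∈ (Subgroup.zpowers x ⊔ A₁ : Subgroup G) := by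
      have h1 := hsn _ hHnab
      have h2 : c ∈ Subgroup.normalizer ((Subgroup.zpowers x ⊔ A₁ : Subgroup G) : Set G) :=
        Subgroup.center_le_normalizer _ hcZ
      rw [h1] at h2
      exact h2
    have hcH' : c ∈ ((Subgroup.zpowers x ⊔ A₁ : Subgroup G) : Set G) := hcH
    rw [Subgroup.mul_normal] at hcH'
    obtain ⟨u, hu, w, hw, huw⟩ := Set.mem_mul.mp hcH'
    have hu1 : u = 1 := by
      have huA : u ∈ A := by
        have : u = c * w⁻¹ := by rw [← huw]; group
        rw [this]; exact mul_mem hcA (inv_mem (hA₁A hw))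
      have : u ∈ (P : Subgroup G) ⊓ A := ⟨by rw [← hzx]; exact hu, huA⟩
      rw [hdisj] at this
      exact Subgroup.mem_bot.mp this
    rw [hu1, one_mul] at huw
    rw [huw] at hw
    obtain ⟨a, ha, hca⟩ := (hA₁mem c).mp hw
    apply hc1
    rw [hca]
    apply hM' a ha
    rw [← hca]
    exact hxc'.eq
  refine ⟨x, A, p, hpp, hAn, hAab, ⟨n, hox⟩, hpA, by rw [hzx]; exact hcompl, hxpZ, ?_⟩
  intro a ha ha1 h
  exact ha1 (hfpf a ha h)

end

/-- Let G be a finite solvable non-nilpotent group. Every non-abelian subgroup of G is self-normalizing if and only if G is a semidirect product ⟨x⟩ ⋉ A in which ⟨x⟩ is a p-group for some prime p, A is a normal abelian subgroup of order prime to p, x^p is central in G, and x acts fixed-point-freely on A (no non-identity element of A commutes with x). -/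
theorem result {G : Type*} [Group G] [Finite G]
    [Group.IsSolvable G] (hnn : ¬ Group.IsNilpotent G) :
    (∀ H : Subgroup G, ¬ IsMulCommutative H → Subgroup.normalizer (H : Set G) = H) ↔
    ∃ (x : G) (A : Subgroup G) (p : ℕ), p.Prime ∧ A.Normal ∧ IsMulCommutative A ∧ (∃ k : ℕ, orderOf x = p ^ k) ∧
      ¬ p ∣ Nat.card A ∧ (Subgroup.zpowers x).IsComplement' A ∧ x ^ p ∈ Subgroup.center G ∧
      ∀ a : G, a ∈ A → a ≠ 1 → x * a * x⁻¹ ≠ a := by
  constructor
  · exact forward hnn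
  · rintro ⟨x, A, p, hp, hAn, hAc, ⟨k, hk⟩, -, hcomp, hxp, hfpf⟩ H hH
    exact backward x A p hp hAc k hk hcomp hxp hfpf H hH

end Cfsg.Agent.S4071
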