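import Mathlib
import Cfsg.Statements.S4072
import Cfsg.Agent.Lib.Helper7.MinNonab

set_option autoImplicit false
open Cfsg

namespace Cfsg.Agent.S4072

open Cfsg.Agent.Lib.Helper7

variable {G : Type*} [Group G]

theorem comm_of_isMulCommutative {H : Subgroup G} (h : IsMulCommutative H) :
    ∀ x ∈ H, ∀ y ∈ H, x * y = y * x := by
  intro x hx y hy
  exact congrArg Subtype.val (h.is_comm.comm (⟨x, hx⟩ : H) ⟨y, hy⟩)

theorem isMulCommutative_of_comm {H : Subgroup G} (h : ∀ x ∈ H, ∀ y ∈ H, x * y = y * x) :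
    IsMulCommutative H :=
  ⟨⟨fun a b => Subtype.ext (h a a.2 b b.2)⟩⟩

/-- central `p`-elements of a perfect group lying in a Sylow `p`-subgroup lie in its derived
subgroup -/
theorem mem_commutator_sylow [Finite G] {p : ℕ} [Fact p.Prime] (hperf : commutator G = ⊤)
    (P : Sylow p G) (z : G) (hzc : ∀ g : G, g * z = z * g) (hzP : z ∈ (P : Subgroup G)) :
    (⟨z, hzP⟩ : (P : Subgroup G)) ∈ commutator (P : Subgroup G) := by
  have key : ∀ (k : ℕ) (g₀ : G), g₀⁻¹ * z ^ k * g₀ ∈ (P : Subgroup G) →
      g₀⁻¹ * z ^ k * g₀ = z ^ k := by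
    intro k g₀ _
    have : Commute g₀ (z ^ k) := (show Commute g₀ z from hzc g₀).pow_right k
    rw [mul_assoc, ← this.eq, inv_mul_cancel_left]
  have h1 := MonoidHom.transfer_eq_pow (H := (P : Subgroup G))
    (ϕ := (Abelianization.of : (P : Subgroup G) →* Abelianization (P : Subgroup G))) z key
  have h2 : MonoidHom.transfer
      (Abelianization.of : (P : Subgroup G) →* Abelianization (P : Subgroup G)) z = 1 := by
    have h3 := Abelianization.commutator_subset_ker (MonoidHom.transfer
      (Abelianization.of : (P : Subgroup G) →* Abelianization (P : Subgroup G)))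
    rw [hperf] at h3
    exact h3 (Subgroup.mem_top z)
  rw [h2] at h1
  have h4 : (⟨z ^ (P : Subgroup G).index, MonoidHom.transfer_eq_pow_aux z key⟩ :
      (P : Subgroup G)) ∈ commutator (P : Subgroup G) := by
    rw [← Abelianization.ker_of, MonoidHom.mem_ker]
    exact h1.symm
  -- `z` is a power of `z ^ index`
  set z' : (P : Subgroup G) := ⟨z, hzP⟩ with hz'
  have h5 : (⟨z ^ (P : Subgroup G).index, MonoidHom.transfer_eq_pow_aux z key⟩ :
      (P : Subgroup G)) = z' ^ (P : Subgroup G).index := by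
    apply Subtype.ext; simp [hz']
  rw [h5] at h4
  obtain ⟨k, hk⟩ := P.isPGroup' z'
  have hcop : ((P : Subgroup G).index).Coprime (orderOf z') := by
    have hd : orderOf z' ∣ p ^ k := orderOf_dvd_of_pow_eq_one hk
    have : ((P : Subgroup G).index).Coprime (p ^ k) :=
      Nat.Coprime.pow_right _ ((Nat.Prime.coprime_iff_not_dvd Fact.out).mpr P.not_dvd_index).symm
    exact Nat.Coprime.coprime_dvd_right hd this
  obtain ⟨m, hm⟩ := exists_pow_eq_self_of_coprime hcop
  rw [← hm]
  exact Subgroup.pow_mem _ h4 m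


/-- in a finite `p`-group, a subgroup of index `p` is normal and contains the derived subgroup -/
theorem index_p_facts {P : Type*} [Group P] [Finite P] {p : ℕ} [Fact p.Prime] (hP : IsPGroup p P)
    (A : Subgroup P) (hA : A.index = p) : A.Normal ∧ commutator P ≤ A := by
  have hp : p.Prime := Fact.out
  haveI : Group.IsNilpotent P := hP.isNilpotent
  have hne : A ≠ ⊤ := by
    intro h; rw [h, Subgroup.index_top] at hA; exact hp.one_lt.ne hA
  have h1 : A < Subgroup.normalizer (A : Set P) :=
    normalizerCondition_of_isNilpotent A (lt_top_iff_ne_top.mpr hne)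
  have h2 : (Subgroup.normalizer (A : Set P)).index ∣ p := hA ▸ Subgroup.index_dvd_of_le h1.le
  have h3 : Subgroup.normalizer (A : Set P) = ⊤ := by
    rcases (Nat.dvd_prime hp).mp h2 with h | h
    · exact Subgroup.index_eq_one.mp h
    · exfalso
      have e1 := A.card_mul_index
      have e2 := (Subgroup.normalizer (A : Set P)).card_mul_index
      rw [hA] at e1; rw [h] at e2
      have e3 : Nat.card A = Nat.card (Subgroup.normalizer (A : Set P)) :=
        Nat.eq_of_mul_eq_mul_right hp.pos (e1.trans e2.symm)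
      exact h1.ne (Subgroup.eq_of_le_of_card_ge h1.le e3.ge)
  haveI hn : A.Normal := Subgroup.normalizer_eq_top_iff.mp h3
  refine ⟨hn, ?_⟩
  have hcA : Nat.card (P ⧸ A) = p := by rw [← Subgroup.index_eq_card]; exact hA
  haveI : IsCyclic (P ⧸ A) := isCyclic_of_prime_card hcA
  letI : CommGroup (P ⧸ A) := IsCyclic.commGroup
  have := Abelianization.commutator_subset_ker (QuotientGroup.mk' A)
  rwa [QuotientGroup.ker_mk'] at this

/-- a nonabelian finite `p`-group has two distinct subgroups of index `p` -/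
theorem exists_two_index_p {P : Type*} [Group P] [Finite P] {p : ℕ} [Fact p.Prime]
    (hP : IsPGroup p P) (hnc : ∃ x y : P, x * y ≠ y * x) :
    ∃ A B : Subgroup P, A.index = p ∧ B.index = p ∧ A ≠ B := by
  have hp : p.Prime := Fact.out
  obtain ⟨n, hn⟩ := hP.exists_card_eq
  have hn0 : n ≠ 0 := by
    rintro rfl
    rw [pow_zero] at hn
    haveI : Subsingleton P := (Nat.card_eq_one_iff_unique.mp hn).1
    obtain ⟨x, y, hxy⟩ := hnc
    exact hxy (Subsingleton.elim _ _)
  obtain ⟨m, rfl⟩ := Nat.exists_eq_succ_of_ne_zero hn0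
  have hidx : ∀ K : Subgroup P, Nat.card K = p ^ m → K.index = p := by
    intro K hK
    have h1 := K.card_mul_index
    rw [hK, hn, pow_succ] at h1
    exact Nat.eq_of_mul_eq_mul_left (pow_pos hp.pos m) h1
  have hdvd : p ^ m ∣ Nat.card P := by rw [hn]; exact pow_dvd_pow p (Nat.le_succ m)
  obtain ⟨A, hA⟩ := Sylow.exists_subgroup_card_pow_prime p hdvd
  have hAtop : A ≠ ⊤ := by
    intro h
    rw [h, Subgroup.card_top, hn] at hA
    have := Nat.pow_right_injective hp.two_le hA
    omega
  obtain ⟨x, hx⟩ : ∃ x : P, x ∉ A := by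
    by_contra h
    push Not at h
    exact hAtop (eq_top_iff.mpr fun x _ => h x)
  -- `zpowers x` is proper
  have hzx : Subgroup.zpowers x ≠ ⊤ := by
    intro h
    obtain ⟨u, v, huv⟩ := hnc
    have hu : u ∈ Subgroup.zpowers x := h ▸ Subgroup.mem_top u
    have hv : v ∈ Subgroup.zpowers x := h ▸ Subgroup.mem_top v
    obtain ⟨i, rfl⟩ := Subgroup.mem_zpowers_iff.mp hu
    obtain ⟨j, rfl⟩ := Subgroup.mem_zpowers_iff.mp hv
    exact huv ((Commute.refl x).zpow_zpow i j).eq
  obtain ⟨k, hk⟩ := (hP.to_subgroup (Subgroup.zpowers x)).exists_card_eq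
  have hkm : k ≤ m := by
    by_contra hlt
    push Not at hlt
    have h1 : Nat.card (Subgroup.zpowers x) ≤ Nat.card P := Subgroup.card_le_card_group _
    rw [hk, hn] at h1
    have h2 : k ≤ m + 1 := (Nat.pow_le_pow_iff_right hp.one_lt).mp h1
    have h3 : k = m + 1 := by omega
    apply hzx
    apply Subgroup.eq_top_of_card_eq
    rw [hk, hn, h3]
  obtain ⟨B, hB, hxB⟩ := Sylow.exists_subgroup_card_pow_prime_le p hdvd (Subgroup.zpowers x) hk hkm
  refine ⟨A, B, hidx A hA, hidx B hB, ?_⟩
  rintro rfl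
  exact hx (hxB (Subgroup.mem_zpowers x))


/-- A finite group in which every non-abelian subgroup is self-normalizing is solvable or simple. -/
theorem result {G : Type*} [Group G] [Finite G] (hS : ∀ H : Subgroup G, ¬ IsMulCommutative H → Subgroup.normalizer (H : Set G) = H) :
    Group.IsSolvable G ∨ IsSimpleGroup G := by
  classical
  by_contra hcon
  push Not at hcon
  obtain ⟨hns, hnsimp⟩ := hcon
  -- (a) proper normal subgroups are abelian
  have habel : ∀ N : Subgroup G, N.Normal → N ≠ ⊤ → IsMulCommutative N := by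
    intro N hN hNt
    by_contra hnc
    have h1 := hS N hnc
    rw [Subgroup.normalizer_eq_top] at h1
    exact hNt h1.symm
  -- G is perfect
  have hperf : commutator G = ⊤ := by
    by_contra h
    have hc := habel (commutator G) inferInstance h
    apply hns
    haveI : Group.IsSolvable (commutator G) :=
      Group.isSolvable_of_comm (fun a b => hc.is_comm.comm a b)
    haveI : Group.IsSolvable (G ⧸ commutator G) := by
      show Group.IsSolvable (Abelianization G)
      infer_instance
    exact (Group.isSolvable_iff_subgroup_quotient (commutator G)).mpr ⟨inferInstance, inferInstance⟩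
  -- G nontrivial
  haveI hnt : Nontrivial G := by
    by_contra h
    rw [not_nontrivial_iff_subsingleton] at h
    haveI := h
    exact hns inferInstance
  -- a nontrivial proper normal subgroup
  obtain ⟨N1, hN1n, hN1b, hN1t⟩ : ∃ N : Subgroup G, N.Normal ∧ N ≠ ⊥ ∧ N ≠ ⊤ := by
    by_contra h
    push Not at h
    apply hnsimp
    exact ⟨fun N hN => by
      by_cases hb : N = ⊥
      · exact Or.inl hb
      · exact Or.inr (h N hN hb)⟩
  -- a maximal proper normal subgroup
  let S := {N : Subgroup G // N.Normal ∧ N ≠ ⊤}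
  haveI : Nonempty S := ⟨⟨N1, hN1n, hN1t⟩⟩
  obtain ⟨N0, hN0⟩ := Finite.exists_max (fun N : S => Nat.card N.1)
  obtain ⟨N, hNn, hNt⟩ := N0
  haveI := hNn
  have hNmax : ∀ M : Subgroup G, M.Normal → N ≤ M → M ≠ ⊤ → M = N := by
    intro M hMn hNM hMt
    have h1 := hN0 ⟨M, hMn, hMt⟩
    exact (Subgroup.eq_of_le_of_card_ge hNM h1).symm
  have hNb : N ≠ ⊥ := by
    rintro rfl
    have h1 := hN0 ⟨N1, hN1n, hN1t⟩
    simp only [Subgroup.card_bot] at h1
    have h2 : 1 < Nat.card N1 := by
      rw [Subgroup.one_lt_card_iff_ne_bot]; exact hN1b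
    omega
  have hNab := comm_of_isMulCommutative (habel N hNn hNt)
  -- the quotient
  have hsurj : Function.Surjective (QuotientGroup.mk' N) := QuotientGroup.mk'_surjective N
  have hQ1 : ∀ K : Subgroup (G ⧸ N), K.Normal → K = ⊥ ∨ K = ⊤ := by
    intro K hK
    have hKn : (K.comap (QuotientGroup.mk' N)).Normal := hK.comap _
    have hle : N ≤ K.comap (QuotientGroup.mk' N) := by
      intro n hn
      rw [Subgroup.mem_comap, QuotientGroup.mk'_apply, (QuotientGroup.eq_one_iff n).mpr hn]
      exact K.one_mem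
    by_cases ht : K.comap (QuotientGroup.mk' N) = ⊤
    · right
      rw [← Subgroup.map_comap_eq_self_of_surjective hsurj K, ht, ← MonoidHom.range_eq_map,
        MonoidHom.range_eq_top.mpr hsurj]
    · left
      have h1 := hNmax _ hKn hle ht
      rw [← Subgroup.map_comap_eq_self_of_surjective hsurj K, h1]
      exact QuotientGroup.map_mk'_self N
  have hQ2 : ∃ x y : G ⧸ N, x * y ≠ y * x := by
    by_contra h
    push Not at h
    letI : CommGroup (G ⧸ N) := { (inferInstance : Group (G ⧸ N)) with mul_comm := h }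
    have h1 := Abelianization.commutator_subset_ker (QuotientGroup.mk' N)
    rw [QuotientGroup.ker_mk', hperf] at h1
    exact hNt (top_le_iff.mp h1)
  have hQ3 : ∀ R : Subgroup (G ⧸ N), Subgroup.normalizer (R : Set (G ⧸ N)) ≠ R →
      ∀ x ∈ R.comap (QuotientGroup.mk' N), ∀ y ∈ R.comap (QuotientGroup.mk' N), x * y = y * x := by
    intro R hR
    apply comm_of_isMulCommutative
    by_contra hnc
    have h1 := hS _ hnc
    have h2 := Subgroup.comap_normalizer_eq_of_surjective R hsurj
    rw [h1] at h2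
    exact hR (Subgroup.comap_injective hsurj h2)
  -- Burnside in the quotient
  have hB : ∀ (p : ℕ) [Fact p.Prime] (T : Sylow p (G ⧸ N)),
      (∀ x ∈ (T : Subgroup (G ⧸ N)), ∀ y ∈ (T : Subgroup (G ⧸ N)), x * y = y * x) →
      (T : Subgroup (G ⧸ N)) ≠ ⊥ →
      Subgroup.normalizer ((T : Subgroup (G ⧸ N)) : Set (G ⧸ N)) ≠ (T : Subgroup (G ⧸ N)) := by
    intro p _ T hTab hTb heq
    have hle : Subgroup.normalizer ((T : Subgroup (G ⧸ N)) : Set (G ⧸ N)) ≤
        Subgroup.centralizer ((T : Subgroup (G ⧸ N)) : Set (G ⧸ N)) := by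
      rw [heq]
      intro x hx
      rw [Subgroup.mem_centralizer_iff]
      intro y hy
      exact hTab y hy x hx
    have hK := MonoidHom.ker_transferSylow_isComplement' T hle
    rcases hQ1 _ (MonoidHom.normal_ker (MonoidHom.transferSylow T hle)) with h | h
    · rw [h, Subgroup.isComplement'_bot_left] at hK
      obtain ⟨x, y, hxy⟩ := hQ2
      exact hxy (hTab x (hK ▸ Subgroup.mem_top x) y (hK ▸ Subgroup.mem_top y))
    · rw [h, Subgroup.isComplement'_top_left] at hK
      exact hTb hK
  -- Step 1: N is central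
  have hNc : ∀ n ∈ N, ∀ g : G, g * n = n * g := by
    have hcard : Nat.card (G ⧸ N) ≠ 1 := by
      rw [← Subgroup.index_eq_card]
      intro h
      exact hNt (Subgroup.index_eq_one.mp h)
    obtain ⟨p, hp, hpd⟩ := Nat.exists_prime_and_dvd hcard
    haveI : Fact p.Prime := ⟨hp⟩
    obtain ⟨T⟩ : Nonempty (Sylow p (G ⧸ N)) := inferInstance
    have hTb : (T : Subgroup (G ⧸ N)) ≠ ⊥ := T.ne_bot_of_dvd_card hpd
    haveI : Nontrivial (T : Subgroup (G ⧸ N)) := (Subgroup.nontrivial_iff_ne_bot _).mpr hTb
    haveI := IsPGroup.center_nontrivial T.isPGroup'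
    obtain ⟨z, hz1⟩ := exists_ne (1 : Subgroup.center (T : Subgroup (G ⧸ N)))
    set zb : G ⧸ N := ((z : (T : Subgroup (G ⧸ N))) : G ⧸ N) with hzb
    have hzb1 : zb ≠ 1 := by
      intro h
      apply hz1
      apply Subtype.ext; apply Subtype.ext
      exact h
    have hzbT : zb ∈ (T : Subgroup (G ⧸ N)) := (z : (T : Subgroup (G ⧸ N))).2
    have hzcen : ∀ s ∈ (T : Subgroup (G ⧸ N)), s * zb = zb * s := by
      intro s hs
      have := Subgroup.mem_center_iff.mp z.2 ⟨s, hs⟩
      exact congrArg Subtype.val this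
    set R := Subgroup.zpowers zb with hR
    have hRT : R ≤ (T : Subgroup (G ⧸ N)) := by
      rw [hR, Subgroup.zpowers_le]; exact hzbT
    have hRne : Subgroup.normalizer (R : Set (G ⧸ N)) ≠ R := by
      intro heq
      have hTR : (T : Subgroup (G ⧸ N)) ≤ R := by
        rw [← heq]
        intro s hs
        rw [Subgroup.mem_normalizer_iff]
        intro r
        have hcomm : ∀ r ∈ R, s * r * s⁻¹ = r := by
          intro r hr
          obtain ⟨k, rfl⟩ := Subgroup.mem_zpowers_iff.mp hr
          have : Commute s (zb ^ k) := (show Commute s zb from hzcen s hs).zpow_right k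
          rw [this.eq, mul_inv_cancel_right]
        constructor
        · intro hr
          rw [hcomm r hr]; exact hr
        · intro hr
          have h1 := hcomm _ hr
          have h2 : r = s⁻¹ * (s * r * s⁻¹) * s := by group
          rw [h2]
          have h3 : s⁻¹ * (s * r * s⁻¹) * s = s * r * s⁻¹ := by
            have : Commute s (s * r * s⁻¹) := by
              obtain ⟨k, hk⟩ := Subgroup.mem_zpowers_iff.mp hr
              rw [← hk]
              exact (show Commute s zb from hzcen s hs).zpow_right k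
            rw [mul_assoc, ← this.eq, inv_mul_cancel_left]
          rw [h3]; exact hr
      have hTeq : (T : Subgroup (G ⧸ N)) = R := le_antisymm hTR hRT
      have hTab : ∀ x ∈ (T : Subgroup (G ⧸ N)), ∀ y ∈ (T : Subgroup (G ⧸ N)), x * y = y * x := by
        intro x hx y hy
        rw [hTeq] at hx hy
        obtain ⟨i, rfl⟩ := Subgroup.mem_zpowers_iff.mp hx
        obtain ⟨j, rfl⟩ := Subgroup.mem_zpowers_iff.mp hy
        exact ((Commute.refl zb).zpow_zpow i j).eq
      apply hB p T hTab hTb
      rw [hTeq]; exact heq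
    have hRab := hQ3 R hRne
    obtain ⟨g, hg⟩ := hsurj zb
    have hgR : g ∈ R.comap (QuotientGroup.mk' N) := by
      rw [Subgroup.mem_comap, hg]; exact Subgroup.mem_zpowers zb
    have hgN : g ∉ N := by
      intro h
      apply hzb1
      rw [← hg]
      exact (QuotientGroup.eq_one_iff g).mpr h
    have hNR : N ≤ R.comap (QuotientGroup.mk' N) := by
      intro n hn
      rw [Subgroup.mem_comap, QuotientGroup.mk'_apply, (QuotientGroup.eq_one_iff n).mpr hn]
      exact R.one_mem
    have hCn : (Subgroup.centralizer (N : Set G)).Normal := inferInstance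
    have hNC : N ≤ Subgroup.centralizer (N : Set G) := by
      intro n hn
      rw [Subgroup.mem_centralizer_iff]
      intro m hm
      exact hNab m hm n hn
    have hgC : g ∈ Subgroup.centralizer (N : Set G) := by
      rw [Subgroup.mem_centralizer_iff]
      intro m hm
      exact hRab m (hNR hm) g hgR
    have hCtop : Subgroup.centralizer (N : Set G) = ⊤ := by
      by_contra h
      have := hNmax _ hCn hNC h
      rw [this] at hgC
      exact hgN hgC
    intro n hn g'
    have : g' ∈ Subgroup.centralizer (N : Set G) := hCtop ▸ Subgroup.mem_top g'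
    rw [Subgroup.mem_centralizer_iff] at this
    exact (this n hn).symm
  -- Step 3: a prime dividing |N| and a suitable Sylow subgroup
  have hNcard : Nat.card N ≠ 1 := by
    intro h
    exact hNb (Subgroup.card_eq_one.mp h)
  obtain ⟨p, hp, hpd⟩ := Nat.exists_prime_and_dvd hNcard
  haveI : Fact p.Prime := ⟨hp⟩
  obtain ⟨z0', hz0'⟩ := exists_prime_orderOf_dvd_card' (G := N) p hpd
  set z0 : G := (z0' : G) with hz0
  have hz0N : z0 ∈ N := z0'.2
  have hz0o : orderOf z0 = p := by rw [hz0, Subgroup.orderOf_coe]; exact hz0'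
  have hz0pg : IsPGroup p (Subgroup.zpowers z0) := by
    apply IsPGroup.of_card (n := 1)
    rw [Nat.card_zpowers, hz0o, pow_one]
  obtain ⟨P, hzP⟩ := hz0pg.exists_le_sylow
  have hz0P : z0 ∈ (P : Subgroup G) := hzP (Subgroup.mem_zpowers z0)
  have hz0comm : (⟨z0, hz0P⟩ : (P : Subgroup G)) ∈ commutator (P : Subgroup G) :=
    mem_commutator_sylow hperf P z0 (hNc z0 hz0N) hz0P
  have hz0ne : (⟨z0, hz0P⟩ : (P : Subgroup G)) ≠ 1 := by
    intro h
    have h1 : z0 = 1 := congrArg Subtype.val h
    rw [h1, orderOf_one] at hz0o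
    exact hp.one_lt.ne hz0o
  -- P is nonabelian
  have hPnc : ∃ x y : (P : Subgroup G), x * y ≠ y * x := by
    by_contra h
    push Not at h
    have h1 : commutator (P : Subgroup G) = ⊥ := by
      rw [commutator_def, Subgroup.commutator_eq_bot_iff_le_centralizer]
      intro x _
      rw [Subgroup.mem_centralizer_iff]
      intro y _
      exact h y x
    rw [h1, Subgroup.mem_bot] at hz0comm
    exact hz0ne hz0comm
  -- Step 4
  have hPpg : IsPGroup p (P : Subgroup G) := P.isPGroup'
  obtain ⟨A, B, hAi, hBi, hAB⟩ := exists_two_index_p hPpg hPnc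
  -- subgroups of index p in P are abelian
  have hidxab : ∀ A : Subgroup (P : Subgroup G), A.index = p →
      ∀ x ∈ A, ∀ y ∈ A, x * y = y * x := by
    intro A hAi
    obtain ⟨hAn, hcomA⟩ := index_p_facts hPpg A hAi
    have hAtop : A ≠ ⊤ := by
      intro h; rw [h, Subgroup.index_top] at hAi; exact hp.one_lt.ne hAi
    obtain ⟨s, hsA⟩ : ∃ s : (P : Subgroup G), s ∉ A := by
      by_contra h
      push Not at h
      exact hAtop (eq_top_iff.mpr fun x _ => h x)
    set A1 : Subgroup G := A.map (P : Subgroup G).subtype with hA1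
    have hA1P : A1 ≤ (P : Subgroup G) := Subgroup.map_subtype_le A
    -- `N ⊓ P ≤ A1`
    have hZA : ∀ n ∈ N, ∀ hn : n ∈ (P : Subgroup G), (⟨n, hn⟩ : (P : Subgroup G)) ∈ A := by
      intro n hnN hnP
      exact hcomA (mem_commutator_sylow hperf P n (hNc n hnN) hnP)
    -- `s` normalizes `A1 ⊔ N` but is not in it
    have hsnorm : (s : G) ∈ Subgroup.normalizer ((A1 ⊔ N : Subgroup G) : Set G) := by
      have h1 : A1 ≤ Subgroup.normalizer ((A1 ⊔ N : Subgroup G) : Set G) :=
        le_sup_left.trans Subgroup.le_normalizer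
      have hsA1 : (s : G) ∈ Subgroup.normalizer (A1 : Set G) := by
        rw [Subgroup.mem_normalizer_iff]
        intro x
        constructor
        · rintro ⟨a, ha, rfl⟩
          refine ⟨s * a * s⁻¹, hAn.conj_mem a ha s, by simp⟩
        · rintro ⟨a, ha, hax⟩
          have hx : x = (s⁻¹ * a * s : (P : Subgroup G)) := by
            have : (s : G) * x * (s : G)⁻¹ = (a : G) := hax.symm
            have h2 : x = (s : G)⁻¹ * ((s : G) * x * (s : G)⁻¹) * (s : G) := by group
            rw [h2, this]; simp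
          rw [hx]
          refine ⟨s⁻¹ * a * s, ?_, rfl⟩
          have := hAn.conj_mem a ha s⁻¹
          simpa using this
      rw [Subgroup.mem_normalizer_iff]
      intro x
      have hconj : ∀ t : G, t ∈ Subgroup.normalizer (A1 : Set G) → ∀ x ∈ A1 ⊔ N,
          t * x * t⁻¹ ∈ A1 ⊔ N := by
        intro t ht x hx
        obtain ⟨a, ha, n, hn, rfl⟩ := (Subgroup.mem_sup_of_normal_right).mp hx
        have h2 : t * (a * n) * t⁻¹ = (t * a * t⁻¹) * (t * n * t⁻¹) := by group
        rw [h2]
        exact (A1 ⊔ N).mul_mem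
          (Subgroup.mem_sup_left ((Subgroup.mem_normalizer_iff.mp ht a).mp ha))
          (Subgroup.mem_sup_right (hNn.conj_mem n hn t))
      constructor
      · exact hconj _ hsA1 x
      · intro hx
        have h3 := hconj (s : G)⁻¹ ((Subgroup.normalizer (A1 : Set G)).inv_mem hsA1) _ hx
        have h4 : (s : G)⁻¹ * ((s : G) * x * (s : G)⁻¹) * ((s : G)⁻¹)⁻¹ = x := by group
        rwa [h4] at h3
    have hsnot : (s : G) ∉ A1 ⊔ N := by
      intro hmem
      obtain ⟨a, ha, n, hn, hs⟩ := (Subgroup.mem_sup_of_normal_right).mp hmem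
      have hnP : n ∈ (P : Subgroup G) := by
        have : n = a⁻¹ * (s : G) := by rw [← hs]; group
        rw [this]
        exact (P : Subgroup G).mul_mem ((P : Subgroup G).inv_mem (hA1P ha)) s.2
      obtain ⟨a', ha', rfl⟩ := ha
      have h5 := A.mul_mem ha' (hZA n hn hnP)
      apply hsA
      have : s = a' * ⟨n, hnP⟩ := by
        apply Subtype.ext
        simpa using hs.symm
      rw [this]; exact h5
    have hcommAN : IsMulCommutative (A1 ⊔ N : Subgroup G) := by
      by_contra hnc
      have h1 := hS _ hnc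
      rw [h1] at hsnorm
      exact hsnot hsnorm
    have hc := comm_of_isMulCommutative hcommAN
    intro x hx y hy
    apply Subtype.ext
    have hx1 : (x : G) ∈ A1 ⊔ N := Subgroup.mem_sup_left ⟨x, hx, rfl⟩
    have hy1 : (y : G) ∈ A1 ⊔ N := Subgroup.mem_sup_left ⟨y, hy, rfl⟩
    simpa using hc _ hx1 _ hy1
  obtain ⟨hAn, -⟩ := index_p_facts hPpg A hAi
  obtain ⟨hBn, -⟩ := index_p_facts hPpg B hBi
  have hcard := MinNonab.card_commutator_le hp A B (hidxab A hAi) (hidxab B hBi) hAi hBi hAB
  -- the derived subgroup of P is generated by z0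
  have hzle : Subgroup.zpowers (⟨z0, hz0P⟩ : (P : Subgroup G)) ≤ commutator (P : Subgroup G) := by
    rw [Subgroup.zpowers_le]; exact hz0comm
  have hzcard : Nat.card (Subgroup.zpowers (⟨z0, hz0P⟩ : (P : Subgroup G))) = p := by
    rw [Nat.card_zpowers, Subgroup.orderOf_mk, hz0o]
  have hceq : Subgroup.zpowers (⟨z0, hz0P⟩ : (P : Subgroup G)) = commutator (P : Subgroup G) :=
    Subgroup.eq_of_le_of_card_ge hzle (by rw [hzcard]; exact hcard)
  -- the image of P in the quotient is an abelian Sylow subgroup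
  set T : Sylow p (G ⧸ N) := P.mapSurjective hsurj with hT
  have hTcoe : (T : Subgroup (G ⧸ N)) = (P : Subgroup G).map (QuotientGroup.mk' N) :=
    Sylow.coe_mapSurjective hsurj P
  have hTab : ∀ x ∈ (T : Subgroup (G ⧸ N)), ∀ y ∈ (T : Subgroup (G ⧸ N)), x * y = y * x := by
    intro x hx y hy
    rw [hTcoe] at hx hy
    obtain ⟨u, hu, rfl⟩ := hx
    obtain ⟨v, hv, rfl⟩ := hy
    have h1 : (⟨u, hu⟩ * ⟨v, hv⟩ * (⟨u, hu⟩ : (P : Subgroup G))⁻¹ * (⟨v, hv⟩ : (P : Subgroup G))⁻¹) ∈
        commutator (P : Subgroup G) := by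
      rw [commutator_def]
      exact Subgroup.commutator_mem_commutator (Subgroup.mem_top _) (Subgroup.mem_top _)
    rw [← hceq] at h1
    obtain ⟨k, hk⟩ := Subgroup.mem_zpowers_iff.mp h1
    have h2 : u * v * u⁻¹ * v⁻¹ = z0 ^ k := by
      have := congrArg Subtype.val hk
      simpa using this.symm
    have h3 : u * v * u⁻¹ * v⁻¹ ∈ N := by rw [h2]; exact N.zpow_mem hz0N k
    have h4 : (QuotientGroup.mk' N) (u * v * u⁻¹ * v⁻¹) = 1 := (QuotientGroup.eq_one_iff _).mpr h3
    rw [map_mul, map_mul, map_mul, map_inv, map_inv] at h4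
    calc (QuotientGroup.mk' N) u * (QuotientGroup.mk' N) v
        = ((QuotientGroup.mk' N) u * (QuotientGroup.mk' N) v * ((QuotientGroup.mk' N) u)⁻¹ *
            ((QuotientGroup.mk' N) v)⁻¹) * ((QuotientGroup.mk' N) v * (QuotientGroup.mk' N) u) := by
          group
      _ = (QuotientGroup.mk' N) v * (QuotientGroup.mk' N) u := by rw [h4, one_mul]
  have hTb : (T : Subgroup (G ⧸ N)) ≠ ⊥ := by
    intro h
    rw [hTcoe, Subgroup.map_eq_bot_iff, QuotientGroup.ker_mk'] at h
    obtain ⟨x, y, hxy⟩ := hPnc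
    apply hxy
    apply Subtype.ext
    exact hNab x (h x.2) y (h y.2)
  have hTnorm := hB p T hTab hTb
  -- but the preimage of T is P ⊔ N, which is nonabelian hence self-normalizing
  have hnc : ¬ IsMulCommutative ((T : Subgroup (G ⧸ N)).comap (QuotientGroup.mk' N)) := by
    intro hc
    have hcc := comm_of_isMulCommutative hc
    obtain ⟨x, y, hxy⟩ := hPnc
    apply hxy
    apply Subtype.ext
    have hx : (x : G) ∈ (T : Subgroup (G ⧸ N)).comap (QuotientGroup.mk' N) := by
      rw [Subgroup.mem_comap, hTcoe]; exact ⟨x, x.2, rfl⟩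
    have hy : (y : G) ∈ (T : Subgroup (G ⧸ N)).comap (QuotientGroup.mk' N) := by
      rw [Subgroup.mem_comap, hTcoe]; exact ⟨y, y.2, rfl⟩
    exact hcc _ hx _ hy
  have h1 := hS _ hnc
  have h2 := Subgroup.comap_normalizer_eq_of_surjective (T : Subgroup (G ⧸ N)) hsurj
  rw [h1] at h2
  exact hTnorm (Subgroup.comap_injective hsurj h2)

end Cfsg.Agent.S4072
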