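import Mathlib
import Cfsg.Statements.S4074
import Cfsg.Agent.Lib.Helper7.DihedralSub

set_option autoImplicit false
open Cfsg

namespace Cfsg.Agent.S4074

open Cfsg.Agent.Lib.Helper7 DihedralGroup

/-- For n > 2, every non-abelian subgroup of the dihedral group of order 2n is self-normalizing if and only if n = 4 or n is odd. -/
theorem result (n : ℕ) (hn : 2 < n) :
    (∀ H : Subgroup (DihedralGroup n), ¬ IsMulCommutative H → Subgroup.normalizer (H : Set (DihedralGroup n)) = H) ↔
    (n = 4 ∨ Odd n) := by
  haveI : NeZero n := ⟨by omega⟩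
  constructor
  · intro h
    by_contra hcon
    push Not at hcon
    obtain ⟨hn4, hodd⟩ := hcon
    rw [Nat.not_odd_iff_even] at hodd
    have h2n : 2 ∣ n := hodd.two_dvd
    have hn6 : 6 ≤ n := by
      obtain ⟨k, hk⟩ := hodd
      omega
    set H := dihSub n 2 h2n with hH
    have hs : sr (0 : ZMod n) ∈ H := by
      rw [hH, sr_mem_dihSub]; simp
    have hr2 : r (2 : ZMod n) ∈ H := by
      rw [hH, r_mem_dihSub]
      have : (ZMod.castHom h2n (ZMod 2)) (2 : ZMod n) = ((2 : ℕ) : ZMod 2) := by
        have := map_natCast (ZMod.castHom h2n (ZMod 2)) 2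
        simpa using this
      rw [this]; rfl
    have hnc : ¬ IsMulCommutative ↥H := by
      intro hc
      have h1 := hc.is_comm.comm (⟨sr 0, hs⟩ : ↥H) ⟨r 2, hr2⟩
      have h2 : sr (0 : ZMod n) * r 2 = r 2 * sr 0 := congrArg Subtype.val h1
      rw [sr_mul_r, r_mul_sr] at h2
      have h3 : (0 : ZMod n) + 2 = 0 - 2 := by
        injection h2
      have h4 : ((4 : ℕ) : ZMod n) = 0 := by
        push_cast
        have : (4 : ZMod n) = (0 + 2) - (0 - 2) := by ring
        rw [this, h3]; ring
      rw [ZMod.natCast_eq_zero_iff] at h4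
      have := Nat.le_of_dvd (by norm_num) h4
      omega
    have hnorm := h H hnc
    have hr1 : r (1 : ZMod n) ∈ Subgroup.normalizer (H : Set (DihedralGroup n)) := by
      rw [Subgroup.mem_normalizer_iff]
      intro x
      rcases x with i | i
      · have : r (1 : ZMod n) * r i * (r 1)⁻¹ = r i := by
          rw [inv_r, r_mul_r, r_mul_r]; congr 1; ring
        rw [this]
      · have : r (1 : ZMod n) * sr i * (r 1)⁻¹ = sr (i - 2) := by
          rw [inv_r, r_mul_sr, sr_mul_r]; congr 1; ring
        rw [this, hH, sr_mem_dihSub, sr_mem_dihSub, map_sub]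
        have : (ZMod.castHom h2n (ZMod 2)) (2 : ZMod n) = 0 := (r_mem_dihSub h2n 2).mp hr2
        rw [this, sub_zero]
    rw [hnorm, hH, r_mem_dihSub, map_one] at hr1
    exact one_ne_zero hr1
  · rintro (rfl | hodd)
    · intro H hH
      have hcard : Nat.card (DihedralGroup 4) = 2 ^ 3 := by rw [DihedralGroup.nat_card]; norm_num
      have hdvd : Nat.card ↥H ∣ 2 ^ 3 := hcard ▸ Subgroup.card_subgroup_dvd_card H
      obtain ⟨k, hk, hkc⟩ := (Nat.dvd_prime_pow Nat.prime_two).mp hdvd
      have hk3 : k = 3 := by
        by_contra hne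
        apply hH
        have hk2 : k ≤ 2 := by omega
        interval_cases k
        · haveI : Subsingleton ↥H := (Nat.card_eq_one_iff_unique.mp (by simpa using hkc)).1
          exact ⟨⟨fun a b => Subsingleton.elim _ _⟩⟩
        · haveI : Fact (Nat.card ↥H).Prime := ⟨by rw [hkc]; norm_num⟩
          haveI : IsCyclic ↥H := isCyclic_of_prime_card rfl
          infer_instance
        · haveI : Fact (Nat.Prime 2) := ⟨Nat.prime_two⟩
          exact IsPGroup.isMulCommutative_of_card_eq_prime_sq hkc
      rw [hk3, ← hcard] at hkc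
      have htop : H = ⊤ := (Subgroup.card_eq_iff_eq_top H).mp hkc
      rw [htop]
      exact Subgroup.normalizer_eq_top_iff.mpr inferInstance
    · intro H hH
      apply le_antisymm _ Subgroup.le_normalizer
      obtain ⟨i, hi⟩ := exists_sr_mem_of_not_comm H hH
      intro g hg
      rw [Subgroup.mem_normalizer_iff] at hg
      rcases g with j | j
      · have h1 := (hg (sr i)).mp hi
        have e1 : r j * sr i * (r j)⁻¹ = sr (i - 2 * j) := by
          rw [inv_r, r_mul_sr, sr_mul_r]; congr 1; ring
        rw [e1] at h1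
        have h2 : sr (i - 2 * j) * sr i ∈ H := H.mul_mem h1 hi
        rw [sr_mul_sr] at h2
        have : i - (i - 2 * j) = 2 * j := by ring
        rw [this] at h2
        exact r_mem_of_r_two_mul_mem hodd H j h2
      · have h1 := (hg (sr i)).mp hi
        have e1 : sr j * sr i * (sr j)⁻¹ = sr (2 * j - i) := by
          rw [inv_sr, sr_mul_sr, r_mul_sr]; congr 1; ring
        rw [e1] at h1
        have h2 : sr i * sr (2 * j - i) ∈ H := H.mul_mem hi h1
        rw [sr_mul_sr] at h2
        have : 2 * j - i - i = 2 * (j - i) := by ring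
        rw [this] at h2
        have h3 := r_mem_of_r_two_mul_mem hodd H (j - i) h2
        have h4 : sr i * r (j - i) ∈ H := H.mul_mem hi h3
        rw [sr_mul_r] at h4
        have : i + (j - i) = j := by ring
        rwa [this] at h4

end Cfsg.Agent.S4074
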