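import Cfsg.Statements.S4075
import Mathlib

set_option autoImplicit false
open Cfsg

namespace Cfsg.Agent.S4075

/-- Let G be a finite nilpotent group. Every non-abelian subgroup of G is self-normalizing if and only if G is abelian or G is a minimal non-abelian p-group for some prime p (non-abelian of prime-power order with every proper subgroup abelian). -/
theorem result {G : Type*} [Group G] [Finite G]
    [Group.IsNilpotent G] :
    (∀ H : Subgroup G, ¬ IsMulCommutative H → Subgroup.normalizer (H : Set G) = H) ↔
    (IsMulCommutative G ∨ (IsPrimePow (Nat.card G) ∧ ¬ IsMulCommutative G ∧ ∀ H : Subgroup G, H ≠ ⊤ → IsMulCommutative H)) := by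
  constructor
  · intro h
    by_cases hab : IsMulCommutative G
    · exact Or.inl hab
    right
    have hNC : NormalizerCondition G := normalizerCondition_of_isNilpotent
    rw [normalizerCondition_iff_only_full_group_self_normalizing] at hNC
    have hprop : ∀ H : Subgroup G, H ≠ ⊤ → IsMulCommutative H := by
      intro H hH
      by_contra hc
      exact hH (hNC H (h H hc))
    refine ⟨?_, hab, hprop⟩
    by_contra hpp
    apply hab
    -- all Sylow subgroups are proper hence abelian
    have hcard1 : Nat.card G ≠ 1 := by
      intro h1
      apply hab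
      haveI : Subsingleton G := (Nat.card_eq_one_iff_unique.mp h1).1
      exact ⟨⟨fun a b => Subsingleton.elim _ _⟩⟩
    have hsyl : ∀ (p : ℕ) [Fact p.Prime] (P : Sylow p G), IsMulCommutative (P : Subgroup G) := by
      intro p hp P
      apply hprop
      intro htop
      apply hpp
      have hc := P.card_eq_multiplicity
      rw [htop, Subgroup.card_top] at hc
      rw [hc]
      have hk : (Nat.card G).factorization p ≠ 0 := by
        intro h0
        rw [h0, pow_zero] at hc
        exact hcard1 hc
      exact IsPrimePow.pow hp.out.isPrimePow hk
    have hnil : Group.IsNilpotent G := inferInstance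
    obtain ⟨e⟩ := ((Group.isNilpotent_of_finite_tfae (G := G)).out 0 4).mp hnil
    refine ⟨⟨fun a b => ?_⟩⟩
    obtain ⟨x, rfl⟩ := e.surjective a
    obtain ⟨y, rfl⟩ := e.surjective b
    rw [← map_mul, ← map_mul]
    congr 1
    funext p P
    haveI : Fact (p : ℕ).Prime := ⟨Nat.prime_of_mem_primeFactors p.2⟩
    have := (hsyl p P).is_comm.comm (x p P) (y p P)
    exact this
  · rintro (hab | ⟨-, -, hprop⟩) H hH
    · exfalso
      apply hH
      exact ⟨⟨fun a b => Subtype.ext (hab.is_comm.comm a.1 b.1)⟩⟩
    · have : H = ⊤ := by
        by_contra hne
        exact hH (hprop H hne)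
      rw [this]
      exact Subgroup.normalizer_eq_top_iff.mpr inferInstance

end Cfsg.Agent.S4075
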