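import Cfsg.Statements.S4079
import Cfsg.Agent.Lib.Helper7.MetaAutF
import Cfsg.Agent.Lib.Helper7.MetaAutS

set_option autoImplicit false
open Cfsg

namespace Cfsg.Agent.S4079

/-- Let p be an odd prime and L a finite metacyclic p-group with no cyclic subgroup of index p, and let a be an automorphism of L of order p. Then a moves some element of order p of L if and only if p = 3 and the semidirect product L ⋊ ⟨a⟩ (of order 3·#L) has maximal class, i.e. nilpotency class m where #L = 3^m. -/
theorem result {L : Type*} [Group L] [Finite L] {p : ℕ} [Fact p.Prime]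
    (hp : p ≠ 2) (hL : IsPGroup p L) (hmc : Cfsg.IsMetacyclic L) (hnc : ∀ C : Subgroup L, IsCyclic C → C.index ≠ p)
    (a : MulAut L) (ha : orderOf a = p) (m : ℕ) (hm : Nat.card L = p ^ m) :
    (∃ x : L, orderOf x = p ∧ a x ≠ x) ↔
    (p = 3 ∧ Group.nilpotencyClass (SemidirectProduct L ↥(Subgroup.zpowers a) (Subgroup.zpowers a).subtype) = m) := by
  classical
  have hpp : p.Prime := Fact.out
  have hnt : Nontrivial L := by
    by_contra hnt
    rw [not_nontrivial_iff_subsingleton] at hnt
    have ha1 : a = 1 := by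
      ext x
      exact Subsingleton.elim _ _
    rw [ha1, orderOf_one] at ha
    exact hpp.one_lt.ne ha
  constructor
  · intro hmove
    obtain ⟨E, H, hE, hH, hEcard, -, hEZ, hpow, hsurj⟩ :=
      Cfsg.Agent.Lib.Helper2.MetaOmegaK.omega_structure hp hL hmc hnt hnc
    obtain ⟨hp3, e₁, he₁, hfix, hall⟩ :=
      Cfsg.Agent.Lib.Helper7.MetaAutF.eq_three_and_fixed_points hp hL E H hE hH hEcard hEZ hpow
        hsurj a ha hmove
    exact ⟨hp3, Cfsg.Agent.Lib.Helper7.MetaAutS.nilpotencyClass_semidirect a ha m hm e₁ he₁ hfix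
      hall⟩
  · rintro ⟨-, hcl⟩
    exact Cfsg.Agent.Lib.Helper7.MetaAutS.exists_moved_of_class hp hmc hnt hnc a ha m hm hcl

end Cfsg.Agent.S4079
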