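import Mathlib
import Cfsg.Statements.S4080

set_option autoImplicit false
open Cfsg

namespace Cfsg.Agent.S4080

/-- A locally nilpotent additive endomorphism of a group of order `p²` has square zero. -/
theorem sq_zero_of_nilpotent {M : Type*} [AddCommGroup M] [Finite M] (p : ℕ) (hp : p.Prime)
    (W : AddSubgroup M) (hW : Nat.card W = p ^ 2) (N : M →+ M)
    (hNW : ∀ w ∈ W, N w ∈ W) (hnil : ∀ w ∈ W, ∃ k : ℕ, N^[k] w = 0) :
    ∀ w ∈ W, N (N w) = 0 := by
  classical
  intro w hw
  by_contra hne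
  -- least k with N^k w = 0
  have hk := Nat.find_spec (hnil w hw)
  have hmin := fun m => Nat.find_min (hnil w hw) (m := m)
  set k := Nat.find (hnil w hw) with hkdef
  have hk3 : 3 ≤ k := by
    by_contra hlt
    have hk2 : k ≤ 2 := by omega
    apply hne
    have : N^[2] w = 0 := by
      have h1 : N^[(2 - k) + k] w = 0 := by
        rw [Function.iterate_add_apply, hk]
        exact iterate_map_zero N (2 - k)
      have h2 : (2 - k) + k = 2 := by omega
      rwa [h2] at h1
    simpa [Function.iterate_succ_apply'] using this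
  obtain ⟨j, hj⟩ : ∃ j, k = j + 3 := ⟨k - 3, by omega⟩
  have hiterW : ∀ i : ℕ, N^[i] w ∈ W := by
    intro i
    induction i with
    | zero => simpa using hw
    | succ i ih => rw [Function.iterate_succ_apply']; exact hNW _ ih
  -- u = N^(j+1) w
  set u := N^[j + 1] w with hu
  have hu2 : N (N u) = 0 := by
    rw [hu, ← Function.iterate_succ_apply' N, ← Function.iterate_succ_apply' N]
    have : (j + 1).succ.succ = k := by omega
    rw [this]; exact hk
  have hu1 : N u ≠ 0 := by
    rw [hu, ← Function.iterate_succ_apply' N]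
    exact hmin (j + 1).succ (by omega)
  set K1 : AddSubgroup M := W ⊓ N.ker with hK1
  set K2 : AddSubgroup M := W ⊓ (N.comp N).ker with hK2
  have h12 : K1 ≤ K2 := by
    intro z hz
    obtain ⟨hzW, hzN⟩ := AddSubgroup.mem_inf.mp hz
    refine AddSubgroup.mem_inf.mpr ⟨hzW, ?_⟩
    rw [AddMonoidHom.mem_ker] at hzN ⊢
    rw [AddMonoidHom.comp_apply, hzN, map_zero]
  have hK2W : K2 ≤ W := inf_le_left
  have hNuK1 : N u ∈ K1 := AddSubgroup.mem_inf.mpr ⟨hNW _ (hiterW _), by
    rw [AddMonoidHom.mem_ker]; exact hu2⟩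
  have huK2 : u ∈ K2 := AddSubgroup.mem_inf.mpr ⟨hiterW _, by
    rw [AddMonoidHom.mem_ker, AddMonoidHom.comp_apply]; exact hu2⟩
  have huK1 : u ∉ K1 := by
    intro h
    have := (AddSubgroup.mem_inf.mp h).2
    rw [AddMonoidHom.mem_ker] at this
    exact hu1 this
  have hwK2 : w ∉ K2 := by
    intro h
    have := (AddSubgroup.mem_inf.mp h).2
    rw [AddMonoidHom.mem_ker, AddMonoidHom.comp_apply] at this
    exact hne this
  -- cardinalities
  have hd1 : Nat.card K1 ∣ Nat.card K2 := AddSubgroup.card_dvd_of_le h12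
  have hd2 : Nat.card K2 ∣ p ^ 2 := hW ▸ AddSubgroup.card_dvd_of_le hK2W
  obtain ⟨m2, hm2, hc2⟩ := (Nat.dvd_prime_pow hp).mp hd2
  obtain ⟨m1, hm1, hc1⟩ := (Nat.dvd_prime_pow hp).mp (hd1.trans hd2)
  have hm1pos : m1 ≠ 0 := by
    rintro rfl
    rw [pow_zero] at hc1
    have : K1 = ⊥ := AddSubgroup.card_eq_one.mp hc1
    rw [this, AddSubgroup.mem_bot] at hNuK1
    exact hu1 hNuK1
  have hm12 : m1 < m2 := by
    have hle : m1 ≤ m2 := by
      rw [hc1, hc2] at hd1
      exact (Nat.pow_dvd_pow_iff_le_right hp.one_lt).mp hd1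
    rcases lt_or_eq_of_le hle with h | h
    · exact h
    · exfalso
      have : K1 = K2 := AddSubgroup.eq_of_le_of_card_ge h12 (by rw [hc1, hc2, h])
      rw [this] at huK1
      exact huK1 huK2
  have hm2' : m2 = 2 := by omega
  have : K2 = W := AddSubgroup.eq_of_le_of_card_ge hK2W (by rw [hc2, hm2', hW])
  rw [this] at hwK2
  exact hwK2 hw

theorem alg {R : Type*} [Ring R] (p : ℕ) (hp : p.Prime) (hp3 : 3 < p) (N : R)
    (h1 : (p : R) * N ^ 2 = 0) (h2 : N ^ 4 = 0) (h3 : (N + 1) ^ p = 1) : (p : R) * N = 0 := by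
  have hc : Commute N 1 := Commute.one_right N
  have hexp := hc.add_pow p
  rw [h3] at hexp
  have hterm : ∀ m ∈ Finset.range (p + 1), m ≠ 0 ∧ m ≠ 1 →
      N ^ m * 1 ^ (p - m) * (p.choose m : R) = 0 := by
    intro m hm hm01
    obtain ⟨hm0, hm1⟩ := hm01
    rw [Finset.mem_range] at hm
    rcases Nat.lt_or_ge m p with hlt | hge
    · obtain ⟨c, hc⟩ := hp.dvd_choose_self hm0 hlt
      have hN : N ^ m = N ^ 2 * N ^ (m - 2) := by rw [← pow_add]; congr 1; omega
      rw [hc, one_pow, mul_one, Nat.cast_mul, hN]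
      calc N ^ 2 * N ^ (m - 2) * ((p : R) * (c : R))
          = ((p : R) * N ^ 2) * N ^ (m - 2) * (c : R) := by
            rw [← mul_assoc, (Nat.cast_commute p (N ^ 2 * N ^ (m - 2))).eq.symm, mul_assoc (p : R)]
            simp only [mul_assoc]
        _ = 0 := by rw [h1, zero_mul, zero_mul]
    · have hN : N ^ m = N ^ 4 * N ^ (m - 4) := by rw [← pow_add]; congr 1; omega
      rw [hN, h2, zero_mul, zero_mul, zero_mul]
  rw [Finset.sum_eq_add 0 1 (by norm_num) hterm
    (fun h => absurd (Finset.mem_range.mpr (by omega)) h)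
    (fun h => absurd (Finset.mem_range.mpr (by omega)) h)] at hexp
  simp only [pow_zero, one_pow, mul_one, Nat.choose_zero_right, Nat.cast_one, pow_one,
    Nat.choose_one_right, one_mul] at hexp
  have h4 : N * (p : R) = 0 := by
    have := hexp
    rw [left_eq_add] at this
    exact this
  rw [(Nat.cast_commute p N).eq]
  exact h4

theorem zmod_fact (p : ℕ) [Fact p.Prime] (u : ZMod (p ^ 2)) (h : (p : ZMod (p ^ 2)) * u = 0) :
    ∃ u' : ZMod (p ^ 2), u = (p : ZMod (p ^ 2)) * u' := by
  have hpp : p.Prime := Fact.out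
  haveI : NeZero (p ^ 2) := ⟨pow_ne_zero 2 hpp.ne_zero⟩
  have hu : ((u.val : ℕ) : ZMod (p ^ 2)) = u := ZMod.natCast_zmod_val u
  rw [← hu, ← Nat.cast_mul, ZMod.natCast_eq_zero_iff] at h
  have h2 : p ∣ u.val := by
    have : p * p ∣ p * u.val := by rw [← pow_two]; exact h
    exact Nat.dvd_of_mul_dvd_mul_left hpp.pos this
  obtain ⟨k, hk⟩ := h2
  refine ⟨(k : ZMod (p ^ 2)), ?_⟩
  rw [← hu, hk, Nat.cast_mul]

abbrev MM (p : ℕ) := ZMod (p ^ 2) × ZMod (p ^ 2)

theorem psq_smul (p : ℕ) (m : MM p) : p • (p • m) = 0 := by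
  rw [smul_smul, ← pow_two]
  refine Prod.ext ?_ ?_
  · show (p ^ 2) • m.1 = 0
    rw [nsmul_eq_mul, ZMod.natCast_self, zero_mul]
  · show (p ^ 2) • m.2 = 0
    rw [nsmul_eq_mul, ZMod.natCast_self, zero_mul]

theorem mem_W_iff (p : ℕ) [Fact p.Prime] (m : MM p) : p • m = 0 ↔ ∃ y : MM p, m = p • y := by
  constructor
  · intro h
    have h1 : (p : ZMod (p ^ 2)) * m.1 = 0 := by
      have := congrArg Prod.fst h
      simpa using this
    have h2 : (p : ZMod (p ^ 2)) * m.2 = 0 := by
      have := congrArg Prod.snd h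
      simpa using this
    obtain ⟨u, hu⟩ := zmod_fact p m.1 h1
    obtain ⟨v, hv⟩ := zmod_fact p m.2 h2
    refine ⟨(u, v), ?_⟩
    ext
    · simp [hu]
    · simp [hv]
  · rintro ⟨y, rfl⟩
    exact psq_smul p y

theorem card_W (p : ℕ) [Fact p.Prime] :
    Nat.card (nsmulAddMonoidHom (α := MM p) p).ker = p ^ 2 := by
  have hpp : p.Prime := Fact.out
  haveI : NeZero (p ^ 2) := ⟨pow_ne_zero 2 hpp.ne_zero⟩
  have hker : (nsmulAddMonoidHom (α := MM p) p).ker = (nsmulAddMonoidHom (α := MM p) p).range := by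
    ext m
    rw [AddMonoidHom.mem_ker, AddMonoidHom.mem_range, nsmulAddMonoidHom_apply, mem_W_iff]
    constructor
    · rintro ⟨y, rfl⟩; exact ⟨y, rfl⟩
    · rintro ⟨y, hy⟩; exact ⟨y, hy.symm⟩
  have h1 := AddSubgroup.card_mul_index (nsmulAddMonoidHom (α := MM p) p).ker
  rw [AddSubgroup.index_ker, ← hker] at h1
  have hM : Nat.card (MM p) = p ^ 2 * p ^ 2 := by
    rw [Nat.card_prod, Nat.card_zmod]
  rw [hM] at h1
  exact Nat.mul_self_inj.mp h1

/-- additive endomorphism attached to a multiplicative automorphism. -/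
def Phi (M : Type*) [AddCommGroup M] : MulAut (Multiplicative M) →* AddMonoid.End M where
  toFun b :=
    { toFun := fun m => Multiplicative.toAdd (b (Multiplicative.ofAdd m))
      map_zero' := by
        show Multiplicative.toAdd (b 1) = 0
        rw [map_one]; rfl
      map_add' := by
        intro m n
        show Multiplicative.toAdd (b (Multiplicative.ofAdd m * Multiplicative.ofAdd n)) = _
        rw [map_mul]; rfl }
  map_one' := rfl
  map_mul' := fun _ _ => rfl

theorem Phi_apply (M : Type*) [AddCommGroup M] (b : MulAut (Multiplicative M)) (m : M) :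
    Phi M b m = Multiplicative.toAdd (b (Multiplicative.ofAdd m)) := rfl

/-- Let p > 3 be a prime and L the direct product of two cyclic groups of order p². Every automorphism of L of order p fixes every element of order p of L. -/
theorem result {p : ℕ} [Fact p.Prime] (hp : 3 < p)
    (a : MulAut (Multiplicative (ZMod (p ^ 2) × ZMod (p ^ 2)))) (ha : orderOf a = p)
    (x : Multiplicative (ZMod (p ^ 2) × ZMod (p ^ 2))) (hx : orderOf x = p) : a x = x := by
  have hpp : p.Prime := Fact.out
  haveI : NeZero (p ^ 2) := ⟨pow_ne_zero 2 hpp.ne_zero⟩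
  set f : AddMonoid.End (MM p) := Phi (MM p) a with hf
  have hap : a ^ p = 1 := by
    have := pow_orderOf_eq_one a
    rwa [ha] at this
  have hfp : f ^ p = 1 := by
    rw [hf, ← map_pow, hap, map_one]
  set N : AddMonoid.End (MM p) := f - 1 with hN
  have hN1 : (N + 1) ^ p = 1 := by rw [hN, sub_add_cancel]; exact hfp
  set W : AddSubgroup (MM p) := (nsmulAddMonoidHom (α := MM p) p).ker with hW
  have hmemW : ∀ m : MM p, m ∈ W ↔ p • m = 0 := by
    intro m
    rw [hW, AddMonoidHom.mem_ker, nsmulAddMonoidHom_apply]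
  have hNW : ∀ w ∈ W, N w ∈ W := by
    intro w hw
    rw [hmemW] at hw ⊢
    rw [← map_nsmul, hw, map_zero]
  have hnil : ∀ w ∈ W, ∃ k : ℕ, (⇑N)^[k] w = 0 := by
    intro w hw
    rw [hmemW] at hw
    refine ⟨p, ?_⟩
    obtain ⟨r, hr⟩ := (Commute.one_right N).exists_add_pow_prime_eq hpp
    rw [hN1, one_pow] at hr
    have h1 : N ^ p = - ((p : AddMonoid.End (MM p)) * N * 1 * r) := by
      have h2 : N ^ p + 1 + (p : AddMonoid.End (MM p)) * N * 1 * r = 1 := hr.symm
      have : N ^ p + (p : AddMonoid.End (MM p)) * N * 1 * r = 0 := by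
        have h3 : (N ^ p + (p : AddMonoid.End (MM p)) * N * 1 * r) + 1 = 0 + 1 := by
          rw [zero_add]
          calc (N ^ p + (p : AddMonoid.End (MM p)) * N * 1 * r) + 1
              = N ^ p + 1 + (p : AddMonoid.End (MM p)) * N * 1 * r := by abel
            _ = 1 := h2
        exact add_right_cancel h3
      exact eq_neg_of_add_eq_zero_left this
    rw [← AddMonoid.End.coe_pow, h1]
    show -(((p : AddMonoid.End (MM p)) * N * 1 * r) w) = 0
    rw [neg_eq_zero]
    show p • (N ((1 : AddMonoid.End (MM p)) (r w))) = 0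
    rw [← map_nsmul]
    show N (p • (r w)) = 0
    rw [← map_nsmul, hw, map_zero, map_zero]
  have hsq := sq_zero_of_nilpotent p hpp W (card_W p) N hNW hnil
  have h1 : (p : AddMonoid.End (MM p)) * N ^ 2 = 0 := by
    ext m : 1
    show p • ((N ^ 2) m) = 0
    rw [← map_nsmul, pow_two N]
    show N (N (p • m)) = 0
    exact hsq _ ((hmemW _).mpr (psq_smul p m))
  have h2 : N ^ 4 = 0 := by
    ext m : 1
    have hm : (N ^ 2) m ∈ W := by
      rw [hmemW]
      have := congrArg (fun g : AddMonoid.End (MM p) => g m) h1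
      exact this
    have : N ^ 4 = N ^ 2 * N ^ 2 := by rw [← pow_add]
    rw [this]
    show (N ^ 2) ((N ^ 2) m) = 0
    have h3 := hsq _ hm
    rw [pow_two N]
    exact h3
  have hpN := alg p hpp hp N h1 h2 hN1
  -- conclude
  have hx' : p • Multiplicative.toAdd x = 0 := by
    have h3 : x ^ p = 1 := by
      have := pow_orderOf_eq_one x
      rwa [hx] at this
    have := congrArg Multiplicative.toAdd h3
    rwa [toAdd_pow] at this
  obtain ⟨y, hy⟩ := (mem_W_iff p (Multiplicative.toAdd x)).mp hx'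
  have hNx : N (Multiplicative.toAdd x) = 0 := by
    rw [hy, map_nsmul]
    have := congrArg (fun g : AddMonoid.End (MM p) => g y) hpN
    exact this
  have hfx : f (Multiplicative.toAdd x) = Multiplicative.toAdd x := by
    have h3 : f = N + 1 := by rw [hN, sub_add_cancel]
    rw [h3]
    show N (Multiplicative.toAdd x) + Multiplicative.toAdd x = Multiplicative.toAdd x
    rw [hNx, zero_add]
  have := congrArg Multiplicative.ofAdd hfx
  exact this

end Cfsg.Agent.S4080
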