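import Mathlib
import Cfsg.Statements.S4082
import Cfsg.Agent.Lib.Helper7.PByCyc4
import Cfsg.Agent.Lib.Lead.Brodkey

set_option autoImplicit false
open Cfsg

namespace Cfsg.Agent.S4082

open Cfsg.Agent.Lib.Helper7.PByCyc
open scoped Pointwise

variable {G : Type*} [Group G] [Finite G] {p : ℕ} [hp : Fact p.Prime]

theorem odd_orderOf (hp2 : p ≠ 2) {A : Subgroup G} (hA : IsPGroup p A) {y : G} (hy : y ∈ A) :
    Odd (orderOf y) := by
  obtain ⟨k, hk⟩ := (IsPGroup.iff_orderOf.mp hA) ⟨y, hy⟩
  rw [Subgroup.orderOf_mk] at hk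
  rw [hk]
  exact Odd.pow (hp.out.odd_of_ne_two hp2)

theorem key_inv (hp2 : p ≠ 2)
    (hyp : ∀ H : Subgroup G, PC p H → IsCyclic H ∨ ∃ n : ℕ, Nonempty (H ≃* DihedralGroup (p ^ n)))
    (A : Subgroup G) (hA : IsPGroup p A) (x : G) (hx : x ∈ Subgroup.normalizer (A : Set G))
    (hxC : x ∉ Subgroup.centralizer (A : Set G)) :
    orderOf x = 2 ∧ ∀ y ∈ A, x * y * x⁻¹ = y⁻¹ := by
  set H := A ⊔ Subgroup.zpowers x with hH
  have hxH : x ∈ H := Subgroup.mem_sup_right (Subgroup.mem_zpowers x)
  have hAH : A ≤ H := le_sup_left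
  have hzn : Subgroup.zpowers x ≤ Subgroup.normalizer (A : Set G) := by
    rw [Subgroup.zpowers_le]; exact hx
  have hgen : ∀ h ∈ H, ∃ a ∈ A, ∃ k : ℤ, h = a * x ^ k := by
    intro h hh
    have h1 : h ∈ ((A ⊔ Subgroup.zpowers x : Subgroup G) : Set G) := hh
    rw [Subgroup.coe_mul_of_right_le_normalizer_left A (Subgroup.zpowers x) hzn, Set.mem_mul] at h1
    obtain ⟨a, ha, t, ht, rfl⟩ := h1
    obtain ⟨k, rfl⟩ := Subgroup.mem_zpowers_iff.mp ht
    exact ⟨a, ha, k, rfl⟩
  have pc : PC p H := pc_of_gen H A hAH hA (sup_le Subgroup.le_normalizer hzn) x hxH hgen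
  have hnotcomm : ¬ (∀ y ∈ A, x * y = y * x) := by
    intro h
    apply hxC
    rw [Subgroup.mem_centralizer_iff]
    intro y hy
    exact (h y hy).symm
  rcases hyp H pc with hcyc | ⟨n, ⟨e⟩⟩
  · exfalso
    apply hnotcomm
    intro y hy
    letI : CommGroup ↥H := IsCyclic.commGroup
    have := mul_comm (⟨x, hxH⟩ : ↥H) ⟨y, hAH hy⟩
    exact congrArg Subtype.val this
  · rcases dih_cases e ⟨x, hxH⟩ with h1 | ⟨h1, h2⟩
    · exfalso
      apply hnotcomm
      intro y hy
      have := h1 ⟨y, hAH hy⟩ (by rw [Subgroup.orderOf_mk]; exact odd_orderOf hp2 hA hy)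
      exact congrArg Subtype.val this
    · constructor
      · rwa [Subgroup.orderOf_mk] at h1
      · intro y hy
        have := h2 ⟨y, hAH hy⟩ (by rw [Subgroup.orderOf_mk]; exact odd_orderOf hp2 hA hy)
        exact congrArg Subtype.val this

theorem forward (hp2 : p ≠ 2) (P : Sylow p G)
    (hyp : ∀ H : Subgroup G, PC p H → IsCyclic H ∨ ∃ n : ℕ, Nonempty (H ≃* DihedralGroup (p ^ n))) :
    (IsCyclic P ∧
      (Subgroup.normalizer ((P : Subgroup G) : Set G) = Subgroup.centralizer ((P : Subgroup G) : Set G) ∨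
       ((Subgroup.centralizer ((P : Subgroup G) : Set G)).relIndex (Subgroup.normalizer ((P : Subgroup G) : Set G)) = 2 ∧
        ∀ Q : Subgroup G, Q ≤ P → Nat.card Q = p →
          IsMulCommutative ↥(Subgroup.centralizer (Q : Set G)) ∧
          ∀ x : G, x ∈ Subgroup.normalizer (Q : Set G) → x ∉ Subgroup.centralizer (Q : Set G) →
            orderOf x = 2 ∧ ∀ c : G, c ∈ Subgroup.centralizer (Q : Set G) → x * c * x⁻¹ = c⁻¹))) := by
  constructor
  · have pc : PC p (P : Subgroup G) := pc_of_gen (p := p) (P : Subgroup G) (P : Subgroup G) le_rfl P.2 Subgroup.le_normalizer 1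
      (Subgroup.one_mem _) (fun h hh => ⟨h, hh, 0, by simp⟩)
    rcases hyp P pc with hc | ⟨n, ⟨e⟩⟩
    · exact hc
    · exfalso
      have h1 : Nat.card (P : Subgroup G) = 2 * p ^ n := by
        rw [Nat.card_congr e.toEquiv, DihedralGroup.nat_card]
      obtain ⟨k, hk⟩ := IsPGroup.iff_card.mp P.2
      have h2 : 2 ∣ p ^ k := by rw [← hk, h1]; exact dvd_mul_right _ _
      have h3 : 2 ∣ p := Nat.Prime.dvd_of_dvd_pow Nat.prime_two h2
      exact hp2 ((Nat.prime_dvd_prime_iff_eq Nat.prime_two hp.out).mp h3).symm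
  · by_cases hNC : Subgroup.normalizer ((P : Subgroup G) : Set G) =
        Subgroup.centralizer ((P : Subgroup G) : Set G)
    · left; exact hNC
    · right
      have hCN : Subgroup.centralizer ((P : Subgroup G) : Set G) ≤
          Subgroup.normalizer ((P : Subgroup G) : Set G) := Subgroup.centralizer_le_normalizer _
      have hnle : ¬ Subgroup.normalizer ((P : Subgroup G) : Set G) ≤
          Subgroup.centralizer ((P : Subgroup G) : Set G) := fun h => hNC (le_antisymm h hCN)
      obtain ⟨x0, hx0N, hx0C⟩ := SetLike.not_le_iff_exists.mp hnle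
      have hinvP : ∀ x ∈ Subgroup.normalizer ((P : Subgroup G) : Set G),
          x ∉ Subgroup.centralizer ((P : Subgroup G) : Set G) → ∀ y ∈ P, x * y * x⁻¹ = y⁻¹ :=
        fun x hx hxC => (key_inv hp2 hyp P P.2 x hx hxC).2
      have hstar : ∀ Q : Subgroup G, Nat.card Q = p → Cfsg.Agent.Lib.Helper7.PByCyc.Star Q := by
        intro Q hQ x hxN hxC
        have hQp : IsPGroup p Q := IsPGroup.of_card (n := 1) (by rw [hQ, pow_one])
        have hx2 := (key_inv hp2 hyp Q hQp x hxN hxC).1
        refine ⟨hx2, fun c hc => ?_⟩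
        have hxcN : x * c ∈ Subgroup.normalizer (Q : Set G) :=
          Subgroup.mul_mem _ hxN (Subgroup.centralizer_le_normalizer _ hc)
        have hxcC : x * c ∉ Subgroup.centralizer (Q : Set G) := by
          intro h
          apply hxC
          have := Subgroup.mul_mem _ h (Subgroup.inv_mem _ hc)
          rwa [mul_inv_cancel_right] at this
        have hxc2 := (key_inv hp2 hyp Q hQp (x * c) hxcN hxcC).1
        have e1 : x * x = 1 := by
          have := pow_orderOf_eq_one x
          rwa [hx2, pow_two] at this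
        have e2 : (x * c) * (x * c) = 1 := by
          have := pow_orderOf_eq_one (x * c)
          rwa [hxc2, pow_two] at this
        have e3 : x⁻¹ = x := inv_eq_of_mul_eq_one_left e1
        rw [e3]
        apply eq_inv_of_mul_eq_one_left
        calc x * c * x * c = (x * c) * (x * c) := by group
          _ = 1 := e2
      refine ⟨?_, ?_⟩
      · show (Subgroup.subgroupOf _ _).index = 2
        rw [Subgroup.index_eq_two_iff]
        refine ⟨⟨x0, hx0N⟩, fun b => ?_⟩
        rw [Subgroup.mem_subgroupOf, Subgroup.mem_subgroupOf]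
        by_cases hb : (b : G) ∈ Subgroup.centralizer ((P : Subgroup G) : Set G)
        · right
          refine ⟨hb, fun h => ?_⟩
          apply hx0C
          have := Subgroup.mul_mem _ (Subgroup.inv_mem _ hb) h
          simpa using this
        · left
          refine ⟨?_, hb⟩
          rw [Subgroup.mem_centralizer_iff]
          intro y hy
          have h1 := hinvP x0 hx0N hx0C y hy
          have h2 := hinvP b b.2 hb y⁻¹ (Subgroup.inv_mem _ hy)
          rw [inv_inv] at h2
          show y * ((b : G) * x0) = (b : G) * x0 * y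
          calc y * ((b : G) * x0) = ((b : G) * y⁻¹ * (b : G)⁻¹) * ((b : G) * x0) := by rw [h2]
            _ = (b : G) * (x0 * y * x0⁻¹)  * x0 := by rw [h1]; group
            _ = (b : G) * x0 * y := by group
      · intro Q hQP hQ
        have hs := hstar Q hQ
        refine ⟨?_, hs⟩
        -- x0 normalizes but does not centralize Q
        have hx0NQ : x0 ∈ Subgroup.normalizer (Q : Set G) := by
          rw [Subgroup.mem_normalizer_iff]
          intro h
          constructor
          · intro hh
            rw [hinvP x0 hx0N hx0C h (hQP hh)]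
            exact Subgroup.inv_mem _ hh
          · intro hh
            have h1 := hinvP x0 hx0N hx0C _ (hQP (Subgroup.inv_mem _ hh))
            rw [inv_inv] at h1
            have h2 : h = (x0 * h * x0⁻¹)⁻¹ := by
              calc h = x0⁻¹ * (x0 * h * x0⁻¹) * x0 := by group
                _ = x0⁻¹ * (x0 * (x0 * h * x0⁻¹)⁻¹ * x0⁻¹) * x0 := by rw [h1]
                _ = (x0 * h * x0⁻¹)⁻¹ := by group
            rw [h2]
            exact Subgroup.inv_mem _ hh
        have hx0CQ : x0 ∉ Subgroup.centralizer (Q : Set G) := by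
          intro hc
          rw [Subgroup.mem_centralizer_iff] at hc
          have hQne : Q ≠ ⊥ := by
            intro h
            rw [h, Subgroup.card_bot] at hQ
            exact hp.out.one_lt.ne hQ
          obtain ⟨⟨y, hy⟩, hne⟩ := Subgroup.ne_bot_iff_exists_ne_one.mp hQne
          have hy1 : y ≠ 1 := fun e => hne (Subtype.ext e)
          have h1 := hinvP x0 hx0N hx0C y (hQP hy)
          have h2 := hc y hy
          have h3 : y = y⁻¹ := by
            rw [← h1, ← h2, mul_inv_cancel_right]
          have h4 : y ^ 2 = 1 := by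
            rw [pow_two]
            nth_rewrite 1 [h3]
            exact inv_mul_cancel y
          have h5 : orderOf y ∣ 2 := orderOf_dvd_of_pow_eq_one h4
          have h6 := odd_orderOf hp2 P.2 (hQP hy)
          have h7 : orderOf y = 1 := by
            rcases (Nat.dvd_prime Nat.prime_two).mp h5 with h | h
            · exact h
            · rw [h] at h6; exact absurd h6 (by decide)
          exact hy1 (orderOf_eq_one_iff.mp h7)
        obtain ⟨-, hinv⟩ := hs x0 hx0NQ hx0CQ
        refine ⟨⟨fun a b => ?_⟩⟩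
        apply Subtype.ext
        have ha := hinv a a.2
        have hb := hinv b b.2
        have hab := hinv (a * b) (Subgroup.mul_mem _ a.2 b.2)
        have e1 : ((a : G) * b)⁻¹ = (a : G)⁻¹ * (b : G)⁻¹ := by
          rw [← hab, ← ha, ← hb]; group
        have e2 : (a : G) * b = b * a := by
          have := congrArg (fun t => t⁻¹) e1
          simpa using this
        exact e2

theorem star_of_rhs (P : Sylow p G) (hPc : IsCyclic P)
    (h : Subgroup.normalizer ((P : Subgroup G) : Set G) = Subgroup.centralizer ((P : Subgroup G) : Set G) ∨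
       ((Subgroup.centralizer ((P : Subgroup G) : Set G)).relIndex (Subgroup.normalizer ((P : Subgroup G) : Set G)) = 2 ∧
        ∀ Q : Subgroup G, Q ≤ P → Nat.card Q = p →
          IsMulCommutative ↥(Subgroup.centralizer (Q : Set G)) ∧
          ∀ x : G, x ∈ Subgroup.normalizer (Q : Set G) → x ∉ Subgroup.centralizer (Q : Set G) →
            orderOf x = 2 ∧ ∀ c : G, c ∈ Subgroup.centralizer (Q : Set G) → x * c * x⁻¹ = c⁻¹))
    (Q : Subgroup G) (hQP : Q ≤ P) (hQ : Nat.card Q = p) :
    Cfsg.Agent.Lib.Helper7.PByCyc.Star Q := by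
  rcases h with hNC | ⟨-, h2⟩
  · intro x hxN hxC
    exfalso
    apply hxC
    set M := Subgroup.centralizer (Q : Set G) with hM
    have hcommP : ∀ a ∈ (P : Subgroup G), ∀ b ∈ (P : Subgroup G), a * b = b * a := by
      letI : CommGroup ↥(P : Subgroup G) := IsCyclic.commGroup
      intro a ha b hb
      exact congrArg Subtype.val (mul_comm (⟨a, ha⟩ : ↥(P : Subgroup G)) ⟨b, hb⟩)
    have hPM : (P : Subgroup G) ≤ M := by
      intro y hy
      rw [Subgroup.mem_centralizer_iff]
      intro q hq
      exact hcommP q (hQP hq) y hy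
    have hRM : MulAut.conj x • (P : Subgroup G) ≤ M := by
      intro t ht
      rw [mem_conj_smul] at ht
      rw [Subgroup.mem_centralizer_iff]
      intro q hq
      have h1 : x⁻¹ * q * x ∈ Q := by
        have := (Subgroup.mem_normalizer_iff.mp (Subgroup.inv_mem _ hxN) q).mp hq
        simpa using this
      have h2 := hcommP _ (hQP h1) _ ht
      calc q * t = x * ((x⁻¹ * q * x) * (x⁻¹ * t * x)) * x⁻¹ := by group
        _ = x * ((x⁻¹ * t * x) * (x⁻¹ * q * x)) * x⁻¹ := by rw [h2]
        _ = t * q := by group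
    have hR : IsPGroup p ↥(MulAut.conj x • (P : Subgroup G)) := by
      rw [← Sylow.coe_subgroup_smul]
      exact (x • P).2
    obtain ⟨n, hnM, hle⟩ := Cfsg.Agent.Lib.Lead.pgroup_le_conj_sylow_in_subgroup P M _ hPM hRM hR
    have heq : (n • P : Sylow p G) = x • P := by
      apply Sylow.ext
      apply (x • P).is_maximal' (n • P).2
      rw [Sylow.coe_subgroup_smul, Sylow.coe_subgroup_smul]
      exact hle
    have hfix : (n⁻¹ * x) • P = P := by rw [mul_smul, ← heq, inv_smul_smul]
    have hnx : n⁻¹ * x ∈ Subgroup.normalizer ((P : Subgroup G) : Set G) :=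
      Sylow.smul_eq_iff_mem_normalizer.mp hfix
    rw [hNC] at hnx
    have hcent : Subgroup.centralizer ((P : Subgroup G) : Set G) ≤ M :=
      Subgroup.centralizer_le hQP
    have := M.mul_mem hnM (hcent hnx)
    simpa using this
  · exact (h2 Q hQP hQ).2

theorem backward (P : Sylow p G) (hPc : IsCyclic P)
    (hrhs : Subgroup.normalizer ((P : Subgroup G) : Set G) = Subgroup.centralizer ((P : Subgroup G) : Set G) ∨
       ((Subgroup.centralizer ((P : Subgroup G) : Set G)).relIndex (Subgroup.normalizer ((P : Subgroup G) : Set G)) = 2 ∧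
        ∀ Q : Subgroup G, Q ≤ P → Nat.card Q = p →
          IsMulCommutative ↥(Subgroup.centralizer (Q : Set G)) ∧
          ∀ x : G, x ∈ Subgroup.normalizer (Q : Set G) → x ∉ Subgroup.centralizer (Q : Set G) →
            orderOf x = 2 ∧ ∀ c : G, c ∈ Subgroup.centralizer (Q : Set G) → x * c * x⁻¹ = c⁻¹))
    (H : Subgroup G) (hpc : PC p H) :
    IsCyclic H ∨ ∃ n : ℕ, Nonempty (H ≃* DihedralGroup (p ^ n)) := by
  obtain ⟨S⟩ : Nonempty (Sylow p ↥H) := inferInstance
  haveI hSn : (S : Subgroup ↥H).Normal := hpc.1 S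
  have hq : IsCyclic (↥H ⧸ (S : Subgroup ↥H)) := hpc.2 S
  by_cases hS : (S : Subgroup ↥H) = ⊥
  · left
    have e : ↥H ⧸ (S : Subgroup ↥H) ≃* ↥H :=
      (QuotientGroup.quotientMulEquivOfEq hS).trans QuotientGroup.quotientBot
    exact isCyclic_of_surjective e e.surjective
  · set S' : Subgroup G := (S : Subgroup ↥H).map H.subtype with hS'
    have hS'p : IsPGroup p S' := S.2.map _
    obtain ⟨P', hP'⟩ := hS'p.exists_le_sylow
    obtain ⟨g, hg⟩ := MulAction.exists_smul_eq G P P'
    have hle : ∀ t : ↥(S : Subgroup ↥H), g⁻¹ * ((t : ↥H) : G) * g ∈ (P : Subgroup G) := by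
      intro t
      have h1 : ((t : ↥H) : G) ∈ S' := ⟨(t : ↥H), t.2, rfl⟩
      have h2 := hP' h1
      rw [← hg, Sylow.coe_subgroup_smul, mem_conj_smul] at h2
      exact h2
    haveI : IsCyclic ↥(P : Subgroup G) := hPc
    have hScyc : IsCyclic ↥(S : Subgroup ↥H) := by
      let f : ↥(S : Subgroup ↥H) →* ↥(P : Subgroup G) :=
        { toFun := fun t => ⟨g⁻¹ * ((t : ↥H) : G) * g, hle t⟩
          map_one' := by apply Subtype.ext; simp
          map_mul' := by
            intro a b
            apply Subtype.ext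
            simp only [Subgroup.coe_mul]
            group }
      apply isCyclic_of_injective f
      intro a b hab
      have h1 : g⁻¹ * ((a : ↥H) : G) * g = g⁻¹ * ((b : ↥H) : G) * g := congrArg Subtype.val hab
      have h2 : ((a : ↥H) : G) = ((b : ↥H) : G) := by
        have := congrArg (fun t => g * t * g⁻¹) h1
        simpa [mul_assoc] using this
      exact Subtype.ext (Subtype.ext h2)
    obtain ⟨s1, hs1⟩ := hScyc.exists_generator
    set s : ↥H := (s1 : ↥H) with hs
    have hSz : (S : Subgroup ↥H) = Subgroup.zpowers s := by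
      ext t
      constructor
      · intro ht
        obtain ⟨k, hk⟩ := Subgroup.mem_zpowers_iff.mp (hs1 ⟨t, ht⟩)
        refine Subgroup.mem_zpowers_iff.mpr ⟨k, ?_⟩
        have := congrArg Subtype.val hk
        simpa using this
      · intro ht
        obtain ⟨k, rfl⟩ := Subgroup.mem_zpowers_iff.mp ht
        exact Subgroup.zpow_mem _ s1.2 k
    obtain ⟨n, hn⟩ := IsPGroup.iff_card.mp S.2
    have hords : orderOf s = p ^ n := by rw [← Nat.card_zpowers, ← hSz, hn]
    have hn0 : n ≠ 0 := by
      rintro rfl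
      apply hS
      rw [pow_zero] at hn
      exact Subgroup.card_eq_one.mp hn
    obtain ⟨a, rfl⟩ := Nat.exists_eq_succ_of_ne_zero hn0
    have hcop : (S : Subgroup ↥H).index.Coprime p :=
      ((Nat.Prime.coprime_iff_not_dvd hp.out).mpr (Sylow.not_dvd_index S)).symm
    set z : ↥H := s ^ (p ^ a) with hz
    have hzord : orderOf z = p := by
      rw [hz, orderOf_pow, hords, Nat.gcd_eq_right (pow_dvd_pow p (Nat.le_succ a)),
        Nat.pow_div (Nat.le_succ a) hp.out.pos]
      simp
    set Q : Subgroup G := Subgroup.zpowers ((z : ↥H) : G) with hQ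
    have hQcard : Nat.card Q = p := by
      rw [Nat.card_zpowers, Subgroup.orderOf_coe, hzord]
    have hzS : z ∈ (S : Subgroup ↥H) := by
      rw [hSz]; exact Subgroup.pow_mem _ (Subgroup.mem_zpowers s) _
    have hQP' : Q ≤ P' := by
      rw [hQ, Subgroup.zpowers_le]
      apply hP'
      exact ⟨z, hzS, rfl⟩
    have hstarQ : Cfsg.Agent.Lib.Helper7.PByCyc.Star Q := by
      have h1 : MulAut.conj g⁻¹ • Q ≤ (P : Subgroup G) := by
        intro t ht
        rw [mem_conj_smul, inv_inv] at ht
        have := hQP' ht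
        rw [← hg, Sylow.coe_subgroup_smul, mem_conj_smul] at this
        simpa [mul_assoc] using this
      have h2 : Nat.card ↥(MulAut.conj g⁻¹ • Q) = p := by
        rw [← hQcard]
        exact Nat.card_congr (Subgroup.equivSMul (MulAut.conj g⁻¹) Q).toEquiv.symm
      have h3 := star_conj g _ (star_of_rhs P hPc hrhs _ h1 h2)
      have h4 : MulAut.conj g • (MulAut.conj g⁻¹ • Q) = Q := by
        rw [smul_smul, ← map_mul, mul_inv_cancel, map_one, one_smul]
      rwa [h4] at h3
    have hconjz : ∀ x : ↥H, ∃ k : ℤ, x * z * x⁻¹ = z ^ k := by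
      intro x
      have h1 : x * s * x⁻¹ ∈ (S : Subgroup ↥H) :=
        hSn.conj_mem s (by rw [hSz]; exact Subgroup.mem_zpowers s) x
      rw [hSz] at h1
      obtain ⟨k, hk⟩ := Subgroup.mem_zpowers_iff.mp h1
      refine ⟨k, ?_⟩
      rw [hz, ← conj_pow, ← hk, ← zpow_natCast, ← zpow_natCast, ← zpow_mul, ← zpow_mul, mul_comm]
    have hfw : ∀ x : ↥H, ∀ q ∈ Q, (x : G) * q * (x : G)⁻¹ ∈ Q := by
      intro x q hq
      obtain ⟨j, rfl⟩ := Subgroup.mem_zpowers_iff.mp hq
      obtain ⟨k, hk⟩ := hconjz x
      have hk' : (x : G) * (z : G) * (x : G)⁻¹ = (z : G) ^ k := by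
        have := congrArg Subtype.val hk
        simpa using this
      rw [← conj_zpow, hk', ← zpow_mul]
      exact Subgroup.zpow_mem _ (Subgroup.mem_zpowers _) _
    have hnormQ : ∀ x : ↥H, (x : G) ∈ Subgroup.normalizer (Q : Set G) := by
      intro x
      rw [Subgroup.mem_normalizer_iff]
      intro q
      refine ⟨hfw x q, fun h => ?_⟩
      have := hfw x⁻¹ _ h
      simpa [mul_assoc] using this
    have hcentQ : ∀ c : ↥H, (c : G) ∈ Subgroup.centralizer (Q : Set G) ↔ c * z = z * c := by
      intro c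
      rw [Subgroup.mem_centralizer_iff]
      constructor
      · intro h
        have := h (z : G) (Subgroup.mem_zpowers _)
        exact Subtype.ext (by simpa using this.symm)
      · intro h q hq
        obtain ⟨j, rfl⟩ := Subgroup.mem_zpowers_iff.mp hq
        have hc : Commute (c : G) (z : G) := congrArg Subtype.val h
        exact (hc.zpow_right j).eq.symm
    have star : ∀ x : ↥H, x * z ≠ z * x → orderOf x = 2 ∧
        ∀ c : ↥H, c * z = z * c → x * c * x⁻¹ = c⁻¹ := by
      intro x hx
      obtain ⟨h1, h2⟩ := hstarQ (x : G) (hnormQ x) (fun h => hx ((hcentQ x).mp h))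
      refine ⟨by rwa [Subgroup.orderOf_coe] at h1, fun c hc => ?_⟩
      apply Subtype.ext
      have := h2 (c : G) ((hcentQ c).mpr hc)
      simpa using this
    rcases abstract_main (S : Subgroup ↥H) s hSz a hords hcop hq star with h | h
    · left; exact h
    · right; exact ⟨a + 1, h⟩

theorem result {G : Type*} [Group G] [Finite G] {p : ℕ}
    [Fact p.Prime] (hp : p ≠ 2) (P : Sylow p G) :
    (∀ H : Subgroup G, (∀ S : Sylow p ↥H, (S : Subgroup ↥H).Normal) →
        (∀ (S : Sylow p ↥H) [(S : Subgroup ↥H).Normal], IsCyclic (↥H ⧸ (S : Subgroup ↥H))) →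
        IsCyclic H ∨ (∃ n : ℕ, Nonempty (H ≃* DihedralGroup (p ^ n)))) ↔
    (IsCyclic P ∧
      (Subgroup.normalizer ((P : Subgroup G) : Set G) = Subgroup.centralizer ((P : Subgroup G) : Set G) ∨
       ((Subgroup.centralizer ((P : Subgroup G) : Set G)).relIndex (Subgroup.normalizer ((P : Subgroup G) : Set G)) = 2 ∧
        ∀ Q : Subgroup G, Q ≤ P → Nat.card Q = p →
          IsMulCommutative ↥(Subgroup.centralizer (Q : Set G)) ∧
          ∀ x : G, x ∈ Subgroup.normalizer (Q : Set G) → x ∉ Subgroup.centralizer (Q : Set G) →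
            orderOf x = 2 ∧ ∀ c : G, c ∈ Subgroup.centralizer (Q : Set G) → x * c * x⁻¹ = c⁻¹))) := by
  constructor
  · intro h
    exact forward hp P (fun H hpc => h H hpc.1 hpc.2)
  · rintro ⟨h1, h2⟩ H hH1 hH2
    exact backward P h1 h2 H ⟨hH1, hH2⟩

end Cfsg.Agent.S4082
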