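import Mathlib
import Cfsg.Statements.S4083
import Cfsg.Agent.Lib.Helper7.PByCyc7

set_option autoImplicit false
open Cfsg

namespace Cfsg.Agent.S4083

open Cfsg.Agent.Lib.Helper7.PByCyc
open scoped Pointwise

variable {G : Type*} [Group G] [Finite G]

instance fact2 : Fact (Nat.Prime 2) := ⟨Nat.prime_two⟩

theorem a4_noncomm : ∃ a b : alternatingGroup (Fin 4), a * b ≠ b * a := by decide

theorem comm_of_exp_two {K : Subgroup G} (h2 : ∀ k ∈ K, k ^ 2 = 1) :
    ∀ a ∈ K, ∀ b ∈ K, a * b = b * a := by
  intro a ha b hb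
  have h1 := h2 a ha
  have h3 := h2 b hb
  have h4 := h2 (a * b) (K.mul_mem ha hb)
  rw [pow_two] at h1 h3 h4
  have ea : a⁻¹ = a := inv_eq_of_mul_eq_one_left h1
  have eb : b⁻¹ = b := inv_eq_of_mul_eq_one_left h3
  have e := inv_eq_of_mul_eq_one_left h4
  rw [mul_inv_rev, ea, eb] at e
  exact e.symm

theorem forward (P : Sylow 2 G)
    (hyp : ∀ H : Subgroup G, PC 2 H → IsCyclic H ∨ (∃ n : ℕ, Nonempty (H ≃* DihedralGroup (2 ^ n))) ∨
      Nonempty (H ≃* alternatingGroup (Fin 4))) :
    IsCyclic P ∨
      ((∃ n : ℕ, 1 ≤ n ∧ Nonempty ((P : Subgroup G) ≃* DihedralGroup (2 ^ n))) ∧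
        ∀ K : Subgroup G, K ≤ P → Nat.card K = 4 → (∀ k ∈ K, k ^ 2 = 1) →
          Subgroup.centralizer (K : Set G) = K) := by
  have pc : PC 2 (P : Subgroup G) := pc_of_gen (p := 2) (P : Subgroup G) (P : Subgroup G) le_rfl P.2
    Subgroup.le_normalizer 1 (Subgroup.one_mem _) (fun h hh => ⟨h, hh, 0, by simp⟩)
  rcases hyp P pc with hc | ⟨n, ⟨e⟩⟩ | ⟨⟨e⟩⟩
  · left; exact hc
  · rcases Nat.eq_zero_or_pos n with rfl | hn
    · left
      have h1 : Nat.card (P : Subgroup G) = 2 := by
        rw [Nat.card_congr e.toEquiv, DihedralGroup.nat_card]; norm_num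
      exact isCyclic_of_prime_card h1
    · right
      refine ⟨⟨n, hn, ⟨e⟩⟩, ?_⟩
      intro K hKP hK4 hK2
      have hKcomm := comm_of_exp_two hK2
      apply le_antisymm
      · intro c hc
        rw [Subgroup.mem_centralizer_iff] at hc
        have hcN : c ∈ Subgroup.normalizer (K : Set G) :=
          Subgroup.centralizer_le_normalizer _ (Subgroup.mem_centralizer_iff.mpr hc)
        set H := K ⊔ Subgroup.zpowers c with hH
        have hcH : c ∈ H := Subgroup.mem_sup_right (Subgroup.mem_zpowers c)
        have hKH : K ≤ H := le_sup_left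
        have hzn : Subgroup.zpowers c ≤ Subgroup.normalizer (K : Set G) := by
          rw [Subgroup.zpowers_le]; exact hcN
        have hgen : ∀ h ∈ H, ∃ a ∈ K, ∃ k : ℤ, h = a * c ^ k := by
          intro h hh
          have h1 : h ∈ ((K ⊔ Subgroup.zpowers c : Subgroup G) : Set G) := hh
          rw [Subgroup.coe_mul_of_right_le_normalizer_left K (Subgroup.zpowers c) hzn,
            Set.mem_mul] at h1
          obtain ⟨a, ha, t, ht, rfl⟩ := h1
          obtain ⟨k, rfl⟩ := Subgroup.mem_zpowers_iff.mp ht
          exact ⟨a, ha, k, rfl⟩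
        have hKp : IsPGroup 2 K := IsPGroup.of_card (n := 2) (by rw [hK4]; norm_num)
        have pcH : PC 2 H := pc_of_gen H K hKH hKp (sup_le Subgroup.le_normalizer hzn) c hcH hgen
        have hHcomm : ∀ u v : ↥H, u * v = v * u := by
          intro u v
          obtain ⟨a, ha, k, hu⟩ := hgen u u.2
          obtain ⟨b, hb, l, hv⟩ := hgen v v.2
          apply Subtype.ext
          rw [Subgroup.coe_mul, Subgroup.coe_mul, hu, hv]
          have c1 : Commute a b := hKcomm a ha b hb
          have c2 : Commute a c := hc a ha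
          have c3 : Commute c b := (hc b hb).symm
          have c4 : Commute (c ^ k) (c ^ l) := (Commute.refl c).zpow_zpow k l
          exact ((c1.mul_right (c2.zpow_right l)).mul_left
            ((c3.zpow_left k).mul_right c4)).eq
        rcases hyp H pcH with hcyc | ⟨m, ⟨eH⟩⟩ | ⟨⟨eH⟩⟩
        · exfalso
          haveI := hcyc
          have hKc : IsCyclic ↥K := by
            have e' : ↥(K.subgroupOf H) ≃* ↥K := Subgroup.subgroupOfEquivOfLe hKH
            exact isCyclic_of_surjective e' e'.surjective
          classical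
          letI : Fintype ↥K := Fintype.ofFinite _
          have hle := IsCyclic.card_pow_eq_one_le (α := ↥K) (n := 2) (by norm_num)
          have hall : (Finset.univ.filter (fun a : ↥K => a ^ 2 = 1)) = Finset.univ := by
            ext a
            simp only [Finset.mem_filter, Finset.mem_univ, true_and, iff_true]
            exact Subtype.ext (hK2 a a.2)
          rw [hall, Finset.card_univ, ← Nat.card_eq_fintype_card, hK4] at hle
          omega
        · have hD : IsMulCommutative (DihedralGroup (2 ^ m)) := by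
            refine ⟨⟨fun u v => ?_⟩⟩
            have := hHcomm (eH.symm u) (eH.symm v)
            rw [← map_mul, ← map_mul] at this
            exact eH.symm.injective this
          have hm : 2 ^ m = 1 ∨ 2 ^ m = 2 := DihedralGroup.commutative_iff.mp hD
          have hcardH : Nat.card H ≤ 4 := by
            rw [Nat.card_congr eH.toEquiv, DihedralGroup.nat_card]
            rcases hm with h | h <;> rw [h] <;> norm_num
          have hKeq : K = H := Subgroup.eq_of_le_of_card_ge hKH (by rw [hK4]; exact hcardH)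
          rw [hKeq]; exact hcH
        · exfalso
          obtain ⟨a, b, hab⟩ := a4_noncomm
          apply hab
          have := hHcomm (eH.symm a) (eH.symm b)
          rw [← map_mul, ← map_mul] at this
          exact eH.symm.injective this
      · intro k hk
        rw [Subgroup.mem_centralizer_iff]
        intro a ha
        exact hKcomm a ha k hk
  · exfalso
    have h1 : Nat.card (P : Subgroup G) = 12 := by
      rw [Nat.card_congr e.toEquiv, nat_card_alternatingGroup]
      simp [Nat.factorial]
    obtain ⟨k, hk⟩ := IsPGroup.iff_card.mp P.2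
    have h2 : 3 ∣ 2 ^ k := by rw [← hk, h1]; norm_num
    have h3 : 3 ∣ 2 := Nat.Prime.dvd_of_dvd_pow Nat.prime_three h2
    omega

/-- a finite group with a cyclic normal Sylow `2`-subgroup and cyclic quotient is cyclic -/
theorem cyclic_of_cyclic_sylow {H : Type*} [Group H] [Finite H] (S : Subgroup H) [hSn : S.Normal]
    (hS2 : IsPGroup 2 S) (hScyc : IsCyclic S) (hcop : S.index.Coprime 2)
    (hq : IsCyclic (H ⧸ S)) : IsCyclic H := by
  by_cases hS : S = ⊥
  · have e : H ⧸ S ≃* H := (QuotientGroup.quotientMulEquivOfEq hS).trans QuotientGroup.quotientBot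
    exact isCyclic_of_surjective e e.surjective
  · obtain ⟨s1, hs1⟩ := hScyc.exists_generator
    set s : H := (s1 : H) with hs
    have hSz : S = Subgroup.zpowers s := by
      ext t
      constructor
      · intro ht
        obtain ⟨k, hk⟩ := Subgroup.mem_zpowers_iff.mp (hs1 ⟨t, ht⟩)
        refine Subgroup.mem_zpowers_iff.mpr ⟨k, ?_⟩
        have := congrArg Subtype.val hk
        simpa using this
      · intro ht
        obtain ⟨k, rfl⟩ := Subgroup.mem_zpowers_iff.mp ht
        exact Subgroup.zpow_mem _ s1.2 k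
    obtain ⟨n, hn⟩ := IsPGroup.iff_card.mp hS2
    have hords : orderOf s = 2 ^ n := by rw [← Nat.card_zpowers, ← hSz, hn]
    have hn0 : n ≠ 0 := by
      rintro rfl
      apply hS
      rw [pow_zero] at hn
      exact Subgroup.card_eq_one.mp hn
    obtain ⟨a, rfl⟩ := Nat.exists_eq_succ_of_ne_zero hn0
    have hc := central_two S s hSz a hords hcop
    apply isCyclic_of_central S hScyc _ hq hc
    rw [hn]
    exact Nat.Coprime.pow_left _ hcop.symm

theorem backward (P : Sylow 2 G)
    (hrhs : IsCyclic P ∨
      ((∃ n : ℕ, 1 ≤ n ∧ Nonempty ((P : Subgroup G) ≃* DihedralGroup (2 ^ n))) ∧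
        ∀ K : Subgroup G, K ≤ P → Nat.card K = 4 → (∀ k ∈ K, k ^ 2 = 1) →
          Subgroup.centralizer (K : Set G) = K))
    (H : Subgroup G) (hpc : PC 2 H) :
    IsCyclic H ∨ (∃ n : ℕ, Nonempty (H ≃* DihedralGroup (2 ^ n))) ∨
      Nonempty (H ≃* alternatingGroup (Fin 4)) := by
  obtain ⟨S⟩ : Nonempty (Sylow 2 ↥H) := inferInstance
  haveI hSn : (S : Subgroup ↥H).Normal := hpc.1 S
  have hq : IsCyclic (↥H ⧸ (S : Subgroup ↥H)) := hpc.2 S
  have hnd : ¬ 2 ∣ (S : Subgroup ↥H).index := Sylow.not_dvd_index S
  have hcop : (S : Subgroup ↥H).index.Coprime 2 :=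
    ((Nat.Prime.coprime_iff_not_dvd Nat.prime_two).mpr hnd).symm
  have hodd : Odd (S : Subgroup ↥H).index := Nat.coprime_two_right.mp hcop
  set S' : Subgroup G := (S : Subgroup ↥H).map H.subtype with hS'
  have hS'p : IsPGroup 2 S' := S.2.map _
  obtain ⟨P', hP'⟩ := hS'p.exists_le_sylow
  obtain ⟨g, hg⟩ := MulAction.exists_smul_eq G P P'
  have hle : ∀ t : ↥(S : Subgroup ↥H), g⁻¹ * ((t : ↥H) : G) * g ∈ (P : Subgroup G) := by
    intro t
    have h1 : ((t : ↥H) : G) ∈ S' := ⟨(t : ↥H), t.2, rfl⟩
    have h2 := hP' h1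
    rw [← hg, Sylow.coe_subgroup_smul, mem_conj_smul] at h2
    exact h2
  let f : ↥(S : Subgroup ↥H) →* ↥(P : Subgroup G) :=
    { toFun := fun t => ⟨g⁻¹ * ((t : ↥H) : G) * g, hle t⟩
      map_one' := by apply Subtype.ext; simp
      map_mul' := by
        intro a b
        apply Subtype.ext
        simp only [Subgroup.coe_mul]
        group }
  have hf : Function.Injective f := by
    intro a b hab
    have h1 : g⁻¹ * ((a : ↥H) : G) * g = g⁻¹ * ((b : ↥H) : G) * g := congrArg Subtype.val hab
    have h2 : ((a : ↥H) : G) = ((b : ↥H) : G) := by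
      have := congrArg (fun t => g * t * g⁻¹) h1
      simpa [mul_assoc] using this
    exact Subtype.ext (Subtype.ext h2)
  rcases hrhs with hPc | ⟨⟨n, hn, ⟨eP⟩⟩, hKlein⟩
  · left
    haveI := hPc
    exact cyclic_of_cyclic_sylow (S : Subgroup ↥H) S.2 (isCyclic_of_injective f hf) hcop hq
  · haveI : NeZero (2 ^ n) := ⟨by positivity⟩
    let f2 : ↥(S : Subgroup ↥H) →* DihedralGroup (2 ^ n) := eP.toMonoidHom.comp f
    have hf2 : Function.Injective f2 := eP.injective.comp hf
    have eST : ↥(S : Subgroup ↥H) ≃* ↥f2.range := MonoidHom.ofInjective hf2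
    rcases subgroup_dihedral f2.range with hTc | ⟨d, hd, ⟨eT⟩⟩
    · left
      haveI := hTc
      have hScyc : IsCyclic ↥(S : Subgroup ↥H) := isCyclic_of_surjective eST.symm eST.symm.surjective
      exact cyclic_of_cyclic_sylow (S : Subgroup ↥H) S.2 hScyc hcop hq
    · obtain ⟨j, -, rfl⟩ := (Nat.dvd_prime_pow Nat.prime_two).mp hd
      have eS : ↥(S : Subgroup ↥H) ≃* DihedralGroup (2 ^ j) := eST.trans eT
      rcases Nat.eq_zero_or_pos j with rfl | hj
      · left
        have h1 : Nat.card ↥(S : Subgroup ↥H) = 2 := by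
          rw [Nat.card_congr eS.toEquiv, DihedralGroup.nat_card]; norm_num
        have hScyc : IsCyclic ↥(S : Subgroup ↥H) := isCyclic_of_prime_card h1
        exact cyclic_of_cyclic_sylow (S : Subgroup ↥H) S.2 hScyc hcop hq
      · right
        have hK : ∀ K : Subgroup ↥H, K ≤ (S : Subgroup ↥H) → Nat.card K = 4 →
            (∀ k ∈ K, k ^ 2 = 1) → ∀ c : ↥H, (∀ k ∈ K, c * k = k * c) → c ∈ K := by
          intro K0 hK0S hK04 hK02 c hc
          set K : Subgroup G := K0.map H.subtype with hKdef
          have hKcard : Nat.card K = 4 := by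
            rw [hKdef, Subgroup.card_map_of_injective H.subtype_injective, hK04]
          have hK2 : ∀ k ∈ K, k ^ 2 = 1 := by
            rintro _ ⟨k, hk, rfl⟩
            rw [← map_pow, hK02 k hk, map_one]
          have hKP' : K ≤ P' := by
            rintro _ ⟨k, hk, rfl⟩
            exact hP' ⟨k, hK0S hk, rfl⟩
          set K1 : Subgroup G := MulAut.conj g⁻¹ • K with hK1
          have hK1P : K1 ≤ (P : Subgroup G) := by
            intro t ht
            rw [hK1, mem_conj_smul, inv_inv] at ht
            have := hKP' ht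
            rw [← hg, Sylow.coe_subgroup_smul, mem_conj_smul] at this
            simpa [mul_assoc] using this
          have hK1card : Nat.card K1 = 4 := by
            rw [← hKcard]
            exact Nat.card_congr (Subgroup.equivSMul (MulAut.conj g⁻¹) K).toEquiv.symm
          have hK12 : ∀ k ∈ K1, k ^ 2 = 1 := by
            intro k hk
            rw [hK1, mem_conj_smul, inv_inv] at hk
            have := hK2 _ hk
            have e : (g * k * g⁻¹) ^ 2 = g * k ^ 2 * g⁻¹ := by rw [conj_pow]
            rw [e] at this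
            have := congrArg (fun t => g⁻¹ * t * g) this
            simpa [mul_assoc] using this
          have hcent := hKlein K1 hK1P hK1card hK12
          have hKK1 : MulAut.conj g • K1 = K := by
            rw [hK1, smul_smul, ← map_mul, mul_inv_cancel, map_one, one_smul]
          have hcG : (c : G) ∈ Subgroup.centralizer ((MulAut.conj g • K1 : Subgroup G) : Set G) := by
            rw [hKK1, Subgroup.mem_centralizer_iff]
            rintro _ ⟨k, hk, rfl⟩
            have := hc k hk
            exact (congrArg Subtype.val this).symm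
          have h1 := mem_centralizer_conj g (c : G) K1 hcG
          rw [hcent] at h1
          have h2 : (c : G) ∈ MulAut.conj g • K1 := by
            rw [mem_conj_smul]; exact h1
          rw [hKK1] at h2
          obtain ⟨k, hk, hkc⟩ := h2
          have : k = c := Subtype.ext hkc
          rwa [← this]
        rcases abstractD (S : Subgroup ↥H) j hj eS hodd hK with h | h
        · left; exact ⟨j, h⟩
        · right; exact h

theorem result {G : Type*} [Group G] [Finite G] (P : Sylow 2 G) :
    (∀ H : Subgroup G, (∀ S : Sylow 2 ↥H, (S : Subgroup ↥H).Normal) →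
        (∀ (S : Sylow 2 ↥H) [(S : Subgroup ↥H).Normal], IsCyclic (↥H ⧸ (S : Subgroup ↥H))) →
        IsCyclic H ∨ (∃ n : ℕ, Nonempty (H ≃* DihedralGroup (2 ^ n))) ∨ Nonempty (H ≃* alternatingGroup (Fin 4))) ↔
    (IsCyclic P ∨
      ((∃ n : ℕ, 1 ≤ n ∧ Nonempty ((P : Subgroup G) ≃* DihedralGroup (2 ^ n))) ∧
        ∀ K : Subgroup G, K ≤ P → Nat.card K = 4 → (∀ k ∈ K, k ^ 2 = 1) → Subgroup.centralizer (K : Set G) = K)) := by
  constructor
  · intro h
    exact forward P (fun H hpc => h H hpc.1 hpc.2)
  · intro h H hH1 hH2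
    exact backward P h H ⟨hH1, hH2⟩

end Cfsg.Agent.S4083
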