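import Cfsg.Statements.S4084
import Mathlib

set_option autoImplicit false
open Cfsg

namespace Cfsg.Agent.S4084

/-- membership in the double centralizer of an element -/
theorem mem_dc {K : Type*} [Group K] (x y : K) :
    y ∈ Subgroup.centralizer (Subgroup.centralizer ({x} : Set K) : Set K) ↔
      ∀ z : K, Commute x z → Commute z y := by
  rw [Subgroup.mem_centralizer_iff]
  constructor
  · intro h z hz
    apply h z
    show z ∈ Subgroup.centralizer ({x} : Set K)
    rw [Subgroup.mem_centralizer_iff]
    intro w hw
    rw [Set.mem_singleton_iff.mp hw]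
    exact hz
  · intro h z hz
    have hz' : z ∈ Subgroup.centralizer ({x} : Set K) := hz
    rw [Subgroup.mem_centralizer_iff] at hz'
    exact h z (hz' x (Set.mem_singleton x))

theorem key {K : Type*} [Group K] [Finite K] {p q : ℕ} (hp : p.Prime) (hq : q.Prime) (hpq : p ≠ q) :
    (∃ g : K, orderOf g = p * q) ↔
      ∃ x : K, p * q ∣ Nat.card (Subgroup.centralizer (Subgroup.centralizer ({x} : Set K) : Set K)) := by
  constructor
  · rintro ⟨g, hg⟩
    refine ⟨g, ?_⟩
    have hle : Subgroup.zpowers g ≤
        Subgroup.centralizer (Subgroup.centralizer ({g} : Set K) : Set K) := by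
      rw [Subgroup.zpowers_le, mem_dc]
      intro z hz
      exact hz.symm
    have := Subgroup.card_dvd_of_le hle
    rwa [Nat.card_zpowers, hg] at this
  · rintro ⟨x, hx⟩
    haveI := Fact.mk hp
    haveI := Fact.mk hq
    obtain ⟨a, ha⟩ := exists_prime_orderOf_dvd_card' p (dvd_trans (dvd_mul_right p q) hx)
    obtain ⟨b, hb⟩ := exists_prime_orderOf_dvd_card' q (dvd_trans (dvd_mul_left q p) hx)
    have hxb : Commute x (b : K) := by
      have := (mem_dc x b).mp b.2 x (Commute.refl x)
      exact this
    have hab : Commute (b : K) (a : K) := (mem_dc x a).mp a.2 b hxb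
    refine ⟨a * b, ?_⟩
    have hcop : (orderOf (a : K)).Coprime (orderOf (b : K)) := by
      rw [Subgroup.orderOf_coe, Subgroup.orderOf_coe, ha, hb]
      exact (Nat.coprime_primes hp hq).mpr hpq
    rw [hab.symm.orderOf_mul_eq_mul_orderOf_of_coprime hcop, Subgroup.orderOf_coe,
      Subgroup.orderOf_coe, ha, hb]

/-- Let G and H be finite groups whose commuting graphs are isomorphic: there is a bijection e : G → H with x, y commuting exactly when e(x), e(y) commute. Then G and H have the same prime graph: for distinct primes p, q, G has an element of order pq if and only if H does (and #G = #H, so the prime divisors agree). -/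
theorem result {G H : Type*} [Group G] [Finite G] [Group H] [Finite H] (e : G ≃ H)
    (he : ∀ x y : G, Commute x y ↔ Commute (e x) (e y))
    {p q : ℕ} (hp : p.Prime) (hq : q.Prime) (hpq : p ≠ q) :
    (∃ g : G, orderOf g = p * q) ↔ (∃ h : H, orderOf h = p * q) := by
  rw [key hp hq hpq, key hp hq hpq]
  have hcard : ∀ x : G,
      Nat.card (Subgroup.centralizer (Subgroup.centralizer ({x} : Set G) : Set G)) =
      Nat.card (Subgroup.centralizer (Subgroup.centralizer ({e x} : Set H) : Set H)) := by
    intro x
    apply Nat.card_congr
    refine e.subtypeEquiv ?_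
    intro y
    rw [mem_dc, mem_dc]
    constructor
    · intro h w hw
      have hw' : Commute (e x) (e (e.symm w)) := by rw [e.apply_symm_apply]; exact hw
      have := h (e.symm w) ((he _ _).mpr hw')
      have := (he _ _).mp this
      rwa [e.apply_symm_apply] at this
    · intro h z hz
      exact (he _ _).mpr (h (e z) ((he _ _).mp hz))
  constructor
  · rintro ⟨x, hx⟩
    exact ⟨e x, by rw [← hcard]; exact hx⟩
  · rintro ⟨x', hx'⟩
    refine ⟨e.symm x', ?_⟩
    rw [hcard, e.apply_symm_apply]
    exact hx'

end Cfsg.Agent.S4084
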