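import Cfsg.Statements.S4086
import Mathlib

set_option autoImplicit false
open Cfsg

namespace Cfsg.Agent.S4086

lemma pow_mem_zpowers_of_gcd_dvd {H : Type*} [Group H] (z : H) (n a b : ℕ) (hz : z ^ n = 1)
    (h : Nat.gcd b n ∣ a) : z ^ a ∈ Subgroup.zpowers (z ^ b) := by
  obtain ⟨m, hm⟩ := h
  rw [Subgroup.mem_zpowers_iff]
  refine ⟨(m : ℤ) * Nat.gcdA b n, ?_⟩
  have hb := Nat.gcd_eq_gcd_ab b n
  have e : ((a : ℕ) : ℤ) = (b : ℤ) * ((m : ℤ) * Nat.gcdA b n) + (n : ℤ) * ((m : ℤ) * Nat.gcdB b n) := by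
    rw [hm]; push_cast; rw [hb]; ring
  symm
  calc z ^ a = z ^ ((a : ℕ) : ℤ) := (zpow_natCast z a).symm
    _ = z ^ ((b : ℤ) * ((m : ℤ) * Nat.gcdA b n)) * z ^ ((n : ℤ) * ((m : ℤ) * Nat.gcdB b n)) := by
        rw [e, zpow_add]
    _ = (z ^ b) ^ ((m : ℤ) * Nat.gcdA b n) * (z ^ n) ^ ((m : ℤ) * Nat.gcdB b n) := by
        rw [zpow_mul z (b : ℤ), zpow_mul z (n : ℤ), zpow_natCast, zpow_natCast]
    _ = (z ^ b) ^ ((m : ℤ) * Nat.gcdA b n) := by rw [hz, one_zpow, mul_one]

lemma chain {H : Type*} [Group H] (z : H) (p k : ℕ) (hp : p.Prime) (hz : orderOf z = p ^ k) (a b : ℕ) :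
    z ^ a ∈ Subgroup.zpowers (z ^ b) ∨ z ^ b ∈ Subgroup.zpowers (z ^ a) := by
  have hzn : z ^ (p ^ k) = 1 := by rw [← hz]; exact pow_orderOf_eq_one z
  obtain ⟨i, -, hi⟩ := (Nat.dvd_prime_pow hp).mp (Nat.gcd_dvd_right a (p ^ k))
  obtain ⟨j, -, hj⟩ := (Nat.dvd_prime_pow hp).mp (Nat.gcd_dvd_right b (p ^ k))
  rcases le_total j i with hji | hij
  · left
    apply pow_mem_zpowers_of_gcd_dvd z (p ^ k) a b hzn
    rw [hj]
    exact (pow_dvd_pow p hji).trans (hi ▸ Nat.gcd_dvd_left a (p ^ k))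
  · right
    apply pow_mem_zpowers_of_gcd_dvd z (p ^ k) b a hzn
    rw [hi]
    exact (pow_dvd_pow p hij).trans (hj ▸ Nat.gcd_dvd_left b (p ^ k))

theorem result {G : Type*} [Group G] [Finite G] :
    (∀ g : G, g ≠ 1 → IsPrimePow (orderOf g)) ↔
    (∀ x y : G, IsCyclic ↥(Subgroup.closure ({x, y} : Set G)) → (x ∈ Subgroup.zpowers y ∨ y ∈ Subgroup.zpowers x)) := by
  constructor
  · intro h x y hcyc
    set H := Subgroup.closure ({x, y} : Set G) with hH
    have hxH : x ∈ H := Subgroup.subset_closure (by simp)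
    have hyH : y ∈ H := Subgroup.subset_closure (by simp)
    obtain ⟨z, hz⟩ := hcyc.exists_generator
    by_cases hz1 : z = 1
    · left
      have hx1 := hz ⟨x, hxH⟩
      rw [hz1, Subgroup.zpowers_one_eq_bot, Subgroup.mem_bot] at hx1
      have : x = 1 := congrArg Subtype.val hx1
      rw [this]; exact Subgroup.one_mem _
    · have hzG : (z : G) ≠ 1 := fun hc => hz1 (Subtype.ext hc)
      obtain ⟨p, k, hp, hk, hpk⟩ := h (z : G) hzG
      have hord : orderOf z = p ^ k := by rw [← Subgroup.orderOf_coe]; exact hpk.symm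
      obtain ⟨a, ha⟩ := (mem_powers_iff_mem_zpowers.mpr (hz ⟨x, hxH⟩))
      obtain ⟨b, hb⟩ := (mem_powers_iff_mem_zpowers.mpr (hz ⟨y, hyH⟩))
      simp only at ha hb
      have key := chain z p k hp.nat_prime hord a b
      rw [ha, hb] at key
      rcases key with h1 | h1
      · left
        obtain ⟨m, hm⟩ := Subgroup.mem_zpowers_iff.mp h1
        rw [Subgroup.mem_zpowers_iff]
        refine ⟨m, ?_⟩
        have := congrArg Subtype.val hm
        simpa using this
      · right
        obtain ⟨m, hm⟩ := Subgroup.mem_zpowers_iff.mp h1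
        rw [Subgroup.mem_zpowers_iff]
        refine ⟨m, ?_⟩
        have := congrArg Subtype.val hm
        simpa using this
  · intro h g hg
    by_contra hnp
    set n := orderOf g with hn
    have hn0 : n ≠ 0 := (orderOf_pos g).ne'
    have hn1 : n ≠ 1 := by rwa [hn, Ne, orderOf_eq_one_iff]
    set p := n.minFac with hpdef
    have hp : p.Prime := Nat.minFac_prime hn1
    have hpn : p ∣ n := Nat.minFac_dvd n
    set a := ordProj[p] n with ha
    set b := ordCompl[p] n with hb
    have hab : a * b = n := Nat.ordProj_mul_ordCompl_eq_self n p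
    have hcop : Nat.Coprime a b := Nat.Coprime.pow_left _ (Nat.coprime_ordCompl hp hn0)
    have ha0 : a ≠ 0 := fun h0 => hn0 (by rw [← hab, h0, zero_mul])
    have hb0 : b ≠ 0 := fun h0 => hn0 (by rw [← hab, h0, mul_zero])
    have hfac : 0 < n.factorization p := hp.factorization_pos_of_dvd hn0 hpn
    have hb1 : b ≠ 1 := by
      intro hb1
      apply hnp
      rw [← hab, hb1, mul_one]
      exact ⟨p, n.factorization p, hp.prime, hfac, rfl⟩
    have ha1 : a ≠ 1 := by
      intro ha1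
      have : p ∣ a := dvd_pow_self p hfac.ne'
      rw [ha1] at this
      exact hp.one_lt.ne' (Nat.dvd_one.mp this)
    have hoa : orderOf (g ^ a) = b := by
      rw [orderOf_pow' g ha0, ← hn, Nat.gcd_eq_right (Dvd.intro _ hab)]
    have hob : orderOf (g ^ b) = a := by
      rw [orderOf_pow' g hb0, ← hn, Nat.gcd_eq_right (Dvd.intro_left _ hab)]
      exact Nat.div_eq_of_eq_mul_left (Nat.pos_of_ne_zero hb0) hab.symm
    have hcyc : IsCyclic ↥(Subgroup.closure ({g ^ a, g ^ b} : Set G)) := by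
      have hle : Subgroup.closure ({g ^ a, g ^ b} : Set G) ≤ Subgroup.zpowers g := by
        rw [Subgroup.closure_le]
        intro w hw
        rcases hw with rfl | rfl
        · exact Subgroup.pow_mem _ (Subgroup.mem_zpowers g) _
        · exact Subgroup.pow_mem _ (Subgroup.mem_zpowers g) _
      have e := Subgroup.subgroupOfEquivOfLe hle
      haveI : IsCyclic ↥((Subgroup.closure ({g ^ a, g ^ b} : Set G)).subgroupOf (Subgroup.zpowers g)) :=
        Subgroup.isCyclic _
      exact isCyclic_of_surjective e e.surjective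
    rcases h _ _ hcyc with h1 | h1
    · have := orderOf_dvd_of_mem_zpowers h1
      rw [hoa, hob] at this
      have : b ∣ Nat.gcd a b := Nat.dvd_gcd this dvd_rfl
      rw [hcop] at this
      exact hb1 (Nat.dvd_one.mp this)
    · have := orderOf_dvd_of_mem_zpowers h1
      rw [hoa, hob] at this
      have : a ∣ Nat.gcd a b := Nat.dvd_gcd dvd_rfl this
      rw [hcop] at this
      exact ha1 (Nat.dvd_one.mp this)

end Cfsg.Agent.S4086
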