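import Mathlib
import Cfsg.Statements.S4091
import Cfsg.Agent.Lib.Helper7.PEl12

set_option autoImplicit false
open Cfsg
open Cfsg.Agent.Lib.Helper7.PEl

namespace Cfsg.Agent.S4091

/-- Let G be a finite p-solvable group, P a Sylow p-subgroup of G, u the number of p-elements of G (elements of p-power order, the identity included) and n the number of Sylow p-subgroups of G. Then u/#P ≥ n^((p−1)/p), stated as u^p ≥ #P^p · n^(p−1). -/
theorem result {G : Type*} [Group G] [Finite G] (p : ℕ) [Fact p.Prime]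
    (hG : Cfsg.IsPSolvable p G) (P : Sylow p G) :
    Nat.card (P : Subgroup G) ^ p * Nat.card (Sylow p G) ^ (p - 1) ≤ Nat.card {g : G // ∃ k : ℕ, orderOf g = p ^ k} ^ p := by
  classical
  have hp : p.Prime := Fact.out
  have hPhi := phi_of_isPSolvable p hG P
  unfold Phi at hPhi
  letI : Fintype (P : Subgroup G) := Fintype.ofFinite _
  have hcount := card_pElements (p := p) P
  obtain ⟨N, hN⟩ : ∃ N, N = Nat.card (P : Subgroup G) := ⟨_, rfl⟩
  obtain ⟨n, hn⟩ : ∃ n, n = Nat.card (Sylow p G) := ⟨_, rfl⟩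
  obtain ⟨u, hu⟩ : ∃ u, u = Nat.card {g : G // ∃ k : ℕ, orderOf g = p ^ k} := ⟨_, rfl⟩
  obtain ⟨L, hL⟩ : ∃ L, L = prodP (P : Subgroup G) (fun x => lam p (Subgroup.zpowers x)) :=
    ⟨_, rfl⟩
  rw [← hN, ← hn, ← hL] at hPhi
  rw [← hn, ← hu] at hcount
  rw [← hN, ← hn, ← hu]
  have hNpos : 0 < N := by rw [hN]; exact Nat.card_pos
  have hnpos : 0 < n := by rw [hn]; exact Nat.card_pos
  have hlampos : ∀ x ∈ (P : Subgroup G), 0 < lam p (Subgroup.zpowers x) := by
    intro x hx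
    unfold lam
    haveI : Nonempty {Q : Sylow p G // Subgroup.zpowers x ≤ Q} :=
      ⟨⟨P, Subgroup.zpowers_le.mpr hx⟩⟩
    exact Nat.card_pos
  have hLpos : 0 < L := by rw [hL]; exact prodP_pos _ hlampos
  have hLcast : (L : ℝ) = ∏ x : (P : Subgroup G), (lam p (Subgroup.zpowers (x : G)) : ℝ) := by
    rw [hL]
    unfold prodP
    push_cast
    rfl
  have hamgm := amgm (fun x : (P : Subgroup G) => ((lam p (Subgroup.zpowers (x : G)) : ℝ))⁻¹)
    (fun x => by positivity)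
  rw [Finset.prod_inv_distrib, ← hLcast, ← Nat.card_eq_fintype_card, ← hN] at hamgm
  -- the sum is u / n
  have hsum : ∑ x : (P : Subgroup G), ((lam p (Subgroup.zpowers (x : G)) : ℝ))⁻¹ = (u : ℝ) / n := by
    rw [hcount]
    field_simp
  rw [hsum] at hamgm
  have hLr : (0 : ℝ) < L := by exact_mod_cast hLpos
  have hnr : (0 : ℝ) < n := by exact_mod_cast hnpos
  -- clear denominators
  have h1r : ((N : ℝ) * n) ^ N ≤ (u : ℝ) ^ N * L := by
    rw [div_pow] at hamgm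
    have h2 : (N : ℝ) ^ N * (L : ℝ)⁻¹ * ((L : ℝ) * (n : ℝ) ^ N) ≤
        (u : ℝ) ^ N / (n : ℝ) ^ N * ((L : ℝ) * (n : ℝ) ^ N) :=
      mul_le_mul_of_nonneg_right hamgm (by positivity)
    have e1 : (N : ℝ) ^ N * (L : ℝ)⁻¹ * ((L : ℝ) * (n : ℝ) ^ N) = ((N : ℝ) * n) ^ N := by
      rw [mul_pow]
      field_simp
    have e2 : (u : ℝ) ^ N / (n : ℝ) ^ N * ((L : ℝ) * (n : ℝ) ^ N) = (u : ℝ) ^ N * L := by
      field_simp
    rw [e1, e2] at h2
    exact h2
  have h1 : (N * n) ^ N ≤ u ^ N * L := by exact_mod_cast h1r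
  have h2 : ((N * n) ^ p) ^ N ≤ (u ^ p * n) ^ N := by
    calc ((N * n) ^ p) ^ N = ((N * n) ^ N) ^ p := by ring
      _ ≤ (u ^ N * L) ^ p := Nat.pow_le_pow_left h1 p
      _ = (u ^ p) ^ N * L ^ p := by ring
      _ ≤ (u ^ p) ^ N * n ^ N := Nat.mul_le_mul_left _ hPhi
      _ = (u ^ p * n) ^ N := by rw [mul_pow]
  have h3 : (N * n) ^ p ≤ u ^ p * n := (Nat.pow_le_pow_iff_left hNpos.ne').mp h2
  have h4 : (N ^ p * n ^ (p - 1)) * n ≤ u ^ p * n := by
    have e : n ^ (p - 1) * n = n ^ p := by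
      rw [← pow_succ]
      congr 1
      have := hp.pos
      omega
    rw [mul_assoc, e, ← mul_pow]
    exact h3
  exact Nat.le_of_mul_le_mul_right h4 hnpos

end Cfsg.Agent.S4091
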