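import Mathlib
import Cfsg.Statements.S4092
import Cfsg.Agent.Lib.Helper7.PElements
import Cfsg.Agent.Lib.Lead.CoprimeSylow4

set_option autoImplicit false
open Cfsg

namespace Cfsg.Agent.S4092

open Cfsg.Agent.Lib.Helper7
open scoped Pointwise

variable {G : Type*} [Group G]

theorem sylow_card_eq [Finite G] {p : ℕ} [Fact p.Prime] (P Q : Sylow p G) :
    Nat.card (P : Subgroup G) = Nat.card (Q : Subgroup G) := by
  rw [Sylow.card_eq_multiplicity, Sylow.card_eq_multiplicity]

theorem sylow_eq_of_le [Finite G] {p : ℕ} [Fact p.Prime] (P Q : Sylow p G)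
    (h : (P : Subgroup G) ≤ Q) : P = Q :=
  Sylow.ext (Subgroup.eq_of_le_of_card_ge h (sylow_card_eq Q P).le)

/-- `p * |D| ≤ |T|` for a proper subgroup `D` of a `p`-group `T`. -/
theorem mul_card_le [Finite G] {p : ℕ} [hp : Fact p.Prime] (T D : Subgroup G) (hT : IsPGroup p ↥T)
    (hDT : D < T) : p * Nat.card ↥D ≤ Nat.card ↥T := by
  obtain ⟨n, hn⟩ := hT.exists_card_eq
  obtain ⟨m, hm⟩ := (hT.to_le hDT.le).exists_card_eq
  have hlt : Nat.card ↥D < Nat.card ↥T := by
    rcases (Nat.le_of_dvd Nat.card_pos (Subgroup.card_dvd_of_le hDT.le)).lt_or_eq with h | h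
    · exact h
    · exact absurd (Subgroup.eq_of_le_of_card_ge hDT.le h.ge) hDT.ne
  rw [hn, hm] at hlt ⊢
  have hmn : m < n := (Nat.pow_lt_pow_iff_right hp.out.one_lt).mp hlt
  calc p * p ^ m = p ^ (m + 1) := by rw [pow_succ]; ring
    _ ≤ p ^ n := Nat.pow_le_pow_right hp.out.pos hmn

/-- Let G be a finite group, p a prime and P a Sylow p-subgroup of G that is not normal in G. Then G has at least p·#P elements of p-power order (the identity included). -/
theorem result {G : Type*} [Group G] [Finite G] (p : ℕ) [Fact p.Prime]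
    (P : Sylow p G) (hP : ¬ (P : Subgroup G).Normal) :
    p * Nat.card (P : Subgroup G) ≤ Nat.card {g : G // ∃ k : ℕ, orderOf g = p ^ k} := by
  classical
  have hp : p.Prime := Fact.out
  -- two distinct Sylow subgroups
  have hex : ∃ Q : Sylow p G, Q ≠ P := by
    by_contra hcon
    push_neg at hcon
    haveI : Subsingleton (Sylow p G) := ⟨fun a b => (hcon a).trans (hcon b).symm⟩
    exact hP (Sylow.normal_of_subsingleton P)
  obtain ⟨Q₀, hQ₀⟩ := hex
  haveI : Nonempty {pq : Sylow p G × Sylow p G // pq.1 ≠ pq.2} := ⟨⟨(Q₀, P), hQ₀⟩⟩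
  obtain ⟨⟨⟨P₁, P₂⟩, hP₁₂⟩, hmax⟩ := Finite.exists_max
    (fun x : {pq : Sylow p G × Sylow p G // pq.1 ≠ pq.2} =>
      Nat.card ↥((x.1.1 : Subgroup G) ⊓ (x.1.2 : Subgroup G)))
  simp only at hP₁₂ hmax
  set D : Subgroup G := (P₁ : Subgroup G) ⊓ (P₂ : Subgroup G) with hD
  have hDP₁ : D < (P₁ : Subgroup G) := by
    refine lt_of_le_of_ne inf_le_left ?_
    intro h
    apply hP₁₂
    exact sylow_eq_of_le P₁ P₂ (by rw [← h]; exact inf_le_right)
  have hDP₂ : D < (P₂ : Subgroup G) := by
    refine lt_of_le_of_ne inf_le_right ?_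
    intro h
    apply hP₁₂
    exact (sylow_eq_of_le P₂ P₁ (by rw [← h]; exact inf_le_left)).symm
  have hDp : IsPGroup p ↥D := P₁.2.to_le inf_le_left
  set N := Subgroup.normalizer (D : Set G) with hN
  -- choice of Sylow subgroups of G above those of N
  have hchoose : ∀ S : Sylow p ↥N, ∃ T : Sylow p G, (S : Subgroup ↥N).map N.subtype ≤ T :=
    fun S => (S.2.map N.subtype).exists_le_sylow
  choose T hT using hchoose
  -- any Sylow of G strictly above D which contains ... is determined
  have hgrow : ∀ R : Sylow p G, D < (R : Subgroup G) → D < (R : Subgroup G) ⊓ N :=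
    fun R hR => Cfsg.Agent.Lib.Lead.pgroup_normalizer_grows p (R : Subgroup G) D R.2 hR
  have hcard_lt : ∀ K : Subgroup G, D < K → Nat.card ↥D < Nat.card ↥K := by
    intro K hK
    rcases (Nat.le_of_dvd Nat.card_pos (Subgroup.card_dvd_of_le hK.le)).lt_or_eq with h | h
    · exact h
    · exact absurd (Subgroup.eq_of_le_of_card_ge hK.le h.ge) hK.ne
  -- number of Sylow subgroups of N
  have hr1 : Nat.card (Sylow p ↥N) ≠ 1 := by
    intro h1
    obtain ⟨hss, ⟨S⟩⟩ := Nat.card_eq_one_iff_unique.mp h1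
    have key : ∀ R : Sylow p G, D < (R : Subgroup G) → R = T S := by
      intro R hDR
      have h1 := hgrow R hDR
      have hpg : IsPGroup p ↥(((R : Subgroup G) ⊓ N).subgroupOf N) :=
        (R.2.to_le inf_le_left).comap_subtype
      obtain ⟨S', hS'⟩ := hpg.exists_le_sylow
      have h2 : ((R : Subgroup G) ⊓ N).subgroupOf N ≤ S := by
        rw [Subsingleton.elim S S']; exact hS'
      have h3 : (R : Subgroup G) ⊓ N ≤ (T S : Subgroup G) := by
        intro x hx
        apply hT S
        exact ⟨⟨x, hx.2⟩, h2 (Subgroup.mem_subgroupOf.mpr hx), rfl⟩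
      by_contra hne
      have h4 := hmax ⟨(R, T S), hne⟩
      simp only at h4
      have h5 := hcard_lt _ h1
      have h6 : Nat.card ↥((R : Subgroup G) ⊓ N)
          ≤ Nat.card ↥((R : Subgroup G) ⊓ (T S : Subgroup G)) :=
        Nat.le_of_dvd Nat.card_pos (Subgroup.card_dvd_of_le (le_inf inf_le_left h3))
      omega
    exact hP₁₂ ((key P₁ hDP₁).trans (key P₂ hDP₂).symm)
  have hr : p + 1 ≤ Nat.card (Sylow p ↥N) := by
    have hmod := card_sylow_modEq_one p ↥N
    have hpos : 0 < Nat.card (Sylow p ↥N) := Nat.card_pos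
    have hdvd : p ∣ Nat.card (Sylow p ↥N) - 1 := (Nat.modEq_iff_dvd' hpos).mp hmod.symm
    obtain ⟨k, hk⟩ := hdvd
    have hk0 : k ≠ 0 := by
      rintro rfl
      omega
    have : p ≤ p * k := Nat.le_mul_of_pos_right p (Nat.pos_of_ne_zero hk0)
    omega
  -- D ≤ T S
  have hDT : ∀ S : Sylow p ↥N, D ≤ (T S : Subgroup G) := by
    intro S d hd
    apply hT S
    have h1 : D.subgroupOf N ≤ S :=
      Cfsg.Agent.Lib.Lead.normal_pgroup_le_sylow p (D.subgroupOf N) hDp.comap_subtype S
    exact ⟨⟨d, Subgroup.le_normalizer hd⟩, h1 (Subgroup.mem_subgroupOf.mpr hd), rfl⟩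
  -- T is injective
  have hTinj : Function.Injective T := by
    intro S S' hSS'
    have aux : ∀ S₁ : Sylow p ↥N, ∀ T₀ : Sylow p G, T S₁ = T₀ →
        ((T₀ : Subgroup G) ⊓ N).subgroupOf N = (S₁ : Subgroup ↥N) := by
      intro S₁ T₀ hT₀
      have hpg : IsPGroup p ↥(((T₀ : Subgroup G) ⊓ N).subgroupOf N) :=
        (T₀.2.to_le inf_le_left).comap_subtype
      refine S₁.is_maximal' hpg ?_
      intro s hs
      rw [Subgroup.mem_subgroupOf]
      refine Subgroup.mem_inf.mpr ⟨?_, s.2⟩
      rw [← hT₀]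
      exact hT S₁ ⟨s, hs, rfl⟩
    have e1 := aux S (T S) rfl
    have e2 := aux S' (T S) hSS'.symm
    exact Sylow.ext (e1.symm.trans e2)
  -- intersections
  have hTint : ∀ S S' : Sylow p ↥N, S ≠ S' → (T S : Subgroup G) ⊓ (T S' : Subgroup G) = D := by
    intro S S' hne
    have hne' : T S ≠ T S' := fun h => hne (hTinj h)
    have h1 := hmax ⟨(T S, T S'), hne'⟩
    simp only at h1
    exact (Subgroup.eq_of_le_of_card_ge (le_inf (hDT S) (hDT S')) h1).symm
  -- the counting map
  let f : (Σ S : Sylow p ↥N, ↥(((T S : Subgroup G) : Set G) \ (D : Set G))) ⊕ ↥D →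
      {g : G // ∃ k : ℕ, orderOf g = p ^ k} := fun s =>
    match s with
    | Sum.inl ⟨S, w⟩ => ⟨w.1, isPElt_of_mem (T S).2 w.2.1⟩
    | Sum.inr d => ⟨d.1, isPElt_of_mem hDp d.2⟩
  have hf : Function.Injective f := by
    rintro (⟨S, w, hw1, hw2⟩ | ⟨d, hd⟩) (⟨S', w', hw1', hw2'⟩ | ⟨d', hd'⟩) h
    · have hww : w = w' := congrArg Subtype.val h
      subst hww
      have hSS : S = S' := by
        by_contra hne
        have := hTint S S' hne
        apply hw2
        show w ∈ D
        rw [← this]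
        exact Subgroup.mem_inf.mpr ⟨hw1, hw1'⟩
      subst hSS
      rfl
    · exfalso
      have hww : w = d' := congrArg Subtype.val h
      apply hw2
      rw [hww]; exact hd'
    · exfalso
      have hww : d = w' := congrArg Subtype.val h
      apply hw2'
      rw [← hww]; exact hd
    · have hww : d = d' := congrArg Subtype.val h
      subst hww
      rfl
  have hcount := Nat.card_le_card_of_injective f hf
  haveI : Fintype (Sylow p ↥N) := Fintype.ofFinite _
  rw [Nat.card_sum, Nat.card_sigma] at hcount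
  have hterm : ∀ S : Sylow p ↥N,
      Nat.card ↥(((T S : Subgroup G) : Set G) \ (D : Set G)) + Nat.card ↥D
        = Nat.card (P : Subgroup G) := by
    intro S
    have h1 := Set.ncard_sdiff_add_ncard_of_subset (s := (D : Set G))
      (t := ((T S : Subgroup G) : Set G)) (fun x hx => hDT S hx)
    rw [Nat.card_coe_set_eq]
    have h2 : Nat.card ↥D = (D : Set G).ncard := Nat.card_coe_set_eq _
    have h3 : Nat.card ↥(T S : Subgroup G) = ((T S : Subgroup G) : Set G).ncard :=
      Nat.card_coe_set_eq _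
    rw [h2, h1, ← h3]
    exact sylow_card_eq _ _
  set a := Nat.card (P : Subgroup G) with ha
  set d := Nat.card ↥D with hd
  have hpd : p * d ≤ a := by
    rw [ha, sylow_card_eq P P₁]
    exact mul_card_le _ D P₁.2 hDP₁
  have hterm' : ∀ S : Sylow p ↥N,
      Nat.card ↥(((T S : Subgroup G) : Set G) \ (D : Set G)) = a - d := by
    intro S
    have := hterm S
    omega
  rw [Finset.sum_congr rfl (fun S _ => hterm' S), Finset.sum_const, Finset.card_univ,
    ← Nat.card_eq_fintype_card, smul_eq_mul] at hcount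
  refine le_trans ?_ hcount
  have hda : d ≤ a := by
    have : d ≤ p * d := Nat.le_mul_of_pos_left d hp.pos
    omega
  obtain ⟨e, he⟩ : ∃ e, a = e + d := ⟨a - d, by omega⟩
  have he' : a - d = e := by omega
  rw [he', he]
  have h1 : (p + 1) * e ≤ Nat.card (Sylow p ↥N) * e := Nat.mul_le_mul_right e hr
  rw [he] at hpd
  nlinarith

end Cfsg.Agent.S4092
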