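import Mathlib
import Cfsg.Statements.S4093
import Cfsg.Agent.Lib.Helper7.PElements

set_option autoImplicit false
open Cfsg

namespace Cfsg.Agent.S4093

open Cfsg.Agent.Lib.Helper7
open scoped Pointwise

/-- Let G be a finite group with a normal subgroup N complementing a Sylow p-subgroup P (a normal p-complement). Then the number of elements of G of p-power order equals the sum over x ∈ P of the index of C_N(x) in N. -/
theorem result {G : Type*} [Group G] [Finite G] (p : ℕ) [Fact p.Prime]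
    (P : Sylow p G) (N : Subgroup G) [N.Normal] (hNP : N.IsComplement' (P : Subgroup G)) :
    Nat.card {g : G // ∃ k : ℕ, orderOf g = p ^ k} =
      ∑ᶠ x : (P : Subgroup G), Nat.card N / Nat.card ↥(N ⊓ Subgroup.centralizer ({(x : G)} : Set G)) := by
  classical
  haveI : Fintype ↥(P : Subgroup G) := Fintype.ofFinite _
  rw [finsum_eq_sum_of_fintype]
  have hdisj : ∀ g : G, g ∈ N → g ∈ (P : Subgroup G) → g = 1 := by
    intro g h1 h2
    have := hNP.disjoint
    rw [disjoint_iff] at this
    have h3 : g ∈ N ⊓ (P : Subgroup G) := Subgroup.mem_inf.mpr ⟨h1, h2⟩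
    rwa [this, Subgroup.mem_bot] at h3
  -- the bijection
  let f : (Σ x : ↥(P : Subgroup G), ↥(nClass N (x : G))) → {g : G // ∃ k : ℕ, orderOf g = p ^ k} :=
    fun s => ⟨s.2.1, by
      obtain ⟨n, _, hn⟩ := s.2.2
      rw [hn]
      exact isPElt_conj _ _ (isPElt_of_mem P.2 s.1.2)⟩
  have hinj : Function.Injective f := by
    rintro ⟨x, w, n, hn, hw⟩ ⟨x', w', n', hn', hw'⟩ h
    have hww : w = w' := congrArg Subtype.val h
    have hxx : x = x' := by
      have h1 : (x : G)⁻¹ * (x' : G) ∈ N := by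
        rw [← QuotientGroup.eq]
        have e1 : ((w : G) : G ⧸ N) = ((x : G) : G ⧸ N) := by
          rw [hw, QuotientGroup.mk_mul, QuotientGroup.mk_mul, QuotientGroup.mk_inv,
            (QuotientGroup.eq_one_iff n).mpr hn]
          group
        have e2 : ((w' : G) : G ⧸ N) = ((x' : G) : G ⧸ N) := by
          rw [hw', QuotientGroup.mk_mul, QuotientGroup.mk_mul, QuotientGroup.mk_inv,
            (QuotientGroup.eq_one_iff n').mpr hn']
          group
        rw [← e1, ← e2, hww]
      have h2 : (x : G)⁻¹ * (x' : G) ∈ (P : Subgroup G) :=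
        Subgroup.mul_mem _ (Subgroup.inv_mem _ x.2) x'.2
      have h3 := hdisj _ h1 h2
      apply Subtype.ext
      exact inv_mul_eq_one.mp h3
    subst hxx
    subst hww
    rfl
  have hsurj : Function.Surjective f := by
    rintro ⟨g, hg⟩
    obtain ⟨Q, hQ⟩ := (isPElt_iff_mem_sylow g).mp hg
    obtain ⟨h, hh⟩ := MulAction.exists_smul_eq G P Q
    rw [← hh, Sylow.coe_subgroup_smul, Subgroup.mem_pointwise_smul_iff_inv_smul_mem] at hQ
    have hQ' : h⁻¹ * g * h ∈ (P : Subgroup G) := by
      simpa [MulAut.smul_def] using hQ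
    obtain ⟨⟨n, x'⟩, hnx, _⟩ := hNP.existsUnique h
    simp only at hnx
    let x : ↥(P : Subgroup G) := ⟨(x' : G) * (h⁻¹ * g * h) * (x' : G)⁻¹,
      Subgroup.mul_mem _ (Subgroup.mul_mem _ x'.2 hQ') (Subgroup.inv_mem _ x'.2)⟩
    refine ⟨⟨x, ⟨g, (n : G), n.2, ?_⟩⟩, rfl⟩
    show g = (n : G) * ((x' : G) * (h⁻¹ * g * h) * (x' : G)⁻¹) * (n : G)⁻¹
    rw [← hnx]
    group
  have hcard := Nat.card_congr (Equiv.ofBijective f ⟨hinj, hsurj⟩)
  rw [← hcard, Nat.card_sigma]
  apply Finset.sum_congr rfl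
  intro x _
  exact card_nClass' N (x : G)

end Cfsg.Agent.S4093
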