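import Mathlib
import Cfsg.Statements.S4097
import Cfsg.Agent.S0035
import Cfsg.Agent.S0042
import Cfsg.Agent.Lib.Helper3.Sig1

set_option autoImplicit false
open Cfsg

namespace Cfsg.Agent.S4097

open scoped Pointwise

universe u

/-- the hypothesis: `A` is central in every solvable subgroup containing it -/
def Hyp {G : Type*} [Group G] (A : Subgroup G) : Prop :=
  ∀ S : Subgroup G, A ≤ S → Group.IsSolvable S → ∀ a ∈ A, ∀ s ∈ S, a * s = s * a

/-- the hypothesis passes to subgroups containing `A` -/
theorem hyp_sub {G : Type*} [Group G] (A H : Subgroup G) (hAH : A ≤ H) (h : Hyp A) :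
    Hyp (A.subgroupOf H) := by
  intro S' hAS' hS'sol a' ha' s' hs'
  have hSsol : Group.IsSolvable (S'.map H.subtype) :=
    Group.isSolvable_of_surjective
      (f := (S'.equivMapOfInjective H.subtype (Subgroup.subtype_injective H)).toMonoidHom)
      (S'.equivMapOfInjective H.subtype (Subgroup.subtype_injective H)).surjective
  have hAS : A ≤ S'.map H.subtype := by
    intro a ha
    refine ⟨⟨a, hAH ha⟩, hAS' ?_, rfl⟩
    rw [Subgroup.mem_subgroupOf]
    exact ha
  have := h (S'.map H.subtype) hAS hSsol (a' : G) (Subgroup.mem_subgroupOf.mp ha') (s' : G)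
    (Subgroup.mem_map_of_mem H.subtype hs')
  exact Subtype.ext this

theorem main : ∀ (n : ℕ) (G : Type u) [Group G] [Finite G], Nat.card G = n →
    ∀ A : Subgroup G, Group.IsSolvable A → Hyp A → A ≤ Subgroup.center G := by
  intro n
  induction n using Nat.strong_induction_on with
  | _ n ih =>
  intro G _ _ hn A hAsol hA
  by_contra hne
  set M : Subgroup G := Subgroup.centralizer (A : Set G) with hM
  have hmemM : ∀ x : G, x ∈ M ↔ ∀ a ∈ A, a * x = x * a := by
    intro x
    rw [hM, Subgroup.mem_centralizer_iff]
    rfl
  have hAM : A ≤ M := by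
    intro x hx
    rw [hmemM]
    intro a ha
    exact hA A le_rfl hAsol a ha x hx
  have hMtop : M ≠ ⊤ := by
    intro h
    apply hne
    exact Subgroup.centralizer_eq_top_iff_subset.mp h
  have hZM : Subgroup.center G ≤ M := Subgroup.center_le_centralizer _
  -- every proper subgroup containing `A` centralizes `A`
  have huniq : ∀ H : Subgroup G, A ≤ H → H ≠ ⊤ → H ≤ M := by
    intro H hAH hHtop
    have hcard : Nat.card H < n := by
      rw [← hn]
      have h1 : Nat.card H ≤ Nat.card G := Subgroup.card_le_card_group H
      rcases h1.lt_or_eq with h2 | h2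
      · exact h2
      · exact absurd ((Subgroup.card_eq_iff_eq_top H).mp h2) hHtop
    have hsol' : Group.IsSolvable (A.subgroupOf H) :=
      Group.isSolvable_of_isSolvable_injective
        (f := (Subgroup.subgroupOfEquivOfLe hAH).toMonoidHom)
        (Subgroup.subgroupOfEquivOfLe hAH).injective
    have := ih (Nat.card H) hcard H rfl (A.subgroupOf H) hsol' (hyp_sub A H hAH hA)
    intro x hx
    rw [hmemM]
    intro a ha
    have h1 : (⟨a, hAH ha⟩ : H) ∈ Subgroup.center H := this (Subgroup.mem_subgroupOf.mpr ha)
    have h2 := (Subgroup.mem_center_iff.mp h1) ⟨x, hx⟩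
    have h3 := congrArg Subtype.val h2
    exact h3.symm
  by_cases hMn : M.Normal
  · -- the normal case
    obtain ⟨g, hg⟩ : ∃ g : G, g ∉ M := by
      by_contra hcon
      push Not at hcon
      exact hMtop (eq_top_iff.mpr fun x _ => hcon x)
    set B : Subgroup G := M ⊓ Subgroup.centralizer (M : Set G) with hB
    haveI : B.Normal := by
      rw [hB]
      infer_instance
    have hAB : A ≤ B := by
      intro a ha
      refine ⟨hAM ha, ?_⟩
      show a ∈ Subgroup.centralizer (M : Set G)
      rw [Subgroup.mem_centralizer_iff]
      intro m hm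
      exact (((hmemM m).mp hm) a ha).symm
    have hBsol : Group.IsSolvable B := by
      apply Group.isSolvable_of_comm
      rintro ⟨x, hx⟩ ⟨y, hy⟩
      apply Subtype.ext
      have := (Subgroup.mem_centralizer_iff.mp hy.2) x hx.1
      exact this
    have hgsol : Group.IsSolvable (Subgroup.zpowers g) := by
      apply Group.isSolvable_of_comm
      rintro ⟨a, ha⟩ ⟨b, hb⟩
      apply Subtype.ext
      obtain ⟨i, rfl⟩ := Subgroup.mem_zpowers_iff.mp ha
      obtain ⟨j, rfl⟩ := Subgroup.mem_zpowers_iff.mp hb
      show g ^ i * g ^ j = g ^ j * g ^ i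
      rw [← zpow_add, ← zpow_add, add_comm]
    have hnorm : Subgroup.zpowers g ≤ Subgroup.normalizer (B : Set G) := by
      rw [Subgroup.normalizer_eq_top]
      exact le_top
    have hS := Cfsg.Agent.Lib.Helper3.Sig.isSolvable_sup_of_le_normalizer hBsol hgsol hnorm
    apply hg
    rw [hmemM]
    intro a ha
    exact hA _ (hAB.trans le_sup_left) hS a ha g
      (Subgroup.mem_sup_right (Subgroup.mem_zpowers g))
  · -- the non-normal case
    have hNM : Subgroup.normalizer (M : Set G) ≤ M := by
      by_cases hN : Subgroup.normalizer (M : Set G) = ⊤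
      · exact absurd (Subgroup.normalizer_eq_top_iff.mp hN) hMn
      · exact huniq _ (hAM.trans Subgroup.le_normalizer) hN
    -- two conjugates of A generate G
    have hgen : ∀ g : G, g ∉ M → ∀ x ∈ M, g⁻¹ * x * g ∈ M → x ∈ Subgroup.center G := by
      intro g hg x hx hxg
      set Ag : Subgroup G := A.map (MulAut.conj g).toMonoidHom with hAg
      have htop : A ⊔ Ag = ⊤ := by
        by_contra hH
        have hle := huniq (A ⊔ Ag) le_sup_left hH
        have hAgM : ∀ a ∈ A, g * a * g⁻¹ ∈ M := by
          intro a ha
          apply hle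
          apply Subgroup.mem_sup_right
          exact ⟨a, ha, rfl⟩
        -- g⁻¹ M g contains A
        set M' : Subgroup G := M.map (MulAut.conj g⁻¹).toMonoidHom with hM'
        have hAM' : A ≤ M' := by
          intro a ha
          refine ⟨g * a * g⁻¹, hAgM a ha, ?_⟩
          show g⁻¹ * (g * a * g⁻¹) * g⁻¹⁻¹ = a
          group
        have hM'top : M' ≠ ⊤ := by
          intro h
          apply hMtop
          rw [eq_top_iff]
          intro y _
          have : g⁻¹ * y * g ∈ M' := by rw [h]; trivial
          obtain ⟨m, hm, hmy⟩ := this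
          have hmy' : g⁻¹ * m * g⁻¹⁻¹ = g⁻¹ * y * g := hmy
          have : m = y := by
            have h1 : g * (g⁻¹ * m * g⁻¹⁻¹) * g⁻¹ = g * (g⁻¹ * y * g) * g⁻¹ := by rw [hmy']
            have h2 : g * (g⁻¹ * m * g⁻¹⁻¹) * g⁻¹ = m := by group
            have h3 : g * (g⁻¹ * y * g) * g⁻¹ = y := by group
            rw [h2, h3] at h1
            exact h1
          rw [← this]
          exact hm
        have hM'M := huniq M' hAM' hM'top
        have hginv : g⁻¹ ∈ Subgroup.normalizer (M : Set G) := by
          apply Subgroup.mem_normalizer_fintype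
          intro m hm
          apply hM'M
          exact ⟨m, hm, rfl⟩
        exact hg (by simpa using inv_mem (hNM hginv))
      have hxc : x ∈ Subgroup.centralizer ((A ⊔ Ag : Subgroup G) : Set G) := by
        have h1 : A ≤ Subgroup.centralizer ({x} : Set G) := by
          intro a ha
          rw [Subgroup.mem_centralizer_singleton_iff]
          exact ((hmemM x).mp hx) a ha
        have h2 : Ag ≤ Subgroup.centralizer ({x} : Set G) := by
          rintro _ ⟨a, ha, rfl⟩
          rw [Subgroup.mem_centralizer_singleton_iff]
          show g * a * g⁻¹ * x = x * (g * a * g⁻¹)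
          have := ((hmemM _).mp hxg) a ha
          have e1 : g * a * g⁻¹ * x = g * (a * (g⁻¹ * x * g)) * g⁻¹ := by group
          have e2 : x * (g * a * g⁻¹) = g * ((g⁻¹ * x * g) * a) * g⁻¹ := by group
          rw [e1, e2, this]
        have h3 : A ⊔ Ag ≤ Subgroup.centralizer ({x} : Set G) := sup_le h1 h2
        rw [Subgroup.mem_centralizer_iff]
        intro y hy
        have := h3 hy
        rw [Subgroup.mem_centralizer_singleton_iff] at this
        exact this
      rw [htop] at hxc
      rw [Subgroup.mem_center_iff]
      intro y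
      exact (Subgroup.mem_centralizer_iff.mp hxc) y (Subgroup.mem_top y)
    -- pass to the quotient by the centre
    set π := QuotientGroup.mk' (Subgroup.center G) with hπ
    have hπsurj : Function.Surjective π := QuotientGroup.mk'_surjective _
    set Mb : Subgroup (G ⧸ Subgroup.center G) := M.map π with hMb
    have hπM : ∀ x : G, π x ∈ Mb → x ∈ M := by
      intro x hx
      obtain ⟨m, hm, hmx⟩ := hx
      have : m⁻¹ * x ∈ Subgroup.center G := by
        rw [← QuotientGroup.ker_mk' (Subgroup.center G), MonoidHom.mem_ker, map_mul, map_inv]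
        rw [← hπ, hmx, inv_mul_cancel]
      have h2 := hZM this
      have : x = m * (m⁻¹ * x) := by group
      rw [this]
      exact mul_mem hm h2
    have hπ1 : ∀ x : G, π x = 1 ↔ x ∈ Subgroup.center G := by
      intro x
      rw [← MonoidHom.mem_ker, hπ, QuotientGroup.ker_mk']
    have hFrob : Cfsg.IsFrobeniusComplement Mb := by
      refine ⟨?_, ?_, ?_⟩
      · intro hbot
        apply hMn
        have hMZ : M = Subgroup.center G := by
          apply le_antisymm _ hZM
          intro m hm
          rw [← hπ1]
          have : π m ∈ Mb := Subgroup.mem_map_of_mem π hm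
          rw [hbot, Subgroup.mem_bot] at this
          exact this
        rw [hMZ]
        infer_instance
      · intro htop
        apply hMtop
        rw [eq_top_iff]
        intro x _
        apply hπM
        rw [htop]
        trivial
      · intro gb hgb
        obtain ⟨g, rfl⟩ := hπsurj gb
        have hg : g ∉ M := fun h => hgb (Subgroup.mem_map_of_mem π h)
        rw [eq_bot_iff]
        intro xb hxb
        obtain ⟨hx1, hx2⟩ := hxb
        obtain ⟨x, hx, rfl⟩ := hx1
        have hx2 : π x ∈ MulAut.conj (π g) • Mb := hx2
        rw [Subgroup.mem_pointwise_smul_iff_inv_smul_mem] at hx2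
        have hx3 : π (g⁻¹ * x * g) ∈ Mb := by
          have : (MulAut.conj (π g))⁻¹ • π x = π (g⁻¹ * x * g) := by
            rw [← map_inv, MulAut.smul_def, MulAut.conj_apply, map_mul, map_mul, map_inv, inv_inv]
          rw [← this]
          exact hx2
        have := hgen g hg x hx (hπM _ hx3)
        rw [Subgroup.mem_bot, hπ1]
        exact this
    obtain ⟨Nb, hNk, hNn, hNc⟩ := Cfsg.Agent.S0035.result Mb hFrob
    obtain ⟨Nb', hNk', _, hNnil⟩ := Cfsg.Agent.S0042.result Mb hFrob
    have hNN : Nb' = Nb := SetLike.coe_injective (hNk'.trans hNk.symm)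
    rw [hNN] at hNnil
    haveI := hNn
    set K : Subgroup G := Nb.comap π with hK
    haveI : K.Normal := by
      rw [hK]
      infer_instance
    have hKsol : Group.IsSolvable K := by
      haveI : Group.IsSolvable Nb := inferInstance
      have hker : Group.IsSolvable (π.subgroupComap Nb).ker := by
        apply Group.isSolvable_of_comm
        rintro ⟨⟨x, hxK⟩, hx⟩ ⟨⟨y, hyK⟩, hy⟩
        apply Subtype.ext
        apply Subtype.ext
        show x * y = y * x
        have hx1 : π x = 1 := by
          have := MonoidHom.mem_ker.mp hx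
          exact congrArg Subtype.val this
        have hxc := (hπ1 x).mp hx1
        exact ((Subgroup.mem_center_iff.mp hxc) y).symm
      exact Group.isSolvable_of_ker_le_range (π.subgroupComap Nb).ker.subtype
        (π.subgroupComap Nb) (by simp)
    have hnorm : A ≤ Subgroup.normalizer (K : Set G) := by
      rw [Subgroup.normalizer_eq_top]
      exact le_top
    have hS := Cfsg.Agent.Lib.Helper3.Sig.isSolvable_sup_of_le_normalizer hKsol hAsol hnorm
    have hKM : K ≤ M := by
      intro k hk
      rw [hmemM]
      intro a ha
      exact hA _ le_sup_right hS a ha k (Subgroup.mem_sup_left hk)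
    have hNbM : Nb ≤ Mb := by
      intro nb hnb
      obtain ⟨k, rfl⟩ := hπsurj nb
      exact Subgroup.mem_map_of_mem π (hKM hnb)
    have hdisj := hNc.disjoint
    have hNbot : Nb = ⊥ := by
      rw [eq_bot_iff]
      exact hdisj le_rfl hNbM
    have hsup := hNc.sup_eq_top
    rw [hNbot, bot_sup_eq] at hsup
    exact hFrob.2.1 hsup

/-- Let A be a solvable subgroup of a finite group G such that A lies in the centre of every solvable subgroup of G containing A. Then A lies in the centre of G. -/
theorem result {G : Type*} [Group G] [Finite G]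
    (A : Subgroup G) (hA : Group.IsSolvable A)
    (hc : ∀ S : Subgroup G, A ≤ S → Group.IsSolvable S → ∀ a ∈ A, ∀ s ∈ S, a * s = s * a) : A ≤ Subgroup.center G :=
  main (Nat.card G) G rfl A hA hc

end Cfsg.Agent.S4097
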