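import Mathlib
import Cfsg.Statements.S4107
import Cfsg.Agent.Lib.Lead.Core

set_option autoImplicit false
open Cfsg

namespace Cfsg.Agent.S4107

open Cfsg.Agent.Lib.Lead

section
variable {G : Type*} [Group G] [Finite G]

theorem key (N : Subgroup G) [N.Normal]
    (heq : ∀ x : G, x ∉ N → ∀ n ∈ N, orderOf (x * n) = orderOf x)
    (p : ℕ) [hp : Fact p.Prime] (x : G) (hx : x ∈ Cfsg.pCore p G) (hxN : x ∉ N) : IsPGroup p N := by
  rintro ⟨n, hn⟩
  haveI hnorm : (Cfsg.pCore p G).Normal := Cfsg.Agent.Lib.Lead.pCore_normal p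
  obtain ⟨k, hk⟩ : ∃ k, orderOf x = p ^ k := by
    obtain ⟨k, hk⟩ := IsPGroup.iff_orderOf.mp (pCore_isPGroup (G := G) p) ⟨x, hx⟩
    exact ⟨k, (Subgroup.orderOf_coe (⟨x, hx⟩ : Cfsg.pCore p G)).trans hk⟩
  have h1 : (x * n) ^ (p ^ k) = 1 := by
    rw [← hk, ← heq x hxN n hn]; exact pow_orderOf_eq_one _
  have h2 : n ^ (p ^ k) ∈ Cfsg.pCore p G := by
    rw [← QuotientGroup.eq_one_iff, QuotientGroup.mk_pow]
    have : (QuotientGroup.mk n : G ⧸ Cfsg.pCore p G) = QuotientGroup.mk (x * n) := by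
      rw [QuotientGroup.mk_mul, (QuotientGroup.eq_one_iff x).mpr hx, one_mul]
    rw [this, ← QuotientGroup.mk_pow, h1, QuotientGroup.mk_one]
  obtain ⟨j, hj⟩ := (pCore_isPGroup (G := G) p) ⟨n ^ (p ^ k), h2⟩
  refine ⟨k + j, Subtype.ext ?_⟩
  have h3 : (n ^ p ^ k) ^ p ^ j = 1 := by
    have := congrArg Subtype.val hj
    simpa using this
  show n ^ p ^ (k + j) = 1
  rw [pow_add, pow_mul]; exact h3

theorem exists_of_not_le (N : Subgroup G) (h : ¬ Cfsg.fittingSubgroup G ≤ N) :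
    ∃ (p : ℕ) (_ : Fact p.Prime) (x : G), x ∈ Cfsg.pCore p G ∧ x ∉ N := by
  by_contra hcon
  apply h
  rw [fittingSubgroup_eq_iSup_pCore]
  apply iSup_le
  intro q x hx
  by_contra hxN
  exact hcon ⟨q, ⟨q.2⟩, x, hx, hxN⟩

theorem pCore_le_fitting (p : ℕ) [hp : Fact p.Prime] : Cfsg.pCore p G ≤ Cfsg.fittingSubgroup G := by
  rw [fittingSubgroup_eq_iSup_pCore]
  exact le_iSup (fun q : Nat.Primes => Cfsg.pCore (q : ℕ) G) ⟨p, hp.out⟩

end

/-- Let G be a finite group and N a proper non-trivial normal subgroup such that for every x outside N all elements of the coset xN have the same order as x. Then N ≤ F(G) or F(G) ≤ N, where F(G) is the Fitting subgroup; and if N is properly contained in F(G) then F(G) has prime-power order. -/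
theorem result {G : Type*} [Group G] [Finite G] (N : Subgroup G) [N.Normal] (hN1 : N ≠ ⊥) (hN2 : N ≠ ⊤)
    (heq : ∀ x : G, x ∉ N → ∀ n ∈ N, orderOf (x * n) = orderOf x) :
    (N ≤ Cfsg.fittingSubgroup G ∨ Cfsg.fittingSubgroup G ≤ N) ∧
    (N < Cfsg.fittingSubgroup G → IsPrimePow (Nat.card (Cfsg.fittingSubgroup G))) := by
  constructor
  · by_cases hFN : Cfsg.fittingSubgroup G ≤ N
    · exact Or.inr hFN
    · left
      obtain ⟨p, hp, x, hx, hxN⟩ := exists_of_not_le N hFN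
      have hNp := key N heq p x hx hxN
      exact (le_pCore inferInstance hNp).trans (pCore_le_fitting p)
  · intro hlt
    have hFN : ¬ Cfsg.fittingSubgroup G ≤ N := not_le_of_gt hlt
    obtain ⟨p, hp, x, hx, hxN⟩ := exists_of_not_le N hFN
    have hNp := key N heq p x hx hxN
    have hother : ∀ q : Nat.Primes, (q : ℕ) ≠ p → Cfsg.pCore (q : ℕ) G = ⊥ := by
      intro q hqp
      haveI : Fact (q : ℕ).Prime := ⟨q.2⟩
      by_contra hne
      obtain ⟨y, hy, hy1⟩ := (Subgroup.ne_bot_iff_exists_ne_one).mp hne |>.imp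
        (fun y h => h) |> fun ⟨⟨y, hy⟩, h⟩ => (⟨y, hy, fun h0 => h (Subtype.ext h0)⟩ : ∃ y, y ∈ Cfsg.pCore (q : ℕ) G ∧ y ≠ 1)
      have hyN : y ∉ N := by
        intro hyN
        obtain ⟨a, ha⟩ := hNp ⟨y, hyN⟩
        obtain ⟨b, hb⟩ := (pCore_isPGroup (G := G) (q : ℕ)) ⟨y, hy⟩
        have ha' : y ^ p ^ a = 1 := by simpa using congrArg Subtype.val ha
        have hb' : y ^ (q : ℕ) ^ b = 1 := by simpa using congrArg Subtype.val hb
        have hcop : Nat.Coprime (p ^ a) ((q : ℕ) ^ b) :=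
          Nat.Coprime.pow _ _ ((Nat.coprime_primes hp.out q.2).mpr (Ne.symm hqp))
        have hd := Nat.dvd_gcd (orderOf_dvd_of_pow_eq_one ha') (orderOf_dvd_of_pow_eq_one hb')
        rw [Nat.Coprime.gcd_eq_one hcop, Nat.dvd_one] at hd
        exact hy1 (orderOf_eq_one_iff.mp hd)
      have hNq := key N heq (q : ℕ) y hy hyN
      apply hN1
      rw [eq_bot_iff]
      intro n hn
      obtain ⟨a, ha⟩ := hNp ⟨n, hn⟩
      obtain ⟨b, hb⟩ := hNq ⟨n, hn⟩
      have ha' : n ^ p ^ a = 1 := by simpa using congrArg Subtype.val ha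
      have hb' : n ^ (q : ℕ) ^ b = 1 := by simpa using congrArg Subtype.val hb
      have hcop : Nat.Coprime (p ^ a) ((q : ℕ) ^ b) :=
        Nat.Coprime.pow _ _ ((Nat.coprime_primes hp.out q.2).mpr (Ne.symm hqp))
      have hd := Nat.dvd_gcd (orderOf_dvd_of_pow_eq_one ha') (orderOf_dvd_of_pow_eq_one hb')
      rw [Nat.Coprime.gcd_eq_one hcop, Nat.dvd_one] at hd
      rw [Subgroup.mem_bot]
      exact orderOf_eq_one_iff.mp hd
    have hFp : Cfsg.fittingSubgroup G ≤ Cfsg.pCore p G := by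
      rw [fittingSubgroup_eq_iSup_pCore]
      apply iSup_le
      intro q
      by_cases hqp : (q : ℕ) = p
      · rw [hqp]
      · rw [hother q hqp]; exact bot_le
    have hFpg : IsPGroup p (Cfsg.fittingSubgroup G) := (pCore_isPGroup (G := G) p).to_le hFp
    obtain ⟨k, hk⟩ := IsPGroup.iff_card.mp hFpg
    have hk0 : k ≠ 0 := by
      intro h0
      rw [h0, pow_zero, Subgroup.card_eq_one] at hk
      apply hN1
      rw [eq_bot_iff, ← hk]
      exact hlt.le
    rw [isPrimePow_nat_iff]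
    exact ⟨p, k, hp.out, Nat.pos_of_ne_zero hk0, hk.symm⟩

end Cfsg.Agent.S4107
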