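import Mathlib
import Cfsg.Statements.S4108

set_option autoImplicit false
open Cfsg

namespace Cfsg.Agent.S4108

open scoped Pointwise

variable {G : Type*} [Group G]

theorem inf_eq_one_of_coprime [Finite G] (N H : Subgroup G) {p : ℕ} [Fact p.Prime]
    (hNp : IsPGroup p N) (hH : (Nat.card H).Coprime p) (g : G) (hgH : g ∈ H) (hgN : g ∈ N) :
    g = 1 := by
  obtain ⟨k, hk⟩ := hNp ⟨g, hgN⟩
  have hk' : g ^ p ^ k = 1 := congrArg Subtype.val hk
  have h1 : orderOf g ∣ p ^ k := orderOf_dvd_of_pow_eq_one hk'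
  have h2 : orderOf g ∣ Nat.card H := by
    have := orderOf_dvd_natCard (⟨g, hgH⟩ : ↥H)
    rwa [Subgroup.orderOf_mk] at this
  have h3 : (Nat.card H).Coprime (p ^ k) := Nat.Coprime.pow_right k hH
  have h4 : orderOf g = 1 := Nat.eq_one_of_dvd_coprimes h3 h2 h1
  exact orderOf_eq_one_iff.mp h4

/-- fixed-point-freeness -/
theorem fpf [Finite G] (N H : Subgroup G) {p : ℕ} [Fact p.Prime]
    (heq : ∀ x : G, x ∉ N → ∀ n ∈ N, orderOf (x * n) = orderOf x)
    (hNp : IsPGroup p N) (hH : (Nat.card H).Coprime p)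
    (h : G) (hh : h ∈ H) (hh1 : h ≠ 1) (n : G) (hn : n ∈ N) (hcomm : h * n = n * h) : n = 1 := by
  have hhN : h ∉ N := fun hN => hh1 (inf_eq_one_of_coprime N H hNp hH h hh hN)
  have h1 := heq h hhN n hn
  obtain ⟨k, hk⟩ := hNp ⟨n, hn⟩
  have hk' : n ^ p ^ k = 1 := congrArg Subtype.val hk
  have hon : orderOf n ∣ p ^ k := orderOf_dvd_of_pow_eq_one hk'
  have hoh : orderOf h ∣ Nat.card H := by
    have := orderOf_dvd_natCard (⟨h, hh⟩ : ↥H)
    rwa [Subgroup.orderOf_mk] at this
  have hcop : (orderOf h).Coprime (orderOf n) :=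
    Nat.Coprime.coprime_dvd_left hoh (Nat.Coprime.coprime_dvd_right hon (Nat.Coprime.pow_right k hH))
  have hc : Commute h n := hcomm
  rw [hc.orderOf_mul_eq_mul_orderOf_of_coprime hcop] at h1
  have hpos : 0 < orderOf h := orderOf_pos h
  have : orderOf n = 1 := by
    have : orderOf h * orderOf n = orderOf h * 1 := by rw [h1, mul_one]
    exact Nat.eq_of_mul_eq_mul_left hpos this
  exact orderOf_eq_one_iff.mp this

/-- every element of the coset `N h` is `N`-conjugate to `h`. -/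
theorem conj_coset [Finite G] (N H : Subgroup G) [N.Normal] {p : ℕ} [Fact p.Prime]
    (heq : ∀ x : G, x ∉ N → ∀ n ∈ N, orderOf (x * n) = orderOf x)
    (hNp : IsPGroup p N) (hH : (Nat.card H).Coprime p)
    (h : G) (hh : h ∈ H) (hh1 : h ≠ 1) (n : G) (hn : n ∈ N) :
    ∃ m ∈ N, n * h = m * h * m⁻¹ := by
  let φ : ↥N → ↥N := fun m => ⟨(m : G) * h * (m : G)⁻¹ * h⁻¹, by
    have h1 : h * (m : G)⁻¹ * h⁻¹ ∈ N := (inferInstance : N.Normal).conj_mem _ (N.inv_mem m.2) h
    have : (m : G) * h * (m : G)⁻¹ * h⁻¹ = (m : G) * (h * (m : G)⁻¹ * h⁻¹) := by group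
    rw [this]
    exact N.mul_mem m.2 h1⟩
  have hinj : Function.Injective φ := by
    intro a b hab
    have h1 : (a : G) * h * (a : G)⁻¹ * h⁻¹ = (b : G) * h * (b : G)⁻¹ * h⁻¹ :=
      congrArg Subtype.val hab
    have h2 : h * ((a : G)⁻¹ * b) = ((a : G)⁻¹ * b) * h := by
      have h3 : (a : G) * h * (a : G)⁻¹ = (b : G) * h * (b : G)⁻¹ := mul_right_cancel h1
      calc h * ((a : G)⁻¹ * b) = (a : G)⁻¹ * ((a : G) * h * (a : G)⁻¹) * b := by group
        _ = (a : G)⁻¹ * ((b : G) * h * (b : G)⁻¹) * b := by rw [h3]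
        _ = ((a : G)⁻¹ * b) * h := by group
    have h4 := fpf N H heq hNp hH h hh hh1 _ (N.mul_mem (N.inv_mem a.2) b.2) h2
    apply Subtype.ext
    have : (a : G) = b := by
      have := inv_mul_eq_one.mp h4
      exact this
    exact this
  have hsurj : Function.Surjective φ := Finite.injective_iff_surjective.mp hinj
  obtain ⟨m, hm⟩ := hsurj ⟨n, hn⟩
  refine ⟨m, m.2, ?_⟩
  have h1 : (m : G) * h * (m : G)⁻¹ * h⁻¹ = n := congrArg Subtype.val hm
  rw [← h1]; group

/-- Let G be a finite group, p a prime and N a proper non-trivial normal p-subgroup such that for every x outside N all elements of the coset xN have the same order as x. Then every non-trivial subgroup H of G of order prime to p acts fixed-point-freely on N: NH is a Frobenius group with complement H and kernel N. -/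
theorem result {G : Type*} [Group G] [Finite G] (N : Subgroup G) [N.Normal] (hN1 : N ≠ ⊥) (hN2 : N ≠ ⊤)
    (heq : ∀ x : G, x ∉ N → ∀ n ∈ N, orderOf (x * n) = orderOf x)
    (p : ℕ) [Fact p.Prime] (hNp : IsPGroup p N) :
    ∀ H : Subgroup G, H ≠ ⊥ → (Nat.card H).Coprime p →
      Cfsg.IsFrobeniusComplement (H.subgroupOf (N ⊔ H)) ∧ Cfsg.frobeniusKernel (H.subgroupOf (N ⊔ H)) = (N.subgroupOf (N ⊔ H) : Set ↥(N ⊔ H)) := by
  intro H hH1 hHp
  have hdisj := inf_eq_one_of_coprime N H hNp hHp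
  have hfpf := fpf N H heq hNp hHp
  have hmemconj : ∀ (g x : ↥(N ⊔ H)), x ∈ MulAut.conj g • (H.subgroupOf (N ⊔ H)) ↔
      (g : G)⁻¹ * (x : G) * (g : G) ∈ H := by
    intro g x
    rw [Subgroup.mem_pointwise_smul_iff_inv_smul_mem, Subgroup.mem_subgroupOf]
    simp [MulAut.smul_def]
  refine ⟨⟨?_, ?_, ?_⟩, ?_⟩
  · intro h
    apply hH1
    rw [Subgroup.subgroupOf_eq_bot, disjoint_iff, inf_eq_left.mpr le_sup_right] at h
    exact h
  · intro h
    apply hN1
    rw [Subgroup.subgroupOf_eq_top] at h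
    have hNH : N ≤ H := le_sup_left.trans h
    rw [eq_bot_iff]
    intro n hn
    rw [Subgroup.mem_bot]
    exact hdisj n (hNH hn) hn
  · intro g hg
    rw [eq_bot_iff]
    intro x hx
    rw [Subgroup.mem_bot]
    obtain ⟨hx1, hx2⟩ := Subgroup.mem_inf.mp hx
    rw [Subgroup.mem_subgroupOf] at hx1
    rw [hmemconj] at hx2
    obtain ⟨n, hn, h₀, hh₀, hg0⟩ := Subgroup.mem_sup_of_normal_left.mp g.2
    -- n⁻¹ x n ∈ H
    have h1 : n⁻¹ * (x : G) * n ∈ H := by
      have : n⁻¹ * (x : G) * n = h₀ * ((g : G)⁻¹ * (x : G) * (g : G)) * h₀⁻¹ := by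
        rw [← hg0]; group
      rw [this]
      exact H.mul_mem (H.mul_mem hh₀ hx2) (H.inv_mem hh₀)
    have h2 : (x : G)⁻¹ * (n⁻¹ * (x : G) * n) ∈ N := by
      have h3 : (x : G)⁻¹ * n⁻¹ * ((x : G)⁻¹)⁻¹ ∈ N :=
        (inferInstance : N.Normal).conj_mem _ (N.inv_mem hn) _
      have : (x : G)⁻¹ * (n⁻¹ * (x : G) * n) = ((x : G)⁻¹ * n⁻¹ * ((x : G)⁻¹)⁻¹) * n := by group
      rw [this]
      exact N.mul_mem h3 hn
    have h4 := hdisj _ (H.mul_mem (H.inv_mem hx1) h1) h2
    have h5 : (x : G) * n = n * (x : G) := by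
      have : n⁻¹ * (x : G) * n = (x : G) := by
        have := inv_mul_eq_one.mp h4
        exact this.symm
      calc (x : G) * n = n * (n⁻¹ * (x : G) * n) := by group
        _ = n * (x : G) := by rw [this]
    by_contra hx0
    have hx0' : (x : G) ≠ 1 := fun h => hx0 (Subtype.ext h)
    have hn1 := hfpf (x : G) hx1 hx0' n hn h5
    apply hg
    rw [Subgroup.mem_subgroupOf, ← hg0, hn1, one_mul]
    exact hh₀
  · ext x
    simp only [Cfsg.frobeniusKernel, Set.mem_setOf_eq, SetLike.mem_coe, Subgroup.mem_subgroupOf]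
    constructor
    · rintro (rfl | hx)
      · exact N.one_mem
      · by_contra hxN
        obtain ⟨n, hn, h, hh, hxnh⟩ := Subgroup.mem_sup_of_normal_left.mp x.2
        have hh1 : h ≠ 1 := by
          rintro rfl
          apply hxN
          rw [← hxnh, mul_one]; exact hn
        obtain ⟨m, hm, hmh⟩ := conj_coset N H heq hNp hHp h hh hh1 n hn
        apply hx ⟨m, le_sup_left (a := N) (b := H) hm⟩
        rw [hmemconj]
        show m⁻¹ * (x : G) * m ∈ H
        rw [← hxnh, hmh]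
        have : m⁻¹ * (m * h * m⁻¹) * m = h := by group
        rw [this]; exact hh
    · intro hxN
      by_cases hx1 : x = 1
      · exact Or.inl hx1
      · right
        intro g hg
        rw [hmemconj] at hg
        apply hx1
        have h1 : (g : G)⁻¹ * (x : G) * (g : G) ∈ N := by
          have := (inferInstance : N.Normal).conj_mem _ hxN (g : G)⁻¹
          simpa using this
        have h2 := hdisj _ hg h1
        apply Subtype.ext
        show (x : G) = 1
        have : (x : G) = (g : G) * ((g : G)⁻¹ * (x : G) * (g : G)) * (g : G)⁻¹ := by group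
        rw [this, h2]; group

end Cfsg.Agent.S4108
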