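import Mathlib
import Cfsg.Statements.S4112
import Cfsg.Agent.Lib.Lead.Nilpotent

set_option autoImplicit false
open Cfsg

namespace Cfsg.Agent.S4112

open scoped Pointwise

/-- a proper supplement of a normal subgroup `L` with `q ∤ |X : L|`, `q ∣ |L|`. -/
theorem exists_proper_supplement {X : Type*} [Group X] [Finite X] (L : Subgroup X) [L.Normal]
    (q : ℕ) [Fact q.Prime] (hq1 : ¬ q ∣ L.index) (hq2 : q ∣ Nat.card L) :
    ∃ K : Subgroup X, K ≠ ⊤ ∧ K ⊔ L = ⊤ := by
  obtain ⟨Q⟩ : Nonempty (Sylow q ↥L) := inferInstance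
  have hfr := Sylow.normalizer_sup_eq_top Q
  set Q' : Subgroup X := (Q : Subgroup ↥L).map L.subtype with hQ'
  have hQL : Q' ≤ L := by
    rintro _ ⟨y, _, rfl⟩
    exact y.2
  by_cases hn : Subgroup.normalizer (Q' : Set X) = ⊤
  · haveI : Q'.Normal := Subgroup.normalizer_eq_top_iff.mp hn
    have hcard : Nat.card ↥Q' = q ^ (Nat.card X).factorization q := by
      rw [hQ', Subgroup.card_map_of_injective L.subtype_injective, Q.card_eq_multiplicity]
      congr 1
      rw [← Subgroup.card_mul_index L, Nat.factorization_mul Nat.card_pos.ne'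
        Subgroup.index_ne_zero_of_finite, Finsupp.add_apply,
        Nat.factorization_eq_zero_of_not_dvd hq1, add_zero]
    have hcop : (Nat.card ↥Q').Coprime Q'.index := by
      rw [hcard]
      apply Nat.Coprime.pow_left
      rw [Nat.Prime.coprime_iff_not_dvd Fact.out]
      intro hdvd
      have h1 := Subgroup.card_mul_index Q'
      rw [hcard] at h1
      have h2 : q ^ ((Nat.card X).factorization q + 1) ∣ Nat.card X := by
        have h3 : q ^ (Nat.card X).factorization q * q
            ∣ q ^ (Nat.card X).factorization q * Q'.index := Nat.mul_dvd_mul_left _ hdvd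
        rw [h1] at h3
        rwa [pow_succ]
      exact Nat.pow_succ_factorization_not_dvd Nat.card_pos.ne' Fact.out h2
    obtain ⟨K, hK⟩ := Subgroup.exists_right_complement'_of_coprime hcop
    refine ⟨K, ?_, ?_⟩
    · intro hKtop
      have h1 := hK.disjoint
      rw [hKtop, disjoint_top] at h1
      have h2 : Nat.card ↥Q' = 1 := by rw [h1, Subgroup.card_bot]
      have h3 : Nat.card (Q : Subgroup ↥L) = 1 := by
        rw [← h2, hQ', Subgroup.card_map_of_injective L.subtype_injective]
      have h4 : (Q : Subgroup ↥L) = ⊥ := Subgroup.card_eq_one.mp h3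
      exact (Sylow.ne_bot_of_dvd_card Q hq2) h4
    · have h1 := hK.sup_eq_top
      rw [eq_top_iff, ← h1, sup_comm]
      exact sup_le_sup_left hQL K
  · exact ⟨_, hn, hfr⟩

/-- Let G be a finite group and M ≤ N non-trivial proper normal subgroups such that for every g outside N the conjugacy class of g is a union of cosets of M (equivalently gm is conjugate to g for every m ∈ M). Then (1) and (2) below are equivalent, and they imply (3): (1) every g outside N acts fixed-point-freely on M, that is C_G(x) ≤ N for every x ∈ M, x ≠ 1; (2) the index of N in G is coprime to the order of M; (3) there is a subgroup H of G with HN = G and H ∩ M = 1. -/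
theorem result {G : Type*} [Group G] [Finite G] (N M : Subgroup G) [N.Normal] [M.Normal] (hMN : M ≤ N) (hM1 : M ≠ ⊥) (hN2 : N ≠ ⊤)
    (hcam : ∀ g : G, g ∉ N → ∀ m ∈ M, ∃ x : G, x * g * x⁻¹ = g * m) :
    ((∀ x ∈ M, x ≠ 1 → Subgroup.centralizer ({x} : Set G) ≤ N) ↔ N.index.Coprime (Nat.card M)) ∧
    ((∀ x ∈ M, x ≠ 1 → Subgroup.centralizer ({x} : Set G) ≤ N) → ∃ H : Subgroup G, H ⊔ N = ⊤ ∧ H ⊓ M = ⊥) := by
  have h12 : (∀ x ∈ M, x ≠ 1 → Subgroup.centralizer ({x} : Set G) ≤ N) →
      N.index.Coprime (Nat.card M) := by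
    intro h1
    rw [Nat.coprime_iff_gcd_eq_one]
    by_contra hne
    obtain ⟨q, hq, hqd⟩ := Nat.exists_prime_and_dvd hne
    haveI : Fact q.Prime := ⟨hq⟩
    have hqN : q ∣ N.index := hqd.trans (Nat.gcd_dvd_left _ _)
    have hqM : q ∣ Nat.card M := hqd.trans (Nat.gcd_dvd_right _ _)
    obtain ⟨m₀, hm₀⟩ := exists_prime_orderOf_dvd_card' q hqM
    have hm₀' : orderOf (m₀ : G) = q := by rw [Subgroup.orderOf_coe]; exact hm₀
    have hpg : IsPGroup q ↥(Subgroup.zpowers (m₀ : G)) := by
      apply IsPGroup.of_card (n := 1)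
      rw [Nat.card_zpowers, hm₀', pow_one]
    obtain ⟨Q, hQ⟩ := hpg.exists_le_sylow
    have hm₀Q : (m₀ : G) ∈ (Q : Subgroup G) := hQ (Subgroup.mem_zpowers _)
    -- the normal subgroup M ∩ Q of Q
    haveI : Group.IsNilpotent ↥(Q : Subgroup G) := Q.2.isNilpotent
    haveI : (M.subgroupOf (Q : Subgroup G)).Normal := inferInstance
    have hne' : M.subgroupOf (Q : Subgroup G) ≠ ⊥ := by
      intro hbot
      have : (⟨(m₀ : G), hm₀Q⟩ : ↥(Q : Subgroup G)) ∈ M.subgroupOf (Q : Subgroup G) := by
        rw [Subgroup.mem_subgroupOf]; exact m₀.2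
      rw [hbot, Subgroup.mem_bot] at this
      have h0 : (m₀ : G) = 1 := congrArg Subtype.val this
      rw [h0, orderOf_one] at hm₀'
      exact hq.one_lt.ne hm₀'
    have hcen := Cfsg.Agent.Lib.Lead.inf_center_ne_bot (M.subgroupOf (Q : Subgroup G)) hne'
    obtain ⟨⟨x, hx⟩, hx1⟩ := (Subgroup.ne_bot_iff_exists_ne_one).mp hcen
    obtain ⟨hxM, hxZ⟩ := Subgroup.mem_inf.mp hx
    rw [Subgroup.mem_subgroupOf] at hxM
    have hx1' : (x : G) ≠ 1 := by
      intro h
      apply hx1
      apply Subtype.ext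
      apply Subtype.ext
      exact h
    have hQC : (Q : Subgroup G) ≤ Subgroup.centralizer ({(x : G)} : Set G) := by
      intro y hy
      rw [Subgroup.mem_centralizer_singleton_iff]
      have := Subgroup.mem_center_iff.mp hxZ ⟨y, hy⟩
      exact congrArg Subtype.val this
    have hQN : (Q : Subgroup G) ≤ N := hQC.trans (h1 x hxM hx1')
    have hdvd : N.index ∣ (Q : Subgroup G).index := Subgroup.index_dvd_of_le hQN
    exact Q.not_dvd_index (hqN.trans hdvd)
  have h21 : N.index.Coprime (Nat.card M) →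
      (∀ x ∈ M, x ≠ 1 → Subgroup.centralizer ({x} : Set G) ≤ N) := by
    intro hcop x hxM hx1 g hg
    by_contra hgN
    rw [Subgroup.mem_centralizer_singleton_iff] at hg
    -- a prime q dividing the order of x
    have hox : orderOf x ≠ 1 := fun h => hx1 (orderOf_eq_one_iff.mp h)
    obtain ⟨q, hq, hqd⟩ := Nat.exists_prime_and_dvd hox
    haveI : Fact q.Prime := ⟨hq⟩
    have hqM : q ∣ Nat.card M := by
      have := orderOf_dvd_natCard (⟨x, hxM⟩ : ↥M)
      rw [Subgroup.orderOf_mk] at this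
      exact hqd.trans this
    -- x' of order q
    set x' := x ^ (orderOf x / q) with hx'
    have hox' : orderOf x' = q := orderOf_pow_orderOf_div (orderOf_pos x).ne' hqd
    have hx'M : x' ∈ M := M.pow_mem hxM _
    -- key: if g^j ∉ N then q ∣ orderOf (g^j)
    have key : ∀ j : ℕ, g ^ j ∉ N → q ∣ orderOf (g ^ j) := by
      intro j hj
      obtain ⟨y, hy⟩ := hcam (g ^ j) hj x' hx'M
      have ho : orderOf (g ^ j * x') = orderOf (g ^ j) := by
        rw [← hy]
        have := (MulAut.conj y).orderOf_eq (g ^ j)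
        rw [MulAut.conj_apply] at this
        exact this
      have hc : Commute (g ^ j) x' := by
        have h1 : Commute g x := hg
        exact (h1.pow_left j).pow_right _
      have h2 : (g ^ j * x') ^ orderOf (g ^ j) = 1 := by
        rw [← ho]; exact pow_orderOf_eq_one _
      rw [hc.mul_pow, pow_orderOf_eq_one, one_mul] at h2
      rw [← hox']
      exact orderOf_dvd_of_pow_eq_one h2
    obtain ⟨a, b, hb, hab⟩ := Nat.exists_eq_pow_mul_and_not_dvd (orderOf_pos g).ne' q hq.ne_one
    have hgqa : g ^ q ^ a ∈ N := by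
      by_contra hcon
      have h1 := key (q ^ a) hcon
      have h2 : orderOf (g ^ q ^ a) = b := by
        rw [orderOf_pow_of_dvd (pow_ne_zero _ hq.ne_zero) (Dvd.intro _ hab.symm), hab,
          Nat.mul_div_cancel_left _ (pow_pos hq.pos _)]
      rw [h2] at h1
      exact hb h1
    -- the image of g in G ⧸ N
    have h3 : ((g : G) : G ⧸ N) ^ q ^ a = 1 := by
      rw [← QuotientGroup.mk_pow]; exact (QuotientGroup.eq_one_iff _).mpr hgqa
    have h4 : orderOf ((g : G) : G ⧸ N) ∣ q ^ a := orderOf_dvd_of_pow_eq_one h3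
    have h5 : orderOf ((g : G) : G ⧸ N) ≠ 1 := by
      intro h
      exact hgN ((QuotientGroup.eq_one_iff _).mp (orderOf_eq_one_iff.mp h))
    obtain ⟨c, hc, hc'⟩ := (Nat.dvd_prime_pow hq).mp h4
    have hc0 : c ≠ 0 := by
      rintro rfl
      exact h5 (by rw [hc', pow_zero])
    have h6 : q ∣ N.index := by
      have := orderOf_dvd_natCard ((g : G) : G ⧸ N)
      rw [← Subgroup.index_eq_card, hc'] at this
      exact (dvd_pow_self q hc0).trans this
    have := Nat.Coprime.eq_one_of_dvd (Nat.Coprime.coprime_dvd_left h6 hcop) hqM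
    exact hq.ne_one this
  refine ⟨⟨h12, h21⟩, ?_⟩
  intro h1
  have hcop := h12 h1
  obtain ⟨H, -, hHmin⟩ := exists_minimal_le_of_wellFoundedLT
    (fun H : Subgroup G => H ⊔ N = ⊤) ⊤ (by simp)
  obtain ⟨hHN, hmin⟩ := hHmin
  refine ⟨H, hHN, ?_⟩
  by_contra hne
  have hcard : Nat.card ↥(H ⊓ M) ≠ 1 := fun h => hne (Subgroup.card_eq_one.mp h)
  obtain ⟨q, hq, hqd⟩ := Nat.exists_prime_and_dvd hcard
  haveI : Fact q.Prime := ⟨hq⟩
  have hqM : q ∣ Nat.card M := hqd.trans (Subgroup.card_dvd_of_le inf_le_right)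
  have hqN : ¬ q ∣ N.index := by
    intro h
    exact hq.ne_one (Nat.Coprime.eq_one_of_dvd (Nat.Coprime.coprime_dvd_left h hcop) hqM)
  have hidx : (N.subgroupOf H).index = N.index := by
    have h2 : N.relIndex (H ⊔ N) = N.relIndex H := Subgroup.relIndex_sup_right _ _
    rw [hHN, Subgroup.relIndex_top_right] at h2
    exact h2.symm
  have hq1 : ¬ q ∣ (N.subgroupOf H).index := by rw [hidx]; exact hqN
  have hq2 : q ∣ Nat.card (N.subgroupOf H) := by
    have e : Nat.card (N.subgroupOf H) = Nat.card ↥(H ⊓ N) := by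
      rw [← Subgroup.inf_subgroupOf_left]
      exact Nat.card_congr (Subgroup.subgroupOfEquivOfLe inf_le_left).toEquiv
    rw [e]
    exact hqd.trans (Subgroup.card_dvd_of_le (inf_le_inf_left H hMN))
  obtain ⟨K, hKtop, hKsup⟩ := exists_proper_supplement (N.subgroupOf H) q hq1 hq2
  -- K' = image of K in G
  set K' := K.map H.subtype with hK'
  have hK'H : K' ≤ H := by
    rintro _ ⟨y, _, rfl⟩
    exact y.2
  have hK'sup : K' ⊔ N = ⊤ := by
    rw [eq_top_iff, ← hHN]
    apply sup_le _ le_sup_right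
    intro h hh
    have h2 : (⟨h, hh⟩ : ↥H) ∈ K ⊔ N.subgroupOf H := by rw [hKsup]; trivial
    rw [Subgroup.mem_sup_of_normal_right] at h2
    obtain ⟨k, hk, n, hn, hkn⟩ := h2
    have h3 : h = (k : G) * (n : G) := by
      have := congrArg Subtype.val hkn
      simpa using this.symm
    rw [h3]
    exact Subgroup.mul_mem _ (Subgroup.mem_sup_left ⟨k, hk, rfl⟩)
      (Subgroup.mem_sup_right (Subgroup.mem_subgroupOf.mp hn))
  have hHK' : H ≤ K' := hmin hK'sup hK'H
  apply hKtop
  rw [eq_top_iff]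
  intro y _
  obtain ⟨z, hz, hzy⟩ := hHK' y.2
  have : z = y := Subtype.ext hzy
  rw [← this]; exact hz

end Cfsg.Agent.S4112
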