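import Mathlib
import Cfsg.Statements.S4113
import Cfsg.Agent.Lib.Helper7.Conj
import Cfsg.Agent.Lib.Helper7.Burnside
import Cfsg.Agent.Lib.Helper7.Derangements

set_option autoImplicit false
open Cfsg

namespace Cfsg.Agent.S4113

open Cfsg.Agent.Lib.Helper7

/-- Let G be a finite group, M ≤ N non-trivial proper normal subgroups, and H a subgroup with HM = G and H ∩ M = 1. Then every element of G outside N acts fixed-point-freely on M (C_G(x) ≤ N for every x ∈ M, x ≠ 1) if and only if H ∩ gHg⁻¹ ≤ H ∩ N for every g outside H, with H proper and non-trivial and H ∩ N proper in H. -/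
theorem result {G : Type*} [Group G] [Finite G] (N M : Subgroup G) [N.Normal] [M.Normal] (hMN : M ≤ N) (hM1 : M ≠ ⊥) (hN2 : N ≠ ⊤)
    (H : Subgroup G) (hHM : H ⊔ M = ⊤) (hHM' : H ⊓ M = ⊥) :
    (∀ x ∈ M, x ≠ 1 → Subgroup.centralizer ({x} : Set G) ≤ N) ↔
      (H ≠ ⊥ ∧ H ≠ ⊤ ∧ H ⊓ N < H ∧ ∀ g : G, g ∉ H → H ⊓ H.map (MulAut.conj g).toMonoidHom ≤ N) := by
  classical
  have hMn : M.Normal := inferInstance
  have hNn : N.Normal := inferInstance
  have hdecomp : ∀ g : G, ∃ h ∈ H, ∃ m ∈ M, g = h * m := by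
    intro g
    have : g ∈ ((H ⊔ M : Subgroup G) : Set G) := by rw [hHM]; trivial
    rw [Subgroup.mul_normal H M] at this
    obtain ⟨h, hh, m, hm, rfl⟩ := Set.mem_mul.mp this
    exact ⟨h, hh, m, hm, rfl⟩
  have hdecomp' : ∀ g : G, ∃ m ∈ M, ∃ h ∈ H, g = m * h := by
    intro g
    have : g ∈ ((M ⊔ H : Subgroup G) : Set G) := by rw [sup_comm, hHM]; trivial
    rw [Subgroup.normal_mul M H] at this
    obtain ⟨m, hm, h, hh, rfl⟩ := Set.mem_mul.mp this
    exact ⟨m, hm, h, hh, rfl⟩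
  have hdisj : ∀ y, y ∈ H → y ∈ M → y = 1 := fun y h1 h2 => by
    have : y ∈ H ⊓ M := ⟨h1, h2⟩
    rwa [hHM', Subgroup.mem_bot] at this
  have hconj : ∀ g x : G, x ∈ H.map (MulAut.conj g).toMonoidHom ↔ g⁻¹ * x * g ∈ H :=
    fun g x => mem_cj g x H
  constructor
  · intro hA
    refine ⟨?_, ?_, ?_, ?_⟩
    · rintro rfl
      rw [bot_sup_eq] at hHM
      exact hN2 (top_le_iff.mp (hHM ▸ hMN))
    · rintro rfl
      rw [top_inf_eq] at hHM'
      exact hM1 hHM'
    · refine lt_of_le_of_ne inf_le_left ?_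
      intro h
      have hHN : H ≤ N := inf_eq_left.mp h
      apply hN2
      rw [eq_top_iff, ← hHM]
      exact sup_le hHN hMN
    · rintro g hg y hy
      obtain ⟨hyH, hyg⟩ := Subgroup.mem_inf.mp hy
      obtain ⟨h, hh, m, hm, rfl⟩ := hdecomp g
      have hm1 : m ≠ 1 := by
        rintro rfl
        apply hg
        simpa using hh
      rw [hconj] at hyg
      set y₁ := h⁻¹ * y * h with hy₁
      have hy₁H : y₁ ∈ H := H.mul_mem (H.mul_mem (H.inv_mem hh) hyH) hh
      have h2 : m⁻¹ * y₁ * m ∈ H := by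
        have : (h * m)⁻¹ * y * (h * m) = m⁻¹ * y₁ * m := by rw [hy₁]; group
        rwa [this] at hyg
      have h3 : m⁻¹ * y₁ * m * y₁⁻¹ ∈ M := by
        have : m⁻¹ * y₁ * m * y₁⁻¹ = m⁻¹ * (y₁ * m * y₁⁻¹) := by group
        rw [this]
        exact M.mul_mem (M.inv_mem hm) (hMn.conj_mem m hm y₁)
      have h4 : m⁻¹ * y₁ * m * y₁⁻¹ ∈ H := H.mul_mem h2 (H.inv_mem hy₁H)
      have h5 := hdisj _ h4 h3
      have h6 : y₁ ∈ Subgroup.centralizer ({m} : Set G) := by
        rw [Subgroup.mem_centralizer_singleton_iff]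
        have : m⁻¹ * y₁ * m = y₁ := by rw [mul_inv_eq_one] at h5; exact h5
        calc y₁ * m = m * (m⁻¹ * y₁ * m) := by group
          _ = m * y₁ := by rw [this]
      have h7 : y₁ ∈ N := hA m hm hm1 h6
      have : y = h * y₁ * h⁻¹ := by rw [hy₁]; group
      rw [this]
      exact hNn.conj_mem y₁ h7 h
  · rintro ⟨hH1, hH2, hHN, hB⟩ x hxM hx1 c hc
    by_contra hcN
    haveI := Fintype.ofFinite G
    -- fixed point counts on G ⧸ H
    have hfixle : ∀ g : G, g ∉ N → Nat.card (MulAction.fixedBy (G ⧸ H) g) ≤ 1 := by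
      intro g hg
      rw [Finite.card_le_one_iff_subsingleton]
      constructor
      rintro ⟨ω₁, h1⟩ ⟨ω₂, h2⟩
      apply Subtype.ext
      change ω₁ = ω₂
      induction ω₁ using QuotientGroup.induction_on with
      | H a =>
      induction ω₂ using QuotientGroup.induction_on with
      | H b =>
      by_contra hne
      have hab : a⁻¹ * b ∉ H := fun h => hne (QuotientGroup.eq.mpr h)
      rw [MulAction.mem_fixedBy, MulAction.Quotient.smul_mk, QuotientGroup.eq, smul_eq_mul] at h1 h2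
      have ha : a⁻¹ * g * a ∈ H := by
        have := H.inv_mem h1
        have e : ((g * a)⁻¹ * a)⁻¹ = a⁻¹ * g * a := by group
        rwa [e] at this
      have hb : b⁻¹ * g * b ∈ H := by
        have := H.inv_mem h2
        have e : ((g * b)⁻¹ * b)⁻¹ = b⁻¹ * g * b := by group
        rwa [e] at this
      have hmem : a⁻¹ * g * a ∈ H ⊓ H.map (MulAut.conj (a⁻¹ * b)).toMonoidHom := by
        refine Subgroup.mem_inf.mpr ⟨ha, ?_⟩
        rw [hconj]
        have e : (a⁻¹ * b)⁻¹ * (a⁻¹ * g * a) * (a⁻¹ * b) = b⁻¹ * g * b := by group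
        rw [e]; exact hb
      have hN' := hB _ hab hmem
      apply hg
      have e : g = a * (a⁻¹ * g * a) * a⁻¹ := by group
      rw [e]
      exact hNn.conj_mem _ hN' a
    -- Burnside for G and N
    have hBG := burnside_nat G (G ⧸ H)
    rw [card_orbits_of_pretransitive G (G ⧸ H), one_mul] at hBG
    haveI : MulAction.IsPretransitive N (G ⧸ H) := by
      constructor
      intro ω₁ ω₂
      induction ω₁ using QuotientGroup.induction_on with
      | H a =>
      induction ω₂ using QuotientGroup.induction_on with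
      | H b =>
      obtain ⟨m₁, hm₁, h₁, hh₁, rfl⟩ := hdecomp' a
      obtain ⟨m₂, hm₂, h₂, hh₂, rfl⟩ := hdecomp' b
      refine ⟨⟨m₂ * m₁⁻¹, hMN (M.mul_mem hm₂ (M.inv_mem hm₁))⟩, ?_⟩
      change ((m₂ * m₁⁻¹ * (m₁ * h₁) : G) : G ⧸ H) = ((m₂ * h₂ : G) : G ⧸ H)
      rw [QuotientGroup.eq]
      have e : (m₂ * m₁⁻¹ * (m₁ * h₁))⁻¹ * (m₂ * h₂) = h₁⁻¹ * h₂ := by group
      rw [e]
      exact H.mul_mem (H.inv_mem hh₁) hh₂
    have hBN := burnside_nat N (G ⧸ H)
    rw [card_orbits_of_pretransitive N (G ⧸ H), one_mul] at hBN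
    have hfixN : ∀ d : N, MulAction.fixedBy (G ⧸ H) d = MulAction.fixedBy (G ⧸ H) (d : G) :=
      fun d => rfl
    simp only [hfixN] at hBN
    have hsplit := sum_split_subgroup N (fun g => Nat.card (MulAction.fixedBy (G ⧸ H) g))
    have hcardsplit := card_filter_not_mem_subgroup N
    rw [hBG, hBN] at hsplit
    have hsum : ∑ g ∈ Finset.univ.filter (fun g : G => ¬ g ∈ N),
        Nat.card (MulAction.fixedBy (G ⧸ H) g) =
        (Finset.univ.filter (fun g : G => ¬ g ∈ N)).card := by omega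
    have hcfix : 1 ≤ Nat.card (MulAction.fixedBy (G ⧸ H) c) := by
      by_contra hlt
      have hlt' : Nat.card (MulAction.fixedBy (G ⧸ H) c) < 1 := by omega
      have hcmem : c ∈ Finset.univ.filter (fun g : G => ¬ g ∈ N) := by
        rw [Finset.mem_filter]; exact ⟨Finset.mem_univ _, hcN⟩
      have := Finset.sum_lt_sum (s := Finset.univ.filter (fun g : G => ¬ g ∈ N))
        (f := fun g => Nat.card (MulAction.fixedBy (G ⧸ H) g)) (g := fun _ => 1)
        (fun g hg => hfixle g (Finset.mem_filter.mp hg).2) ⟨c, hcmem, hlt'⟩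
      rw [hsum] at this
      simp at this
    -- c fixes a coset
    have hne : Nonempty (MulAction.fixedBy (G ⧸ H) c) := by
      rw [← Finite.card_pos_iff]; omega
    obtain ⟨ω, hω⟩ := hne
    induction ω using QuotientGroup.induction_on with
    | H a =>
    rw [MulAction.mem_fixedBy, MulAction.Quotient.smul_mk, QuotientGroup.eq, smul_eq_mul] at hω
    have ha : a⁻¹ * c * a ∈ H := by
      have := H.inv_mem hω
      have e : ((c * a)⁻¹ * a)⁻¹ = a⁻¹ * c * a := by group
      rwa [e] at this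
    set x' := a⁻¹ * x * a with hx'
    have hx'M : x' ∈ M := by
      have := hMn.conj_mem x hxM a⁻¹
      rwa [inv_inv] at this
    have hx'1 : x' ≠ 1 := by
      intro h
      apply hx1
      have e : x = a * x' * a⁻¹ := by rw [hx']; group
      rw [e, h]; group
    have hx'H : x' ∉ H := fun h => hx'1 (hdisj _ h hx'M)
    have hcx : c * x = x * c := Subgroup.mem_centralizer_singleton_iff.mp hc
    have hmem : a⁻¹ * c * a ∈ H ⊓ H.map (MulAut.conj x').toMonoidHom := by
      refine Subgroup.mem_inf.mpr ⟨ha, ?_⟩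
      rw [hconj]
      have e : x'⁻¹ * (a⁻¹ * c * a) * x' = a⁻¹ * (x⁻¹ * (c * x)) * a := by rw [hx']; group
      rw [e, hcx]
      have e2 : a⁻¹ * (x⁻¹ * (x * c)) * a = a⁻¹ * c * a := by group
      rw [e2]; exact ha
    have hN' := hB x' hx'H hmem
    apply hcN
    have e : c = a * (a⁻¹ * c * a) * a⁻¹ := by group
    rw [e]
    exact hNn.conj_mem _ hN' a

end Cfsg.Agent.S4113
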