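import Mathlib
import Cfsg.Statements.S4115
import Cfsg.Agent.Lib.Helper7.WielTI4
import Cfsg.Agent.Lib.Helper7.WielTI6

set_option autoImplicit false
universe u
open Cfsg

namespace Cfsg.Agent.S4115

open Cfsg.Agent.Lib.Lead Cfsg.Agent.Lib.Helper7.WielTI
open scoped Pointwise

/-- a normal complement in `G` restricts to a normal complement in any subgroup containing `H` -/
theorem restrict_complement {G : Type u} [Group G] (H M N : Subgroup G) (hHM : H ≤ M)
    [N.Normal] (hc : N.IsComplement' H) :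
    (N.subgroupOf M).Normal ∧ (N.subgroupOf M).IsComplement' (H.subgroupOf M) := by
  refine ⟨inferInstance, ?_⟩
  apply Subgroup.isComplement'_of_disjoint_and_mul_eq_univ
  · rw [Subgroup.disjoint_def]
    intro x hxN hxH
    rw [Subgroup.mem_subgroupOf] at hxN hxH
    have h1 : (x : G) ∈ N ⊓ H := ⟨hxN, hxH⟩
    rw [hc.disjoint.eq_bot, Subgroup.mem_bot] at h1
    exact Subtype.ext h1
  · rw [Set.eq_univ_iff_forall]
    intro x
    have h1 : (x : G) ∈ ((N ⊔ H : Subgroup G) : Set G) := by
      rw [hc.sup_eq_top]; exact Set.mem_univ _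
    rw [Subgroup.normal_mul] at h1
    obtain ⟨n, hn, h, hh, e⟩ := h1
    have hnM : n ∈ M := by
      have : n = (x : G) * h⁻¹ := by rw [← e, mul_inv_cancel_right]
      rw [this]
      exact M.mul_mem x.2 (M.inv_mem (hHM hh))
    refine ⟨⟨n, hnM⟩, Subgroup.mem_subgroupOf.mpr hn, ⟨h, hHM hh⟩, Subgroup.mem_subgroupOf.mpr hh, ?_⟩
    exact Subtype.ext e

theorem result {G : Type u} [Group G] [Finite G] (H : Subgroup G)
    (hTI : Cfsg.IsTISubset (H : Set G)) (hHall : (Nat.card H).Coprime (H.subgroupOf (Subgroup.normalizer (H : Set G))).index) :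
    ((∃ K : Subgroup (Subgroup.normalizer (H : Set G)), K.Normal ∧ K.IsComplement' (H.subgroupOf (Subgroup.normalizer (H : Set G)))) ↔
      (∃ N : Subgroup G, N.Normal ∧ N.IsComplement' H)) ∧
    (¬ H.Normal → (∃ K : Subgroup (Subgroup.normalizer (H : Set G)), K.Normal ∧ K.IsComplement' (H.subgroupOf (Subgroup.normalizer (H : Set G)))) →
      ∃ (F : Type u) (_ : Group F) (_ : Finite F) (C : Subgroup F), Cfsg.IsFrobeniusComplement C ∧ Nonempty (H ≃* C)) := by
  classical
  set M := Subgroup.normalizer (H : Set G) with hM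
  have hHM : H ≤ M := Subgroup.le_normalizer
  have hfwd : (∃ K : Subgroup M, K.Normal ∧ K.IsComplement' (H.subgroupOf M)) →
      (∃ N : Subgroup G, N.Normal ∧ N.IsComplement' H) := by
    rintro ⟨K, hKn, hKc⟩
    have S : Setup M H (K.map M.subtype) := by
      refine ⟨hHM, Subgroup.map_subtype_le _, ?_, le_refl _, ?_, ?_, ?_, ?_⟩
      · have h1 := Subgroup.le_normalizer_map (H := K) M.subtype
        rw [Subgroup.normalizer_eq_top, ← MonoidHom.range_eq_map, Subgroup.range_subtype] at h1
        exact h1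
      · rw [eq_bot_iff]
        intro x hx
        obtain ⟨hxK, hxH⟩ := Subgroup.mem_inf.mp hx
        obtain ⟨k, hk, rfl⟩ := Subgroup.mem_map.mp hxK
        have h1 : k ∈ K ⊓ H.subgroupOf M := ⟨hk, Subgroup.mem_subgroupOf.mpr hxH⟩
        rw [hKc.disjoint.eq_bot, Subgroup.mem_bot] at h1
        rw [h1, map_one]
        exact Subgroup.one_mem _
      · have h1 : (K ⊔ H.subgroupOf M).map M.subtype = K.map M.subtype ⊔ H := by
          rw [Subgroup.map_sup, Subgroup.subgroupOf_map_subtype, inf_of_le_left hHM]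
        rw [← h1, hKc.sup_eq_top, ← MonoidHom.range_eq_map, Subgroup.range_subtype]
      · rw [card_map_subtype, ← hKc.index_eq_card]
        exact hHall.symm
      · exact fun g hg x hx hgx => hTI g hg x hx hgx
    exact S.exists_complement
  refine ⟨⟨hfwd, ?_⟩, ?_⟩
  · rintro ⟨N, hNn, hNc⟩
    haveI := hNn
    obtain ⟨h1, h2⟩ := restrict_complement H M N hHM hNc
    exact ⟨N.subgroupOf M, h1, h2⟩
  · intro hnn hK
    obtain ⟨N, hNn, hNc⟩ := hfwd hK
    haveI := hNn
    obtain ⟨h1, h2⟩ := restrict_complement H M N hHM hNc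
    have hNH : N ⊓ H = ⊥ := hNc.disjoint.eq_bot
    have S : FSetup N H (N ⊓ M) := by
      refine ⟨hNH, inf_le_left, ?_, ?_, ?_, ?_, ?_⟩
      · intro k hk h hh
        obtain ⟨hkN, hkM⟩ := Subgroup.mem_inf.mp hk
        have h3 : k * h * k⁻¹ * h⁻¹ ∈ H :=
          H.mul_mem ((Subgroup.mem_normalizer_iff.mp hkM h).mp hh) (H.inv_mem hh)
        have h4 : k * h * k⁻¹ * h⁻¹ ∈ N := by
          have : h * k⁻¹ * h⁻¹ ∈ N := hNn.conj_mem _ (N.inv_mem hkN) h
          have e : k * h * k⁻¹ * h⁻¹ = k * (h * k⁻¹ * h⁻¹) := by group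
          rw [e]; exact N.mul_mem hkN this
        have h5 : k * h * k⁻¹ * h⁻¹ ∈ N ⊓ H := ⟨h4, h3⟩
        rw [hNH, Subgroup.mem_bot] at h5
        have : k * h = (k * h * k⁻¹ * h⁻¹) * (h * k) := by group
        rw [this, h5, one_mul]
      · intro y hy hy1 n hn hny
        refine ⟨hn, ?_⟩
        by_contra hnM
        apply hy1
        apply hTI n hnM y hy
        rw [hny, mul_inv_cancel_right]
        exact hy
      · have e1 : Nat.card (N ⊓ M : Subgroup G) = Nat.card (N.subgroupOf M) := by
          rw [← Subgroup.inf_subgroupOf_right, card_subgroupOf_of_le inf_le_right]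
        rw [e1, ← h2.index_eq_card]
        exact hHall.symm
      · intro hle
        apply hnn
        rw [← Subgroup.normalizer_eq_top_iff, eq_top_iff, ← hNc.sup_eq_top]
        exact sup_le (hle.trans inf_le_right) hHM
      · intro hbot
        apply hnn
        rw [hbot]
        infer_instance
    exact S.exists_frobenius

end Cfsg.Agent.S4115
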