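import Mathlib
import Cfsg.Statements.S4117
import Cfsg.Agent.Lib.Lead.CoprimeTools
import Cfsg.Agent.Lib.Lead.CoprimeAction
import Cfsg.Agent.Lib.Helper4.CyclicUnique

set_option autoImplicit false
open Cfsg

namespace Cfsg.Agent.S4117

open Cfsg.Agent.Lib.Lead Cfsg.Agent.Lib.Helper4

section abstract
variable {A M : Type*} [Group A] [Fintype A] [Group M] [Finite M] [MulDistribMulAction A M]

/-- vanishing of the first cohomology for coprime action on an abelian group -/
theorem h1_vanish (hM : ∀ x y : M, x * y = y * x) (hcop : (Nat.card A).Coprime (Nat.card M))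
    (κ : A → M) (hκ : ∀ a b, κ (a * b) = κ a * a • κ b) :
    ∃ k : M, ∀ a, κ a = k * (a • k)⁻¹ := by
  classical
  letI : CommGroup M := { (inferInstance : Group M) with mul_comm := hM }
  set m := Nat.card A with hm
  have hcop' : (Nat.card M).Coprime m := hcop.symm
  set t : M := ∏ b, κ b with ht
  have h1 : ∀ a, a • t = (κ a)⁻¹ ^ m * t := by
    intro a
    rw [ht, Finset.smul_prod']
    have h2 : ∀ b, a • κ b = (κ a)⁻¹ * κ (a * b) := by
      intro b; rw [hκ a b, inv_mul_cancel_left]
    simp only [h2]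
    rw [Finset.prod_mul_distrib, Finset.prod_const, Finset.card_univ, ← Nat.card_eq_fintype_card]
    congr 1
    exact Fintype.prod_equiv (Equiv.mulLeft a) _ _ (fun b => rfl)
  set k := (powCoprime hcop').symm t with hk
  have hkm : k ^ m = t := (powCoprime hcop').apply_symm_apply t
  refine ⟨k, fun a => ?_⟩
  apply (powCoprime hcop').injective
  show (κ a) ^ m = (k * (a • k)⁻¹) ^ m
  rw [mul_pow, inv_pow, ← smul_pow', hkm, h1 a, inv_pow, mul_inv_rev, inv_inv, mul_inv_cancel_left]

/-- a fixed point in `[M, A]` is trivial -/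
theorem fixed_eq_one (hM : ∀ x y : M, x * y = y * x) (hcop : (Nat.card A).Coprime (Nat.card M))
    (x : M) (hx : x ∈ Subgroup.closure {y : M | ∃ (a : A) (k : M), y = k * (a • k)⁻¹})
    (hfix : ∀ a : A, a • x = x) : x = 1 := by
  classical
  letI : CommGroup M := { (inferInstance : Group M) with mul_comm := hM }
  let ν : M →* M :=
    { toFun := fun k => ∏ b : A, b • k
      map_one' := by simp
      map_mul' := by intro x y; simp [smul_mul', Finset.prod_mul_distrib] }
  have hνdef : ∀ k, ν k = ∏ b : A, b • k := fun k => rfl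
  have hle : Subgroup.closure {y : M | ∃ (a : A) (k : M), y = k * (a • k)⁻¹} ≤ ν.ker := by
    rw [Subgroup.closure_le]
    rintro _ ⟨a, k, rfl⟩
    rw [SetLike.mem_coe, MonoidHom.mem_ker, map_mul, map_inv]
    have : ν (a • k) = ν k := by
      rw [hνdef, hνdef]
      simp only [smul_smul]
      exact Fintype.prod_equiv (Equiv.mulRight a) _ _ (fun b => rfl)
    rw [this, mul_inv_cancel]
  have h1 : x ^ Nat.card A = 1 := by
    have := hle hx
    rw [MonoidHom.mem_ker, hνdef] at this
    simp only [hfix, Finset.prod_const, Finset.card_univ] at this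
    rw [Nat.card_eq_fintype_card]
    exact this
  have h2 : x ^ Nat.card M = 1 := pow_card_eq_one'
  have h3 : orderOf x ∣ Nat.gcd (Nat.card A) (Nat.card M) :=
    Nat.dvd_gcd (orderOf_dvd_of_pow_eq_one h1) (orderOf_dvd_of_pow_eq_one h2)
  rw [Nat.Coprime.gcd_eq_one hcop, Nat.dvd_one] at h3
  exact orderOf_eq_one_iff.mp h3

end abstract

section
variable {G A : Type*} [Group G] [Group A] [MulDistribMulAction A G]

/-- the induced action on an invariant subgroup -/
def subAction (K : Subgroup G) (hK : ∀ (a : A) (x : G), x ∈ K → a • x ∈ K) :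
    MulDistribMulAction A K where
  smul a k := ⟨a • (k : G), hK a k k.2⟩
  one_smul k := Subtype.ext (one_smul A (k : G))
  mul_smul a b k := Subtype.ext (mul_smul a b (k : G))
  smul_mul a k l := Subtype.ext (smul_mul' a (k : G) (l : G))
  smul_one a := Subtype.ext (smul_one a)

omit [Group A] [MulDistribMulAction A G] in
/-- endomorphisms preserving a cyclic subgroup commute on it -/
theorem comm_on_cyclic (D : Subgroup G) [IsCyclic D] (σ τ : G →* G)
    (hσ : ∀ d ∈ D, σ d ∈ D) (hτ : ∀ d ∈ D, τ d ∈ D) : ∀ d ∈ D, σ (τ d) = τ (σ d) := by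
  obtain ⟨⟨d₀, hd₀⟩, hgen⟩ := IsCyclic.exists_generator (α := D)
  have hpow : ∀ d ∈ D, ∃ n : ℤ, d = d₀ ^ n := by
    intro d hd
    obtain ⟨n, hn⟩ := Subgroup.mem_zpowers_iff.mp (hgen ⟨d, hd⟩)
    refine ⟨n, ?_⟩
    have := congrArg Subtype.val hn
    simpa using this.symm
  obtain ⟨i, hi⟩ := hpow _ (hσ d₀ hd₀)
  obtain ⟨j, hj⟩ := hpow _ (hτ d₀ hd₀)
  intro d hd
  obtain ⟨n, rfl⟩ := hpow d hd
  simp only [map_zpow, hi, hj, ← zpow_mul]
  congr 1
  ring

/-- the generating set of `[G, A]` -/
def gens (G A : Type*) [Group G] [Group A] [MulDistribMulAction A G] : Set G :=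
  {y : G | ∃ (a : A) (g : G), y = g⁻¹ * a • g}

theorem K_invariant (a : A) (x : G) (hx : x ∈ Subgroup.closure (gens G A)) :
    a • x ∈ Subgroup.closure (gens G A) := by
  have hmap : (Subgroup.closure (gens G A)).map (MulDistribMulAction.toMonoidHom G a) ≤
      Subgroup.closure (gens G A) := by
    rw [MonoidHom.map_closure, Subgroup.closure_le]
    rintro _ ⟨_, ⟨b, g, rfl⟩, rfl⟩
    apply Subgroup.subset_closure
    refine ⟨a * b * a⁻¹, a • g, ?_⟩
    show a • (g⁻¹ * b • g) = (a • g)⁻¹ * (a * b * a⁻¹) • a • g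
    rw [smul_mul', smul_inv', smul_smul, smul_smul, inv_mul_cancel_right]
  exact hmap ⟨x, hx, rfl⟩

theorem K_normal : (Subgroup.closure (gens G A)).Normal := by
  have hmap : ∀ g : G, (Subgroup.closure (gens G A)).map (MulAut.conj g).toMonoidHom ≤
      Subgroup.closure (gens G A) := by
    intro g
    rw [MonoidHom.map_closure, Subgroup.closure_le]
    rintro _ ⟨_, ⟨a, x, rfl⟩, rfl⟩
    show g * (x⁻¹ * a • x) * g⁻¹ ∈ Subgroup.closure (gens G A)
    have h1 : (x * g⁻¹)⁻¹ * a • (x * g⁻¹) ∈ Subgroup.closure (gens G A) :=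
      Subgroup.subset_closure ⟨a, x * g⁻¹, rfl⟩
    have h2 : (g⁻¹)⁻¹ * a • g⁻¹ ∈ Subgroup.closure (gens G A) :=
      Subgroup.subset_closure ⟨a, g⁻¹, rfl⟩
    have : g * (x⁻¹ * a • x) * g⁻¹ =
        ((x * g⁻¹)⁻¹ * a • (x * g⁻¹)) * ((g⁻¹)⁻¹ * a • g⁻¹)⁻¹ := by
      rw [smul_mul']
      group
    rw [this]
    exact mul_mem h1 (inv_mem h2)
  exact ⟨fun n hn g => hmap g ⟨n, hn, rfl⟩⟩

end

section main
variable {G A : Type*} [Group G] [Finite G] [Group A] [Finite A] [MulDistribMulAction A G]

/-- the self-centralizing cyclic characteristic subgroup of a Z-group -/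
theorem D_facts [IsZGroup G] :
    IsCyclic (Subgroup.centralizer (commutator G : Set G)) ∧
    Subgroup.centralizer ((Subgroup.centralizer (commutator G : Set G) : Subgroup G) : Set G) ≤
      Subgroup.centralizer (commutator G : Set G) := by
  set D := Subgroup.centralizer (commutator G : Set G) with hD
  haveI hcyc' : IsCyclic (commutator G) := IsZGroup.isCyclic_commutator G
  have hG'D : commutator G ≤ D := by
    intro x hx
    rw [hD, Subgroup.mem_centralizer_iff]
    intro h hh
    letI := IsCyclic.commGroup (α := commutator G)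
    exact congrArg Subtype.val (mul_comm (⟨h, hh⟩ : commutator G) ⟨x, hx⟩)
  refine ⟨?_, ?_⟩
  · haveI : Group.IsNilpotent D := by
      apply Subgroup.isNilpotent_of_ker_le_center (Abelianization.of (G := D))
      · rw [Abelianization.ker_of, commutator_def, Subgroup.commutator_le]
        intro d₁ _ d₂ _
        rw [Subgroup.mem_center_iff, commutatorElement_def]
        intro e
        apply Subtype.ext
        have hmem : (d₁ : G) * (d₂ : G) * (d₁ : G)⁻¹ * (d₂ : G)⁻¹ ∈ commutator G := by
          rw [commutator_def, ← commutatorElement_def]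
          exact Subgroup.commutator_mem_commutator (Subgroup.mem_top _) (Subgroup.mem_top _)
        have := Subgroup.mem_centralizer_iff.mp e.2 _ hmem
        simpa using this.symm
    infer_instance
  · exact Subgroup.centralizer_le hG'D

/-- `[G, A]` centralizes `D` -/
theorem K_le_D [IsZGroup G] :
    Subgroup.closure (gens G A) ≤ Subgroup.centralizer (commutator G : Set G) := by
  set D := Subgroup.centralizer (commutator G : Set G) with hD
  obtain ⟨hDcyc, hCD⟩ := D_facts (G := G)
  haveI := hDcyc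
  haveI hDchar : D.Characteristic := by rw [hD]; infer_instance
  have hDinv : ∀ (σ : G ≃* G), ∀ d ∈ D, σ d ∈ D := by
    intro σ d hd
    have h1 := hDchar.fixed σ
    have h2 : d ∈ D.comap σ.toMonoidHom := by rw [h1]; exact hd
    exact h2
  refine le_trans ?_ hCD
  rw [Subgroup.closure_le]
  rintro _ ⟨a, g, rfl⟩
  rw [SetLike.mem_coe, Subgroup.mem_centralizer_iff]
  intro d hd
  -- commuting automorphisms
  have hcomm := comm_on_cyclic D (MulDistribMulAction.toMonoidHom G a) (MulAut.conj g).toMonoidHom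
    (fun d hd => hDinv (MulDistribMulAction.toMulEquiv G a) d hd)
    (fun d hd => hDinv (MulAut.conj g) d hd)
  have hd' : a⁻¹ • d ∈ D := hDinv (MulDistribMulAction.toMulEquiv G a⁻¹) d hd
  have h1 := hcomm _ hd'
  have h2 : a • (g * a⁻¹ • d * g⁻¹) = g * (a • a⁻¹ • d) * g⁻¹ := h1
  rw [smul_mul', smul_mul', smul_inv', smul_inv_smul] at h2
  -- h2 : a • g * d * (a • g)⁻¹ = g * d * g⁻¹
  have h3 : a • g * d = g * d * g⁻¹ * a • g := by
    rw [← h2]; group
  calc d * (g⁻¹ * a • g) = g⁻¹ * (g * d * g⁻¹ * a • g) := by group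
    _ = g⁻¹ * (a • g * d) := by rw [h3]
    _ = g⁻¹ * a • g * d := by group

/-- the statement in terms of subgroups -/
theorem main_aux (hcop : (Nat.card A).Coprime (Nat.card G))
    (hcyc : ∀ (p : ℕ) [Fact p.Prime] (P : Sylow p G), IsCyclic (P : Subgroup G)) :
    IsCyclic (Subgroup.closure (gens G A)) ∧
    (Subgroup.closure (gens G A)) ⊓ FixedPoints.subgroup A G = ⊥ ∧
    (Subgroup.closure (gens G A)) ⊔ FixedPoints.subgroup A G = ⊤ ∧
    (Nat.card (Subgroup.closure (gens G A))).Coprime (Nat.card (FixedPoints.subgroup A G)) := by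
  classical
  haveI : Fintype A := Fintype.ofFinite A
  haveI hZ : IsZGroup G := ⟨fun p hp P => by haveI := Fact.mk hp; exact hcyc p P⟩
  set K := Subgroup.closure (gens G A) with hK
  set C := FixedPoints.subgroup A G with hC
  haveI hKn : K.Normal := K_normal
  obtain ⟨hDcyc, -⟩ := D_facts (G := G)
  haveI := hDcyc
  have hKD : K ≤ Subgroup.centralizer (commutator G : Set G) := K_le_D
  haveI hKcyc : IsCyclic K :=
    isCyclic_of_surjective (Subgroup.subgroupOfEquivOfLe hKD) (Subgroup.subgroupOfEquivOfLe hKD).surjective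
  have hKcomm : ∀ x y : K, x * y = y * x := by
    intro x y
    letI := IsCyclic.commGroup (α := K)
    exact mul_comm x y
  letI act : MulDistribMulAction A K := subAction K (fun a x hx => K_invariant a x hx)
  have hact : ∀ (a : A) (k : K), ((a • k : K) : G) = a • (k : G) := fun a k => rfl
  have hcopK : (Nat.card A).Coprime (Nat.card K) :=
    Nat.Coprime.coprime_dvd_right (Subgroup.card_subgroup_dvd_card K) hcop
  -- fixed points in cosets
  have hcoset : ∀ g : G, ∃ k : K, g * (k : G) ∈ C := by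
    intro g
    obtain ⟨k, hk⟩ := h1_vanish hKcomm hcopK
      (fun a => (⟨g⁻¹ * a • g, Subgroup.subset_closure ⟨a, g, rfl⟩⟩ : K)) (by
        intro a b
        apply Subtype.ext
        show g⁻¹ * (a * b) • g = g⁻¹ * a • g * a • (g⁻¹ * b • g)
        rw [smul_mul', smul_inv', mul_smul]
        group)
    refine ⟨k, ?_⟩
    rw [hC, FixedPoints.mem_subgroup]
    intro a
    have h1 : g⁻¹ * a • g = (k : G) * (a • (k : G))⁻¹ := congrArg Subtype.val (hk a)
    have h2 : a • g = g * (k : G) * (a • (k : G))⁻¹ := by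
      rw [mul_assoc, ← h1]; group
    rw [smul_mul', h2, inv_mul_cancel_right]
  have hsup : K ⊔ C = ⊤ := by
    rw [eq_top_iff]
    intro g _
    obtain ⟨k, hk⟩ := hcoset g
    have : g = (g * (k : G)) * (k : G)⁻¹ := by group
    rw [this]
    exact mul_mem (Subgroup.mem_sup_right hk) (Subgroup.mem_sup_left (inv_mem k.2))
  -- the intersection
  have hinf : K ⊓ C = ⊥ := by
    rw [eq_bot_iff]
    rintro x ⟨hxK, hxC⟩
    rw [Subgroup.mem_bot]
    set S' : Set K := {y : K | ∃ (a : A) (k : K), y = k * (a • k)⁻¹} with hS'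
    have hKle : K ≤ (Subgroup.closure S').map K.subtype := by
      show Subgroup.closure (gens G A) ≤ _
      rw [Subgroup.closure_le]
      rintro _ ⟨a, g, rfl⟩
      obtain ⟨k, hk⟩ := hcoset g
      rw [hC, FixedPoints.mem_subgroup] at hk
      refine ⟨k * (a • k)⁻¹, Subgroup.subset_closure ⟨a, k, rfl⟩, ?_⟩
      have h1 := hk a
      rw [smul_mul'] at h1
      -- h1 : a • g * a • ↑k = g * ↑k
      have h2 : a • g = g * (k : G) * (a • (k : G))⁻¹ := by
        rw [← h1]; group
      show ((k * (a • k)⁻¹ : K) : G) = g⁻¹ * a • g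
      rw [h2]
      simp only [Subgroup.coe_mul, Subgroup.coe_inv, hact, smul_inv']
      group
    obtain ⟨x', hx', hxx'⟩ := hKle hxK
    have hfix : ∀ a : A, a • x' = x' := by
      intro a
      apply Subtype.ext
      rw [hact]
      have : (x' : G) = x := hxx'
      rw [this]
      exact hxC a
    have := fixed_eq_one hKcomm hcopK x' hx' hfix
    rw [← hxx', this]
    rfl
  refine ⟨hKcyc, hinf, hsup, ?_⟩
  -- coprimality
  apply Nat.coprime_of_dvd
  intro p hp hpK hpC
  haveI : Fact p.Prime := ⟨hp⟩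
  obtain ⟨k₀, hk₀⟩ := exists_prime_orderOf_dvd_card' (G := K) p hpK
  obtain ⟨c₀, hc₀⟩ := exists_prime_orderOf_dvd_card' (G := C) p hpC
  have hk₀' : orderOf (k₀ : G) = p := by rw [Subgroup.orderOf_coe]; exact hk₀
  have hc₀' : orderOf (c₀ : G) = p := by rw [Subgroup.orderOf_coe]; exact hc₀
  have hpg : ∀ x : G, orderOf x = p → IsPGroup p (Subgroup.zpowers x) := by
    intro x hx
    apply IsPGroup.of_card (n := 1)
    rw [Nat.card_zpowers, hx, pow_one]
  obtain ⟨P, hP⟩ := (hpg _ hc₀').exists_le_sylow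
  obtain ⟨P', hP'⟩ := (hpg _ hk₀').exists_le_sylow
  obtain ⟨g, hg⟩ := MulAction.exists_smul_eq G P P'
  have hk₁P : g⁻¹ * (k₀ : G) * g ∈ (P : Subgroup G) := by
    have h1 : (k₀ : G) ∈ (P' : Subgroup G) := hP' (Subgroup.mem_zpowers _)
    rw [← hg, Sylow.coe_subgroup_smul] at h1
    exact (mem_conj_smul_iff' g _ _).mp h1
  have hk₁K : g⁻¹ * (k₀ : G) * g ∈ K := by
    have := hKn.conj_mem _ k₀.2 g⁻¹
    simpa using this
  have hk₁ord : orderOf (g⁻¹ * (k₀ : G) * g) = p := by
    have : g⁻¹ * (k₀ : G) * g = MulAut.conj g⁻¹ (k₀ : G) := by simp [MulAut.conj_apply]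
    rw [this, MulEquiv.orderOf_eq, hk₀']
  have hc₀P : (c₀ : G) ∈ (P : Subgroup G) := hP (Subgroup.mem_zpowers _)
  haveI : IsCyclic (P : Subgroup G) := hcyc p P
  have heq := cyclic_subgroup_eq_of_card_eq
    (Subgroup.zpowers (⟨g⁻¹ * (k₀ : G) * g, hk₁P⟩ : (P : Subgroup G)))
    (Subgroup.zpowers (⟨(c₀ : G), hc₀P⟩ : (P : Subgroup G)))
    (by
      rw [Nat.card_zpowers, Nat.card_zpowers, ← Subgroup.orderOf_coe, ← Subgroup.orderOf_coe]
      exact hk₁ord.trans hc₀'.symm)
  have hmem : (⟨(c₀ : G), hc₀P⟩ : (P : Subgroup G)) ∈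
      Subgroup.zpowers (⟨g⁻¹ * (k₀ : G) * g, hk₁P⟩ : (P : Subgroup G)) := by
    rw [heq]; exact Subgroup.mem_zpowers _
  obtain ⟨n, hn⟩ := Subgroup.mem_zpowers_iff.mp hmem
  have hn' : (g⁻¹ * (k₀ : G) * g) ^ n = (c₀ : G) := by
    have := congrArg Subtype.val hn
    simpa using this
  have hcK : (c₀ : G) ∈ K := by rw [← hn']; exact zpow_mem hk₁K n
  have : (c₀ : G) ∈ K ⊓ C := ⟨hcK, c₀.2⟩
  rw [hinf, Subgroup.mem_bot] at this
  rw [this, orderOf_one] at hc₀'
  exact hp.one_lt.ne hc₀'

end main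

/-- Let A be a finite group acting on the finite group G by automorphisms with the orders of A and G coprime, and suppose every Sylow subgroup of G is cyclic. Then the fixed-point subgroup C_G(A) is a Hall subgroup of G (its order is coprime to its index), the subgroup [G, A] generated by the elements g⁻¹·a(g) is cyclic and normal with [G, A] ∩ C_G(A) = 1 and [G, A]·C_G(A) = G. -/
theorem result {G A : Type*} [Group G] [Finite G] [Group A] [Finite A]
    [MulDistribMulAction A G] (hcop : (Nat.card A).Coprime (Nat.card G))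
    (hcyc : ∀ (p : ℕ) [Fact p.Prime] (P : Sylow p G), IsCyclic (P : Subgroup G)) :
    (Nat.card (MulAction.fixedPoints A G : Set G)).Coprime (Nat.card G / Nat.card (MulAction.fixedPoints A G : Set G)) ∧
    IsCyclic (Subgroup.closure {y : G | ∃ (a : A) (g : G), y = g⁻¹ * a • g}) ∧
    (Subgroup.closure {y : G | ∃ (a : A) (g : G), y = g⁻¹ * a • g}).Normal ∧
    (Subgroup.closure {y : G | ∃ (a : A) (g : G), y = g⁻¹ * a • g} : Set G) ∩ MulAction.fixedPoints A G = {1} ∧
    Subgroup.closure {y : G | ∃ (a : A) (g : G), y = g⁻¹ * a • g} ⊔ Subgroup.closure (MulAction.fixedPoints A G) = ⊤ := by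
  obtain ⟨h1, h2, h3, h4⟩ := main_aux hcop hcyc
  have hKn : (Subgroup.closure (gens G A)).Normal := K_normal
  set K := Subgroup.closure (gens G A) with hK
  set C := FixedPoints.subgroup A G with hC
  have hcard : Nat.card G = Nat.card C * Nat.card K := by
    have := card_sup_of_disjoint C K (by rw [Subgroup.normalizer_eq_top]; exact le_top)
      (by rw [inf_comm]; exact h2)
    rw [sup_comm, h3, Subgroup.card_top] at this
    exact this
  refine ⟨?_, h1, hKn, ?_, ?_⟩
  · show (Nat.card C).Coprime (Nat.card G / Nat.card C)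
    rw [hcard, Nat.mul_div_cancel_left _ Nat.card_pos]
    exact h4.symm
  · show (K : Set G) ∩ (C : Set G) = {1}
    rw [← Subgroup.coe_inf, h2]
    rfl
  · show K ⊔ Subgroup.closure (C : Set G) = ⊤
    rw [Subgroup.closure_eq, h3]

end Cfsg.Agent.S4117
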