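import Cfsg.Statements.S4127
import Mathlib
import Cfsg.Agent.Lib.Helper7.ClassSize2
import Cfsg.Agent.Lib.Lead.ThompsonPQ
import Cfsg.Agent.Lib.Lead.FrobNPC5
import Cfsg.Agent.Lib.Helper4.NPC

set_option autoImplicit false
open Cfsg

namespace Cfsg.Agent.S4127

open Cfsg.Agent.Lib.Helper7.ClassSize

/-- If p^a is the largest p-part of a class size and some p-element has class size exactly p^a, then G has a normal p-complement. -/
theorem result {G : Type*} [Group G] [Finite G] (p : ℕ) [Fact p.Prime]
    (a : ℕ) (hmax : ∀ y : G, ¬ p ^ (a + 1) ∣ (Subgroup.centralizer ({y} : Set G)).index)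
    (hx : ∃ x : G, (∃ k : ℕ, orderOf x = p ^ k) ∧ (Subgroup.centralizer ({x} : Set G)).index = p ^ a) :
    Cfsg.HasNormalPComplement p G := by
  have hp : p.Prime := Fact.out
  obtain ⟨x, ⟨kx, hkx⟩, hidx⟩ := hx
  set C := Subgroup.centralizer ({x} : Set G) with hC
  have hmemC : ∀ g : G, g ∈ C ↔ g * x = x * g := fun g => Subgroup.mem_centralizer_singleton_iff
  -- the hypothesis of the decomposition lemma holds in `C`
  have hH : ∀ y : C, (orderOf y).Coprime p → ((Subgroup.centralizer {y}).index).Coprime p := by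
    intro y hy
    have hy' : (orderOf (y : G)).Coprime p := by rwa [Subgroup.orderOf_coe]
    have hcomm : Commute x (y : G) := ((hmemC _).mp y.2).symm
    have hcop : (orderOf x).Coprime (orderOf (y : G)) := by
      rw [hkx]
      exact Nat.Coprime.pow_left _ hy'.symm
    have h1 := centralizer_mul_of_coprime hcomm hcop
    have h2 : Subgroup.centralizer {y} = (Subgroup.centralizer {(y : G)}).subgroupOf C := by
      ext g
      rw [Subgroup.mem_centralizer_singleton_iff, Subgroup.mem_subgroupOf,
        Subgroup.mem_centralizer_singleton_iff]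
      constructor
      · intro h
        exact congrArg Subtype.val h
      · intro h
        exact Subtype.ext h
    rw [h2]
    show ((Subgroup.centralizer {(y : G)}).relIndex C).Coprime p
    rw [Nat.coprime_comm, Nat.Prime.coprime_iff_not_dvd hp]
    intro hdvd
    apply hmax (x * y)
    rw [h1]
    have h3 : (C ⊓ Subgroup.centralizer {(y : G)}).relIndex C * C.index =
        (C ⊓ Subgroup.centralizer {(y : G)}).index := Subgroup.relIndex_mul_index inf_le_left
    rw [← h3, hidx, Subgroup.inf_relIndex_left, pow_succ, mul_comm]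
    exact Nat.mul_dvd_mul hdvd dvd_rfl
  obtain ⟨K₀, hK₀n, hK₀cop, ⟨j, hj⟩, hK₀c⟩ := exists_central_complement p hH
  set K : Subgroup G := K₀.map C.subtype with hK
  have hKC : K ≤ C := by
    rintro _ ⟨k, _, rfl⟩
    exact k.2
  have hKcard : Nat.card K = Nat.card K₀ :=
    Nat.card_congr (K₀.equivMapOfInjective _ C.subtype_injective).symm.toEquiv
  have hKcop : (Nat.card K).Coprime p := by rw [hKcard]; exact hK₀cop
  have hKidx : K.index = p ^ (j + a) := by
    rw [hK, Subgroup.index_map_subtype, hj, hidx, pow_add]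
  -- a Sylow subgroup containing `x`
  have hxp : IsPGroup p (Subgroup.zpowers x) := by
    apply IsPGroup.of_card (n := kx)
    rw [Nat.card_zpowers, hkx]
  obtain ⟨P, hP⟩ := hxp.exists_le_sylow
  have hxP : x ∈ (P : Subgroup G) := hP (Subgroup.mem_zpowers x)
  -- `P` and `K` are complements
  have hcardG : Nat.card K * p ^ (j + a) = Nat.card G := by
    rw [← hKidx]
    exact Subgroup.card_mul_index K
  have hPcard : Nat.card (P : Subgroup G) = p ^ (j + a) := by
    rw [P.card_eq_multiplicity]
    congr 1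
    apply le_antisymm
    · have h1 : p ^ (Nat.card G).factorization p ∣ Nat.card K * p ^ (j + a) := by
        rw [hcardG]
        exact Nat.ordProj_dvd _ _
      have h2 : p ^ (Nat.card G).factorization p ∣ p ^ (j + a) :=
        (Nat.Coprime.pow_left _ hKcop.symm).dvd_of_dvd_mul_left h1
      exact (Nat.pow_dvd_pow_iff_le_right hp.one_lt).mp h2
    · apply (Nat.Prime.pow_dvd_iff_le_factorization hp Nat.card_pos.ne').mp
      exact Dvd.intro_left _ hcardG
  have hcompl : (P : Subgroup G).IsComplement' K := by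
    apply Subgroup.isComplement'_of_coprime
    · rw [hPcard, mul_comm]
      exact hcardG
    · rw [hPcard]
      exact Nat.Coprime.pow_left _ hKcop.symm
  have hdecomp : ∀ g : G, ∃ u ∈ (P : Subgroup G), ∃ k ∈ K, g = u * k := by
    intro g
    obtain ⟨⟨u, k⟩, huk, _⟩ := Subgroup.IsComplement.existsUnique hcompl g
    exact ⟨u.1, u.2, k.1, k.2, huk.symm⟩
  -- the normal closure of `x` is a `p`-group
  set U : Subgroup G := Subgroup.normalClosure ({x} : Set G) with hU
  have hUP : U ≤ (P : Subgroup G) := by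
    rw [hU]
    unfold Subgroup.normalClosure
    rw [Subgroup.closure_le]
    intro w hw
    rw [Group.mem_conjugatesOfSet_iff] at hw
    obtain ⟨x', hx', hconj⟩ := hw
    rw [Set.mem_singleton_iff] at hx'
    rw [hx', isConj_iff] at hconj
    obtain ⟨g, rfl⟩ := hconj
    obtain ⟨u, hu, k, hk, rfl⟩ := hdecomp g
    have hkx' : k * x = x * k := (hmemC k).mp (hKC hk)
    have h1 : u * k * x * (u * k)⁻¹ = u * x * u⁻¹ := by
      calc u * k * x * (u * k)⁻¹ = u * (k * x) * k⁻¹ * u⁻¹ := by group
        _ = u * (x * k) * k⁻¹ * u⁻¹ := by rw [hkx']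
        _ = u * x * u⁻¹ := by group
    rw [h1]
    exact Subgroup.mul_mem _ (Subgroup.mul_mem _ hu hxP) (Subgroup.inv_mem _ hu)
  have hUp : IsPGroup p U := P.isPGroup'.to_le hUP
  have hxU : x ∈ U := Subgroup.subset_normalClosure (Set.mem_singleton x)
  haveI hUn : U.Normal := Subgroup.normalClosure_normal
  -- Thompson's lemma
  have hKU : K ≤ Subgroup.centralizer (U : Set G) := by
    apply Cfsg.Agent.Lib.Lead.thompson_PQ p (Subgroup.zpowers x) K U hxp hKcop hUp
    · rw [Subgroup.zpowers_le, Subgroup.mem_centralizer_iff]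
      intro k hk
      exact (hmemC k).mp (hKC hk)
    · rw [Subgroup.normalizer_eq_top_iff.mpr hUn]
      exact le_top
    · rw [Subgroup.normalizer_eq_top_iff.mpr hUn]
      exact le_top
    · intro w hw
      have hwU : w ∈ U := hw.1
      have hwx : w ∈ Subgroup.centralizer ((Subgroup.zpowers x : Subgroup G) : Set G) := hw.2
      have hwC : w ∈ C := by
        rw [hmemC]
        exact ((Subgroup.mem_centralizer_iff.mp hwx) x (Subgroup.mem_zpowers x)).symm
      rw [Subgroup.mem_centralizer_iff]
      rintro _ ⟨k, hk, rfl⟩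
      have hW : IsPGroup p ((U ⊓ C).subgroupOf C) := (hUp.to_le inf_le_left).comap_subtype
      have h1 := hK₀c _ hW ⟨w, hwC⟩ (Subgroup.mem_subgroupOf.mpr ⟨hwU, hwC⟩) k hk
      exact (congrArg Subtype.val h1).symm
  -- `K` is normal
  haveI hCUn : (Subgroup.centralizer (U : Set G)).Normal := Subgroup.normal_centralizer
  have hCUC : Subgroup.centralizer (U : Set G) ≤ C := by
    intro g hg
    rw [hmemC]
    exact ((Subgroup.mem_centralizer_iff.mp hg) x hxU).symm
  have hKn : K.Normal := by
    refine ⟨fun k hk g => ?_⟩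
    have h1 : g * k * g⁻¹ ∈ C := hCUC (hCUn.conj_mem k (hKU hk) g)
    have h2 : (orderOf (⟨g * k * g⁻¹, h1⟩ : C)).Coprime p := by
      rw [← Subgroup.orderOf_coe]
      have : orderOf (g * k * g⁻¹) = orderOf k := (MulAut.conj g).orderOf_eq k
      show (orderOf (g * k * g⁻¹)).Coprime p
      rw [this]
      have h3 : orderOf k ∣ Nat.card K := by
        have := orderOf_dvd_natCard (⟨k, hk⟩ : K)
        rwa [Subgroup.orderOf_mk] at this
      exact Nat.Coprime.coprime_dvd_left h3 hKcop
    haveI := hK₀n
    have h3 := Cfsg.Agent.Lib.Lead.mem_of_coprime_orderOf K₀ ⟨j, hj⟩ _ h2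
    exact ⟨⟨g * k * g⁻¹, h1⟩, h3, rfl⟩
  exact Cfsg.Agent.Lib.Helper4.hasNormalPComplement_of_normal_coprime K hKn hKcop (j + a) hKidx

end Cfsg.Agent.S4127
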