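import Mathlib
import Cfsg.Statements.S4134
import Cfsg.Agent.Lib.Helper7.Ito8

set_option autoImplicit false
open Cfsg

namespace Cfsg.Agent.S4134

open Cfsg.Agent.Lib.Helper7.CM Cfsg.Agent.Lib.Helper7.TwoCS Cfsg.Agent.Lib.Helper7.Ito

/-- Let G be a finite group whose conjugacy classes have exactly two sizes, 1 and n > 1. Then n is a power of a prime p and G is the direct product of a p-group and an abelian group of order prime to p: its Sylow p-subgroup P is normal with an abelian normal complement centralizing it; moreover P has an abelian normal subgroup A with P/A of exponent dividing p. -/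
theorem result {G : Type*} [Group G] [Finite G] (n : ℕ) (hn : 1 < n)
    (h : ∀ x : G, (Subgroup.centralizer ({x} : Set G)).index = 1 ∨ (Subgroup.centralizer ({x} : Set G)).index = n) (hex : ∃ x : G, (Subgroup.centralizer ({x} : Set G)).index = n) :
    ∃ (p : ℕ) (_ : Fact p.Prime) (a : ℕ), n = p ^ a ∧ ∀ P : Sylow p G, (P : Subgroup G).Normal ∧
      (∃ N : Subgroup G, N.Normal ∧ N.IsComplement' (P : Subgroup G) ∧ IsMulCommutative N ∧
        ∀ x ∈ N, ∀ y ∈ (P : Subgroup G), x * y = y * x) ∧
      ∃ A : Subgroup (P : Subgroup G), A.Normal ∧ IsMulCommutative A ∧ ∀ y : (P : Subgroup G), y ^ p ∈ A := by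
  have hEC : IsEC G n := by
    intro x hx
    rcases h x with h1 | h1
    · exact absurd (Subgroup.index_eq_one.mp h1) (Cen_ne_top hx)
    · exact h1
  have hex' : ∃ x : G, x ∉ Subgroup.center G := by
    obtain ⟨x, hx⟩ := hex
    refine ⟨x, fun h0 => ?_⟩
    have h1 : Subgroup.centralizer ({x} : Set G) = ⊤ := by
      rw [eq_top_iff]
      intro g _
      exact mem_Cen.mpr (Subgroup.mem_center_iff.mp h0 g)
    rw [h1, Subgroup.index_top] at hx
    omega
  exact ito_structure hn hEC hex'

end Cfsg.Agent.S4134
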