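import Cfsg.Statements.S4138
import Mathlib
import Cfsg.Agent.Lib.Helper7.CL11
-- import your own Cfsg.Agent.* helpers here

set_option autoImplicit false
open Cfsg

namespace Cfsg.Agent.S4138

/-- Let G be a finite group whose two largest conjugacy class sizes m > n > 1 are coprime, and let x, y ∈ G have classes of sizes n and m respectively. Then C_G(x) and C_G(y) are abelian, and G/Z(G) is a Frobenius group with kernel C_G(x)/Z(G) and complement C_G(y)/Z(G). -/
theorem result {G : Type*} [Group G] [Finite G] (m n : ℕ) (hmn : n < m) (hn : 1 < n)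
    (hcop : m.Coprime n) (htop : ∀ z : G, (Subgroup.centralizer ({z} : Set G)).index ≤ m) (hsecond : ∀ z : G, (Subgroup.centralizer ({z} : Set G)).index < m → (Subgroup.centralizer ({z} : Set G)).index ≤ n)
    (x y : G) (hx : (Subgroup.centralizer ({x} : Set G)).index = n) (hy : (Subgroup.centralizer ({y} : Set G)).index = m) :
    IsMulCommutative (Subgroup.centralizer ({x} : Set G)) ∧ IsMulCommutative (Subgroup.centralizer ({y} : Set G)) ∧
    Cfsg.IsFrobeniusComplement ((Subgroup.centralizer ({y} : Set G)).map (QuotientGroup.mk' (Subgroup.center G))) ∧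
    Cfsg.frobeniusKernel ((Subgroup.centralizer ({y} : Set G)).map (QuotientGroup.mk' (Subgroup.center G))) =
      ((Subgroup.centralizer ({x} : Set G)).map (QuotientGroup.mk' (Subgroup.center G)) : Set (G ⧸ Subgroup.center G)) := by
  have H : Cfsg.Agent.Lib.Helper7.CL.Hyp G m n := ⟨hmn, hn, hcop, htop, hsecond⟩
  have hZA := Cfsg.Agent.Lib.Helper7.CL.center_le_cz x
  have hZB := Cfsg.Agent.Lib.Helper7.CL.center_le_cz y
  have hnorm := Cfsg.Agent.Lib.Helper7.CL.cz_x_normal H hx hy
  refine ⟨⟨⟨fun a b => Subtype.ext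
      (Cfsg.Agent.Lib.Helper7.CL.cz_x_comm H hx hy a a.2 b b.2)⟩⟩,
    ⟨⟨fun a b => Subtype.ext
      (Cfsg.Agent.Lib.Helper7.CL.cz_y_comm H hx hy a a.2 b b.2)⟩⟩, ⟨?_, ?_, ?_⟩, ?_⟩
  · -- the complement is non-trivial
    have h1 : ¬ Subgroup.centralizer ({y} : Set G) ≤ Subgroup.center G := by
      intro h
      have h2 := Subgroup.relIndex_eq_one.mpr h
      rw [Cfsg.Agent.Lib.Helper7.CL.relIndex_center_cz_y H hx hy] at h2
      omega
    obtain ⟨b, hb, hbZ⟩ := SetLike.not_le_iff_exists.mp h1
    intro hbot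
    have h2 : QuotientGroup.mk' (Subgroup.center G) b ∈
        (Subgroup.centralizer ({y} : Set G)).map (QuotientGroup.mk' (Subgroup.center G)) :=
      Subgroup.mem_map_of_mem _ hb
    rw [hbot, Subgroup.mem_bot] at h2
    exact hbZ ((QuotientGroup.eq_one_iff b).mp h2)
  · -- the complement is proper
    intro htop'
    have h1 : Subgroup.centralizer ({y} : Set G) ≠ ⊤ := by
      intro h
      have h2 : (Subgroup.centralizer ({y} : Set G)).index = 1 := by
        rw [h]; exact Subgroup.index_top
      rw [hy] at h2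
      omega
    apply h1
    rw [eq_top_iff]
    intro g _
    have h2 : QuotientGroup.mk' (Subgroup.center G) g ∈
        (Subgroup.centralizer ({y} : Set G)).map (QuotientGroup.mk' (Subgroup.center G)) := by
      rw [htop']; trivial
    exact (Cfsg.Agent.Lib.Helper7.CL.mk_mem_map_iff _ _ hZB g).mp h2
  · -- trivial intersection
    intro q hq
    obtain ⟨g, rfl⟩ := QuotientGroup.mk'_surjective (Subgroup.center G) q
    have hg : g ∉ Subgroup.centralizer ({y} : Set G) := fun h =>
      hq ((Cfsg.Agent.Lib.Helper7.CL.mk_mem_map_iff _ _ hZB g).mpr h)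
    rw [eq_bot_iff]
    rintro r ⟨hr1, hr2⟩
    obtain ⟨c, rfl⟩ := QuotientGroup.mk'_surjective (Subgroup.center G) r
    have hc : c ∈ Subgroup.centralizer ({y} : Set G) :=
      (Cfsg.Agent.Lib.Helper7.CL.mk_mem_map_iff _ _ hZB c).mp hr1
    have hc' : g⁻¹ * c * g ∈ Subgroup.centralizer ({y} : Set G) :=
      (Cfsg.Agent.Lib.Helper7.CL.mk_mem_conj_smul_map_iff _ _ hZB g c).mp hr2
    have hcZ := Cfsg.Agent.Lib.Helper7.CL.mem_center_of_conj_mem H hx hy hg hc hc'
    rw [Subgroup.mem_bot]
    exact (QuotientGroup.eq_one_iff c).mpr hcZ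
  · -- the kernel
    ext q
    obtain ⟨c, rfl⟩ := QuotientGroup.mk'_surjective (Subgroup.center G) q
    rw [SetLike.mem_coe, Cfsg.Agent.Lib.Helper7.CL.mk_mem_map_iff _ _ hZA c]
    unfold Cfsg.frobeniusKernel
    rw [Set.mem_ofPred_eq]
    constructor
    · rintro (h | h)
      · exact hZA ((QuotientGroup.eq_one_iff c).mp h)
      · by_contra hcA
        obtain ⟨g, hg⟩ := Cfsg.Agent.Lib.Helper7.CL.exists_conj_mem_cz_y H hx hy hcA
        exact h (QuotientGroup.mk' (Subgroup.center G) g)
          ((Cfsg.Agent.Lib.Helper7.CL.mk_mem_conj_smul_map_iff _ _ hZB g c).mpr hg)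
    · intro hcA
      by_cases hcZ : c ∈ Subgroup.center G
      · left
        exact (QuotientGroup.eq_one_iff c).mpr hcZ
      · right
        intro q hq
        obtain ⟨g, rfl⟩ := QuotientGroup.mk'_surjective (Subgroup.center G) q
        have h1 : g⁻¹ * c * g ∈ Subgroup.centralizer ({y} : Set G) :=
          (Cfsg.Agent.Lib.Helper7.CL.mk_mem_conj_smul_map_iff _ _ hZB g c).mp hq
        have h2 : g⁻¹ * c * g ∈ Subgroup.centralizer ({x} : Set G) := by
          have := hnorm.conj_mem c hcA g⁻¹
          rwa [inv_inv] at this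
        have h3 : g⁻¹ * c * g ∈ Subgroup.center G := by
          rw [← Cfsg.Agent.Lib.Helper7.CL.cz_inf_cz H hx hy]; exact ⟨h2, h1⟩
        apply hcZ
        have h4 : c = g * (g⁻¹ * c * g) * g⁻¹ := by group
        rw [h4]
        exact (inferInstance : (Subgroup.center G).Normal).conj_mem _ h3 g

end Cfsg.Agent.S4138
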