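import Cfsg.Statements.S4142
import Mathlib
import Cfsg.Agent.Lib.Helper7.ClassCount

set_option autoImplicit false
open Cfsg

namespace Cfsg.Agent.S4142

open Cfsg.Agent.Lib.Helper7

theorem key {G : Type*} [Group G] [Finite G] (N : Subgroup G) [N.Normal] (g : G) :
    (∀ n ∈ N, ∃ x : G, x * g * x⁻¹ = g * n) ↔
      Nat.card (Subgroup.centralizer ({g} : Set G)) =
        Nat.card (Subgroup.centralizer ({(QuotientGroup.mk g : G ⧸ N)} : Set (G ⧸ N))) := by
  have hNn : N.Normal := inferInstance
  set gb : G ⧸ N := QuotientGroup.mk g with hgb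
  set cls : Set G := {y : G | IsConj g y} with hcls
  set clsb : Set (G ⧸ N) := {y : G ⧸ N | IsConj gb y} with hclsb
  set pre : Set G := (QuotientGroup.mk : G → G ⧸ N) ⁻¹' clsb with hpre
  have hsub : cls ⊆ pre := by
    intro y hy
    obtain ⟨c, hc⟩ := isConj_iff.mp hy
    show IsConj gb (QuotientGroup.mk y)
    rw [isConj_iff]
    refine ⟨QuotientGroup.mk c, ?_⟩
    rw [← hc]; rfl
  have hL1 := ncard_cls_mul_card_centralizer g
  have hL1b := ncard_cls_mul_card_centralizer gb
  have hL3 : Set.ncard pre = Nat.card N * Set.ncard clsb := by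
    rw [← Nat.card_coe_set_eq, ← Nat.card_coe_set_eq]
    exact QuotientGroup.card_preimage_mk N clsb
  have hGN : Nat.card G = Nat.card N * Nat.card (G ⧸ N) := by
    rw [← Subgroup.index_eq_card, mul_comm, Subgroup.index_mul_card]
  -- A(g) ↔ pre ⊆ cls
  have hA : (∀ n ∈ N, ∃ x : G, x * g * x⁻¹ = g * n) ↔ pre ⊆ cls := by
    constructor
    · intro h y hy
      have hy' : IsConj gb (QuotientGroup.mk y) := hy
      obtain ⟨cb, hcb⟩ := isConj_iff.mp hy'
      obtain ⟨c, rfl⟩ := QuotientGroup.mk_surjective cb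
      have h1 : ((c * g * c⁻¹ : G) : G ⧸ N) = (y : G ⧸ N) := by rw [← hcb]; rfl
      have h2 : (c * g * c⁻¹)⁻¹ * y ∈ N := QuotientGroup.eq.mp h1
      have h3 : c⁻¹ * ((c * g * c⁻¹)⁻¹ * y) * c⁻¹⁻¹ ∈ N := hNn.conj_mem _ h2 c⁻¹
      obtain ⟨x, hx⟩ := h _ h3
      show IsConj g y
      rw [isConj_iff]
      refine ⟨c * x, ?_⟩
      have : c * x * g * (c * x)⁻¹ = c * (x * g * x⁻¹) * c⁻¹ := by group
      rw [this, hx]
      group
    · intro h n hn
      have : g * n ∈ pre := by
        show IsConj gb (QuotientGroup.mk (g * n))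
        have : ((g * n : G) : G ⧸ N) = gb := by
          rw [QuotientGroup.mk_mul, (QuotientGroup.eq_one_iff n).mpr hn, mul_one]
        rw [this]
      have := h this
      obtain ⟨x, hx⟩ := isConj_iff.mp this
      exact ⟨x, hx⟩
  rw [hA]
  have hfin : pre.Finite := Set.toFinite _
  have hpos1 : 0 < Nat.card (Subgroup.centralizer ({g} : Set G)) := Nat.card_pos
  have hpos2 : 0 < Nat.card (Subgroup.centralizer ({gb} : Set (G ⧸ N))) := Nat.card_pos
  have hNpos : 0 < Nat.card N := Nat.card_pos
  have hclsbpos : 0 < Set.ncard clsb := by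
    rw [Set.ncard_pos (Set.toFinite _)]
    exact ⟨gb, IsConj.refl gb⟩
  -- the numerical identity
  have hnum : Set.ncard cls * Nat.card (Subgroup.centralizer ({g} : Set G)) =
      Set.ncard pre * Nat.card (Subgroup.centralizer ({gb} : Set (G ⧸ N))) := by
    rw [hL1, hL3, mul_assoc, hL1b, hGN]
  constructor
  · intro h
    have heq : cls = pre := Set.Subset.antisymm hsub h
    rw [heq] at hnum
    have hprepos : 0 < Set.ncard pre := by rw [hL3]; exact Nat.mul_pos hNpos hclsbpos
    exact Nat.eq_of_mul_eq_mul_left hprepos hnum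
  · intro h
    rw [h] at hnum
    have hcard : Set.ncard cls = Set.ncard pre := Nat.eq_of_mul_eq_mul_right hpos2 hnum
    have := Set.eq_of_subset_of_ncard_le hsub (le_of_eq hcard.symm) hfin
    rw [this]

/-- Let G be a finite group and N a normal subgroup. Then the conjugacy class of every element g outside N is a union of cosets of N (gn is conjugate to g for all n ∈ N) if and only if for every g outside N the centralizer of g in G has the same order as the centralizer of gN in G/N. -/
theorem result {G : Type*} [Group G] [Finite G] (N : Subgroup G) [N.Normal] :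
    (∀ g : G, g ∉ N → ∀ n ∈ N, ∃ x : G, x * g * x⁻¹ = g * n) ↔
      ∀ g : G, g ∉ N → Nat.card (Subgroup.centralizer ({g} : Set G)) =
        Nat.card (Subgroup.centralizer ({(QuotientGroup.mk g : G ⧸ N)} : Set (G ⧸ N))) := by
  constructor
  · intro h g hg
    exact (key N g).mp (h g hg)
  · intro h g hg
    exact (key N g).mpr (h g hg)

end Cfsg.Agent.S4142
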