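import Cfsg.Statements.S4150
import Cfsg.Agent.Lib.Lead.AltGenFin
import Cfsg.Agent.Lib.Lead.AltGenG1
import Cfsg.Agent.Lib.Helper7.AltGenN
import Cfsg.Agent.Lib.Helper7.AltGenG5
import Cfsg.Agent.Lib.Helper8.AltGen6
import Cfsg.Agent.Lib.Helper9.AltGenA
import Cfsg.Agent.Lib.Helper9.AltGenA10
import Cfsg.Agent.Lib.Helper2.AltGenB6

set_option autoImplicit false
open Cfsg

namespace Cfsg.Agent.S4150

/-- Let m ≥ 5. Then there are primes p < q with m/2 ≤ p and q ≤ m such that any two elements x, y of the alternating group of degree m with x of order p and y of order q generate a subgroup isomorphic to an alternating group of some degree d ≥ 5. -/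
theorem result (m : ℕ) (hm : 5 ≤ m) :
    ∃ p q : ℕ, p.Prime ∧ q.Prime ∧ m ≤ 2 * p ∧ p < q ∧ q ≤ m ∧
      ∀ x y : alternatingGroup (Fin m), orderOf x = p → orderOf y = q →
        ∃ d : ℕ, 5 ≤ d ∧ Nonempty (Subgroup.closure ({x, y} : Set (alternatingGroup (Fin m))) ≃* alternatingGroup (Fin d)) := by
  have hG1 : Cfsg.Agent.Lib.Helper7.AltGenG5.G1Statement := by
    intro α _ _ p q hp hq hp2 hq2 x y hx hxp hy hyq hcov hmeet hcard hJ
    exact Cfsg.Agent.Lib.Lead.AltGenG1.closure_eq_alt_of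
      (fun h G _ _ hc hs hg => Cfsg.Agent.Lib.Helper9.AltGenA.alt_le_of_deg7 h G hc hs hg)
      (fun h G _ hGalt _ hc hs hg =>
        Cfsg.Agent.Lib.Helper2.AltGen.alt_le_of_deg13 h G hGalt hc hs hg)
      hp hq hp2 hq2 hx hxp hy hyq hcov hmeet hcard hJ
  have hmaster : Cfsg.Agent.Lib.Lead.AltGenFin.MasterStatement :=
    fun m p q hp hq hp2 hpq h5 hm hJ x y hx hxp hy hyq =>
      Cfsg.Agent.Lib.Helper7.AltGenG5.master_of hG1 m p q hp hq hp2 hpq h5 hm hJ x y hx hxp hy hyq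
  exact Cfsg.Agent.Lib.Lead.AltGenFin.result_of
    Cfsg.Agent.Lib.Helper7.AltGenN.exists_prime_pair hmaster
    Cfsg.Agent.Lib.Helper8.AltGen6.special6
    Cfsg.Agent.Lib.Helper9.AltGenA.special10 m hm

end Cfsg.Agent.S4150
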