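import Mathlib
import Cfsg.Statements.S4152
import Cfsg.Agent.Lib.Helper7.PiClass3

set_option autoImplicit false
open Cfsg

namespace Cfsg.Agent.S4152

open Cfsg.Agent.Lib.Helper7.PiClass in
theorem conv {Γ : Type*} [Group Γ] (π : Set ℕ) :
    Nat.card {C : ConjClasses Γ // ∀ q : ℕ, q.Prime → (∃ g : Γ, ConjClasses.mk g = C ∧ q ∣ orderOf g) → q ∈ π} =
      Nat.card {C : ConjClasses Γ // ∀ g, ConjClasses.mk g = C → IsPi π g} := by
  refine Nat.card_congr (Equiv.subtypeEquivRight (fun C => ?_))
  constructor
  · intro h g hg q hq hqd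
    exact h q hq ⟨g, hg, hqd⟩
  · rintro h q hq ⟨g, hg, hqd⟩
    exact h g hg q hq hqd

/-- Let G be a finite group, N a normal subgroup and π a set of primes. Then the number of conjugacy classes of π-elements of G (elements whose order is divisible only by primes in π) is at most the number of conjugacy classes of π-elements of N (under conjugation by N) times the number of conjugacy classes of π-elements of G/N. -/
theorem result {G : Type*} [Group G] [Finite G] (N : Subgroup G) [N.Normal] (π : Set ℕ) :
    Nat.card {C : ConjClasses G // ∀ q : ℕ, q.Prime → (∃ g : G, ConjClasses.mk g = C ∧ q ∣ orderOf g) → q ∈ π} ≤ Nat.card {C : ConjClasses N // ∀ q : ℕ, q.Prime → (∃ g : N, ConjClasses.mk g = C ∧ q ∣ orderOf g) → q ∈ π} * Nat.card {C : ConjClasses (G ⧸ N) // ∀ q : ℕ, q.Prime → (∃ g : (G ⧸ N), ConjClasses.mk g = C ∧ q ∣ orderOf g) → q ∈ π} := by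
  rw [conv, conv, conv]
  exact Cfsg.Agent.Lib.Helper7.PiClass.classes_le π N

end Cfsg.Agent.S4152
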