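import Mathlib
import Cfsg.Statements.S4153
import Cfsg.Agent.Lib.Helper7.PElements
import Cfsg.Agent.Lib.Lead.CoprimeTools

set_option autoImplicit false
open Cfsg

namespace Cfsg.Agent.S4153

open Cfsg.Agent.Lib.Helper7
open scoped Pointwise

variable {G : Type*} [Group G]

/-- `|P| = |P̄| · |P ∩ N|`. -/
theorem card_sylow_eq [Finite G] (p : ℕ) [Fact p.Prime] (N : Subgroup G) [N.Normal]
    (P : Sylow p G) (Pbar : Sylow p (G ⧸ N)) :
    Nat.card (P : Subgroup G) = Nat.card (Pbar : Subgroup (G ⧸ N))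
      * Nat.card ↥((P : Subgroup G) ⊓ N) := by
  have hsurj := QuotientGroup.mk'_surjective N
  have h0 : Nat.card (Pbar : Subgroup (G ⧸ N))
      = Nat.card ↥((P : Subgroup G).map (QuotientGroup.mk' N)) := by
    rw [← Sylow.coe_mapSurjective hsurj P, Sylow.card_eq_multiplicity, Sylow.card_eq_multiplicity]
  rw [h0]
  set H := (P : Subgroup G) with hH
  have h1 : (H.map (QuotientGroup.mk' N)).index = (H ⊔ N).index := by
    rw [Subgroup.index_map, QuotientGroup.ker_mk', MonoidHom.range_eq_top.mpr hsurj,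
      Subgroup.index_top, mul_one]
  have h2 := Subgroup.card_mul_index (H.map (QuotientGroup.mk' N))
  have h3 := Subgroup.card_eq_card_quotient_mul_card_subgroup N
  have h4 := Subgroup.card_mul_index (H ⊔ N)
  have h5 := Cfsg.Agent.Lib.Lead.card_sup_mul_card_inf H N
    (le_trans le_top (Subgroup.normalizer_eq_top_iff.mpr inferInstance).ge)
  rw [h1] at h2
  have hidx : 0 < (H ⊔ N).index := Nat.pos_of_ne_zero Subgroup.index_ne_zero_of_finite
  have h6 : Nat.card ↥(H.map (QuotientGroup.mk' N)) * Nat.card N = Nat.card ↥(H ⊔ N) := by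
    apply Nat.eq_of_mul_eq_mul_right hidx
    rw [h4, h3, ← h2]; ring
  have hN : 0 < Nat.card N := Nat.card_pos
  apply Nat.eq_of_mul_eq_mul_right hN
  rw [← h5, ← h6]; ring

/-- Let G be a finite group, p a prime, N a normal subgroup, P a Sylow p-subgroup of G and P̄ a Sylow p-subgroup of G/N. Count the elements of p-power order, the identity included. Then (number of such elements of G/N)/#P̄ ≤ (number of such elements of G)/#P, stated as a cross-multiplied inequality, with equality when N is central. -/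
theorem result {G : Type*} [Group G] [Finite G] (p : ℕ) [Fact p.Prime] (N : Subgroup G) [N.Normal]
    (P : Sylow p G) (Pbar : Sylow p (G ⧸ N)) :
    Nat.card {g : (G ⧸ N) // ∃ k : ℕ, orderOf g = p ^ k} * Nat.card (P : Subgroup G) ≤ Nat.card {g : G // ∃ k : ℕ, orderOf g = p ^ k} * Nat.card (Pbar : Subgroup (G ⧸ N)) ∧
    (N ≤ Subgroup.center G → Nat.card {g : (G ⧸ N) // ∃ k : ℕ, orderOf g = p ^ k} * Nat.card (P : Subgroup G) = Nat.card {g : G // ∃ k : ℕ, orderOf g = p ^ k} * Nat.card (Pbar : Subgroup (G ⧸ N))) := by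
  classical
  have hsurj := QuotientGroup.mk'_surjective N
  set ν := Nat.card ↥((P : Subgroup G) ⊓ N) with hν
  have hP := card_sylow_eq p N P Pbar
  have hνeq : ∀ P' : Sylow p G, Nat.card ↥((P' : Subgroup G) ⊓ N) = ν := by
    intro P'
    have h1 := card_sylow_eq p N P' Pbar
    have h2 : Nat.card (P' : Subgroup G) = Nat.card (P : Subgroup G) := by
      rw [Sylow.card_eq_multiplicity, Sylow.card_eq_multiplicity]
    rw [h2, hP] at h1
    exact (Nat.eq_of_mul_eq_mul_left Nat.card_pos h1).symm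
  -- the projection on p-elements
  let π : {g : G // ∃ k : ℕ, orderOf g = p ^ k} → {q : G ⧸ N // ∃ k : ℕ, orderOf q = p ^ k} :=
    fun x => ⟨(x.1 : G ⧸ N), by
      rw [isPElt_iff_pow]
      obtain ⟨k, hk⟩ := (isPElt_iff_pow x.1).mp x.2
      exact ⟨k, by rw [← QuotientGroup.mk_pow, hk, QuotientGroup.mk_one]⟩⟩
  haveI : Fintype {q : G ⧸ N // ∃ k : ℕ, orderOf q = p ^ k} := Fintype.ofFinite _
  have hsum : Nat.card {g : G // ∃ k : ℕ, orderOf g = p ^ k}
      = ∑ q : {q : G ⧸ N // ∃ k : ℕ, orderOf q = p ^ k}, Nat.card {x // π x = q} := by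
    rw [← Nat.card_sigma]
    exact (Nat.card_congr (Equiv.sigmaFiberEquiv π)).symm
  -- fibres
  have hfib : ∀ q : {q : G ⧸ N // ∃ k : ℕ, orderOf q = p ^ k},
      ν ≤ Nat.card {x // π x = q} ∧ (N ≤ Subgroup.center G → Nat.card {x // π x = q} = ν) := by
    rintro ⟨q, hq⟩
    obtain ⟨Qbar, hQbar⟩ := (isPElt_iff_mem_sylow q).mp hq
    obtain ⟨P', hP'⟩ := Sylow.mapSurjective_surjective hsurj p Qbar
    rw [← hP', Sylow.coe_mapSurjective] at hQbar
    obtain ⟨y₀, hy₀, hy₀q⟩ := hQbar
    have hy₀q' : (y₀ : G ⧸ N) = q := hy₀q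
    let ι : ↥((P' : Subgroup G) ⊓ N) → {x // π x = (⟨q, hq⟩ : {q : G ⧸ N // ∃ k : ℕ, orderOf q = p ^ k})} :=
      fun n => ⟨⟨y₀ * n.1, isPElt_of_mem P'.2
          (Subgroup.mul_mem _ hy₀ (Subgroup.mem_inf.mp n.2).1)⟩, by
        apply Subtype.ext
        show ((y₀ * n.1 : G) : G ⧸ N) = q
        rw [QuotientGroup.mk_mul, (QuotientGroup.eq_one_iff n.1).mpr (Subgroup.mem_inf.mp n.2).2,
          mul_one, hy₀q']⟩
    have hι : Function.Injective ι := by
      intro a b hab
      have h1 : y₀ * a.1 = y₀ * b.1 := congrArg (fun z => z.1.1) hab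
      exact Subtype.ext (mul_left_cancel h1)
    refine ⟨?_, ?_⟩
    · rw [← hνeq P']
      exact Nat.card_le_card_of_injective ι hι
    · intro hcen
      rw [← hνeq P']
      symm
      apply Nat.card_congr
      refine Equiv.ofBijective ι ⟨hι, ?_⟩
      rintro ⟨⟨x, hx⟩, hxq⟩
      have hxq' : (x : G ⧸ N) = q := congrArg Subtype.val hxq
      have hnN : y₀⁻¹ * x ∈ N := by
        rw [← QuotientGroup.eq, hy₀q', hxq']
      have hncen := Subgroup.mem_center_iff.mp (hcen hnN)
      -- y₀⁻¹ * x is a p-element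
      have hcomm : Commute y₀⁻¹ x := by
        have h1 := hncen y₀
        -- y₀ * (y₀⁻¹ * x) = (y₀⁻¹ * x) * y₀
        have h2 : x * y₀ = y₀ * x := by
          calc x * y₀ = y₀ * ((y₀⁻¹ * x) * y₀) := by group
            _ = y₀ * (y₀ * (y₀⁻¹ * x)) := by rw [h1]
            _ = y₀ * x := by group
        have h3 : Commute x y₀ := h2
        exact h3.symm.inv_left
      have hnp : ∃ k : ℕ, (y₀⁻¹ * x) ^ p ^ k = 1 := by
        obtain ⟨a, ha⟩ := (isPElt_iff_pow x).mp hx
        obtain ⟨b, hb⟩ := (isPElt_iff_pow y₀).mp (isPElt_of_mem P'.2 hy₀)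
        refine ⟨a + b, ?_⟩
        rw [hcomm.mul_pow, inv_pow, pow_add, mul_comm (p ^ a), pow_mul, hb, one_pow, inv_one,
          one_mul, mul_comm (p ^ b), pow_mul, ha, one_pow]
      -- hence it lies in P'
      have hnP : y₀⁻¹ * x ∈ (P' : Subgroup G) := by
        have hz : IsPGroup p ↥(Subgroup.zpowers (y₀⁻¹ * x)) :=
          isPGroup_zpowers_of_isPElt ((isPElt_iff_pow _).mpr hnp)
        have hnorm : (P' : Subgroup G) ≤ Subgroup.normalizer
            ((Subgroup.zpowers (y₀⁻¹ * x) : Subgroup G) : Set G) := by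
          intro g _
          rw [Subgroup.mem_normalizer_iff]
          intro w
          have hw : ∀ w ∈ Subgroup.zpowers (y₀⁻¹ * x), g * w * g⁻¹ = w := by
            intro w hw
            obtain ⟨i, rfl⟩ := Subgroup.mem_zpowers_iff.mp hw
            have : g * (y₀⁻¹ * x) = (y₀⁻¹ * x) * g := hncen g
            have hc : Commute g (y₀⁻¹ * x) := this
            have := (hc.zpow_right i).eq
            rw [this]; group
          constructor
          · intro h; rw [hw w h]; exact h
          · intro h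
            have := hw _ h
            have e : g * w * g⁻¹ = w := by
              have h2 : g * (g * w * g⁻¹) * g⁻¹ = g * w * g⁻¹ := this
              have : g * w * g⁻¹ = g⁻¹ * (g * (g * w * g⁻¹) * g⁻¹) * g := by group
              rw [h2] at this
              calc g * w * g⁻¹ = g⁻¹ * (g * w * g⁻¹) * g := this
                _ = w := by group
            rw [← e]; exact h
        have hsup := IsPGroup.to_sup_of_normal_right' P'.2 hz hnorm
        have := P'.is_maximal' hsup le_sup_left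
        have hle : Subgroup.zpowers (y₀⁻¹ * x) ≤ (P' : Subgroup G) := by
          rw [← this]; exact le_sup_right
        exact hle (Subgroup.mem_zpowers _)
      refine ⟨⟨y₀⁻¹ * x, Subgroup.mem_inf.mpr ⟨hnP, hnN⟩⟩, ?_⟩
      apply Subtype.ext
      apply Subtype.ext
      show y₀ * (y₀⁻¹ * x) = x
      group
  have hle : Nat.card {q : G ⧸ N // ∃ k : ℕ, orderOf q = p ^ k} * ν
      ≤ Nat.card {g : G // ∃ k : ℕ, orderOf g = p ^ k} := by
    rw [hsum, Nat.card_eq_fintype_card, ← Finset.card_univ, ← smul_eq_mul, ← Finset.sum_const]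
    exact Finset.sum_le_sum (fun q _ => (hfib q).1)
  refine ⟨?_, ?_⟩
  · rw [hP]
    calc Nat.card {g : G ⧸ N // ∃ k : ℕ, orderOf g = p ^ k} * (Nat.card (Pbar : Subgroup (G ⧸ N)) * ν)
        = (Nat.card {g : G ⧸ N // ∃ k : ℕ, orderOf g = p ^ k} * ν) * Nat.card (Pbar : Subgroup (G ⧸ N)) := by ring
      _ ≤ _ := Nat.mul_le_mul_right _ hle
  · intro hcen
    have heq : Nat.card {q : G ⧸ N // ∃ k : ℕ, orderOf q = p ^ k} * ν
        = Nat.card {g : G // ∃ k : ℕ, orderOf g = p ^ k} := by
      rw [hsum, Nat.card_eq_fintype_card, ← Finset.card_univ, ← smul_eq_mul, ← Finset.sum_const]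
      exact Finset.sum_congr rfl (fun q _ => ((hfib q).2 hcen).symm)
    rw [hP, ← heq]; ring

end Cfsg.Agent.S4153
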