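import Cfsg.Statements.S4154
import Mathlib

set_option autoImplicit false
open Cfsg

namespace Cfsg.Agent.S4154

theorem result {G : Type*} [Group G] [Finite G] (α : MulAut G)
    (hccp : ∀ x : G, ∃ c g : G, α c = c ∧ x = c * (g⁻¹ * α g))
    (N : Subgroup G) [N.Normal] (hN : ∀ n ∈ N, α n ∈ N) :
    (∀ x : G, ∃ c g : G, c⁻¹ * α c ∈ N ∧ x⁻¹ * (c * (g⁻¹ * α g)) ∈ N) ∧
    (∀ x : G, x⁻¹ * α x ∈ N → ∃ c : G, α c = c ∧ c⁻¹ * x ∈ N) := by
  have hNn : N.Normal := inferInstance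
  constructor
  · intro x
    obtain ⟨c, g, hc, hx⟩ := hccp x
    refine ⟨c, g, ?_, ?_⟩
    · rw [hc]; simp
    · rw [← hx]; simp
  -- the subgroup of fixed points
  let C : Subgroup G :=
    { carrier := {c | α c = c}
      one_mem' := map_one α
      mul_mem' := by
        intro a b ha hb
        show α (a * b) = a * b
        rw [map_mul, ha, hb]
      inv_mem' := by
        intro a ha
        show α a⁻¹ = a⁻¹
        rw [map_inv, ha] }
  have hCmem : ∀ c, c ∈ C ↔ α c = c := fun _ => Iff.rfl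
  -- the subgroup of elements fixed modulo N
  let Ct : Subgroup G :=
    { carrier := {x | x⁻¹ * α x ∈ N}
      one_mem' := by
        show (1 : G)⁻¹ * α 1 ∈ N
        simp
      mul_mem' := by
        intro x y hx hy
        show (x * y)⁻¹ * α (x * y) ∈ N
        have e : (x * y)⁻¹ * α (x * y) = (y⁻¹ * (x⁻¹ * α x) * y⁻¹⁻¹) * (y⁻¹ * α y) := by
          rw [map_mul]; group
        rw [e]
        exact N.mul_mem (hNn.conj_mem _ hx _) hy
      inv_mem' := by
        intro x hx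
        show (x⁻¹)⁻¹ * α x⁻¹ ∈ N
        have e : (x⁻¹)⁻¹ * α x⁻¹ = x * (x⁻¹ * α x)⁻¹ * x⁻¹ := by
          rw [map_inv]; group
        rw [e]
        exact hNn.conj_mem _ (N.inv_mem hx) _ }
  have hCtmem : ∀ x, x ∈ Ct ↔ x⁻¹ * α x ∈ N := fun _ => Iff.rfl
  have hNCt : N ≤ Ct := by
    intro n hn
    rw [hCtmem]
    exact N.mul_mem (N.inv_mem hn) (hN n hn)
  have hCCt : C ≤ Ct := by
    intro c hc
    rw [hCtmem, (hCmem c).mp hc]; simp
  -- useful: x ∈ Ct ↔ x * (α x)⁻¹ ∈ N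
  have hCt' : ∀ w, w ∈ Ct ↔ w * (α w)⁻¹ ∈ N := by
    intro w
    rw [hCtmem]
    constructor
    · intro h
      have e : w * (α w)⁻¹ = w * (w⁻¹ * α w)⁻¹ * w⁻¹ := by group
      rw [e]; exact hNn.conj_mem _ (N.inv_mem h) _
    · intro h
      have e : w⁻¹ * α w = w⁻¹ * (w * (α w)⁻¹)⁻¹ * w⁻¹⁻¹ := by group
      rw [e]; exact hNn.conj_mem _ (N.inv_mem h) _
  let π := QuotientGroup.mk' N
  -- the map on cosets
  have hwd : ∀ u v : G, (QuotientGroup.leftRel Ct) u v → π (u * (α u)⁻¹) = π (v * (α v)⁻¹) := by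
    intro u v huv
    rw [QuotientGroup.leftRel_apply] at huv
    show (QuotientGroup.mk (u * (α u)⁻¹) : G ⧸ N) = QuotientGroup.mk (v * (α v)⁻¹)
    rw [QuotientGroup.eq]
    have h1 := (hCt' _).mp huv
    have e : (u * (α u)⁻¹)⁻¹ * (v * (α v)⁻¹) = α u * ((u⁻¹ * v) * (α (u⁻¹ * v))⁻¹) * (α u)⁻¹ := by
      rw [map_mul, map_inv]; group
    rw [e]; exact hNn.conj_mem _ h1 _
  let F : G ⧸ Ct → G ⧸ N := Quotient.lift (fun u => π (u * (α u)⁻¹)) hwd
  have hF : ∀ u : G, F (QuotientGroup.mk u) = π (u * (α u)⁻¹) := fun _ => rfl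
  -- surjection
  let S : (C.map π) × (G ⧸ Ct) → G ⧸ N := fun qt => (qt.1 : G ⧸ N) * F qt.2
  have hS : Function.Surjective S := by
    intro y
    obtain ⟨x, rfl⟩ := QuotientGroup.mk'_surjective N y
    obtain ⟨c, g, hc, hx⟩ := hccp x
    refine ⟨(⟨π c, ⟨c, (hCmem c).mpr hc, rfl⟩⟩, QuotientGroup.mk g⁻¹), ?_⟩
    show π c * F (QuotientGroup.mk g⁻¹) = π x
    rw [hF, ← map_mul, hx]
    congr 1
    rw [map_inv]; group
  have hcard1 : Nat.card (G ⧸ N) ≤ Nat.card (C.map π) * Nat.card (G ⧸ Ct) := by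
    rw [← Nat.card_prod]
    exact Nat.card_le_card_of_surjective S hS
  have hidx : N.relIndex Ct * Ct.index = N.index := Subgroup.relIndex_mul_index hNCt
  have hrel : N.relIndex Ct = Nat.card (Ct.map π) := by
    have := Subgroup.relIndex_ker (K := Ct) π
    rwa [QuotientGroup.ker_mk'] at this
  have hcard2 : Nat.card (Ct.map π) ≤ Nat.card (C.map π) := by
    have hpos : 0 < Ct.index := Nat.pos_of_ne_zero Subgroup.index_ne_zero_of_finite
    rw [← Subgroup.index_eq_card, ← Subgroup.index_eq_card, ← hidx, hrel] at hcard1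
    exact Nat.le_of_mul_le_mul_right hcard1 hpos
  have hmapeq : C.map π = Ct.map π :=
    Subgroup.eq_of_le_of_card_ge (Subgroup.map_mono hCCt) hcard2
  intro x hx
  have hxCt : x ∈ Ct := (hCtmem x).mpr hx
  have : π x ∈ C.map π := by rw [hmapeq]; exact ⟨x, hxCt, rfl⟩
  obtain ⟨c, hc, hcx⟩ := this
  refine ⟨c, (hCmem c).mp hc, ?_⟩
  have : (QuotientGroup.mk c : G ⧸ N) = QuotientGroup.mk x := hcx
  rwa [QuotientGroup.eq] at this

end Cfsg.Agent.S4154
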