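import Mathlib
import Cfsg.Statements.S4155
import Cfsg.Agent.S4107
import Cfsg.Agent.S3908
import Cfsg.Agent.Lib.Lead.Core
import Cfsg.Agent.Lib.Lead.Nilpotent
import Cfsg.Agent.Lib.Lead.CoprimeFrattini
import Cfsg.Agent.Lib.Lead.UniqueOrderP5

set_option autoImplicit false
open Cfsg

namespace Cfsg.Agent.S4155

open Cfsg.Agent.Lib.Lead

section abstract
variable {M : Type*} [CommGroup M]

/-- the norm of an automorphism of order dividing `q` -/
theorem norm_fixed (φ : MulAut M) (q : ℕ) (hφ : φ ^ q = 1) (a : M) :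
    φ (∏ i ∈ Finset.range q, (φ ^ i) a) = ∏ i ∈ Finset.range q, (φ ^ i) a := by
  rw [map_prod]
  have h1 : ∀ i, φ ((φ ^ i) a) = (φ ^ (i + 1)) a := by
    intro i
    rw [pow_succ', MulAut.mul_apply]
  simp only [h1]
  have h2 := Finset.prod_range_succ (fun i => (φ ^ i) a) q
  have h3 := Finset.prod_range_succ' (fun i => (φ ^ i) a) q
  rw [h2] at h3
  simp only [hφ, pow_zero, MulAut.one_apply] at h3
  exact (mul_right_cancel h3).symm

theorem norm_eq_one (φ : MulAut M) (q : ℕ) (hφ : φ ^ q = 1) (hfpf : ∀ a : M, φ a = a → a = 1)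
    (a : M) : ∏ i ∈ Finset.range q, (φ ^ i) a = 1 :=
  hfpf _ (norm_fixed φ q hφ a)

/-- two commuting automorphisms of prime order `q` generating a group acting freely force
exponent `q` -/
theorem pow_eq_one_of_free (q : ℕ) (hq : q.Prime) (s t : MulAut M) (hst : s * t = t * s)
    (hs : s ^ q = 1) (ht : t ^ q = 1)
    (hfree1 : ∀ j : ℕ, ∀ a : M, (s * t ^ j) a = a → a = 1)
    (hfree2 : ∀ a : M, t a = a → a = 1) (a : M) : a ^ q = 1 := by
  have hcomm : Commute s t := hst
  have hstq : ∀ j : ℕ, (s * t ^ j) ^ q = 1 := by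
    intro j
    rw [(hcomm.pow_right j).mul_pow, hs, one_mul, ← pow_mul, mul_comm, pow_mul, ht, one_pow]
  have h1 : ∏ j ∈ Finset.range q, ∏ i ∈ Finset.range q, ((s * t ^ j) ^ i) a = 1 := by
    apply Finset.prod_eq_one
    intro j _
    exact norm_eq_one _ q (hstq j) (hfree1 j) a
  rw [Finset.prod_comm] at h1
  -- the powers of `t` act freely
  have htfree : ∀ i : ℕ, 0 < i → i < q → ∀ b : M, (t ^ i) b = b → b = 1 := by
    intro i hi0 hiq b hb
    apply hfree2
    have hcop : Nat.Coprime i q := (Nat.coprime_of_lt_prime hi0.ne' hiq hq).symm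
    obtain ⟨m, -, hm⟩ := Nat.exists_mul_mod_eq_one_of_coprime hcop hq.one_lt
    have h2 : t ^ (i * m) = t := by
      conv_rhs => rw [← pow_one t]
      rw [← Nat.mod_add_div (i * m) q, hm, pow_add, pow_mul, ht, one_pow, mul_one]
    have h3 : ∀ k : ℕ, ((t ^ i) ^ k) b = b := by
      intro k
      induction k with
      | zero => simp
      | succ k ih => rw [pow_succ, MulAut.mul_apply, hb, ih]
    rw [← h2, pow_mul]
    exact h3 m
  have h4 : ∀ i ∈ Finset.range q, ∏ j ∈ Finset.range q, ((s * t ^ j) ^ i) a =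
      if i = 0 then a ^ q else 1 := by
    intro i hi
    have hiq : i < q := Finset.mem_range.mp hi
    by_cases hi0 : i = 0
    · subst hi0
      simp
    · rw [if_neg hi0]
      have h5 : ∀ j, ((s * t ^ j) ^ i) a = (s ^ i) (((t ^ i) ^ j) a) := by
        intro j
        rw [(hcomm.pow_right j).mul_pow, MulAut.mul_apply, ← pow_mul, ← pow_mul, mul_comm]
      simp only [h5]
      rw [← map_prod]
      have hti : (t ^ i) ^ q = 1 := by rw [← pow_mul, mul_comm, pow_mul, ht, one_pow]
      rw [norm_eq_one (t ^ i) q hti (htfree i (Nat.pos_of_ne_zero hi0) hiq) a, map_one]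
  rw [Finset.prod_congr rfl h4, Finset.prod_ite_eq' (Finset.range q) 0 (fun _ => a ^ q)] at h1
  rw [if_pos (Finset.mem_range.mpr hq.pos)] at h1
  exact h1

end abstract

section
variable {G : Type*} [Group G] [Finite G]

/-- elements outside `N` of prime power order modulo `N` act freely on `p`-elements of `N` -/
theorem free_of_heq (N : Subgroup G) [N.Normal]
    (heq : ∀ x : G, x ∉ N → ∀ n ∈ N, orderOf (x * n) = orderOf x)
    {p q : ℕ} (hp : p.Prime) (hq : q.Prime) (hpq : p ≠ q) (x : G) (hxN : x ∉ N) (k : ℕ)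
    (hxk : x ^ q ^ k ∈ N) (a : G) (haN : a ∈ N) (c : ℕ) (hac : a ^ p ^ c = 1)
    (hcomm : x * a = a * x) : a = 1 := by
  set b := (orderOf x).factorization p with hb
  set x' := x ^ p ^ b with hx'
  have hox : orderOf x ≠ 0 := (orderOf_pos x).ne'
  have hx'ord : orderOf x' = orderOf x / p ^ b :=
    orderOf_pow_of_dvd (pow_ne_zero _ hp.ne_zero) (Nat.ordProj_dvd _ _)
  have hr : ¬ p ∣ orderOf x' := by
    rw [hx'ord]; exact Nat.not_dvd_ordCompl hp hox
  have hx'N : x' ∉ N := by
    intro h
    apply hxN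
    rw [← QuotientGroup.eq_one_iff] at h hxk ⊢
    rw [QuotientGroup.mk_pow] at h hxk
    have h1 := orderOf_dvd_of_pow_eq_one h
    have h2 := orderOf_dvd_of_pow_eq_one hxk
    have hcop : Nat.Coprime (p ^ b) (q ^ k) :=
      Nat.Coprime.pow _ _ ((Nat.coprime_primes hp hq).mpr hpq)
    have h3 := Nat.dvd_gcd h1 h2
    rw [Nat.Coprime.gcd_eq_one hcop, Nat.dvd_one] at h3
    exact orderOf_eq_one_iff.mp h3
  have hcomm' : Commute x' a := (Commute.pow_left hcomm (p ^ b))
  have h1 := heq x' hx'N a haN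
  have h2 : (x' * a) ^ orderOf x' = 1 := by rw [← h1]; exact pow_orderOf_eq_one _
  rw [hcomm'.mul_pow, pow_orderOf_eq_one, one_mul] at h2
  have h3 := orderOf_dvd_of_pow_eq_one h2
  have h4 := orderOf_dvd_of_pow_eq_one hac
  have hcop : Nat.Coprime (orderOf x') (p ^ c) :=
    Nat.Coprime.pow_right c ((Nat.Prime.coprime_iff_not_dvd hp).mpr hr).symm
  have h5 := Nat.dvd_gcd h3 h4
  rw [Nat.Coprime.gcd_eq_one hcop, Nat.dvd_one] at h5
  exact orderOf_eq_one_iff.mp h5

/-- a nontrivial abelian normal `p`-subgroup of `G` inside the centre of the nilpotent normal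
subgroup `N` -/
theorem exists_central_pgroup (N : Subgroup G) [N.Normal] (hnil : Group.IsNilpotent N)
    {p : ℕ} [hp : Fact p.Prime] (hpN : p ∣ Nat.card N) :
    ∃ A : Subgroup G, A.Normal ∧ A ≠ ⊥ ∧ A ≤ N ∧ IsPGroup p A ∧
      (∀ a ∈ A, ∀ n ∈ N, n * a = a * n) := by
  classical
  obtain ⟨P₀⟩ : Nonempty (Sylow p N) := inferInstance
  haveI hP₀n : (P₀ : Subgroup N).Normal := inferInstance
  haveI hP₀c : (P₀ : Subgroup N).Characteristic := Sylow.characteristic_of_normal P₀ hP₀n
  have hP₀ne : (P₀ : Subgroup N) ≠ ⊥ := by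
    intro h0
    have h1 := P₀.card_eq_multiplicity
    rw [h0, Subgroup.card_bot] at h1
    have hpos : 0 < (Nat.card N).factorization p :=
      hp.out.factorization_pos_of_dvd Nat.card_pos.ne' hpN
    have : 1 < p ^ (Nat.card N).factorization p := Nat.one_lt_pow hpos.ne' hp.out.one_lt
    omega
  have hne := inf_center_ne_bot (P₀ : Subgroup N) hP₀ne
  set P₁ : Subgroup G := (P₀ : Subgroup N).map N.subtype with hP₁
  set Z : Subgroup G := (Subgroup.center N).map N.subtype with hZ
  have hNtop : Subgroup.normalizer (N : Set G) = ⊤ := Subgroup.normalizer_eq_top N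
  haveI hP₁n : P₁.Normal := by
    rw [← Subgroup.normalizer_eq_top_iff, eq_top_iff, ← hNtop]
    exact le_normalizer_map_characteristic N (P₀ : Subgroup N)
  haveI hZn : Z.Normal := by
    rw [← Subgroup.normalizer_eq_top_iff, eq_top_iff, ← hNtop]
    exact le_normalizer_map_characteristic N (Subgroup.center N)
  refine ⟨P₁ ⊓ Z, inferInstance, ?_, ?_, ?_, ?_⟩
  · obtain ⟨⟨z, hz⟩, hz1⟩ := (Subgroup.ne_bot_iff_exists_ne_one).mp hne
    intro h0
    apply hz1
    have hmem : ((z : N) : G) ∈ P₁ ⊓ Z := ⟨⟨z, hz.1, rfl⟩, ⟨z, hz.2, rfl⟩⟩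
    rw [h0, Subgroup.mem_bot] at hmem
    exact Subtype.ext (Subtype.ext hmem)
  · exact inf_le_left.trans (Subgroup.map_subtype_le _)
  · exact (P₀.isPGroup'.map N.subtype).to_le inf_le_left
  · rintro a ⟨-, ⟨z, hz, rfl⟩⟩ n hn
    have := Subgroup.mem_center_iff.mp hz ⟨n, hn⟩
    exact congrArg Subtype.val this

end

/-- Let G be a finite group and N a proper non-trivial normal nilpotent subgroup whose order is not a prime power, such that for every x outside N all elements of the coset xN have the same order as x. Then N is the Fitting subgroup of G, and for every prime q every Sylow q-subgroup of G/N is cyclic or generalized quaternion. -/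
theorem result {G : Type*} [Group G] [Finite G] (N : Subgroup G) [N.Normal] (hN1 : N ≠ ⊥) (hN2 : N ≠ ⊤)
    (heq : ∀ x : G, x ∉ N → ∀ n ∈ N, orderOf (x * n) = orderOf x)
    (hnil : Group.IsNilpotent N) (hnpp : ¬ IsPrimePow (Nat.card N)) :
    N = Cfsg.fittingSubgroup G ∧
    ∀ (q : ℕ) [Fact q.Prime] (Q : Sylow q (G ⧸ N)), IsCyclic (Q : Subgroup (G ⧸ N)) ∨ ∃ n : ℕ, Nonempty ((Q : Subgroup (G ⧸ N)) ≃* QuaternionGroup (2 ^ n)) := by
  classical
  constructor
  · obtain ⟨h1, h2⟩ := Cfsg.Agent.S4107.result N hN1 hN2 heq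
    have hNF : N ≤ Cfsg.fittingSubgroup G := le_fittingSubgroup inferInstance hnil
    apply le_antisymm hNF
    rcases h1 with h | h
    · by_contra hne
      have hlt : N < Cfsg.fittingSubgroup G := lt_of_le_of_ne hNF (fun h0 => hne (h0 ▸ le_rfl))
      have hF := h2 hlt
      apply hnpp
      -- a nontrivial subgroup of a group of prime power order has prime power order
      rw [isPrimePow_nat_iff] at hF ⊢
      obtain ⟨p, k, hp, hk, hpk⟩ := hF
      have hdvd : Nat.card N ∣ p ^ k := by rw [hpk]; exact Subgroup.card_dvd_of_le hNF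
      obtain ⟨j, -, hj⟩ := (Nat.dvd_prime_pow hp).mp hdvd
      refine ⟨p, j, hp, ?_, hj.symm⟩
      rcases Nat.eq_zero_or_pos j with h0 | h0
      · rw [h0, pow_zero, Subgroup.card_eq_one] at hj
        exact absurd hj hN1
      · exact h0
    · exact h
  · intro q hqF Q
    have hq := hqF.out
    have hQp : IsPGroup q (Q : Subgroup (G ⧸ N)) := Q.isPGroup'
    by_cases hu : UniqueOrderP q (Q : Subgroup (G ⧸ N))
    · rcases hu.main hQp with hc | ⟨h2, n, hn⟩
      · exact Or.inl hc
      · subst h2; exact Or.inr ⟨n, hn⟩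
    exfalso
    obtain ⟨E, hEcard, hEexp⟩ := Cfsg.Agent.S3908.exists_elementary_sq hQp hu
    haveI hEc : IsMulCommutative E := IsPGroup.isMulCommutative_of_card_eq_prime_sq hEcard
    -- two independent elements
    have hq1 := hq.one_lt
    obtain ⟨v', hv'1⟩ : ∃ v' : E, v' ≠ 1 := by
      haveI : Nontrivial E := by
        rw [← Finite.one_lt_card_iff_nontrivial, hEcard]
        exact Nat.one_lt_pow (by norm_num) hq1
      exact exists_ne 1
    have hv'q : v' ^ q = 1 := Subtype.ext (hEexp v' v'.2)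
    have hv'ord : orderOf v' = q := orderOf_eq_prime hv'q hv'1
    obtain ⟨u', hu'⟩ : ∃ u' : E, u' ∉ Subgroup.zpowers v' := by
      by_contra hall
      push Not at hall
      have htop : Subgroup.zpowers v' = ⊤ := (Subgroup.eq_top_iff' _).mpr hall
      have h1 : Nat.card (Subgroup.zpowers v') = q := by rw [Nat.card_zpowers, hv'ord]
      rw [htop, Subgroup.card_top, hEcard] at h1
      have : q ^ 2 = q * q := pow_two q
      nlinarith
    have hu'q : u' ^ q = 1 := Subtype.ext (hEexp u' u'.2)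
    have hu'v' : u' * v' = v' * u' := mul_comm' u' v'
    -- lift to `G`
    obtain ⟨u, hu⟩ := QuotientGroup.mk_surjective (((u' : E) : (Q : Subgroup (G ⧸ N))) : G ⧸ N)
    obtain ⟨v, hv⟩ := QuotientGroup.mk_surjective (((v' : E) : (Q : Subgroup (G ⧸ N))) : G ⧸ N)
    have hcoe : ∀ w : E, ∀ k : ℕ, ((((w ^ k : E) : (Q : Subgroup (G ⧸ N))) : G ⧸ N)) =
        (((w : E) : (Q : Subgroup (G ⧸ N))) : G ⧸ N) ^ k := fun w k => by simp
    have huq : u ^ q ∈ N := by
      rw [← QuotientGroup.eq_one_iff, QuotientGroup.mk_pow, hu, ← hcoe, hu'q]; rfl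
    have hvq : v ^ q ∈ N := by
      rw [← QuotientGroup.eq_one_iff, QuotientGroup.mk_pow, hv, ← hcoe, hv'q]; rfl
    have huvcomm : u * v * u⁻¹ * v⁻¹ ∈ N := by
      rw [← QuotientGroup.eq_one_iff]
      simp only [QuotientGroup.mk_mul, QuotientGroup.mk_inv, hu, hv]
      have h1 : (((u' : E) : (Q : Subgroup (G ⧸ N))) : G ⧸ N) * (((v' : E) : (Q : Subgroup (G ⧸ N))) : G ⧸ N)
          = (((v' : E) : (Q : Subgroup (G ⧸ N))) : G ⧸ N) * (((u' : E) : (Q : Subgroup (G ⧸ N))) : G ⧸ N) := by
        have := congrArg (fun w : E => (((w : E) : (Q : Subgroup (G ⧸ N))) : G ⧸ N)) hu'v'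
        simpa using this
      rw [h1]; group
    have hvN : v ∉ N := by
      intro h
      rw [← QuotientGroup.eq_one_iff, hv] at h
      apply hv'1
      exact Subtype.ext (Subtype.ext h)
    have huvN : ∀ j : ℕ, u * v ^ j ∉ N := by
      intro j h
      rw [← QuotientGroup.eq_one_iff, QuotientGroup.mk_mul, QuotientGroup.mk_pow, hu, hv, ← hcoe] at h
      apply hu'
      have h1 : u' * v' ^ j = 1 := by
        apply Subtype.ext; apply Subtype.ext
        simpa using h
      have h2 : u' = (v' ^ j)⁻¹ := eq_inv_of_mul_eq_one_left h1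
      rw [h2]
      exact inv_mem (pow_mem (Subgroup.mem_zpowers v') j)
    have huvq : ∀ j : ℕ, (u * v ^ j) ^ q ^ 1 ∈ N := by
      intro j
      rw [pow_one, ← QuotientGroup.eq_one_iff, QuotientGroup.mk_pow, QuotientGroup.mk_mul,
        QuotientGroup.mk_pow, hu, hv, ← hcoe]
      have h1 : (u' * v' ^ j) ^ q = 1 := by
        have hc' : Commute u' (v' ^ j) := Commute.pow_right hu'v' j
        rw [hc'.mul_pow, hu'q, one_mul, ← pow_mul, mul_comm, pow_mul, hv'q, one_pow]
      have := congrArg (fun w : E => (((w : E) : (Q : Subgroup (G ⧸ N))) : G ⧸ N)) h1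
      simpa using this
    -- a prime `p ≠ q` dividing `|N|`
    obtain ⟨p, hp, hpN, hpq⟩ : ∃ p : ℕ, p.Prime ∧ p ∣ Nat.card N ∧ p ≠ q := by
      by_contra hcon
      push Not at hcon
      apply hnpp
      have hcard1 : Nat.card N ≠ 1 := fun h => hN1 (Subgroup.card_eq_one.mp h)
      have := Nat.eq_prime_pow_of_unique_prime_dvd (n := Nat.card N) (p := q) Nat.card_pos.ne'
        (fun {d} hd hdN => hcon d hd hdN)
      rw [this, isPrimePow_nat_iff]
      refine ⟨q, _, hq, ?_, rfl⟩
      rcases Nat.eq_zero_or_pos ((Nat.card N).primeFactorsList.length) with h0 | h0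
      · rw [h0, pow_zero] at this; exact absurd this hcard1
      · exact h0
    haveI : Fact p.Prime := ⟨hp⟩
    obtain ⟨A, hAn, hAne, hAN, hAp, hAc⟩ := exists_central_pgroup N hnil hpN
    haveI := hAn
    -- commutative group structure on `A`
    have hAcomm : ∀ x y : A, x * y = y * x := by
      intro x y
      apply Subtype.ext
      exact hAc y y.2 x (hAN x.2)
    letI : CommGroup A := { (inferInstance : Group A) with mul_comm := hAcomm }
    let c : G →* MulAut A := MulAut.conjNormal (H := A)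
    have hc : ∀ (g : G) (a : A), ((c g a : A) : G) = g * a * g⁻¹ := fun g a => rfl
    have hcN : ∀ n ∈ N, c n = 1 := by
      intro n hn
      ext a
      rw [hc, MulAut.one_apply, hAc a a.2 n hn, mul_inv_cancel_right]
    have hfree : ∀ x : G, x ∉ N → x ^ q ^ 1 ∈ N → ∀ a : A, c x a = a → a = 1 := by
      intro x hxN hxq a ha
      obtain ⟨k, hk⟩ := hAp a
      apply Subtype.ext
      refine free_of_heq N heq hp hq hpq x hxN 1 hxq a (hAN a.2) k ?_ ?_
      · simpa using congrArg Subtype.val hk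
      · have := congrArg Subtype.val ha
        rw [hc] at this
        exact mul_inv_eq_iff_eq_mul.mp this
    have key := pow_eq_one_of_free (M := A) q hq (c u) (c v)
      (by
        rw [← map_mul, ← map_mul]
        have : u * v = (u * v * u⁻¹ * v⁻¹) * (v * u) := by group
        rw [this, map_mul, hcN _ huvcomm, one_mul])
      (by rw [← map_pow, hcN _ huq])
      (by rw [← map_pow, hcN _ hvq])
      (by
        intro j a ha
        rw [← map_pow, ← map_mul] at ha
        exact hfree _ (huvN j) (huvq j) a ha)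
      (by
        intro a ha
        refine hfree v hvN (by rw [pow_one]; exact hvq) a ha)
    -- hence `A` is trivial
    apply hAne
    rw [eq_bot_iff]
    intro a ha
    rw [Subgroup.mem_bot]
    have h1 : a ^ q = 1 := by
      have := congrArg Subtype.val (key ⟨a, ha⟩)
      simpa using this
    obtain ⟨k, hk⟩ := hAp ⟨a, ha⟩
    have h2 : a ^ p ^ k = 1 := by simpa using congrArg Subtype.val hk
    have hcop : Nat.Coprime q (p ^ k) := Nat.Coprime.pow_right k ((Nat.coprime_primes hq hp).mpr hpq.symm)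
    have h3 := Nat.dvd_gcd (orderOf_dvd_of_pow_eq_one h1) (orderOf_dvd_of_pow_eq_one h2)
    rw [Nat.Coprime.gcd_eq_one hcop, Nat.dvd_one] at h3
    exact orderOf_eq_one_iff.mp h3

end Cfsg.Agent.S4155
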