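import Mathlib
import Cfsg.Statements.S4156

set_option autoImplicit false
open Cfsg

namespace Cfsg.Agent.S4156

open Equiv

variable (m : ℕ) (F : Type*) [Field F]

/-- the permutation representation on functions -/
def rho : Perm (Fin m) →* Module.End F (Fin m → F) where
  toFun σ := LinearMap.funLeft F F (σ⁻¹ : Perm (Fin m))
  map_one' := by
    ext f i
    simp [LinearMap.funLeft_apply]
  map_mul' σ τ := by
    ext f i
    simp [LinearMap.funLeft_apply, mul_inv_rev]

theorem rho_apply (σ : Perm (Fin m)) (f : Fin m → F) (i : Fin m) :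
    rho m F σ f i = f (σ⁻¹ i) := rfl

theorem rho_single (σ : Perm (Fin m)) (j : Fin m) (c : F) :
    rho m F σ (Pi.single j c) = Pi.single (σ j) c := by
  ext i
  rw [rho_apply]
  by_cases h : i = σ j
  · subst h
    simp
  · rw [Pi.single_eq_of_ne h, Pi.single_eq_of_ne]
    intro h2
    apply h
    rw [← h2]; simp

/-- the sum functional -/
def sumL : (Fin m → F) →ₗ[F] F := ∑ i, LinearMap.proj i

theorem sumL_apply (f : Fin m → F) : sumL m F f = ∑ i, f i := by
  simp [sumL]

theorem sumL_rho (σ : Perm (Fin m)) (f : Fin m → F) : sumL m F (rho m F σ f) = sumL m F f := by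
  rw [sumL_apply, sumL_apply]
  simp only [rho_apply]
  exact Equiv.sum_comp (σ⁻¹ : Perm (Fin m)) f

/-- the restricted representation on the sum-zero submodule -/
def rho0 : Perm (Fin m) →* Module.End F (LinearMap.ker (sumL m F)) where
  toFun σ := (rho m F σ).restrict (by
    intro f hf
    rw [LinearMap.mem_ker] at hf ⊢
    rw [sumL_rho, hf])
  map_one' := by
    ext f
    simp
  map_mul' σ τ := by
    ext f
    simp

theorem rho0_apply (σ : Perm (Fin m)) (f : LinearMap.ker (sumL m F)) :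
    ((rho0 m F σ f : LinearMap.ker (sumL m F)) : Fin m → F) = rho m F σ (f : Fin m → F) := rfl

theorem finrank_ker (n : ℕ) : Module.finrank F (LinearMap.ker (sumL (n + 1) F)) = n := by
  have h1 := LinearMap.finrank_range_add_finrank_ker (sumL (n + 1) F)
  have h2 : LinearMap.range (sumL (n + 1) F) = ⊤ := by
    rw [LinearMap.range_eq_top]
    intro c
    refine ⟨Pi.single 0 c, ?_⟩
    rw [sumL_apply]
    simp
  rw [h2, finrank_top, Module.finrank_self, Module.finrank_fin_fun] at h1
  omega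

noncomputable def bas (n : ℕ) : Module.Basis (Fin n) F (LinearMap.ker (sumL (n + 1) F)) :=
  Module.finBasisOfFinrankEq F _ (finrank_ker F n)

noncomputable def matHom (n : ℕ) : Perm (Fin (n + 1)) →* Matrix (Fin n) (Fin n) F :=
  ((LinearMap.toMatrixAlgEquiv (bas F n) :
      Module.End F (LinearMap.ker (sumL (n + 1) F)) →* Matrix (Fin n) (Fin n) F)).comp
    (rho0 (n + 1) F)

theorem matHom_apply (n : ℕ) (σ : Perm (Fin (n + 1))) :
    matHom F n σ = LinearMap.toMatrixAlgEquiv (bas F n) (rho0 (n + 1) F σ) := rfl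

noncomputable def glHom (n : ℕ) : Perm (Fin (n + 1)) →* GL (Fin n) F := (matHom F n).toHomUnits

theorem glHom_coe (n : ℕ) (σ : Perm (Fin (n + 1))) :
    ((glHom F n σ : GL (Fin n) F) : Matrix (Fin n) (Fin n) F) = matHom F n σ := rfl

theorem det_eq_one (n : ℕ) (hn : 5 ≤ n) (g : alternatingGroup (Fin (n + 1))) :
    (matHom F n (g : Perm (Fin (n + 1)))).det = 1 := by
  have hcard : 5 ≤ Nat.card (Fin (n + 1)) := by rw [Nat.card_fin]; omega
  haveI : IsSimpleGroup ↥(alternatingGroup (Fin (n + 1))) := alternatingGroup.isSimpleGroup hcard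
  let d : ↥(alternatingGroup (Fin (n + 1))) →* Fˣ :=
    (Matrix.GeneralLinearGroup.det).comp ((glHom F n).comp (alternatingGroup (Fin (n + 1))).subtype)
  have hker : d.ker = ⊤ := by
    rcases (MonoidHom.normal_ker d).eq_bot_or_eq_top with h | h
    · exfalso
      have hinj : Function.Injective d := (MonoidHom.ker_eq_bot_iff d).mp h
      have hcomm : IsMulCommutative ↥(alternatingGroup (Fin (n + 1))) :=
        ⟨⟨fun a b => hinj (by rw [map_mul, map_mul, mul_comm])⟩⟩
      rw [alternatingGroup.isMulCommutative_iff_card_le_three] at hcomm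
      omega
    · exact h
  have hg : g ∈ d.ker := by rw [hker]; exact Subgroup.mem_top g
  rw [MonoidHom.mem_ker] at hg
  have := congrArg (fun u : Fˣ => (u : F)) hg
  exact this

noncomputable def slHom (n : ℕ) (hn : 5 ≤ n) :
    ↥(alternatingGroup (Fin (n + 1))) →* Matrix.SpecialLinearGroup (Fin n) F where
  toFun g := ⟨matHom F n (g : Perm (Fin (n + 1))), det_eq_one F n hn g⟩
  map_one' := by
    apply Subtype.ext
    show matHom F n ((1 : ↥(alternatingGroup (Fin (n + 1)))) : Perm (Fin (n + 1))) = 1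
    rw [Subgroup.coe_one, map_one]
  map_mul' a b := by
    apply Subtype.ext
    show matHom F n ((a * b : ↥(alternatingGroup (Fin (n + 1)))) : Perm (Fin (n + 1)))
      = matHom F n (a : Perm (Fin (n + 1))) * matHom F n (b : Perm (Fin (n + 1)))
    rw [Subgroup.coe_mul, map_mul]

theorem slHom_coe (n : ℕ) (hn : 5 ≤ n) (g : ↥(alternatingGroup (Fin (n + 1)))) :
    ((slHom F n hn g : Matrix.SpecialLinearGroup (Fin n) F) : Matrix (Fin n) (Fin n) F)
      = matHom F n (g : Perm (Fin (n + 1))) := rfl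

theorem sumL_single (m : ℕ) (j : Fin m) (c : F) : sumL m F (Pi.single j c) = c := by
  rw [sumL_apply]
  simp

theorem not_scalar (n : ℕ) (hn : 5 ≤ n) (r : F) :
    matHom F n (swap (⟨0, by omega⟩ : Fin (n + 1)) ⟨1, by omega⟩ * swap ⟨0, by omega⟩ ⟨2, by omega⟩)
      ≠ Matrix.scalar (Fin n) r := by
  intro heq
  set i0 : Fin (n + 1) := ⟨0, by omega⟩ with hi0
  set i1 : Fin (n + 1) := ⟨1, by omega⟩ with hi1
  set i2 : Fin (n + 1) := ⟨2, by omega⟩ with hi2
  set i3 : Fin (n + 1) := ⟨3, by omega⟩ with hi3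
  set i4 : Fin (n + 1) := ⟨4, by omega⟩ with hi4
  set g : Perm (Fin (n + 1)) := swap i0 i1 * swap i0 i2 with hg
  have h01 : i0 ≠ i1 := by simp [hi0, hi1]
  have h02 : i0 ≠ i2 := by simp [hi0, hi2]
  have h03 : i0 ≠ i3 := by simp [hi0, hi3]
  have h04 : i0 ≠ i4 := by simp [hi0, hi4]
  have h12 : i1 ≠ i2 := by simp [hi1, hi2]
  have h13 : i1 ≠ i3 := by simp [hi1, hi3]
  have h14 : i1 ≠ i4 := by simp [hi1, hi4]
  have h23 : i2 ≠ i3 := by simp [hi2, hi3]
  have h24 : i2 ≠ i4 := by simp [hi2, hi4]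
  have h34 : i3 ≠ i4 := by simp [hi3, hi4]
  have hg0 : g i0 = i2 := by
    rw [hg, Perm.mul_apply, swap_apply_left, swap_apply_of_ne_of_ne h02.symm h12.symm]
  have hg3 : g i3 = i3 := by
    rw [hg, Perm.mul_apply, swap_apply_of_ne_of_ne h03.symm h23.symm,
      swap_apply_of_ne_of_ne h03.symm h13.symm]
  have hg4 : g i4 = i4 := by
    rw [hg, Perm.mul_apply, swap_apply_of_ne_of_ne h04.symm h24.symm,
      swap_apply_of_ne_of_ne h04.symm h14.symm]
  -- rho0 g is the scalar r
  have hsc : Matrix.scalar (Fin n) r = algebraMap F (Matrix (Fin n) (Fin n) F) r := by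
    rw [Algebra.algebraMap_eq_smul_one, Matrix.smul_one_eq_diagonal]; rfl
  have hrho : rho0 (n + 1) F g = algebraMap F (Module.End F (LinearMap.ker (sumL (n + 1) F))) r := by
    apply (LinearMap.toMatrixAlgEquiv (bas F n)).injective
    rw [AlgEquiv.commutes, ← hsc, ← heq]
    rfl
  have hact : ∀ v : LinearMap.ker (sumL (n + 1) F),
      rho (n + 1) F g (v : Fin (n + 1) → F) = r • (v : Fin (n + 1) → F) := by
    intro v
    rw [← rho0_apply, hrho, Module.algebraMap_end_apply]
    rfl
  -- the vectors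
  have hv1 : (Pi.single i3 (1 : F) - Pi.single i4 (1 : F) : Fin (n + 1) → F)
      ∈ LinearMap.ker (sumL (n + 1) F) := by
    rw [LinearMap.mem_ker, map_sub, sumL_single, sumL_single, sub_self]
  have hv2 : (Pi.single i0 (1 : F) - Pi.single i3 (1 : F) : Fin (n + 1) → F)
      ∈ LinearMap.ker (sumL (n + 1) F) := by
    rw [LinearMap.mem_ker, map_sub, sumL_single, sumL_single, sub_self]
  have e1 := hact ⟨_, hv1⟩
  have e2 := hact ⟨_, hv2⟩
  simp only [map_sub, rho_single, hg3, hg4, hg0] at e1 e2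
  have hr : r = 1 := by
    have := congrFun e1 i3
    simp [Pi.single_eq_of_ne h34] at this
    exact this.symm
  rw [hr, one_smul] at e2
  have := congrFun e2 i0
  simp [Pi.single_eq_of_ne h02, Pi.single_eq_of_ne h03] at this

end Cfsg.Agent.S4156

namespace Cfsg.Agent.S4156

open Equiv

/-- Let n ≥ 5 and F a finite field. Then the projective special linear group PSL_n(F) contains a subgroup isomorphic to the alternating group of degree n + 1. -/
theorem result (n : ℕ) (hn : 5 ≤ n) (F : Type*) [Field F] [Finite F] :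
    ∃ f : alternatingGroup (Fin (n + 1)) →* Matrix.ProjectiveSpecialLinearGroup (Fin n) F, Function.Injective f := by
  have hcard : 5 ≤ Nat.card (Fin (n + 1)) := by rw [Nat.card_fin]; omega
  haveI : IsSimpleGroup ↥(alternatingGroup (Fin (n + 1))) := alternatingGroup.isSimpleGroup hcard
  let f : ↥(alternatingGroup (Fin (n + 1))) →* Matrix.ProjectiveSpecialLinearGroup (Fin n) F :=
    (QuotientGroup.mk' (Subgroup.center (Matrix.SpecialLinearGroup (Fin n) F))).comp (slHom F n hn)
  refine ⟨f, ?_⟩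
  rw [← MonoidHom.ker_eq_bot_iff]
  rcases (MonoidHom.normal_ker f).eq_bot_or_eq_top with h | h
  · exact h
  · exfalso
    have hne1 : (⟨0, by omega⟩ : Fin (n + 1)) ≠ ⟨1, by omega⟩ := by simp
    have hne2 : (⟨0, by omega⟩ : Fin (n + 1)) ≠ ⟨2, by omega⟩ := by simp
    have hne3 : (⟨1, by omega⟩ : Fin (n + 1)) ≠ ⟨2, by omega⟩ := by simp
    have hgA : (swap (⟨0, by omega⟩ : Fin (n + 1)) ⟨1, by omega⟩ * swap ⟨0, by omega⟩ ⟨2, by omega⟩)
        ∈ alternatingGroup (Fin (n + 1)) :=
      (Equiv.Perm.isThreeCycle_swap_mul_swap_same hne1 hne2 hne3).mem_alternatingGroup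
    have hmem : (⟨_, hgA⟩ : ↥(alternatingGroup (Fin (n + 1)))) ∈ f.ker := by
      rw [h]; exact Subgroup.mem_top _
    rw [MonoidHom.mem_ker] at hmem
    have h2 : slHom F n hn ⟨_, hgA⟩ ∈ Subgroup.center (Matrix.SpecialLinearGroup (Fin n) F) := by
      rw [← QuotientGroup.eq_one_iff]
      exact hmem
    rw [Matrix.SpecialLinearGroup.mem_center_iff] at h2
    obtain ⟨r, _, hr⟩ := h2
    exact not_scalar F n hn r hr.symm

end Cfsg.Agent.S4156
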