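import Cfsg.Statements.S4157
import Mathlib
import Cfsg.Agent.Lib.Helper4.PW6
import Cfsg.Agent.Lib.Helper4.PC7
import Cfsg.Agent.Lib.Helper4.Kul7
-- import your own Cfsg.Agent.* helpers here

set_option autoImplicit false
open Cfsg

namespace Cfsg.Agent.S4157

theorem card_split {α : Type*} [Finite α] (A C : α → Prop) :
    Nat.card {x : α // A x} = Nat.card {x : α // A x ∧ ¬ C x} + Nat.card {x : α // C x ∧ A x} := by
  classical
  letI : Fintype α := Fintype.ofFinite α
  simp only [Nat.card_eq_fintype_card, Fintype.card_subtype]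
  rw [← Finset.card_filter_add_card_filter_not (s := Finset.univ.filter A) C,
    Finset.filter_filter, Finset.filter_filter, add_comm]
  congr 2
  ext x
  simp [and_comm]

/-- Let G be a finite p-group of order p^m that is not cyclic and, when p = 2, not of maximal class (nilpotency class m − 1). Then for every 1 ≤ k < m the number of subgroups of G of order p^k is congruent to 1 + p modulo p². -/
theorem result {G : Type*} [Group G] [Finite G] {p : ℕ} [Fact p.Prime] (m : ℕ)
    (hG : Nat.card G = p ^ m) (hnc : ¬ IsCyclic G) (h2 : p = 2 → Group.nilpotencyClass G ≠ m - 1)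
    (k : ℕ) (hk1 : 1 ≤ k) (hk2 : k < m) :
    Nat.card {H : Subgroup G // Nat.card H = p ^ k} ≡ 1 + p [MOD p ^ 2] := by
  classical
  have hp : p.Prime := Fact.out
  have hdvd : p ^ (k + 1) ∣ Nat.card G := by rw [hG]; exact pow_dvd_pow p (by omega)
  have h := Cfsg.Agent.Lib.Helper4.PW.card_subgroups_modEq G p k hp hdvd
  set s := Nat.card {H : Subgroup G // Nat.card H = p ^ k} with hs
  set n := Nat.card {H : Subgroup G // Nat.card H = p ^ (k + 1) ∧ ¬ IsCyclic H} with hn
  -- the number of cyclic subgroups of order `p ^ (k + 1)` is divisible by `p`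
  have hcyc : p ∣ Nat.card {Z : Subgroup G // IsCyclic ↥Z ∧ Nat.card ↥Z = p ^ (k + 1)} := by
    by_cases hp2 : p = 2
    · subst hp2
      have hidx : 3 ≤ m → (commutator G).index ≠ 4 := by
        intro hm hidx
        exact h2 rfl (Cfsg.Agent.Lib.Lead.nilpotencyClass_of_index_commutator m hm hG hidx)
      have h1 := Cfsg.Agent.Lib.Helper4.Kul.even_cyc m G hG hnc hidx (k + 1) (by omega)
      exact even_iff_two_dvd.1 h1
    · have hGp : IsPGroup p G := IsPGroup.of_card hG
      obtain ⟨Q⟩ : Nonempty (Sylow p G) := inferInstance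
      have hQtop : (Q : Subgroup G) = ⊤ := by
        have h1 : IsPGroup p (⊤ : Subgroup G) := hGp.to_subgroup ⊤
        exact (Q.is_maximal' h1 le_top).symm
      have hQ : ¬ IsCyclic ↥(Q : Subgroup G) := by
        rw [hQtop]
        intro hc
        exact hnc ((Subgroup.topEquiv (G := G)).isCyclic.1 hc)
      exact Cfsg.Agent.Lib.Helper4.PC.card_cyclic_dvd p hp2 Q hQ (k + 1) (by omega)
  have h1 := Cfsg.Agent.Lib.Helper4.PW.frobenius G p (k + 1) hp hdvd
  have h3 := card_split (α := Subgroup G) (fun H => Nat.card H = p ^ (k + 1))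
    (fun H : Subgroup G => IsCyclic ↥H)
  rw [h3] at h1
  have h4 : Nat.card {Z : Subgroup G // IsCyclic ↥Z ∧ Nat.card ↥Z = p ^ (k + 1)} ≡ 0 [MOD p] :=
    (Nat.modEq_zero_iff_dvd).2 hcyc
  have h5 := Nat.ModEq.add_left n h4
  rw [add_zero] at h5
  have hn1 : n ≡ 1 [MOD p] := h5.symm.trans h1
  refine h.trans ?_
  apply Nat.ModEq.add_left
  have h6 : p * n ≡ p * 1 [MOD p * p] := Nat.ModEq.mul_left' p hn1
  rwa [← pow_two, mul_one] at h6

end Cfsg.Agent.S4157
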