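import Mathlib
import Cfsg.Statements.S4160
import Cfsg.Agent.Lib.Helper7.ConjCover

set_option autoImplicit false
open Cfsg

namespace Cfsg.Agent.S4160

open Cfsg.Agent.Lib.Helper7.ConjCover

/-- Burnside's transfer theorem in the form needed here -/
theorem hasNPC_of_normalizer_le {G : Type*} [Group G] [Finite G] {p : ℕ} [Fact p.Prime]
    (P : Sylow p G) (hP : Subgroup.normalizer ((P : Subgroup G) : Set G) ≤
      Subgroup.centralizer ((P : Subgroup G) : Set G)) : Cfsg.HasNormalPComplement p G :=
  ⟨P, (MonoidHom.transferSylow P hP).ker, inferInstance,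
    MonoidHom.ker_transferSylow_isComplement' P hP⟩

/-- Let G be a finite group and p ≠ q primes each dividing the size of some conjugacy class of G, such that no conjugacy class size is divisible by pq. Then G has a normal p-complement or a normal q-complement. -/
theorem result {G : Type*} [Group G] [Finite G] (p q : ℕ) (hp : p.Prime) (hq : q.Prime) (hpq : p ≠ q)
    (hp' : ∃ x : G, p ∣ (Subgroup.centralizer ({x} : Set G)).index) (hq' : ∃ x : G, q ∣ (Subgroup.centralizer ({x} : Set G)).index) (h : ∀ x : G, ¬ p * q ∣ (Subgroup.centralizer ({x} : Set G)).index) :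
    Cfsg.HasNormalPComplement p G ∨ Cfsg.HasNormalPComplement q G := by
  haveI := Fact.mk hp
  haveI := Fact.mk hq
  let P : Sylow p G := default
  let Q : Sylow q G := default
  by_contra hcon
  push_neg at hcon
  obtain ⟨hc1, hc2⟩ := hcon
  have hP : ¬ Subgroup.normalizer ((P : Subgroup G) : Set G) ≤
      Subgroup.centralizer ((P : Subgroup G) : Set G) := fun hh => hc1 (hasNPC_of_normalizer_le P hh)
  have hQ : ¬ Subgroup.normalizer ((Q : Subgroup G) : Set G) ≤
      Subgroup.centralizer ((Q : Subgroup G) : Set G) := fun hh => hc2 (hasNPC_of_normalizer_le Q hh)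
  have h1 := two_mul_le P hP
  have h2 := two_mul_le Q hQ
  have h3 := ncard_coprime_index_le P
  have h4 := ncard_coprime_index_le Q
  set A : Set G := {x : G | ¬ p ∣ (Subgroup.centralizer ({x} : Set G)).index} with hA
  set B : Set G := {x : G | ¬ q ∣ (Subgroup.centralizer ({x} : Set G)).index} with hB
  have hcop : Nat.Coprime p q := (Nat.coprime_primes hp hq).mpr hpq
  have hAB : A ∪ B = Set.univ := by
    rw [Set.eq_univ_iff_forall]
    intro x
    by_contra hx
    rw [Set.mem_union, not_or] at hx
    obtain ⟨hx1, hx2⟩ := hx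
    rw [hA, Set.mem_setOf_eq, not_not] at hx1
    rw [hB, Set.mem_setOf_eq, not_not] at hx2
    exact h x (hcop.mul_dvd_of_dvd_of_dvd hx1 hx2)
  have hone : (1 : G) ∈ A ∩ B := by
    have h5 : (Subgroup.centralizer ({1} : Set G)).index = 1 := by
      have : Subgroup.centralizer ({1} : Set G) = ⊤ := by
        rw [eq_top_iff]
        intro x _
        rw [Subgroup.mem_centralizer_iff]
        intro y hy
        rw [Set.mem_singleton_iff] at hy
        rw [hy, one_mul, mul_one]
      rw [this, Subgroup.index_top]
    constructor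
    · rw [hA, Set.mem_setOf_eq, h5, Nat.dvd_one]
      exact hp.one_lt.ne'
    · rw [hB, Set.mem_setOf_eq, h5, Nat.dvd_one]
      exact hq.one_lt.ne'
  have h6 : 1 ≤ (A ∩ B).ncard := by
    rw [Nat.succ_le_iff, Set.ncard_pos (Set.toFinite _)]
    exact ⟨1, hone⟩
  have h7 := Set.ncard_union_add_ncard_inter A B (Set.toFinite _) (Set.toFinite _)
  rw [hAB, Set.ncard_univ] at h7
  omega

end Cfsg.Agent.S4160
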