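import Cfsg.Statements.S4168

set_option autoImplicit false
open Cfsg

namespace Cfsg.Agent.S4168

open scoped IsMulCommutative in
theorem pow_index_center_eq_one {L : Type*} [Group L] [Finite L] [Group.IsPerfect L] (g : L) :
    g ^ (Subgroup.center L).index = 1 := by
  let f : L →* Subgroup.center L := MonoidHom.transferCenterPow L
  have hker : commutator L ≤ f.ker := by
    rw [commutator_def, Subgroup.commutator_le]
    intro a _ b _
    rw [MonoidHom.mem_ker, map_commutatorElement]
    exact commutatorElement_eq_one_iff_commute.mpr (mul_comm (f a) (f b))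
  have hg : g ∈ commutator L := Group.IsPerfect.mem_commutator
  have := hker hg
  rw [MonoidHom.mem_ker] at this
  have h2 := congrArg Subtype.val this
  simpa [f] using h2

theorem result {L : Type*} [Group L] [Finite L] (hL : Cfsg.IsQuasisimple L)
    (p : ℕ) (hp : p.Prime) (hdiv : p ∣ Nat.card (Subgroup.center L)) : p ∣ (Subgroup.center L).index := by
  classical
  obtain ⟨hperf, -⟩ := hL
  have : Fact p.Prime := ⟨hp⟩
  obtain ⟨z, hz⟩ := exists_prime_orderOf_dvd_card' p hdiv
  have h1 : (z : L) ^ (Subgroup.center L).index = 1 := pow_index_center_eq_one (z : L)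
  have h2 : orderOf (z : L) = p := by
    rw [Subgroup.orderOf_coe]; exact hz
  rw [← h2]
  exact orderOf_dvd_of_pow_eq_one h1
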