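import Cfsg.Statements.S4170
import Mathlib.GroupTheory.Sylow

set_option autoImplicit false
open scoped Pointwise
open Cfsg

namespace Cfsg.Agent.S4170

theorem exists_conj_le {G : Type*} [Group G] [Finite G] (p : ℕ) [Fact p.Prime]
    (Q : Sylow p G) (N S : Subgroup G) (hQN : (Q : Subgroup G) ≤ N) (hSN : S ≤ N)
    (hS : ¬ p ∣ S.index) :
    ∃ n ∈ N, ∀ q ∈ (Q : Subgroup G), n * q * n⁻¹ ∈ S := by
  classical
  obtain ⟨R⟩ : Nonempty (Sylow p S) := inferInstance
  have hRp : IsPGroup p ((R : Subgroup S).map S.subtype) := R.2.map _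
  have hRidx : ¬ p ∣ ((R : Subgroup S).map S.subtype).index := by
    rw [Subgroup.index_map_subtype]
    intro h
    rcases (Nat.Prime.dvd_mul (Fact.out : p.Prime)).1 h with h | h
    · exact R.not_dvd_index h
    · exact hS h
  set Q' : Sylow p G := hRp.toSylow hRidx with hQ'
  have hQ'S : (Q' : Subgroup G) ≤ S := by
    intro x hx
    rw [hQ', IsPGroup.toSylow_coe] at hx
    obtain ⟨y, _, rfl⟩ := hx
    exact y.2
  have hQ'N : (Q' : Subgroup G) ≤ N := hQ'S.trans hSN
  obtain ⟨n, hn⟩ := MulAction.exists_smul_eq N (Q.subtype hQN) (Q'.subtype hQ'N)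
  rw [Sylow.smul_subtype] at hn
  have hn' : n • Q = Q' := Sylow.subtype_injective hn
  refine ⟨n, n.2, fun q hq => hQ'S ?_⟩
  rw [← hn']
  have : ((n • Q : Sylow p G) : Subgroup G) = MulAut.conj (n : G) • (Q : Subgroup G) := rfl
  rw [this]
  exact ⟨q, hq, rfl⟩


/-- Let p be an odd prime and G a nontrivial group of permutations of a finite set Ω that is generated by its elements of p-power order. Then Ω has two disjoint nonempty subsets Δ₁ and Δ₂ such that the index in G of the subgroup of elements mapping Δ₁ onto Δ₁ and Δ₂ onto Δ₂ (and hence also the complement of their union onto itself) is divisible by p. -/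
theorem result {Ω : Type*} [Fintype Ω] (p : ℕ) [Fact p.Prime] (hp : p ≠ 2) (G : Subgroup (Equiv.Perm Ω)) (hG : G ≠ ⊥) (hgen : Subgroup.closure {g : G | ∃ k : ℕ, orderOf g = p ^ k} = ⊤) :
    ∃ Δ₁ Δ₂ : Set Ω, Δ₁.Nonempty ∧ Δ₂.Nonempty ∧ Disjoint Δ₁ Δ₂ ∧ p ∣ (MulAction.stabilizer G Δ₁ ⊓ MulAction.stabilizer G Δ₂).index := by
  classical
  have hpp : p.Prime := Fact.out
  -- p divides |G|
  have hdvd : p ∣ Nat.card G := by
    by_contra hnd
    apply hG
    have hall : ∀ g : G, (∃ k : ℕ, orderOf g = p ^ k) → g = 1 := by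
      rintro g ⟨k, hk⟩
      rcases Nat.eq_zero_or_pos k with rfl | hkpos
      · simpa using hk
      · exfalso
        apply hnd
        have h1 : p ∣ orderOf g := by
          rw [hk]; exact dvd_pow_self p hkpos.ne'
        exact h1.trans (orderOf_dvd_natCard g)
    have hbot : (⊤ : Subgroup G) = ⊥ := by
      rw [← hgen, Subgroup.closure_eq_bot_iff]
      intro g hg
      exact hall g hg
    rw [Subgroup.eq_bot_iff_forall]
    intro x hx
    have : (⟨x, hx⟩ : G) ∈ (⊤ : Subgroup G) := Subgroup.mem_top _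
    rw [hbot, Subgroup.mem_bot] at this
    exact congrArg Subtype.val this
  obtain ⟨Q⟩ : Nonempty (Sylow p G) := inferInstance
  have hQne : (Q : Subgroup G) ≠ ⊥ := Q.ne_bot_of_dvd_card hdvd
  -- a nontrivial element of Q and a point it moves
  obtain ⟨q, hqQ, hq1⟩ : ∃ q ∈ (Q : Subgroup G), q ≠ 1 := by
    by_contra h
    push Not at h
    exact hQne ((Subgroup.eq_bot_iff_forall _).2 h)
  have hqperm : (q : Equiv.Perm Ω) ≠ 1 := fun h => hq1 (Subtype.ext h)
  obtain ⟨ω, hω⟩ : ∃ ω : Ω, (q : Equiv.Perm Ω) ω ≠ ω := by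
    by_contra h
    push Not at h
    exact hqperm (Equiv.ext h)
  -- fixed points of Q
  set F : Set Ω := {x | ∀ r ∈ (Q : Subgroup G), r • x = x} with hF
  have hωF : ω ∉ F := fun h => hω (h q hqQ)
  by_cases hFne : F.Nonempty
  · refine ⟨F, {ω}, hFne, Set.singleton_nonempty ω, ?_, ?_⟩
    · rw [Set.disjoint_singleton_right]; exact hωF
    · by_contra hnd
      have hQN : (Q : Subgroup G) ≤ MulAction.stabilizer G F := by
        intro r hr
        rw [MulAction.mem_stabilizer_iff]
        ext x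
        constructor
        · rintro ⟨y, hy, rfl⟩
          show r • y ∈ F
          rw [hy r hr]; exact hy
        · intro hx
          exact ⟨x, hx, hx r hr⟩
      obtain ⟨n, hnN, hn⟩ := exists_conj_le p Q (MulAction.stabilizer G F)
        (MulAction.stabilizer G F ⊓ MulAction.stabilizer G ({ω} : Set Ω)) hQN inf_le_left hnd
      apply hωF
      -- n⁻¹ • ω is fixed by Q
      have h1 : n⁻¹ • ω ∈ F := by
        intro r hr
        have h2 : n * r * n⁻¹ ∈ MulAction.stabilizer G ({ω} : Set Ω) := (hn r hr).2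
        rw [MulAction.mem_stabilizer_iff, Set.smul_set_singleton, Set.singleton_eq_singleton_iff] at h2
        calc r • n⁻¹ • ω = n⁻¹ • ((n * r * n⁻¹) • ω) := by simp [mul_smul]
          _ = n⁻¹ • ω := by rw [h2]
      have h3 : n • F = F := (MulAction.mem_stabilizer_iff).1 hnN
      have : n • (n⁻¹ • ω) ∈ n • F := Set.smul_mem_smul_set h1
      rwa [smul_inv_smul, h3] at this
  · -- Q has no fixed points
    rw [Set.not_nonempty_iff_eq_empty] at hFne
    refine ⟨{ω}, {(q : Equiv.Perm Ω) ω}, Set.singleton_nonempty _, Set.singleton_nonempty _, ?_, ?_⟩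
    · rw [Set.disjoint_singleton]; exact fun h => hω h.symm
    · by_contra hnd
      obtain ⟨n, -, hn⟩ := exists_conj_le p Q ⊤
        (MulAction.stabilizer G ({ω} : Set Ω) ⊓ MulAction.stabilizer G ({(q : Equiv.Perm Ω) ω} : Set Ω)) le_top le_top hnd
      have h1 : n⁻¹ • ω ∈ F := by
        intro r hr
        have h2 : n * r * n⁻¹ ∈ MulAction.stabilizer G ({ω} : Set Ω) := (hn r hr).1
        rw [MulAction.mem_stabilizer_iff, Set.smul_set_singleton, Set.singleton_eq_singleton_iff] at h2
        calc r • n⁻¹ • ω = n⁻¹ • ((n * r * n⁻¹) • ω) := by simp [mul_smul]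
          _ = n⁻¹ • ω := by rw [h2]
      rw [hFne] at h1
      exact h1

end Cfsg.Agent.S4170
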