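import Cfsg.Statements.S4177

set_option autoImplicit false

open Cfsg

namespace Cfsg.Agent.S4177

open Finset

section GA
variable {H X Y : Type*} [Group H] [Finite H] [MulAction H X] [MulAction H Y]

/-- coprime orbit sizes: the stabilizer of `b` is transitive on the orbit of `a` -/
theorem exists_stab_smul_eq (a : X) (b : Y)
    (hcop : (Nat.card (MulAction.orbit H a)).Coprime (Nat.card (MulAction.orbit H b))) (h : H) :
    ∃ β : H, β • b = b ∧ β • a = h • a := by
  have hsub : MulAction.orbit H (a, b) ⊆ (MulAction.orbit H a) ×ˢ (MulAction.orbit H b) := by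
    rintro _ ⟨g, rfl⟩
    exact ⟨⟨g, rfl⟩, ⟨g, rfl⟩⟩
  have hfa : (MulAction.orbit H a).Finite := Set.finite_range _
  have hfb : (MulAction.orbit H b).Finite := Set.finite_range _
  have hfin : ((MulAction.orbit H a) ×ˢ (MulAction.orbit H b)).Finite := hfa.prod hfb
  have h1 : Nat.card (MulAction.orbit H a) ∣ Nat.card (MulAction.orbit H (a, b)) := by
    rw [Nat.card_coe_set_eq, Nat.card_coe_set_eq, ← MulAction.index_stabilizer, ← MulAction.index_stabilizer]
    apply Subgroup.index_dvd_of_le
    intro g hg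
    rw [MulAction.mem_stabilizer_iff] at hg ⊢
    exact (Prod.ext_iff.mp hg).1
  have h2 : Nat.card (MulAction.orbit H b) ∣ Nat.card (MulAction.orbit H (a, b)) := by
    rw [Nat.card_coe_set_eq, Nat.card_coe_set_eq, ← MulAction.index_stabilizer, ← MulAction.index_stabilizer]
    apply Subgroup.index_dvd_of_le
    intro g hg
    rw [MulAction.mem_stabilizer_iff] at hg ⊢
    exact (Prod.ext_iff.mp hg).2
  have h3 := Nat.Coprime.mul_dvd_of_dvd_of_dvd hcop h1 h2
  have hpos : 0 < Nat.card (MulAction.orbit H (a, b)) := by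
    have : Nonempty (MulAction.orbit H (a, b)) := ⟨⟨_, MulAction.mem_orbit_self _⟩⟩
    have : Finite (MulAction.orbit H (a, b)) := Set.finite_range _
    exact Nat.card_pos
  have h4 : ((MulAction.orbit H a) ×ˢ (MulAction.orbit H b)).ncard ≤ (MulAction.orbit H (a, b)).ncard := by
    rw [Set.ncard_prod, ← Nat.card_coe_set_eq, ← Nat.card_coe_set_eq, ← Nat.card_coe_set_eq]
    exact Nat.le_of_dvd hpos h3
  have heq := Set.eq_of_subset_of_ncard_le hsub h4 hfin
  have hmem : (h • a, b) ∈ MulAction.orbit H (a, b) := by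
    rw [heq]
    exact ⟨⟨h, rfl⟩, MulAction.mem_orbit_self _⟩
  obtain ⟨β, hβ⟩ := hmem
  have := Prod.ext_iff.mp hβ
  exact ⟨β, this.2, this.1⟩

end GA

section L1
variable {k V K : Type*} [Field k] [AddCommGroup V] [Module k V] [Group K] [Fintype K]

theorem invariants_le_span (hK : (Fintype.card K : k) ≠ 0) (σ : Representation k K V) (a : V)
    (hspan : Submodule.span k (Set.range (fun κ : K => σ κ a)) = ⊤) :
    σ.invariants ≤ Submodule.span k {∑ κ : K, σ κ a} := by
  obtain ⟨S, hSdef⟩ : ∃ S : V →ₗ[k] V, S = ∑ κ : K, σ κ := ⟨_, rfl⟩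
  have hS : ∀ v, S v = ∑ κ : K, σ κ v := by
    intro v; rw [hSdef, LinearMap.sum_apply]
  have hSσ : ∀ g v, S (σ g v) = S v := by
    intro g v
    rw [hS, hS]
    have : ∀ κ : K, σ κ (σ g v) = σ (κ * g) v := by
      intro κ; rw [map_mul]; rfl
    simp_rw [this]
    exact Fintype.sum_bijective (fun κ => κ * g) (Group.mulRight_bijective g) _ _ (fun _ => rfl)
  have hmap : ∀ v, S v ∈ Submodule.span k {S a} := by
    intro v
    have hv : v ∈ Submodule.span k (Set.range (fun κ : K => σ κ a)) := by rw [hspan]; trivial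
    induction hv using Submodule.span_induction with
    | mem x hx =>
      obtain ⟨g, rfl⟩ := hx
      rw [hSσ]; exact Submodule.subset_span rfl
    | zero => rw [map_zero]; exact zero_mem _
    | add x y _ _ hx hy => rw [map_add]; exact add_mem hx hy
    | smul c x _ hx => rw [map_smul]; exact Submodule.smul_mem _ c hx
  intro w hw
  rw [Representation.mem_invariants] at hw
  have hw' : S w = (Fintype.card K : k) • w := by
    rw [hS]
    simp_rw [hw]
    rw [Finset.sum_const, Finset.card_univ, Nat.cast_smul_eq_nsmul]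
  have : w = (Fintype.card K : k)⁻¹ • S w := by
    rw [hw', smul_smul, inv_mul_cancel₀ hK, one_smul]
  rw [this, ← hS a]
  exact Submodule.smul_mem _ _ (hmap w)

theorem sum_eq_card_smul [DecidableEq V] (σ : Representation k K V) (a : V) :
    ∑ κ : K, σ κ a = (#(univ.filter (fun κ : K => σ κ a = a))) •
      ∑ u ∈ univ.image (fun κ : K => σ κ a), u := by
  have h := Finset.sum_comp (s := (univ : Finset K)) (fun u : V => u) (fun κ : K => σ κ a)
  rw [h, Finset.smul_sum]
  apply Finset.sum_congr rfl
  intro u hu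
  obtain ⟨κ₀, -, rfl⟩ := Finset.mem_image.mp hu
  congr 1
  apply Finset.card_nbij' (fun κ => κ₀⁻¹ * κ) (fun κ => κ₀ * κ)
  · intro κ hκ
    simp only [Finset.coe_filter, Finset.mem_univ, true_and, Set.mem_ofPred_eq] at hκ ⊢
    rw [map_mul, Module.End.mul_apply, hκ, ← Module.End.mul_apply, ← map_mul, inv_mul_cancel, map_one]
    rfl
  · intro κ hκ
    simp only [Finset.coe_filter, Finset.mem_univ, true_and, Set.mem_ofPred_eq] at hκ ⊢
    rw [map_mul, Module.End.mul_apply, hκ]
  · intro κ _; simp
  · intro κ _; simp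

theorem orbitSum_invariant [DecidableEq V] (σ : Representation k K V) (a : V) (h : K) :
    σ h (∑ u ∈ univ.image (fun g : K => σ g a), u) = ∑ u ∈ univ.image (fun g : K => σ g a), u := by
  rw [map_sum]
  apply Finset.sum_nbij' (fun u => σ h u) (fun u => σ h⁻¹ u)
  · intro u hu
    obtain ⟨g, -, rfl⟩ := Finset.mem_image.mp hu
    rw [Finset.mem_image]
    refine ⟨h * g, Finset.mem_univ _, ?_⟩
    rw [map_mul]; rfl
  · intro u hu
    obtain ⟨g, -, rfl⟩ := Finset.mem_image.mp hu
    rw [Finset.mem_image]
    refine ⟨h⁻¹ * g, Finset.mem_univ _, ?_⟩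
    rw [map_mul]; rfl
  · intro u _
    rw [← Module.End.mul_apply, ← map_mul, inv_mul_cancel, map_one]; rfl
  · intro u _
    rw [← Module.End.mul_apply, ← map_mul, mul_inv_cancel, map_one]; rfl
  · intro u _; rfl

end L1

theorem result {k V H : Type*} [Field k] [AddCommGroup V] [Module k V] [Group H] [Finite H]
    (hchar : ¬ ringChar k ∣ Nat.card H) (ρ : Representation k H V) (a : V)
    (hspan : Submodule.span k {u : V | ∃ h : H, ρ h a = u} = ⊤) :
    Module.finrank k ρ.invariants ≤ 1 ∧
    ∀ b : V, (Nat.card {u : V | ∃ h : H, ρ h a = u}).Coprime (Nat.card {u : V | ∃ h : H, ρ h b = u}) → ∀ h : H, ρ h b = b := by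
  classical
  have : Fintype H := Fintype.ofFinite H
  have hdvdne : ∀ n : ℕ, n ∣ Nat.card H → (n : k) ≠ 0 := by
    intro n hn h0
    apply hchar
    exact dvd_trans ((ringChar.spec k n).mp h0) hn
  have hH : (Fintype.card H : k) ≠ 0 := by
    apply hdvdne
    rw [Nat.card_eq_fintype_card]
  have hspan' : Submodule.span k (Set.range (fun h : H => ρ h a)) = ⊤ := hspan
  constructor
  · have hle := invariants_le_span hH ρ a hspan'
    have h1 : Module.finrank k (Submodule.span k {∑ κ : H, ρ κ a}) ≤ 1 := by
      refine (finrank_span_le_card ({∑ κ : H, ρ κ a} : Set V)).trans ?_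
      simp
    exact (Submodule.finrank_mono hle).trans h1
  · intro b hcop h
    let _ : MulAction H V := MulAction.compHom V (ρ : H →* Module.End k V)
    have hsmul : ∀ (g : H) (v : V), g • v = ρ g v := fun _ _ => rfl
    have hGA := fun g : H => exists_stab_smul_eq (H := H) a b hcop g
    obtain ⟨B, hB⟩ : ∃ B : Subgroup H, B = MulAction.stabilizer H b := ⟨_, rfl⟩
    obtain ⟨σ, hσ⟩ : ∃ σ : Representation k B V, σ = (ρ : H →* Module.End k V).comp B.subtype := ⟨_, rfl⟩
    have hσapp : ∀ (β : B) (v : V), σ β v = ρ (β : H) v := by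
      intro β v; rw [hσ]; rfl
    have hrange : Set.range (fun β : B => σ β a) = Set.range (fun h : H => ρ h a) := by
      ext u
      constructor
      · rintro ⟨β, rfl⟩
        exact ⟨β, (hσapp β a).symm⟩
      · rintro ⟨g, rfl⟩
        obtain ⟨β, hβb, hβa⟩ := hGA g
        refine ⟨⟨β, ?_⟩, ?_⟩
        · rw [hB]; exact hβb
        · show σ ⟨β, _⟩ a = ρ g a
          rw [hσapp]
          exact hβa
    have hspanB : Submodule.span k (Set.range (fun β : B => σ β a)) = ⊤ := by
      rw [hrange]; exact hspan'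
    have hBk : (Fintype.card B : k) ≠ 0 := by
      apply hdvdne
      rw [← Nat.card_eq_fintype_card]
      exact Subgroup.card_subgroup_dvd_card B
    have hbinv : b ∈ σ.invariants := by
      rw [Representation.mem_invariants]
      intro β
      rw [hσapp]
      have h2 : (β : H) ∈ MulAction.stabilizer H b := by rw [← hB]; exact β.2
      exact MulAction.mem_stabilizer_iff.mp h2
    have hb := invariants_le_span hBk σ a hspanB hbinv
    rw [Submodule.mem_span_singleton] at hb
    obtain ⟨c, hc⟩ := hb
    have himg : univ.image (fun β : B => σ β a) = univ.image (fun h : H => ρ h a) := by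
      apply Finset.coe_injective
      rw [Finset.coe_image, Finset.coe_image, Finset.coe_univ, Finset.coe_univ, Set.image_univ, Set.image_univ]
      exact hrange
    rw [sum_eq_card_smul σ a, himg] at hc
    rw [← hc, map_smul, map_nsmul, orbitSum_invariant ρ a h]

end Cfsg.Agent.S4177
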