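import Mathlib
import Cfsg.Statements.S4178

set_option autoImplicit false
open Cfsg

namespace Cfsg.Agent.S4178

section General

variable {H X : Type*} [Group H] [MulAction H X] [Finite X]

/-- A subgroup containing a point stabilizer has index at most the size of the orbit. -/
theorem index_le_of_stabilizer_le (R : Subgroup H) (x : X) (hx : MulAction.stabilizer H x ≤ R) :
    R.index ≤ (MulAction.orbit H x).ncard := by
  have h1 : R.index ∣ (MulAction.stabilizer H x).index := Subgroup.index_dvd_of_le hx
  rw [MulAction.index_stabilizer] at h1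
  apply Nat.le_of_dvd _ h1
  rw [Set.ncard_pos (Set.toFinite _)]
  exact MulAction.nonempty_orbit x

end General

section Main

variable {F V : Type*} [Field F] [Fintype F] [AddCommGroup V] [Module F V] [FiniteDimensional F V]

theorem card_eq_pow : Nat.card V = Fintype.card F ^ Module.finrank F V := by
  have : Finite V := Module.finite_of_finite F
  have : Fintype V := Fintype.ofFinite V
  rw [Nat.card_eq_fintype_card]
  exact Module.card_eq_pow_finrank

/-- The action of `H` on the quotient by an invariant subspace. -/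
@[reducible] noncomputable def quotAction (H : Subgroup (V ≃ₗ[F] V)) (W : Submodule F V)
    (hW : ∀ h ∈ H, ∀ w ∈ W, h w ∈ W) : MulAction ↥H (V ⧸ W) where
  smul h x := W.mapQ W ((h : V ≃ₗ[F] V) : V →ₗ[F] V) (fun w hw => hW h h.2 w hw) x
  one_smul x := by
    induction x using Submodule.Quotient.induction_on with
    | H u =>
      change W.mapQ W _ _ (Submodule.Quotient.mk u) = _
      rw [Submodule.mapQ_apply]
      rfl
  mul_smul h₁ h₂ x := by
    induction x using Submodule.Quotient.induction_on with
    | H u =>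
      change W.mapQ W _ _ (Submodule.Quotient.mk u) =
        W.mapQ W _ _ (W.mapQ W _ _ (Submodule.Quotient.mk u))
      rw [Submodule.mapQ_apply, Submodule.mapQ_apply, Submodule.mapQ_apply]
      rfl

theorem quotAction_smul_mk (H : Subgroup (V ≃ₗ[F] V)) (W : Submodule F V)
    (hW : ∀ h ∈ H, ∀ w ∈ W, h w ∈ W) (h : ↥H) (u : V) :
    (quotAction H W hW).smul h (Submodule.Quotient.mk u) =
      Submodule.Quotient.mk ((h : V ≃ₗ[F] V) u) := by
  change W.mapQ W _ _ (Submodule.Quotient.mk u) = _
  rw [Submodule.mapQ_apply]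
  rfl

/-- An element of `H` moving `v` inside its coset `v + W` (with `v ∉ W`) has eigenvalue one. -/
theorem exists_fixed_of_coset_fixed (W : Submodule F V) (h : V ≃ₗ[F] V)
    (hW : ∀ w ∈ W, h w ∈ W) (v : V) (hv : v ∉ W) (hhv : h v - v ∈ W) :
    ∃ u : V, u ≠ 0 ∧ h u = u := by
  by_contra hcon
  push Not at hcon
  -- `h - 1` is injective on `V`
  set f : V →ₗ[F] V := (h : V →ₗ[F] V) - LinearMap.id with hf
  have hfinj : Function.Injective f := by
    rw [← LinearMap.ker_eq_bot, LinearMap.ker_eq_bot']
    intro u hu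
    by_contra hu0
    apply hcon u hu0
    have : h u - u = 0 := by simpa [hf] using hu
    exact sub_eq_zero.1 this
  -- `f` restricts to `W`
  have hfW : ∀ w ∈ W, f w ∈ W := by
    intro w hw
    have : f w = h w - w := by simp [hf]
    rw [this]
    exact W.sub_mem (hW w hw) hw
  set g : W →ₗ[F] W := f.restrict hfW with hg
  have hginj : Function.Injective g := by
    intro a b hab
    have := congrArg Subtype.val hab
    simp only [hg, LinearMap.coe_restrict_apply] at this
    exact Subtype.ext (hfinj this)
  have hgsurj : Function.Surjective g := LinearMap.surjective_of_injective hginj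
  obtain ⟨w', hw'⟩ := hgsurj ⟨h v - v, hhv⟩
  have h1 : f (w' : V) = h v - v := by
    have := congrArg Subtype.val hw'
    simpa [hg, LinearMap.coe_restrict_apply] using this
  have h2 : f v = h v - v := by simp [hf]
  have h3 : (w' : V) = v := hfinj (h1.trans h2.symm)
  exact hv (h3 ▸ w'.2)

theorem sqrt_bound (q d e n : ℕ) (hq : 1 ≤ q) (he : 2 * e ≤ d) (hn : n ≤ q ^ e - 1) :
    (n : ℝ) ≤ Real.sqrt ((q : ℝ) ^ d) - 1 := by
  have h1 : n + 1 ≤ q ^ e := by
    have : 1 ≤ q ^ e := Nat.one_le_pow _ _ hq
    omega
  have h2 : ((q : ℝ) ^ e) = Real.sqrt (((q : ℝ) ^ e) ^ 2) := by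
    rw [Real.sqrt_sq]
    positivity
  have h3 : ((q : ℝ) ^ e) ^ 2 ≤ (q : ℝ) ^ d := by
    rw [← pow_mul, mul_comm]
    apply pow_le_pow_right₀ _ he
    exact_mod_cast hq
  have h4 : ((q : ℝ) ^ e) ≤ Real.sqrt ((q : ℝ) ^ d) := by
    rw [h2]
    exact Real.sqrt_le_sqrt h3
  have h5 : ((n : ℝ) + 1) ≤ (q : ℝ) ^ e := by exact_mod_cast h1
  linarith

end Main

/-- Let F be a finite field with q elements, V a non-zero finite-dimensional F-space of dimension d, H a group of invertible linear maps of V, and R the subgroup of H generated by the elements of H that fix some non-zero vector (have eigenvalue 1). Then the index of R in H is at most q^d − 1; and if H leaves invariant some proper non-zero subspace, the index is at most q^(d/2) − 1. -/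
theorem result {F V : Type*} [Field F] [Fintype F] [AddCommGroup V] [Module F V] [FiniteDimensional F V] [Nontrivial V]
    (H : Subgroup (V ≃ₗ[F] V)) :
    (Subgroup.closure {h : ↥H | ∃ v : V, v ≠ 0 ∧ (h : V ≃ₗ[F] V) v = v}).index ≤ Fintype.card F ^ Module.finrank F V - 1 ∧
    ((∃ W : Submodule F V, W ≠ ⊥ ∧ W ≠ ⊤ ∧ ∀ h ∈ H, ∀ w ∈ W, h w ∈ W) →
      ((Subgroup.closure {h : ↥H | ∃ v : V, v ≠ 0 ∧ (h : V ≃ₗ[F] V) v = v}).index : ℝ) ≤ Real.sqrt ((Fintype.card F : ℝ) ^ Module.finrank F V) - 1) := by
  classical
  have hVfin : Finite V := Module.finite_of_finite F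
  set R := Subgroup.closure {h : ↥H | ∃ v : V, v ≠ 0 ∧ (h : V ≃ₗ[F] V) v = v} with hR
  have hq1 : 1 ≤ Fintype.card F := Fintype.card_pos
  -- orbits of nonzero vectors inside an invariant subspace
  have horb : ∀ (W : Submodule F V), (∀ h ∈ H, ∀ w ∈ W, h w ∈ W) → W ≠ ⊥ →
      R.index ≤ Fintype.card F ^ Module.finrank F W - 1 := by
    intro W hW hW0
    obtain ⟨v, hvW, hv0⟩ := Submodule.exists_mem_ne_zero_of_ne_bot hW0
    have hstab : MulAction.stabilizer (↥H) v ≤ R := by
      intro h hh
      apply Subgroup.subset_closure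
      refine ⟨v, hv0, ?_⟩
      exact MulAction.mem_stabilizer_iff.1 hh
    refine (index_le_of_stabilizer_le R v hstab).trans ?_
    have hsub : MulAction.orbit (↥H) v ⊆ ((W : Set V) \ {0}) := by
      rintro _ ⟨h, rfl⟩
      refine ⟨hW h h.2 v hvW, ?_⟩
      rw [Set.mem_singleton_iff]
      intro h0
      apply hv0
      have : (h : V ≃ₗ[F] V) v = 0 := h0
      exact (LinearEquiv.map_eq_zero_iff _).1 this
    have hWfin : Finite W := Module.finite_of_finite F
    calc (MulAction.orbit (↥H) v).ncard ≤ ((W : Set V) \ {0}).ncard :=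
          Set.ncard_le_ncard hsub (Set.toFinite _)
      _ = (W : Set V).ncard - 1 := by
          rw [Set.ncard_sdiff_singleton_of_mem (W.zero_mem)]
      _ = Fintype.card F ^ Module.finrank F W - 1 := by
          rw [← card_eq_pow (F := F) (V := W)]
          rfl
  constructor
  · have h := horb ⊤ (fun _ _ _ _ => Submodule.mem_top) top_ne_bot
    rwa [finrank_top] at h
  · rintro ⟨W, hW0, hWtop, hW⟩
    have hd : Module.finrank F W < Module.finrank F V := Submodule.finrank_lt hWtop
    by_cases hcase : 2 * Module.finrank F W ≤ Module.finrank F V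
    · exact sqrt_bound _ _ _ _ hq1 hcase (horb W hW hW0)
    · push Not at hcase
      have hquot : Module.finrank F (V ⧸ W) + Module.finrank F W = Module.finrank F V :=
        Submodule.finrank_quotient_add_finrank W
      have hcase' : 2 * Module.finrank F (V ⧸ W) ≤ Module.finrank F V := by omega
      apply sqrt_bound _ _ _ _ hq1 hcase'
      -- a vector outside `W`
      obtain ⟨v, hv⟩ : ∃ v : V, v ∉ W := by
        by_contra hcon
        push Not at hcon
        exact hWtop (eq_top_iff.2 fun v _ => hcon v)
      letI := quotAction H W hW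
      have hQfin : Finite (V ⧸ W) := Module.finite_of_finite F
      have hstab : MulAction.stabilizer (↥H) (Submodule.Quotient.mk v : V ⧸ W) ≤ R := by
        intro h hh
        apply Subgroup.subset_closure
        have h1 : h • (Submodule.Quotient.mk v : V ⧸ W) = Submodule.Quotient.mk v :=
          MulAction.mem_stabilizer_iff.1 hh
        have h2 : h • (Submodule.Quotient.mk v : V ⧸ W) =
            Submodule.Quotient.mk ((h : V ≃ₗ[F] V) v) := quotAction_smul_mk H W hW h v
        rw [h2, Submodule.Quotient.eq] at h1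
        exact exists_fixed_of_coset_fixed W (h : V ≃ₗ[F] V) (hW h h.2) v hv h1
      refine (index_le_of_stabilizer_le R (Submodule.Quotient.mk v : V ⧸ W) hstab).trans ?_
      have hsub : MulAction.orbit (↥H) (Submodule.Quotient.mk v : V ⧸ W) ⊆
          ((Set.univ : Set (V ⧸ W)) \ {0}) := by
        rintro _ ⟨h, rfl⟩
        refine ⟨Set.mem_univ _, ?_⟩
        rw [Set.mem_singleton_iff]
        intro h0
        have h2 : h • (Submodule.Quotient.mk v : V ⧸ W) =
            Submodule.Quotient.mk ((h : V ≃ₗ[F] V) v) := quotAction_smul_mk H W hW h v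
        have h3 : (Submodule.Quotient.mk ((h : V ≃ₗ[F] V) v) : V ⧸ W) = 0 := h2.symm.trans h0
        rw [Submodule.Quotient.mk_eq_zero] at h3
        apply hv
        have h4 := hW (h⁻¹ : ↥H) (h⁻¹ : ↥H).2 _ h3
        have h5 : ((h⁻¹ : ↥H) : V ≃ₗ[F] V) ((h : V ≃ₗ[F] V) v) = v := by
          have : ((h⁻¹ * h : ↥H) : V ≃ₗ[F] V) v = v := by
            rw [inv_mul_cancel]; rfl
          exact this
        rwa [h5] at h4
      calc (MulAction.orbit (↥H) (Submodule.Quotient.mk v : V ⧸ W)).ncard
          ≤ ((Set.univ : Set (V ⧸ W)) \ {0}).ncard := Set.ncard_le_ncard hsub (Set.toFinite _)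
        _ = (Set.univ : Set (V ⧸ W)).ncard - 1 := by
            rw [Set.ncard_sdiff_singleton_of_mem (Set.mem_univ _)]
        _ = Fintype.card F ^ Module.finrank F (V ⧸ W) - 1 := by
            rw [Set.ncard_univ, card_eq_pow (F := F) (V := V ⧸ W)]

end Cfsg.Agent.S4178
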