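import Cfsg.Statements.S4186

set_option autoImplicit false
open Cfsg

namespace Cfsg.Agent.S4186

theorem key {G : Type*} [Group G] (T X : Subgroup G) (hT : IsPGroup 2 ↥T)
    (hTN : T ≤ Subgroup.normalizer (X : Set G)) :
    ∀ n : ℕ, ∀ t ∈ T, orderOf t = n → t ∉ Subgroup.centralizer (X : Set G) →
      ∃ t ∈ T, ∃ x ∈ X, x ≠ 1 ∧ t * x * t⁻¹ = x⁻¹ := by
  intro n
  induction n using Nat.strong_induction_on with
  | _ n ih =>
    intro t htT hn htC
    -- order of t is a power of two
    obtain ⟨k, hk⟩ := hT ⟨t, htT⟩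
    have hk' : t ^ 2 ^ k = 1 := by
      have := congrArg Subtype.val hk
      simpa using this
    have ht1 : t ≠ 1 := by
      rintro rfl
      exact htC (Subgroup.one_mem _)
    obtain ⟨j, hj, hjo⟩ := (Nat.dvd_prime_pow Nat.prime_two).mp (orderOf_dvd_of_pow_eq_one hk')
    have hj0 : j ≠ 0 := by
      rintro rfl
      rw [pow_zero, orderOf_eq_one_iff] at hjo
      exact ht1 hjo
    by_cases h2 : t ^ 2 ∈ Subgroup.centralizer (X : Set G)
    · -- main case
      have : ∃ x ∈ X, x * t ≠ t * x := by
        by_contra hcon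
        push Not at hcon
        apply htC
        rw [Subgroup.mem_centralizer_iff]
        intro x hx
        exact hcon x hx
      obtain ⟨x, hxX, hxt⟩ := this
      have htx : t * x * t⁻¹ ∈ X := by
        have := hTN htT
        rw [Subgroup.mem_normalizer_iff] at this
        exact (this x).mp hxX
      refine ⟨t, htT, x⁻¹ * (t * x * t⁻¹), X.mul_mem (X.inv_mem hxX) htx, ?_, ?_⟩
      · intro h
        apply hxt
        have : t * x * t⁻¹ = x := by
          have := congrArg (fun z => x * z) h
          simpa using this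
        calc x * t = (t * x * t⁻¹) * t := by rw [this]
          _ = t * x := by group
      · have hcomm : x * t ^ 2 = t ^ 2 * x := by
          rw [Subgroup.mem_centralizer_iff] at h2
          exact h2 x hxX
        have e1 : t * (x⁻¹ * (t * x * t⁻¹)) * t⁻¹ = (t * x⁻¹ * t⁻¹) * (t ^ 2 * x * (t ^ 2)⁻¹) := by
          rw [pow_two]; group
        rw [e1, ← hcomm]
        group
    · -- recurse on t ^ 2
      have hlt : orderOf (t ^ 2) < n := by
        have hg : Nat.gcd (2 ^ j) 2 = 2 := by
          obtain ⟨i, rfl⟩ := Nat.exists_eq_succ_of_ne_zero hj0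
          rw [pow_succ]
          simp
        rw [orderOf_pow' t (by norm_num : (2:ℕ) ≠ 0), ← hn, hjo, hg]
        exact Nat.div_lt_self (pow_pos (by norm_num) j) (by norm_num)
      exact ih _ hlt (t ^ 2) (T.pow_mem htT 2) rfl h2

/-- Let T and X be subgroups of a group with T a finite 2-group normalizing X but not centralizing it. Then some element of T inverts some non-identity element of X under conjugation. -/
theorem result {G : Type*} [Group G] (T X : Subgroup G) [Finite ↥T] (hT : IsPGroup 2 ↥T) (hTN : T ≤ Subgroup.normalizer (X : Set G)) (hTC : ¬ T ≤ Subgroup.centralizer (X : Set G)) : ∃ t ∈ T, ∃ x ∈ X, x ≠ 1 ∧ t * x * t⁻¹ = x⁻¹ := by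
  obtain ⟨t, htT, htC⟩ := SetLike.not_le_iff_exists.mp hTC
  exact key T X hT hTN _ t htT rfl htC

end Cfsg.Agent.S4186
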