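import Cfsg.Statements.S4188
import Mathlib
import Cfsg.Agent.Lib.Helper8.FQ6

set_option autoImplicit false
open Cfsg

namespace Cfsg.Agent.S4188

/-- Let G be a finite group that is the semidirect product of a normal abelian subgroup N of odd order by a 2-subgroup P, and suppose N is the unique minimal normal subgroup of G. Then the index of the Frattini subgroup of P in P is at most #N − 1. -/
theorem result {G : Type*} [Group G] [Finite G] (N P : Subgroup G) (hN : N.Normal) (hNab : IsMulCommutative ↥N) (hNodd : Odd (Nat.card ↥N)) (hP : IsPGroup 2 ↥P) (hdisj : N ⊓ P = ⊥) (hprod : N ⊔ P = ⊤) (hmin : N ≠ ⊥ ∧ ∀ M : Subgroup G, M.Normal → M ≠ ⊥ → N ≤ M) : (frattini ↥P).index ≤ Nat.card ↥N - 1 := by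
  classical
  haveI := hN
  obtain ⟨hNne, hNmin⟩ := hmin
  letI instCG : CommGroup ↥N :=
    { (inferInstance : Group ↥N) with mul_comm := fun a b => hNab.is_comm.comm a b }
  -- the centralizer of `N` in `P`
  set C : Subgroup G := P ⊓ Subgroup.centralizer (N : Set G) with hC
  have hCn : C.Normal := by
    constructor
    intro c hc g
    have hg : g ∈ N ⊔ P := by rw [hprod]; exact Subgroup.mem_top g
    obtain ⟨n, hn, p, hp, rfl⟩ :=
      Cfsg.Agent.Lib.Helper2.FrattiniSocle.exists_mul_of_mem_normal_sup hg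
    have hcP : c ∈ P := (Subgroup.mem_inf.mp hc).1
    have hcN : ∀ m ∈ N, m * c = c * m := fun m hm =>
      Subgroup.mem_centralizer_iff.mp (Subgroup.mem_inf.mp hc).2 m hm
    -- `p c p⁻¹` centralizes `N`
    have h1 : ∀ m ∈ N, m * (p * c * p⁻¹) = (p * c * p⁻¹) * m := by
      intro m hm
      have hm' : p⁻¹ * m * p ∈ N := by
        have := hN.conj_mem m hm p⁻¹
        simpa using this
      have h2 := hcN _ hm'
      have : m * (p * c * p⁻¹) = p * ((p⁻¹ * m * p) * c) * p⁻¹ := by group
      rw [this, h2]; group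
    have h3 : n * p * c * (n * p)⁻¹ = p * c * p⁻¹ := by
      have : n * p * c * (n * p)⁻¹ = n * (p * c * p⁻¹) * n⁻¹ := by group
      rw [this, h1 n hn]; group
    rw [h3]
    refine Subgroup.mem_inf.mpr ⟨P.mul_mem (P.mul_mem hp hcP) (P.inv_mem hp), ?_⟩
    rw [Subgroup.mem_centralizer_iff]
    exact h1
  have hCbot : C = ⊥ := by
    by_contra hne
    have h1 : N ≤ C := hNmin C hCn hne
    have h2 : N ≤ N ⊓ P := le_inf le_rfl (h1.trans inf_le_left)
    rw [hdisj] at h2
    exact hNne (le_bot_iff.mp h2)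
  -- the conjugation action
  set ρ : ↥P →* MulAut ↥N := (MulAut.conjNormal (H := N)).comp P.subtype with hρ
  have hinj : Function.Injective ρ := by
    rw [injective_iff_map_eq_one]
    intro y hy
    have hyC : (y : G) ∈ C := by
      refine Subgroup.mem_inf.mpr ⟨y.2, ?_⟩
      rw [Subgroup.mem_centralizer_iff]
      intro m hm
      have h1 := congrArg (fun τ : MulAut ↥N => ((τ ⟨m, hm⟩ : ↥N) : G)) hy
      simp only [hρ, MonoidHom.comp_apply, Subgroup.coe_subtype, MulAut.conjNormal_apply,
        MulAut.one_apply] at h1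
      have : m * (y : G) = ((y : G) * m * (y : G)⁻¹) * (y : G) := by rw [h1]
      rw [this]; group
    rw [hCbot, Subgroup.mem_bot] at hyC
    exact Subtype.ext hyC
  have hcard1 : 1 < Nat.card ↥N := N.one_lt_card_iff_ne_bot.mpr hNne
  exact Cfsg.Agent.Lib.Helper8.FQ.main_hom hNodd hcard1 hP ρ hinj

end Cfsg.Agent.S4188
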