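import Mathlib
import Cfsg.Statements.S4189
import Cfsg.Agent.Lib.Lead.MaxClass7
import Cfsg.Agent.Lib.Lead.QuatRecog
import Cfsg.Agent.Lib.Helper8.AutFrattini

set_option autoImplicit false
open Cfsg

namespace Cfsg.Agent.S4189

open Cfsg.Agent.Lib.Lead Cfsg.Agent.Lib.Helper8

/-- Elements of a cyclic group of order four generated by `c`. -/
theorem mem_zpowers_four {G : Type*} [Group G] (c y : G) (hc : orderOf c = 4)
    (hy : y ∈ Subgroup.zpowers c) : y = 1 ∨ y = c ∨ y = c ^ 2 ∨ y = c ^ 3 := by
  obtain ⟨j, rfl⟩ := Subgroup.mem_zpowers_iff.1 hy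
  have h1 : c ^ j = c ^ (j % 4) := by
    have := zpow_mod_orderOf c j
    rw [hc] at this
    exact this.symm
  have h2 : 0 ≤ j % 4 := Int.emod_nonneg _ (by norm_num)
  have h3 : j % 4 < 4 := Int.emod_lt_of_pos _ (by norm_num)
  rw [h1]
  obtain ⟨k, hk⟩ := Int.eq_ofNat_of_zero_le h2
  rw [hk] at h3 ⊢
  rw [zpow_natCast]
  have hk4 : k < 4 := by exact_mod_cast h3
  interval_cases k
  · left; simp
  · right; left; simp
  · right; right; left; rfl
  · right; right; right; rfl

/-- An automorphism of odd order of a 2-group with `|P : P'| = 4` moves every subgroup of index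
two. -/
theorem map_ne_of_index_two {P : Type*} [Group P] [Finite P] (hP : IsPGroup 2 P)
    (h4 : (commutator P).index = 4) (σ : MulAut P) (hodd : Odd (orderOf σ)) (hσ : σ ≠ 1)
    (M : Subgroup P) (hM : M.index = 2) : M.map ((σ : P ≃* P) : P →* P) ≠ M := by
  intro hmap
  have hMn : M.Normal := Subgroup.normal_of_index_eq_two hM
  -- `P' ≤ M`
  have hle : commutator P ≤ M := by
    apply commutator_le_of_quotient_comm M
    have hcard : Nat.card (P ⧸ M) = 2 := by rw [← Subgroup.index_eq_card]; exact hM
    have : Fact (Nat.Prime 2) := ⟨Nat.prime_two⟩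
    have hcyc : IsCyclic (P ⧸ M) := isCyclic_of_prime_card hcard
    intro a b
    exact (IsCyclic.isMulCommutative (α := P ⧸ M)).is_comm.comm a b
  -- an element of `M` outside `P'`
  obtain ⟨u, huM, hu⟩ : ∃ u ∈ M, u ∉ commutator P := by
    by_contra hcon
    push Not at hcon
    have : M = commutator P := le_antisymm hcon hle
    rw [this, h4] at hM
    omega
  have hσu : σ u ∈ M := by
    rw [← hmap]
    exact Subgroup.mem_map_of_mem _ huM
  have hσu' : σ u ∉ commutator P := by
    intro h
    apply hu
    have hchar : (commutator P).comap ((σ : P ≃* P) : P →* P) = commutator P :=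
      (Subgroup.characteristic_iff_comap_eq.1 inferInstance) σ
    rw [← hchar]
    exact h
  -- relative index two
  have hrel : (commutator P).relIndex M = 2 := by
    have := Subgroup.relIndex_mul_index hle
    rw [hM, h4] at this
    omega
  have hmem : (⟨σ u, hσu⟩ : M) * (⟨u, huM⟩ : M)⁻¹ ∈ (commutator P).subgroupOf M := by
    rw [Subgroup.mul_mem_iff_of_index_two hrel]
    constructor
    · intro h
      exact absurd (Subgroup.mem_subgroupOf.1 h) hσu'
    · intro h
      have := Subgroup.inv_mem _ h
      rw [inv_inv] at this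
      exact absurd (Subgroup.mem_subgroupOf.1 this) hu
  have hmem' : σ u * u⁻¹ ∈ commutator P := by
    have := Subgroup.mem_subgroupOf.1 hmem
    simpa using this
  exact not_mem_commutator_of_odd hP h4 σ hodd hσ u hu hmem'

/-- Let P be a finite non-abelian 2-group whose commutator subgroup has index 4 and whose automorphism group is not a 2-group (some automorphism has order that is not a power of 2). Then P is isomorphic to the quaternion group of order 8. -/
theorem result {P : Type*} [Group P] [Finite P] (hP : IsPGroup 2 P) (hna : ¬ IsMulCommutative P) (h4 : (commutator P).index = 4) (haut : ¬ IsPGroup 2 (MulAut P)) : Nonempty (P ≃* QuaternionGroup 2) := by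
  classical
  have : Fact (Nat.Prime 2) := ⟨Nat.prime_two⟩
  -- an automorphism of odd prime order
  obtain ⟨σ, hodd, hσ⟩ : ∃ σ : MulAut P, Odd (orderOf σ) ∧ σ ≠ 1 := by
    have hcard : ¬ ∃ k : ℕ, Nat.card (MulAut P) = 2 ^ k := by
      rintro ⟨k, hk⟩
      exact haut (IsPGroup.of_card hk)
    rcases Nat.eq_two_pow_or_exists_odd_prime_and_dvd (Nat.card (MulAut P)) with ⟨k, hk⟩ | ⟨r, hr, hrd, hrodd⟩
    · exact absurd ⟨k, hk⟩ hcard
    · have : Fact r.Prime := ⟨hr⟩
      obtain ⟨σ, hσ⟩ := exists_prime_orderOf_dvd_card' r hrd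
      refine ⟨σ, hσ ▸ hrodd, ?_⟩
      intro h1
      rw [h1, orderOf_one] at hσ
      exact hr.one_lt.ne hσ
  -- the order of `P`
  obtain ⟨n, hn⟩ := IsPGroup.iff_card.1 hP
  have hcomm_ne : commutator P ≠ ⊥ := by
    intro h
    exact hna ((commutator_eq_bot_iff P).1 h)
  have hcardmul : Nat.card (commutator P) * 4 = Nat.card P := by
    rw [← h4]; exact Subgroup.card_mul_index _
  have hn3 : 3 ≤ n := by
    have h1 : 1 < Nat.card (commutator P) := by
      rw [Nat.one_lt_iff_ne_zero_and_ne_one]
      refine ⟨Nat.card_pos.ne', ?_⟩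
      intro h
      exact hcomm_ne (Subgroup.card_eq_one.1 h)
    have h2 : 8 ≤ 2 ^ n := by rw [← hn]; omega
    by_contra hlt
    push Not at hlt
    have : 2 ^ n ≤ 2 ^ 2 := Nat.pow_le_pow_right (by norm_num) (by omega)
    omega
  obtain ⟨C, hCcyc, hCidx⟩ := exists_cyclic_index_two_of_index_commutator n P hn3 hn h4
  have hCcomm : IsMulCommutative C := IsCyclic.isMulCommutative
  set M₂ := C.map ((σ : P ≃* P) : P →* P) with hM₂
  have hM₂ne : M₂ ≠ C := map_ne_of_index_two hP h4 σ hodd hσ C hCidx
  have hM₂card : Nat.card M₂ = Nat.card C :=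
    Subgroup.card_map_of_injective (σ : P ≃* P).injective
  -- an element of `M₂` outside `C`
  obtain ⟨x, hxM, hxC⟩ : ∃ x ∈ M₂, x ∉ C := by
    by_contra hcon
    push Not at hcon
    exact hM₂ne (Subgroup.eq_of_le_of_card_ge hcon hM₂card.ge)
  have hcard2 := card_inf_centralizer_of_index_commutator h4 C hCcyc hCidx x hxC
  -- `M₂` is commutative
  have hM₂comm : ∀ a ∈ M₂, ∀ b ∈ M₂, a * b = b * a := by
    rintro _ ⟨a, ha, rfl⟩ _ ⟨b, hb, rfl⟩
    have h1 : (⟨a, ha⟩ : C) * ⟨b, hb⟩ = ⟨b, hb⟩ * ⟨a, ha⟩ := hCcomm.is_comm.comm _ _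
    have h2 : a * b = b * a := congrArg Subtype.val h1
    change σ a * σ b = σ b * σ a
    rw [← map_mul, ← map_mul, h2]
  have hinfle : C ⊓ M₂ ≤ C ⊓ Subgroup.centralizer {x} := by
    intro y hy
    refine ⟨hy.1, ?_⟩
    show y ∈ Subgroup.centralizer {x}
    rw [Subgroup.mem_centralizer_iff]
    intro w hw
    rw [Set.mem_singleton_iff] at hw
    subst hw
    exact hM₂comm _ hxM _ hy.2
  have hM₂idx : M₂.index = 2 := by
    have h1 := Subgroup.card_mul_index M₂
    have h2 := Subgroup.card_mul_index C
    rw [hM₂card] at h1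
    rw [hCidx] at h2
    have hpos : 0 < Nat.card C := Nat.card_pos
    have : Nat.card C * M₂.index = Nat.card C * 2 := by rw [h1, h2]
    exact Nat.eq_of_mul_eq_mul_left hpos this
  have hcard8 : Nat.card P = 8 := by
    have h1 : (C ⊓ M₂).index ≤ 4 := by
      have := Subgroup.index_inf_le (H := C) (K := M₂)
      rw [hCidx, hM₂idx] at this
      exact this
    have h2 : Nat.card (C ⊓ M₂ : Subgroup P) ≤ 2 := by
      rw [← hcard2]
      exact Subgroup.card_le_of_le hinfle
    have h3 := Subgroup.card_mul_index (C ⊓ M₂)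
    have h4' : Nat.card P ≤ 8 := by
      rw [← h3]
      calc Nat.card (C ⊓ M₂ : Subgroup P) * (C ⊓ M₂).index ≤ 2 * 4 := Nat.mul_le_mul h2 h1
        _ = 8 := by norm_num
    have h5 : 8 ≤ Nat.card P := by
      rw [hn]
      calc 8 = 2 ^ 3 := by norm_num
        _ ≤ 2 ^ n := Nat.pow_le_pow_right (by norm_num) hn3
    omega
  -- a generator `c` of `C`, of order four
  have hCcard : Nat.card C = 4 := by
    have := Subgroup.card_mul_index C
    rw [hCidx, hcard8] at this
    omega
  obtain ⟨c, hc⟩ := (Subgroup.isCyclic_iff_exists_zpowers_eq_top C).1 hCcyc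
  have hcord : orderOf c = 4 := by
    rw [← Nat.card_zpowers, hc, hCcard]
  have hcC : c ∈ C := by rw [← hc]; exact Subgroup.mem_zpowers c
  have hCn : C.Normal := Subgroup.normal_of_index_eq_two hCidx
  -- the element `x := σ c`
  have hσc_notin : σ c ∉ C := by
    intro hmem
    apply hM₂ne
    apply Subgroup.eq_of_le_of_card_ge _ hM₂card.ge
    rintro _ ⟨a, ha, rfl⟩
    rw [← hc] at ha
    obtain ⟨j, rfl⟩ := Subgroup.mem_zpowers_iff.1 ha
    change σ (c ^ j) ∈ C
    rw [map_zpow]
    exact Subgroup.zpow_mem _ hmem j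
  have hσc_ord : orderOf (σ c) = 4 := by
    rw [← hcord]
    exact MulEquiv.orderOf_eq (σ : P ≃* P) c
  have hc4 : c ^ 4 = 1 := by rw [← hcord]; exact pow_orderOf_eq_one c
  have hc2ne : c ^ 2 ≠ 1 := by
    intro h
    have := orderOf_dvd_of_pow_eq_one h
    rw [hcord] at this
    omega
  -- `(σ c)^2 = c^2`
  have hsq : (σ c) ^ 2 = c ^ 2 := by
    have h1 : (σ c) ^ 2 ∈ C := Subgroup.sq_mem_of_index_two hCidx _
    rw [← hc] at h1
    have h2 : ((σ c) ^ 2) ^ 2 = 1 := by
      rw [← pow_mul, show 2 * 2 = 4 from rfl, ← hσc_ord]; exact pow_orderOf_eq_one _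
    have h3 : (σ c) ^ 2 ≠ 1 := by
      intro h
      have := orderOf_dvd_of_pow_eq_one h
      rw [hσc_ord] at this
      omega
    rcases mem_zpowers_four c _ hcord h1 with h | h | h | h
    · exact absurd h h3
    · exfalso
      rw [h] at h2
      exact hc2ne h2
    · exact h
    · exfalso
      rw [h, ← pow_mul] at h2
      have : c ^ 6 = c ^ 4 * c ^ 2 := by rw [← pow_add]
      rw [show 3 * 2 = 6 from rfl, this, hc4, one_mul] at h2
      exact hc2ne h2
  -- `σ c` inverts `c`
  have hconj : σ c * c * (σ c)⁻¹ = c⁻¹ := by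
    have h1 : σ c * c * (σ c)⁻¹ ∈ C := hCn.conj_mem c hcC (σ c)
    rw [← hc] at h1
    have hne1 : σ c * c * (σ c)⁻¹ ≠ 1 := by
      intro h
      have : c = 1 := by
        have := congrArg (fun t => (σ c)⁻¹ * t * σ c) h
        simpa [mul_assoc] using this
      rw [this, orderOf_one] at hcord
      omega
    have hord : orderOf (σ c * c * (σ c)⁻¹) = 4 := by
      rw [← hcord]
      exact MulEquiv.orderOf_eq (MulAut.conj (σ c)) c
    rcases mem_zpowers_four c _ hcord h1 with h | h | h | h
    · exact absurd h hne1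
    · -- `σ c` commutes with `c`: then `P` is abelian
      exfalso
      apply hna
      have htop := sup_zpowers_eq_top_of_index_two C hCidx (σ c) hσc_notin
      have hcomm : σ c * c = c * σ c := by
        have := congrArg (fun t => t * σ c) h
        simpa [mul_assoc] using this
      constructor
      constructor
      have hcen : ∀ t : P, t = c ∨ t = σ c → t ∈ Subgroup.center P := by
        intro t ht
        have hle : C ⊔ Subgroup.zpowers (σ c) ≤ Subgroup.centralizer {t} := by
          apply sup_le
          · rw [← hc, Subgroup.zpowers_le, Subgroup.mem_centralizer_iff]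
            intro w hw
            rw [Set.mem_singleton_iff] at hw
            subst hw
            rcases ht with rfl | rfl
            · rfl
            · exact hcomm
          · rw [Subgroup.zpowers_le, Subgroup.mem_centralizer_iff]
            intro w hw
            rw [Set.mem_singleton_iff] at hw
            subst hw
            rcases ht with rfl | rfl
            · exact hcomm.symm
            · rfl
        rw [htop] at hle
        rw [Subgroup.mem_center_iff]
        intro g
        exact (Subgroup.mem_centralizer_iff.1 (hle (Subgroup.mem_top g)) t rfl).symm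
      have hcenter : Subgroup.center P = ⊤ := by
        rw [eq_top_iff, ← htop]
        apply sup_le
        · rw [← hc, Subgroup.zpowers_le]
          exact hcen c (Or.inl rfl)
        · rw [Subgroup.zpowers_le]
          exact hcen _ (Or.inr rfl)
      intro a b
      have : a ∈ Subgroup.center P := by rw [hcenter]; trivial
      exact (Subgroup.mem_center_iff.1 this b).symm
    · exfalso
      rw [h] at hord
      have : orderOf (c ^ 2) ∣ 2 := by
        apply orderOf_dvd_of_pow_eq_one
        rw [← pow_mul]; exact hc4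
      rw [hord] at this
      omega
    · rw [h]
      apply eq_inv_of_mul_eq_one_left
      rw [← pow_succ]
      exact hc4
  have hnz : NeZero 2 := ⟨by norm_num⟩
  exact quaternion_recognition 2 c (σ c) (by rw [hcord]) hsq hconj (by rw [hc]; exact hσc_notin)
    (by rw [hcard8])

end Cfsg.Agent.S4189
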