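import Cfsg.Statements.S4195

set_option autoImplicit false
open Cfsg

namespace Cfsg.Agent.S4195

/-- Let x be a non-identity element of a finite group G whose centralizer contains a Sylow 2-subgroup of G. If x is conjugate to its inverse, then x has order 2. -/
theorem result {G : Type*} [Group G] [Finite G] (x : G) (hx : x ≠ 1) (P : Sylow 2 G) (hP : (P : Subgroup G) ≤ Subgroup.centralizer ({x} : Set G)) (hreal : IsConj x x⁻¹) : orderOf x = 2 := by
  classical
  -- index of centralizer is odd
  have hodd : ¬ 2 ∣ (Subgroup.centralizer ({x} : Set G)).index := by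
    intro h
    exact P.not_dvd_index (dvd_trans h (Subgroup.index_dvd_of_le hP))
  -- the orbit has odd size
  have hidx : (Subgroup.centralizer ({x} : Set G)).index = (MulAction.orbit (ConjAct G) x).ncard := by
    rw [← MulAction.index_stabilizer, Subgroup.centralizer_eq_comap_stabilizer]
    exact (Subgroup.index_comap_of_surjective _ ConjAct.toConjAct.surjective)
  set S := MulAction.orbit (ConjAct G) x with hS
  have hmem : ∀ y : G, y ∈ S ↔ IsConj y x := fun y => ConjAct.mem_orbit_conjAct
  have hinv : ∀ y : G, y ∈ S → y⁻¹ ∈ S := by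
    intro y hy
    rw [hmem] at hy ⊢
    obtain ⟨c, hc⟩ := isConj_iff.mp hy
    have h1 : IsConj y⁻¹ x⁻¹ := isConj_iff.mpr ⟨c, by rw [← hc]; group⟩
    exact h1.trans hreal.symm
  have : Fintype G := Fintype.ofFinite G
  have : Fintype S := Fintype.ofFinite S
  let f : Function.End S := fun y => ⟨(y : G)⁻¹, hinv y y.2⟩
  have hf : f ^ 2 ^ 1 = 1 := by
    funext y
    show (f ^ 2 ^ 1) y = y
    rw [pow_one, pow_two]
    show f (f y) = y
    apply Subtype.ext
    simp [f]
  have hcard := Equiv.Perm.card_fixedPoints_modEq (p := 2) (n := 1) hf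
  have hcardS : Fintype.card S = (Subgroup.centralizer ({x} : Set G)).index := by
    rw [hidx, Set.ncard_eq_toFinset_card', Set.toFinset_card]
  have hpos : 0 < Fintype.card (Function.fixedPoints f) := by
    by_contra h0
    have h0' : Fintype.card (Function.fixedPoints f) = 0 := by omega
    rw [h0', hcardS] at hcard
    exact hodd (Nat.modEq_zero_iff_dvd.mp hcard)
  obtain ⟨⟨y, hy⟩⟩ := Fintype.card_pos_iff.mp hpos
  have hy' : (y : G)⁻¹ = y := by
    have := congrArg Subtype.val hy
    simpa [f] using this
  have hyx : IsConj (y : G) x := (hmem y).mp y.2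
  obtain ⟨c, hc⟩ := isConj_iff.mp hyx
  have hxx : x⁻¹ = x := by
    have : (c * (y:G) * c⁻¹)⁻¹ = c * (y:G) * c⁻¹ := by
      simp only [mul_inv_rev, inv_inv, hy', mul_assoc]
    rwa [hc] at this
  have hx2 : x ^ 2 = 1 := by
    rw [pow_two]
    nth_rewrite 1 [← hxx]
    simp
  exact orderOf_eq_prime hx2 hx

end Cfsg.Agent.S4195
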