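import Cfsg.Statements.S4196

set_option autoImplicit false
open Cfsg
open scoped Pointwise

namespace Cfsg.Agent.S4196

theorem real_central {G : Type*} [Group G] [Finite G] (x : G) (hx : x ≠ 1) (P : Sylow 2 G) (hP : (P : Subgroup G) ≤ Subgroup.centralizer ({x} : Set G)) (hreal : IsConj x x⁻¹) : orderOf x = 2 := by
  classical
  -- index of centralizer is odd
  have hodd : ¬ 2 ∣ (Subgroup.centralizer ({x} : Set G)).index := by
    intro h
    exact P.not_dvd_index (dvd_trans h (Subgroup.index_dvd_of_le hP))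
  -- the orbit has odd size
  have hidx : (Subgroup.centralizer ({x} : Set G)).index = (MulAction.orbit (ConjAct G) x).ncard := by
    rw [← MulAction.index_stabilizer, Subgroup.centralizer_eq_comap_stabilizer]
    exact (Subgroup.index_comap_of_surjective _ ConjAct.toConjAct.surjective)
  set S := MulAction.orbit (ConjAct G) x with hS
  have hmem : ∀ y : G, y ∈ S ↔ IsConj y x := fun y => ConjAct.mem_orbit_conjAct
  have hinv : ∀ y : G, y ∈ S → y⁻¹ ∈ S := by
    intro y hy
    rw [hmem] at hy ⊢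
    obtain ⟨c, hc⟩ := isConj_iff.mp hy
    have h1 : IsConj y⁻¹ x⁻¹ := isConj_iff.mpr ⟨c, by rw [← hc]; group⟩
    exact h1.trans hreal.symm
  have : Fintype G := Fintype.ofFinite G
  have : Fintype S := Fintype.ofFinite S
  let f : Function.End S := fun y => ⟨(y : G)⁻¹, hinv y y.2⟩
  have hf : f ^ 2 ^ 1 = 1 := by
    funext y
    show (f ^ 2 ^ 1) y = y
    rw [pow_one, pow_two]
    show f (f y) = y
    apply Subtype.ext
    simp [f]
  have hcard := Equiv.Perm.card_fixedPoints_modEq (p := 2) (n := 1) hf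
  have hcardS : Fintype.card S = (Subgroup.centralizer ({x} : Set G)).index := by
    rw [hidx, Set.ncard_eq_toFinset_card', Set.toFinset_card]
  have hpos : 0 < Fintype.card (Function.fixedPoints f) := by
    by_contra h0
    have h0' : Fintype.card (Function.fixedPoints f) = 0 := by omega
    rw [h0', hcardS] at hcard
    exact hodd (Nat.modEq_zero_iff_dvd.mp hcard)
  obtain ⟨⟨y, hy⟩⟩ := Fintype.card_pos_iff.mp hpos
  have hy' : (y : G)⁻¹ = y := by
    have := congrArg Subtype.val hy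
    simpa [f] using this
  have hyx : IsConj (y : G) x := (hmem y).mp y.2
  obtain ⟨c, hc⟩ := isConj_iff.mp hyx
  have hxx : x⁻¹ = x := by
    have : (c * (y:G) * c⁻¹)⁻¹ = c * (y:G) * c⁻¹ := by
      simp only [mul_inv_rev, inv_inv, hy', mul_assoc]
    rwa [hc] at this
  have hx2 : x ^ 2 = 1 := by
    rw [pow_two]
    nth_rewrite 1 [← hxx]
    simp
  exact orderOf_eq_prime hx2 hx

theorem mem_smul_sylow {G : Type*} [Group G] {p : ℕ} (g x : G) (P : Sylow p G) :
    x ∈ g • P ↔ g⁻¹ * x * g ∈ P := by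
  have : x ∈ ((g • P : Sylow p G) : Subgroup G) ↔ g⁻¹ * x * g ∈ (P : Subgroup G) := by
    rw [Sylow.coe_subgroup_smul, Subgroup.mem_pointwise_smul_iff_inv_smul_mem]
    simp [MulAut.smul_def, MulAut.conj_symm_apply]
  exact this

/-- Sylow 2-subgroups elementary abelian iff every 2-element is 2-central and real. -/
theorem result {G : Type*} [Group G] [Finite G] (P : Sylow 2 G) :
    (IsMulCommutative (P : Subgroup G) ∧ ∀ x ∈ (P : Subgroup G), x ^ 2 = 1) ↔
      ∀ x : G, (∃ k : ℕ, orderOf x = 2 ^ k) → (∃ Q : Sylow 2 G, (Q : Subgroup G) ≤ Subgroup.centralizer ({x} : Set G)) ∧ IsConj x x⁻¹ := by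
  constructor
  · rintro ⟨hcomm, hexp⟩ x ⟨k, hk⟩
    have hpg : IsPGroup 2 (Subgroup.zpowers x) := by
      apply IsPGroup.of_card (n := k)
      rw [Nat.card_zpowers, hk]
    obtain ⟨Q, hQ⟩ := hpg.exists_le_sylow
    have hxQ : x ∈ Q := hQ (Subgroup.mem_zpowers x)
    obtain ⟨g, hg⟩ := MulAction.exists_smul_eq G P Q
    have hxP : g⁻¹ * x * g ∈ P := by
      rw [← mem_smul_sylow, hg]; exact hxQ
    have hx2 : x ^ 2 = 1 := by
      have h1 := hexp _ hxP
      have h2 : g⁻¹ * x * g = g⁻¹ * x * g⁻¹⁻¹ := by rw [inv_inv]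
      rw [h2, conj_pow] at h1
      have h3 : x ^ 2 = g * (g⁻¹ * x ^ 2 * g⁻¹⁻¹) * g⁻¹ := by group
      rw [h3, h1]; group
    refine ⟨⟨Q, ?_⟩, ?_⟩
    · intro y hy
      rw [Subgroup.mem_centralizer_iff]
      intro h hh
      rw [Set.mem_singleton_iff] at hh
      subst hh
      have hyP : g⁻¹ * y * g ∈ P := by
        rw [← mem_smul_sylow, hg]; exact hy
      have hc : (g⁻¹ * h * g) * (g⁻¹ * y * g) = (g⁻¹ * y * g) * (g⁻¹ * h * g) := by
        have := hcomm.is_comm.comm (⟨_, hxP⟩ : (P : Subgroup G)) ⟨_, hyP⟩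
        exact congrArg Subtype.val this
      have e1 : h * y = g * ((g⁻¹ * h * g) * (g⁻¹ * y * g)) * g⁻¹ := by group
      have e2 : y * h = g * ((g⁻¹ * y * g) * (g⁻¹ * h * g)) * g⁻¹ := by group
      rw [e1, e2, hc]
    · have : x⁻¹ = x := by
        rw [inv_eq_iff_mul_eq_one, ← pow_two, hx2]
      rw [this]
  · intro h
    have hexp : ∀ x ∈ (P : Subgroup G), x ^ 2 = 1 := by
      intro x hx
      by_cases hx1 : x = 1
      · rw [hx1, one_pow]
      · have h2 : ∃ k : ℕ, orderOf x = 2 ^ k := by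
          obtain ⟨k, hk⟩ := P.2 ⟨x, hx⟩
          have hk' : x ^ 2 ^ k = 1 := by
            have := congrArg Subtype.val hk
            simpa using this
          obtain ⟨j, -, hj⟩ := (Nat.dvd_prime_pow Nat.prime_two).mp (orderOf_dvd_of_pow_eq_one hk')
          exact ⟨j, hj⟩
        obtain ⟨⟨Q, hQ⟩, hreal⟩ := h x h2
        have := real_central x hx1 Q hQ hreal
        rw [← this]
        exact pow_orderOf_eq_one x
    refine ⟨⟨⟨fun a b => ?_⟩⟩, hexp⟩
    apply Subtype.ext
    have ha := hexp a.1 a.2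
    have hb := hexp b.1 b.2
    have hab := hexp (a.1 * b.1) ((P : Subgroup G).mul_mem a.2 b.2)
    show (a : G) * (b : G) = (b : G) * (a : G)
    have inv_self : ∀ z : G, z ^ 2 = 1 → z⁻¹ = z := by
      intro z hz
      rw [inv_eq_iff_mul_eq_one, ← pow_two, hz]
    calc (a : G) * b = ((a : G) * b)⁻¹ := (inv_self _ hab).symm
      _ = (b : G)⁻¹ * (a : G)⁻¹ := mul_inv_rev _ _
      _ = (b : G) * a := by rw [inv_self _ ha, inv_self _ hb]

end Cfsg.Agent.S4196
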