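import Mathlib
import Cfsg.Statements.S4200

set_option autoImplicit false

open Cfsg

namespace Cfsg.Agent.S4200

open Finset
open scoped Classical

variable {X : Type*} [Group X] [Fintype X]

/-- `k(G) |G| = Σ_g |C_G(g)|` -/
theorem card_conjClasses_mul_card (G : Type*) [Group G] [Fintype G] :
    Nat.card (ConjClasses G) * Nat.card G = ∑ a : G, #(univ.filter (fun b : G => a * b = b * a)) := by
  rw [← card_comm_eq_card_conjClasses_mul_card]
  rw [Nat.card_eq_fintype_card]
  rw [Fintype.card_congr (Equiv.subtypeProdEquivSigmaSubtype (fun a b : G => Commute a b)),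
    Fintype.card_sigma]
  apply Finset.sum_congr rfl
  intro a _
  rw [Fintype.card_subtype]
  rfl

/-- centralizer sizes: `|C_X(x)| ≤ |C_Y(x)| * #(image of C_X(x) in X/Y)` -/
theorem card_centralizer_le_mul_image (Y : Subgroup X) (x : X) :
    #(univ.filter (fun b : X => x * b = b * x)) ≤
      #(univ.filter (fun b : X => b ∈ Y ∧ x * b = b * x)) *
        #((univ.filter (fun b : X => x * b = b * x)).image (QuotientGroup.mk : X → X ⧸ Y)) := by
  set s := univ.filter (fun b : X => x * b = b * x) with hs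
  set t := univ.filter (fun b : X => b ∈ Y ∧ x * b = b * x) with ht
  apply Finset.card_le_mul_card_image (f := (QuotientGroup.mk : X → X ⧸ Y)) s (#t)
  intro q hq
  rw [Finset.mem_image] at hq
  obtain ⟨k, hk, rfl⟩ := hq
  rw [hs, Finset.mem_filter] at hk
  apply Finset.card_le_card_of_injOn (fun k' => k⁻¹ * k')
  · intro k' hk'
    obtain ⟨hk's, hk'q⟩ := Finset.mem_filter.mp (Finset.mem_coe.mp hk')
    have e2 : x * k' = k' * x := (Finset.mem_filter.mp hk's).2
    have e1 : x * k = k * x := hk.2
    rw [Finset.mem_coe, ht, Finset.mem_filter]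
    refine ⟨Finset.mem_univ _, ?_, ?_⟩
    · show k⁻¹ * k' ∈ Y
      rw [QuotientGroup.eq] at hk'q
      have h3 : k⁻¹ * k' = (k'⁻¹ * k)⁻¹ := by group
      rw [h3]; exact Y.inv_mem hk'q
    · have e3 : x * k⁻¹ = k⁻¹ * x := by
        have : k⁻¹ * (x * k) * k⁻¹ = k⁻¹ * (k * x) * k⁻¹ := by rw [e1]
        simpa [mul_assoc] using this.symm
      show x * (k⁻¹ * k') = k⁻¹ * k' * x
      calc x * (k⁻¹ * k') = (x * k⁻¹) * k' := by rw [mul_assoc]
        _ = k⁻¹ * (x * k') := by rw [e3, mul_assoc]
        _ = k⁻¹ * (k' * x) := by rw [e2]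
        _ = k⁻¹ * k' * x := by rw [mul_assoc]
  · intro a _ b _ hab
    exact mul_left_cancel hab

theorem card_centralizer_le (Y : Subgroup X) (x : X) :
    #(univ.filter (fun b : X => x * b = b * x)) ≤
      Y.index * #(univ.filter (fun b : X => b ∈ Y ∧ x * b = b * x)) := by
  have h1 := card_centralizer_le_mul_image Y x
  have h2 : #((univ.filter (fun b : X => x * b = b * x)).image (QuotientGroup.mk : X → X ⧸ Y)) ≤
      Y.index := by
    rw [Subgroup.index, Nat.card_eq_fintype_card]
    exact Finset.card_le_univ _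
  calc _ ≤ _ := h1
    _ ≤ #(univ.filter (fun b : X => b ∈ Y ∧ x * b = b * x)) * Y.index := Nat.mul_le_mul_left _ h2
    _ = _ := mul_comm _ _

theorem card_centralizer_lt (Y : Subgroup X) (x : X) (q₀ : X ⧸ Y)
    (hq₀ : ∀ b : X, x * b = b * x → (QuotientGroup.mk b : X ⧸ Y) ≠ q₀) :
    #(univ.filter (fun b : X => x * b = b * x)) ≤
      (Y.index - 1) * #(univ.filter (fun b : X => b ∈ Y ∧ x * b = b * x)) := by
  have h1 := card_centralizer_le_mul_image Y x
  have h2 : #((univ.filter (fun b : X => x * b = b * x)).image (QuotientGroup.mk : X → X ⧸ Y)) ≤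
      Y.index - 1 := by
    rw [Subgroup.index, Nat.card_eq_fintype_card, ← Finset.card_univ, ← Finset.card_erase_of_mem
      (Finset.mem_univ q₀)]
    apply Finset.card_le_card
    intro q hq
    rw [Finset.mem_image] at hq
    obtain ⟨b, hb, rfl⟩ := hq
    rw [Finset.mem_erase]
    exact ⟨hq₀ b (Finset.mem_filter.mp hb).2, Finset.mem_univ _⟩
  calc _ ≤ _ := h1
    _ ≤ #(univ.filter (fun b : X => b ∈ Y ∧ x * b = b * x)) * (Y.index - 1) :=
      Nat.mul_le_mul_left _ h2
    _ = _ := mul_comm _ _

/-- double counting of commuting pairs in `X × Y` -/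
theorem double_count (Y : Subgroup X) :
    ∑ x : X, #(univ.filter (fun b : X => b ∈ Y ∧ x * b = b * x)) =
      ∑ y ∈ univ.filter (fun y : X => y ∈ Y), #(univ.filter (fun b : X => y * b = b * y)) := by
  have h := Finset.sum_card_bipartiteAbove_eq_sum_card_bipartiteBelow
    (s := (univ : Finset X)) (t := univ.filter (fun y : X => y ∈ Y)) (fun a b : X => a * b = b * a)
  unfold Finset.bipartiteAbove Finset.bipartiteBelow at h
  simp only [Finset.filter_filter] at h
  rw [h]
  apply Finset.sum_congr rfl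
  intro y _
  congr 1
  ext b
  simp only [Finset.mem_filter, Finset.mem_univ, true_and]
  exact eq_comm

/-- `k(Y) |Y|` as a sum over elements of `Y` inside `X` -/
theorem card_conjClasses_subgroup (Y : Subgroup X) :
    Nat.card (ConjClasses Y) * Nat.card Y =
      ∑ y ∈ univ.filter (fun y : X => y ∈ Y), #(univ.filter (fun b : X => b ∈ Y ∧ y * b = b * y)) := by
  rw [card_conjClasses_mul_card Y]
  rw [Finset.sum_subtype (univ.filter (fun y : X => y ∈ Y)) (p := fun y => y ∈ Y)
    (fun x => by simp)]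
  apply Finset.sum_congr rfl
  intro a _
  rw [← Finset.card_map ⟨(Subtype.val : Y → X), Subtype.val_injective⟩]
  congr 1
  ext b
  simp only [Finset.mem_map, Finset.mem_filter, Finset.mem_univ, true_and,
    Function.Embedding.coeFn_mk]
  constructor
  · rintro ⟨c, hc, rfl⟩
    refine ⟨c.2, ?_⟩
    have := congrArg Subtype.val hc
    simpa using this
  · rintro ⟨hb, hc⟩
    exact ⟨⟨b, hb⟩, Subtype.ext (by simpa using hc), rfl⟩


theorem result {X : Type*} [Group X] [Finite X] (Y : Subgroup X) : Nat.card (ConjClasses Y) ≤ Y.index * Nat.card (ConjClasses X) ∧ Nat.card (ConjClasses X) ≤ Y.index * Nat.card (ConjClasses Y) ∧ (¬ Y.Normal → Nat.card (ConjClasses X) < Y.index * Nat.card (ConjClasses Y)) := by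
  have : Fintype X := Fintype.ofFinite X
  set m := Y.index with hm
  have hmpos : 0 < m := Nat.pos_of_ne_zero Subgroup.index_ne_zero_of_finite
  have hYpos : 0 < Nat.card Y := Nat.card_pos
  have hcard : Nat.card Y * m = Nat.card X := Y.card_mul_index
  have hX := card_conjClasses_mul_card X
  have hY := card_conjClasses_subgroup Y
  have hdc := double_count Y
  -- abbreviations
  set SX := ∑ a : X, #(univ.filter (fun b : X => a * b = b * a)) with hSX
  set SYY := ∑ y ∈ univ.filter (fun y : X => y ∈ Y),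
    #(univ.filter (fun b : X => b ∈ Y ∧ y * b = b * y)) with hSYY
  set SXY := ∑ x : X, #(univ.filter (fun b : X => b ∈ Y ∧ x * b = b * x)) with hSXY
  set SYX := ∑ y ∈ univ.filter (fun y : X => y ∈ Y),
    #(univ.filter (fun b : X => y * b = b * y)) with hSYX
  have h1 : SX ≤ m * SXY := by
    rw [hSX, hSXY, Finset.mul_sum]
    exact Finset.sum_le_sum (fun x _ => card_centralizer_le Y x)
  have h2 : SYX ≤ m * SYY := by
    rw [hSYX, hSYY, Finset.mul_sum]
    exact Finset.sum_le_sum (fun x _ => card_centralizer_le Y x)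
  have h3 : SYY ≤ SX := by
    calc SYY ≤ SYX := by
          rw [hSYY, hSYX]
          apply Finset.sum_le_sum
          intro y _
          apply Finset.card_le_card
          intro b hb
          simp only [Finset.mem_filter, Finset.mem_univ, true_and] at hb ⊢
          exact hb.2
      _ ≤ SX := by
          rw [hSYX, hSX]
          exact Finset.sum_le_sum_of_subset (Finset.filter_subset _ _)
  refine ⟨?_, ?_, ?_⟩
  · -- k(Y)|Y| ≤ k(X)|X| = k(X) m |Y|
    have h4 : Nat.card (ConjClasses Y) * Nat.card Y ≤ (m * Nat.card (ConjClasses X)) * Nat.card Y := by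
      calc Nat.card (ConjClasses Y) * Nat.card Y = SYY := hY
        _ ≤ SX := h3
        _ = Nat.card (ConjClasses X) * Nat.card X := hX.symm
        _ = (m * Nat.card (ConjClasses X)) * Nat.card Y := by rw [← hcard]; ring
    exact Nat.le_of_mul_le_mul_right h4 hYpos
  · have h4 : Nat.card (ConjClasses X) * (m * Nat.card Y) ≤
        (m * Nat.card (ConjClasses Y)) * (m * Nat.card Y) := by
      calc Nat.card (ConjClasses X) * (m * Nat.card Y) = Nat.card (ConjClasses X) * Nat.card X := by
            rw [← hcard]; ring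
        _ = SX := hX
        _ ≤ m * SXY := h1
        _ = m * SYX := by rw [hdc]
        _ ≤ m * (m * SYY) := Nat.mul_le_mul_left _ h2
        _ = m * (m * (Nat.card (ConjClasses Y) * Nat.card Y)) := by rw [hY]
        _ = (m * Nat.card (ConjClasses Y)) * (m * Nat.card Y) := by ring
    exact Nat.le_of_mul_le_mul_right h4 (Nat.mul_pos hmpos hYpos)
  · intro hnn
    -- find y ∈ Y and g with g y g⁻¹ ∉ Y
    obtain ⟨y, hy, g, hg⟩ : ∃ y ∈ Y, ∃ g : X, g * y * g⁻¹ ∉ Y := by
      by_contra hcon
      push Not at hcon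
      exact hnn ⟨fun y hy g => hcon y hy g⟩
    have hlt : #(univ.filter (fun b : X => y * b = b * y)) ≤
        (m - 1) * #(univ.filter (fun b : X => b ∈ Y ∧ y * b = b * y)) := by
      apply card_centralizer_lt Y y (QuotientGroup.mk g⁻¹)
      intro b hb hq
      rw [QuotientGroup.eq] at hq
      -- b⁻¹ * g⁻¹ ∈ Y, so g = (b⁻¹ g⁻¹)⁻¹ b⁻¹
      apply hg
      have hyb : b⁻¹ * y * b = y := by
        rw [mul_assoc, hb, ← mul_assoc, inv_mul_cancel, one_mul]
      have h5 : g * y * g⁻¹ = (b⁻¹ * g⁻¹)⁻¹ * (b⁻¹ * y * b) * (b⁻¹ * g⁻¹) := by group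
      rw [h5, hyb]
      exact Y.mul_mem (Y.mul_mem (Y.inv_mem hq) hy) hq
    have hpos : 0 < #(univ.filter (fun b : X => b ∈ Y ∧ y * b = b * y)) := by
      apply Finset.card_pos.mpr
      exact ⟨1, by simp [Y.one_mem]⟩
    have h2' : SYX < m * SYY := by
      rw [hSYX, hSYY, Finset.mul_sum]
      apply Finset.sum_lt_sum (fun x _ => card_centralizer_le Y x)
      refine ⟨y, by simp [hy], ?_⟩
      calc _ ≤ (m - 1) * #(univ.filter (fun b : X => b ∈ Y ∧ y * b = b * y)) := hlt
        _ < m * #(univ.filter (fun b : X => b ∈ Y ∧ y * b = b * y)) :=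
          Nat.mul_lt_mul_of_pos_right (by omega) hpos
    have h4 : Nat.card (ConjClasses X) * (m * Nat.card Y) <
        (m * Nat.card (ConjClasses Y)) * (m * Nat.card Y) := by
      calc Nat.card (ConjClasses X) * (m * Nat.card Y) = Nat.card (ConjClasses X) * Nat.card X := by
            rw [← hcard]; ring
        _ = SX := hX
        _ ≤ m * SXY := h1
        _ = m * SYX := by rw [hdc]
        _ < m * (m * SYY) := Nat.mul_lt_mul_of_pos_left h2' hmpos
        _ = m * (m * (Nat.card (ConjClasses Y) * Nat.card Y)) := by rw [hY]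
        _ = (m * Nat.card (ConjClasses Y)) * (m * Nat.card Y) := by ring
    exact Nat.lt_of_mul_lt_mul_right h4

end Cfsg.Agent.S4200
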