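import Mathlib
import Cfsg.Statements.S4201
import Cfsg.Agent.Lib.Helper8.ClassCount

set_option autoImplicit false

open Cfsg

namespace Cfsg.Agent.S4201

open Cfsg.Agent.Lib.Helper8
open Finset
open scoped Classical

section

variable {X : Type*} [Group X] [Fintype X] (N : Subgroup X) [N.Normal]

/-- `|C_X(x)| ≤ |C_N(x)| · |C_{X/N}(x̄)|` -/
theorem card_centralizer_le_quot (x : X) :
    #(univ.filter (fun b : X => x * b = b * x)) ≤
      #(univ.filter (fun b : X => b ∈ N ∧ x * b = b * x)) *
        #(univ.filter (fun r : X ⧸ N => (QuotientGroup.mk x : X ⧸ N) * r = r * QuotientGroup.mk x)) := by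
  refine (card_centralizer_le_mul_image N x).trans (Nat.mul_le_mul_left _ ?_)
  apply Finset.card_le_card
  intro q hq
  rw [Finset.mem_image] at hq
  obtain ⟨b, hb, rfl⟩ := hq
  rw [Finset.mem_filter] at hb ⊢
  refine ⟨Finset.mem_univ _, ?_⟩
  rw [← QuotientGroup.mk_mul, ← QuotientGroup.mk_mul, hb.2]

/-- elements of a coset commuting with `n`: at most `|C_N(n)|` -/
theorem card_coset_centralizer_le (q : X ⧸ N) (n : X) :
    #(univ.filter (fun x : X => (QuotientGroup.mk x : X ⧸ N) = q ∧ x * n = n * x)) ≤
      #(univ.filter (fun b : X => b ∈ N ∧ n * b = b * n)) := by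
  by_cases hne : (univ.filter (fun x : X => (QuotientGroup.mk x : X ⧸ N) = q ∧ x * n = n * x)).Nonempty
  · obtain ⟨x₀, hx₀⟩ := hne
    rw [Finset.mem_filter] at hx₀
    apply Finset.card_le_card_of_injOn (fun x => x₀⁻¹ * x)
    · intro x hx
      rw [Finset.mem_coe, Finset.mem_filter] at hx
      rw [Finset.mem_coe, Finset.mem_filter]
      refine ⟨Finset.mem_univ _, ?_, ?_⟩
      · show x₀⁻¹ * x ∈ N
        rw [← QuotientGroup.eq, hx₀.2.1, hx.2.1]
      · show n * (x₀⁻¹ * x) = x₀⁻¹ * x * n
        have e1 : x₀ * n = n * x₀ := hx₀.2.2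
        have e2 : x * n = n * x := hx.2.2
        have e3 : n * x₀⁻¹ = x₀⁻¹ * n := by
          have : x₀⁻¹ * (x₀ * n) * x₀⁻¹ = x₀⁻¹ * (n * x₀) * x₀⁻¹ := by rw [e1]
          simpa [mul_assoc] using this
        calc n * (x₀⁻¹ * x) = (n * x₀⁻¹) * x := by rw [mul_assoc]
          _ = x₀⁻¹ * (n * x) := by rw [e3, mul_assoc]
          _ = x₀⁻¹ * (x * n) := by rw [e2]
          _ = x₀⁻¹ * x * n := by rw [mul_assoc]
    · intro a _ b _ hab
      exact mul_left_cancel hab
  · rw [Finset.not_nonempty_iff_eq_empty] at hne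
    rw [hne]
    simp

/-- the sum of `|C_N(x)|` over a coset is at most `k(N) |N|` -/
theorem sum_coset_le (q : X ⧸ N) :
    ∑ x ∈ univ.filter (fun x : X => (QuotientGroup.mk x : X ⧸ N) = q),
        #(univ.filter (fun b : X => b ∈ N ∧ x * b = b * x)) ≤
      Nat.card (ConjClasses N) * Nat.card N := by
  rw [card_conjClasses_subgroup N]
  have h := Finset.sum_card_bipartiteAbove_eq_sum_card_bipartiteBelow
    (s := univ.filter (fun x : X => (QuotientGroup.mk x : X ⧸ N) = q))
    (t := univ.filter (fun y : X => y ∈ N)) (fun a b : X => a * b = b * a)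
  unfold Finset.bipartiteAbove Finset.bipartiteBelow at h
  simp only [Finset.filter_filter] at h
  rw [h]
  apply Finset.sum_le_sum
  intro n _
  exact card_coset_centralizer_le N q n

end

theorem result {X : Type*} [Group X] [Finite X] (N : Subgroup X) [N.Normal] : Nat.card (ConjClasses X) ≤ Nat.card (ConjClasses N) * Nat.card (ConjClasses (X ⧸ N)) := by
  have : Fintype X := Fintype.ofFinite X
  have hXpos : 0 < Nat.card X := Nat.card_pos
  have hcard : Nat.card N * Nat.card (X ⧸ N) = Nat.card X := N.card_mul_index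
  have hX := card_conjClasses_mul_card X
  have hQ := card_conjClasses_mul_card (X ⧸ N)
  have key : Nat.card (ConjClasses X) * Nat.card X ≤
      (Nat.card (ConjClasses N) * Nat.card (ConjClasses (X ⧸ N))) * Nat.card X := by
    calc Nat.card (ConjClasses X) * Nat.card X
        = ∑ a : X, #(univ.filter (fun b : X => a * b = b * a)) := hX
      _ ≤ ∑ a : X, #(univ.filter (fun b : X => b ∈ N ∧ a * b = b * a)) *
            #(univ.filter (fun r : X ⧸ N => (QuotientGroup.mk a : X ⧸ N) * r = r * QuotientGroup.mk a)) :=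
          Finset.sum_le_sum (fun a _ => card_centralizer_le_quot N a)
      _ = ∑ q : X ⧸ N, ∑ a ∈ univ.filter (fun a : X => (QuotientGroup.mk a : X ⧸ N) = q),
            #(univ.filter (fun b : X => b ∈ N ∧ a * b = b * a)) *
            #(univ.filter (fun r : X ⧸ N => (QuotientGroup.mk a : X ⧸ N) * r = r * QuotientGroup.mk a)) :=
          (Finset.sum_fiberwise univ (fun a : X => (QuotientGroup.mk a : X ⧸ N)) _).symm
      _ = ∑ q : X ⧸ N, (∑ a ∈ univ.filter (fun a : X => (QuotientGroup.mk a : X ⧸ N) = q),
            #(univ.filter (fun b : X => b ∈ N ∧ a * b = b * a))) *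
            #(univ.filter (fun r : X ⧸ N => q * r = r * q)) := by
          apply Finset.sum_congr rfl
          intro q _
          rw [Finset.sum_mul]
          apply Finset.sum_congr rfl
          intro a ha
          rw [(Finset.mem_filter.mp ha).2]
      _ ≤ ∑ q : X ⧸ N, (Nat.card (ConjClasses N) * Nat.card N) *
            #(univ.filter (fun r : X ⧸ N => q * r = r * q)) :=
          Finset.sum_le_sum (fun q _ => Nat.mul_le_mul_right _ (sum_coset_le N q))
      _ = (Nat.card (ConjClasses N) * Nat.card N) *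
            (Nat.card (ConjClasses (X ⧸ N)) * Nat.card (X ⧸ N)) := by
          rw [← Finset.mul_sum]
          congr 1
          convert hQ.symm
      _ = (Nat.card (ConjClasses N) * Nat.card (ConjClasses (X ⧸ N))) * Nat.card X := by
          rw [← hcard]; ring
  exact Nat.le_of_mul_le_mul_right key hXpos

end Cfsg.Agent.S4201
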