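import Mathlib
import Cfsg.Statements.S4203
import Cfsg.Agent.Lib.Helper8.SylowIndex
import Cfsg.Agent.Lib.Helper8.SmallSolvable

set_option autoImplicit false

open Cfsg

namespace Cfsg.Agent.S4203

open Cfsg.Agent.Lib.Helper8

universe u

section
variable {G : Type*} [Group G]

theorem isCoatom_comap_mk (N : Subgroup G) [N.Normal]
    {M' : Subgroup (G ⧸ N)} (hM : IsCoatom M') : IsCoatom (M'.comap (QuotientGroup.mk' N)) := by
  obtain ⟨π, hπ⟩ : ∃ π, π = QuotientGroup.mk' N := ⟨_, rfl⟩
  rw [← hπ]
  have hsurj : Function.Surjective π := hπ ▸ QuotientGroup.mk'_surjective N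
  constructor
  · intro h
    apply hM.1
    have := congrArg (Subgroup.map π) h
    rwa [Subgroup.map_comap_eq_self_of_surjective hsurj, ← MonoidHom.range_eq_map,
      MonoidHom.range_eq_top.mpr hsurj] at this
  · intro L hL
    have hkerL : π.ker ≤ L := (Subgroup.ker_le_comap π M').trans hL.le
    have hcm : (L.map π).comap π = L := by
      rw [Subgroup.comap_map_eq, sup_eq_left.mpr hkerL]
    have h1 : M' < L.map π := by
      refine lt_of_le_of_ne ?_ ?_
      · rw [← Subgroup.map_comap_eq_self_of_surjective hsurj M']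
        exact Subgroup.map_mono hL.le
      · intro h
        rw [h, hcm] at hL
        exact lt_irrefl _ hL
    have h2 := hM.2 _ h1
    rw [← hcm, h2, Subgroup.comap_top]

theorem exists_minNormal [Finite G] [Nontrivial G] :
    ∃ N : Subgroup G, N.Normal ∧ N ≠ ⊥ ∧
      ∀ K : Subgroup G, K.Normal → K ≤ N → K = ⊥ ∨ K = N := by
  let 𝒮 : Set (Subgroup G) := {N | N.Normal ∧ N ≠ ⊥}
  have hne : 𝒮.Nonempty := ⟨⊤, inferInstance, top_ne_bot⟩
  obtain ⟨N, ⟨h1, h2⟩, hmin⟩ := WellFounded.has_min (wellFounded_lt (α := Subgroup G)) 𝒮 hne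
  refine ⟨N, h1, h2, ?_⟩
  intro K hK hKN
  by_cases hKb : K = ⊥
  · exact Or.inl hKb
  · right
    have := hmin K ⟨hK, hKb⟩
    exact (eq_or_lt_of_le hKN).resolve_right this

theorem minNormal_solvable [Finite G]
    (h : ∀ M : Subgroup G, IsCoatom M → ∃ p : ℕ, p.Prime ∧ (M.index = p ∨ M.index = p ^ 2))
    (N : Subgroup G) [hNn : N.Normal] (hN : N ≠ ⊥)
    (hmin : ∀ K : Subgroup G, K.Normal → K ≤ N → K = ⊥ ∨ K = N) : Group.IsSolvable N := by
  have hcard : 1 < Nat.card N := (Subgroup.one_lt_card_iff_ne_bot N).mpr hN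
  have hne : (Nat.card N).primeFactors.Nonempty := Nat.nonempty_primeFactors.mpr hcard
  obtain ⟨p, hp⟩ : ∃ p, p = (Nat.card N).primeFactors.max' hne := ⟨_, rfl⟩
  have hpmem : p ∈ (Nat.card N).primeFactors := hp ▸ Finset.max'_mem _ _
  have hpprime : p.Prime := Nat.prime_of_mem_primeFactors hpmem
  have hpdvd : p ∣ Nat.card N := Nat.dvd_of_mem_primeFactors hpmem
  have hpmax : ∀ q : ℕ, q.Prime → q ∣ Nat.card N → q ≤ p := fun q hq hqd =>
    hp ▸ Finset.le_max' _ _ (Nat.mem_primeFactors.mpr ⟨hq, hqd, Nat.card_pos.ne'⟩)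
  have : Fact p.Prime := ⟨hpprime⟩
  obtain ⟨P⟩ : Nonempty (Sylow p N) := inferInstance
  obtain ⟨P₀, hP₀⟩ : ∃ P₀ : Subgroup G, P₀ = (P : Subgroup N).map N.subtype := ⟨_, rfl⟩
  have hP₀N : P₀ ≤ N := hP₀ ▸ Subgroup.map_subtype_le _
  have hP₀p : IsPGroup p P₀ := hP₀ ▸ P.isPGroup'.map _
  have hsub : P₀.subgroupOf N = (P : Subgroup N) :=
    hP₀ ▸ Subgroup.comap_map_eq_self_of_injective N.subtype_injective _
  have hidxN : ¬ p ∣ P₀.relIndex N := by
    have : P₀.relIndex N = (P : Subgroup N).index := by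
      rw [← hsub]; rfl
    rw [this]; exact P.not_dvd_index
  have hP₀ne : P₀ ≠ ⊥ := by
    intro hbot
    apply hidxN
    rw [hbot, Subgroup.relIndex_bot_left]
    exact hpdvd
  obtain ⟨B, hB⟩ : ∃ B, B = Subgroup.normalizer (P₀ : Set G) := ⟨_, rfl⟩
  by_cases hBtop : B = ⊤
  · have hnorm : P₀.Normal := Subgroup.normalizer_eq_top_iff.mp (hB ▸ hBtop)
    have hPN : P₀ = N := (hmin P₀ hnorm hP₀N).resolve_left hP₀ne
    have hNp : IsPGroup p N := hPN ▸ hP₀p
    have := hNp.isNilpotent
    exact IsNilpotent.to_isSolvable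
  · obtain ⟨M, hM, hBM⟩ := (eq_top_or_exists_le_coatom B).resolve_left hBtop
    have hKn : ∀ X : Subgroup G, X ≤ Subgroup.normalizer (N : Set G) := fun X => by
      rw [Subgroup.normalizer_eq_top]; exact le_top
    -- Frattini
    have hNB : N ⊔ B = ⊤ := by
      have := frattini_rel N ⊤ P₀ hP₀N hP₀p hidxN le_top (hKn ⊤)
      rw [top_inf_eq, ← hB] at this
      exact top_le_iff.mp this
    have hNM : N ⊔ M = ⊤ := by
      apply top_le_iff.mp
      rw [← hNB]
      exact sup_le_sup_left hBM N
    have e1 : M.index = M.relIndex N := by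
      have := relIndex_sup_of_le_normalizer M N (hKn M)
      rwa [hNM, Subgroup.relIndex_top_right] at this
    have e2 : M.index ∣ Nat.card N := e1 ▸ Subgroup.relIndex_dvd_card M N
    have e3 : B.index = Nat.card (Sylow p N) := by
      have h1 := relIndex_sup_of_le_normalizer B N (hKn B)
      rw [hNB, Subgroup.relIndex_top_right] at h1
      rw [h1, hB]
      exact (card_sylow_subgroup_eq_relIndex N P₀ hP₀N hP₀p hidxN).symm
    have e4 : B.index ≡ 1 [MOD p] := e3 ▸ card_sylow_modEq_one p N
    -- inside `M`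
    obtain ⟨T, hT⟩ : ∃ T, T = M ⊓ N := ⟨_, rfl⟩
    have hP₀B : P₀ ≤ B := hB ▸ Subgroup.le_normalizer
    have hP₀T : P₀ ≤ T := hT ▸ le_inf (hP₀B.trans hBM) hP₀N
    have hTN : T ≤ N := hT ▸ inf_le_right
    have hTM : T ≤ M := hT ▸ inf_le_left
    have hidxT : ¬ p ∣ P₀.relIndex T := by
      intro hdvd
      apply hidxN
      rw [← Subgroup.relIndex_mul_relIndex P₀ T N hP₀T hTN]
      exact Dvd.dvd.mul_right hdvd _
    have hMT : M ≤ Subgroup.normalizer (T : Set G) := by
      rw [hT]; exact le_normalizer_inf Subgroup.le_normalizer (hKn M)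
    have hMeq : M = T ⊔ B := by
      apply le_antisymm
      · have := frattini_rel T M P₀ hP₀T hP₀p hidxT hTM hMT
        rw [← hB, inf_eq_right.mpr hBM] at this
        exact this
      · exact sup_le hTM hBM
    have e5 : B.relIndex M = Nat.card (Sylow p T) := by
      have h1 := relIndex_sup_of_le_normalizer B T (hBM.trans hMT)
      rw [← hMeq] at h1
      rw [h1, hB]
      exact (card_sylow_subgroup_eq_relIndex T P₀ hP₀T hP₀p hidxT).symm
    have e6 : B.relIndex M ≡ 1 [MOD p] := e5 ▸ card_sylow_modEq_one p T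
    have e7 : B.relIndex M * M.index = B.index := Subgroup.relIndex_mul_index hBM
    have e8 : M.index ≡ 1 [MOD p] := by
      have h1 : B.relIndex M * M.index ≡ 1 * M.index [MOD p] := e6.mul_right _
      rw [e7, one_mul] at h1
      exact h1.symm.trans e4
    obtain ⟨q, hq, hqM⟩ := h M hM
    have hqdvd : q ∣ M.index := by
      rcases hqM with h1 | h1
      · rw [h1]
      · rw [h1]; exact dvd_pow_self q (by norm_num)
    have hqp : q ≤ p := hpmax q hq (hqdvd.trans e2)
    have hqnep : q ≠ p := by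
      rintro rfl
      have h0 : M.index % q = 0 := Nat.mod_eq_zero_of_dvd hqdvd
      have h1 : M.index % q = 1 % q := e8
      rw [h0, Nat.mod_eq_of_lt hq.one_lt] at h1
      exact absurd h1 (by norm_num)
    have hqlt : q < p := lt_of_le_of_ne hqp hqnep
    have hidx4 : M.index = 4 := by
      rcases hqM with h1 | h1
      · exfalso
        have h2 : M.index % p = 1 % p := e8
        rw [h1, Nat.mod_eq_of_lt hqlt, Nat.mod_eq_of_lt hpprime.one_lt] at h2
        exact hq.one_lt.ne' h2
      · have h2 : q ^ 2 ≡ 1 [MOD p] := h1 ▸ e8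
        have h3 : p ∣ q ^ 2 - 1 := (Nat.modEq_iff_dvd' (Nat.one_le_pow _ _ hq.pos)).mp h2.symm
        have h4 : q ^ 2 - 1 = (q - 1) * (q + 1) := by
          have hq1 : 1 ≤ q := hq.pos
          zify [hq1, Nat.one_le_pow 2 q hq.pos]
          ring
        rw [h4] at h3
        rcases (Nat.Prime.dvd_mul hpprime).mp h3 with h5 | h5
        · exfalso
          have h6 : p ≤ q - 1 := Nat.le_of_dvd (by have := hq.one_lt; omega) h5
          omega
        · have h6 : p ≤ q + 1 := Nat.le_of_dvd (by omega) h5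
          have h7 : p = q + 1 := by omega
          have hq2 : q = 2 := by
            rcases hq.eq_two_or_odd with h8 | h8
            · exact h8
            · exfalso
              rcases hpprime.eq_two_or_odd with h9 | h9
              · have := hq.two_le; omega
              · omega
          rw [h1, hq2]; norm_num
    -- `N` embeds in the symmetric group on the 4 cosets of `M`
    have hMne : M ≠ ⊤ := hM.1
    obtain ⟨K, hK⟩ : ∃ K, K = N ⊓ M.normalCore := ⟨_, rfl⟩
    have hKnormal : K.Normal := by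
      rw [hK]; infer_instance
    have hKbot : K = ⊥ := by
      rcases hmin K hKnormal (hK ▸ inf_le_left) with h1 | h1
      · exact h1
      · exfalso
        have hNM' : N ≤ M := by
          rw [← h1, hK]; exact inf_le_right.trans (Subgroup.normalCore_le M)
        rw [sup_eq_right.mpr hNM'] at hNM
        exact hMne hNM
    let φ : N →* Equiv.Perm (G ⧸ M) := (MulAction.toPermHom G (G ⧸ M)).comp N.subtype
    have hφ : Function.Injective φ := by
      rw [injective_iff_map_eq_one]
      intro x hx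
      have h1 : (x : G) ∈ M.normalCore := by
        rw [Subgroup.normalCore_eq_ker]
        exact hx
      have h2 : (x : G) ∈ K := hK ▸ Subgroup.mem_inf.mpr ⟨x.2, h1⟩
      rw [hKbot, Subgroup.mem_bot] at h2
      exact Subtype.ext h2
    have hdvd : Nat.card N ∣ Nat.card (Equiv.Perm (G ⧸ M)) := Subgroup.card_dvd_of_injective φ hφ
    have hc : Nat.card (G ⧸ M) = 4 := by
      rw [← Subgroup.index_eq_card]; exact hidx4
    rw [Nat.card_perm, hc] at hdvd
    exact isSolvable_of_card_dvd_24 (by simpa [Nat.factorial] using hdvd)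

end

theorem main : ∀ (n : ℕ) (G : Type u) [Group G] [Finite G], Nat.card G = n →
    (∀ M : Subgroup G, IsCoatom M → ∃ p : ℕ, p.Prime ∧ (M.index = p ∨ M.index = p ^ 2)) →
    Group.IsSolvable G := by
  intro n
  induction n using Nat.strong_induction_on with
  | _ n ih =>
    intro G _ _ hn h
    by_cases htriv : Subsingleton G
    · exact Group.isSolvable_of_comm (G := G) (fun a b => Subsingleton.elim _ _)
    · rw [not_subsingleton_iff_nontrivial] at htriv
      obtain ⟨N, hNn, hNne, hmin⟩ := exists_minNormal (G := G)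
      have hNs : Group.IsSolvable N := minNormal_solvable h N hNne hmin
      have hlt : Nat.card (G ⧸ N) < n := by
        rw [← hn, ← Subgroup.index_eq_card N]
        have hcard := Subgroup.card_mul_index N
        have hK1 : 1 < Nat.card N := by
          rw [Subgroup.one_lt_card_iff_ne_bot]; exact hNne
        have hpos : 0 < N.index := Nat.pos_of_ne_zero Subgroup.index_ne_zero_of_finite
        nlinarith
      have hQ : Group.IsSolvable (G ⧸ N) := by
        apply ih _ hlt (G ⧸ N) rfl
        intro M' hM'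
        obtain ⟨p, hp, hpM⟩ := h _ (isCoatom_comap_mk N hM')
        refine ⟨p, hp, ?_⟩
        rwa [Subgroup.index_comap_of_surjective _ (QuotientGroup.mk'_surjective N)] at hpM
      exact isSolvable_of_normal_h8 N hNs hQ

theorem result {G : Type*} [Group G] [Finite G] (h : ∀ M : Subgroup G, IsCoatom M → ∃ p : ℕ, p.Prime ∧ (M.index = p ∨ M.index = p ^ 2)) : Group.IsSolvable G :=
  main _ G rfl h

end Cfsg.Agent.S4203
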