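import Mathlib
import Cfsg.Statements.S4208
import Cfsg.Agent.Lib.Lead.BurnsideBasis
import Cfsg.Agent.Lib.Helper8.GenCount

set_option autoImplicit false

open Cfsg
open scoped commutatorElement

namespace Cfsg.Agent.S4208

open Cfsg.Agent.Lib.Lead Cfsg.Agent.Lib.Helper8

variable {P : Type*} [Group P]

/-- Generating `r`-tuples. -/
def GenTup (P : Type*) [Group P] (r : ℕ) : Type _ :=
  {y : Fin r → P // Subgroup.closure (Set.range y) = ⊤}

instance genAction (r : ℕ) : MulAction (MulAut P) (GenTup P r) where
  smul α y := ⟨fun i => α (y.1 i), by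
    have h1 : Set.range (fun i => α (y.1 i)) = (α : P →* P) '' Set.range y.1 := by
      ext x
      simp only [Set.mem_range, Set.mem_image]
      constructor
      · rintro ⟨i, rfl⟩
        exact ⟨y.1 i, ⟨i, rfl⟩, rfl⟩
      · rintro ⟨_, ⟨i, rfl⟩, rfl⟩
        exact ⟨i, rfl⟩
    rw [h1, ← MonoidHom.map_closure, y.2]
    exact Subgroup.map_top_of_surjective _ α.surjective⟩
  one_smul y := by
    apply Subtype.ext
    funext i
    rfl
  mul_smul α β y := by
    apply Subtype.ext
    funext i
    rfl

theorem card_dvd_card_genTup [Finite P] (r : ℕ) : Nat.card (MulAut P) ∣ Nat.card (GenTup P r) := by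
  classical
  have hfree : ∀ (α : MulAut P) (y : GenTup P r), α • y = y → α = 1 := by
    intro α y hy
    have h1 : ((α : MulAut P) : P →* P) = MonoidHom.id P := by
      apply MonoidHom.eq_of_eqOn_dense y.2
      rintro _ ⟨i, rfl⟩
      have := congrFun (congrArg Subtype.val hy) i
      exact this
    apply MulEquiv.ext
    intro x
    exact DFunLike.congr_fun h1 x
  have : Fintype P := Fintype.ofFinite P
  have : Fintype (MulAut P) := Fintype.ofFinite _
  have : Fintype (GenTup P r) := by
    have : Finite (GenTup P r) := by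
      unfold GenTup
      infer_instance
    exact Fintype.ofFinite _
  have : Fintype (Quotient (MulAction.orbitRel (MulAut P) (GenTup P r))) := Fintype.ofFinite _
  have hb := MulAction.sum_card_fixedBy_eq_card_orbits_mul_card_group (MulAut P) (GenTup P r)
  rw [Finset.sum_eq_single (1 : MulAut P)] at hb
  · have h1 : Fintype.card (MulAction.fixedBy (GenTup P r) (1 : MulAut P))
        = Fintype.card (GenTup P r) := by
      apply Fintype.card_congr
      exact
        { toFun := fun y => y.1
          invFun := fun y => ⟨y, by simp⟩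
          left_inv := fun y => rfl
          right_inv := fun y => rfl }
    rw [h1, ← Nat.card_eq_fintype_card, ← Nat.card_eq_fintype_card (α := MulAut P)] at hb
    exact Dvd.intro_left _ hb.symm
  · intro α _ hα
    rw [Fintype.card_eq_zero_iff]
    constructor
    rintro ⟨y, hy⟩
    exact hα (hfree α y hy)
  · intro h
    exact absurd (Finset.mem_univ _) h

/-- Generating tuples of `P` correspond to generating tuples of `P ⧸ Φ(P)` together with a tuple
from `Φ(P)`. -/
noncomputable def genTupEquiv [Finite P] (r : ℕ) :
    GenTup P r ≃ GenTup (P ⧸ frattini P) r × (Fin r → frattini P) where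
  toFun y := (⟨fun i => ((y.1 i : P) : P ⧸ frattini P), by
      have h1 : Set.range (fun i => ((y.1 i : P) : P ⧸ frattini P))
          = (QuotientGroup.mk' (frattini P)) '' Set.range y.1 := by
        ext x
        simp only [Set.mem_range, Set.mem_image]
        constructor
        · rintro ⟨i, rfl⟩
          exact ⟨y.1 i, ⟨i, rfl⟩, rfl⟩
        · rintro ⟨_, ⟨i, rfl⟩, rfl⟩
          exact ⟨i, rfl⟩
      rw [h1, ← MonoidHom.map_closure, y.2]
      exact Subgroup.map_top_of_surjective _ (QuotientGroup.mk'_surjective _)⟩,
    fun i => ⟨y.1 i * (((y.1 i : P) : P ⧸ frattini P)).out⁻¹, by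
      rw [← QuotientGroup.eq_one_iff, QuotientGroup.mk_mul, QuotientGroup.mk_inv,
        QuotientGroup.out_eq', mul_inv_cancel]⟩)
  invFun sz := ⟨fun i => (sz.2 i : P) * (sz.1.1 i).out, by
    apply frattini_nongenerating
    have hmk : ∀ i, (((sz.2 i : P) * (sz.1.1 i).out : P) : P ⧸ frattini P) = sz.1.1 i := by
      intro i
      rw [QuotientGroup.mk_mul, QuotientGroup.out_eq', (QuotientGroup.eq_one_iff _).2 (sz.2 i).2,
        one_mul]
    have h1 : (Subgroup.closure (Set.range fun i => (sz.2 i : P) * (sz.1.1 i).out)).map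
        (QuotientGroup.mk' (frattini P)) = ⊤ := by
      have hrange : (QuotientGroup.mk' (frattini P)) ''
          (Set.range fun i => (sz.2 i : P) * (sz.1.1 i).out) = Set.range sz.1.1 := by
        ext x
        simp only [Set.mem_range, Set.mem_image]
        constructor
        · rintro ⟨_, ⟨i, rfl⟩, rfl⟩
          exact ⟨i, (hmk i).symm⟩
        · rintro ⟨i, rfl⟩
          exact ⟨_, ⟨i, rfl⟩, hmk i⟩
      rw [MonoidHom.map_closure, hrange]
      exact sz.1.2
    have h2 := congrArg (Subgroup.comap (QuotientGroup.mk' (frattini P))) h1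
    rw [Subgroup.comap_map_eq, QuotientGroup.ker_mk', Subgroup.comap_top] at h2
    exact h2⟩
  left_inv y := by
    apply Subtype.ext
    funext i
    simp
  right_inv sz := by
    have hmk : ∀ i, (((sz.2 i : P) * (sz.1.1 i).out : P) : P ⧸ frattini P) = sz.1.1 i := by
      intro i
      rw [QuotientGroup.mk_mul, QuotientGroup.out_eq', (QuotientGroup.eq_one_iff _).2 (sz.2 i).2,
        one_mul]
    apply Prod.ext
    · apply Subtype.ext
      funext i
      exact hmk i
    · funext i
      apply Subtype.ext
      simp only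
      rw [hmk i]
      simp

theorem result {P : Type*} [Group P] [Finite P] {p n r : ℕ} [Fact p.Prime] (hP : Nat.card P = p ^ n) (hr : (frattini P).index = p ^ r) : Nat.card (MulAut P) ∣ p ^ (r * (n - r)) * ∏ i ∈ Finset.range r, (p ^ r - p ^ i) := by
  classical
  have hp : p.Prime := Fact.out
  have hPg : IsPGroup p P := IsPGroup.of_card hP
  have hΦ : Nat.card (frattini P) = p ^ (n - r) := by
    have h1 := (frattini P).card_mul_index
    rw [hr, hP] at h1
    have hrn : r ≤ n := by
      by_contra hlt
      push Not at hlt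
      have h2 : p ^ r ∣ p ^ n := Dvd.intro_left _ h1
      exact absurd ((Nat.pow_dvd_pow_iff_le_right hp.one_lt).1 h2) (not_le.2 hlt)
    have h3 : p ^ n = p ^ (n - r) * p ^ r := by rw [← pow_add, Nat.sub_add_cancel hrn]
    rw [h3] at h1
    exact Nat.eq_of_mul_eq_mul_right (pow_pos hp.pos r) h1
  have hcomm : ∀ a b : P ⧸ frattini P, a * b = b * a := by
    intro a b
    induction a using QuotientGroup.induction_on with
    | H x =>
    induction b using QuotientGroup.induction_on with
    | H y =>
    rw [← QuotientGroup.mk_mul, ← QuotientGroup.mk_mul, QuotientGroup.eq]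
    have h1 : ⁅y⁻¹, x⁻¹⁆ ∈ commutator P := by
      rw [commutator_def]
      exact Subgroup.commutator_mem_commutator (Subgroup.mem_top _) (Subgroup.mem_top _)
    have h2 := commutator_le_frattini_of_isPGroup hPg h1
    have : (x * y)⁻¹ * (y * x) = ⁅y⁻¹, x⁻¹⁆ := by
      rw [commutatorElement_def]
      group
    rw [this]
    exact h2
  have hexp : ∀ a : P ⧸ frattini P, a ^ p = 1 := by
    intro a
    induction a using QuotientGroup.induction_on with
    | H x =>
    rw [← QuotientGroup.mk_pow, QuotientGroup.eq_one_iff]
    exact pow_mem_frattini_of_isPGroup hPg x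
  have hQcard : Nat.card (P ⧸ frattini P) = p ^ r := by
    rw [← hr]
    rfl
  let cq : CommGroup (P ⧸ frattini P) :=
    { (inferInstance : Group (P ⧸ frattini P)) with mul_comm := hcomm }
  have hgen : Nat.card (GenTup (P ⧸ frattini P) r) = ∏ i ∈ Finset.range r, (p ^ r - p ^ i) :=
    @card_gen_tuples p r _ (P ⧸ frattini P) cq _ hexp hQcard
  have h1 := card_dvd_card_genTup (P := P) r
  rw [Nat.card_congr (genTupEquiv r), Nat.card_prod, hgen, Nat.card_fun, hΦ, Nat.card_fin,
    ← pow_mul, mul_comm] at h1
  rw [mul_comm r]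
  exact h1

end Cfsg.Agent.S4208
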