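import Mathlib
import Cfsg.Statements.S4211
import Cfsg.Agent.Lib.Helper7.Ded3
import Cfsg.Agent.Lib.Helper7.Ito1

set_option autoImplicit false
open Cfsg

namespace Cfsg.Agent.S4211

open Cfsg.Agent.Lib.Helper7.Ded Cfsg.Agent.Lib.Helper7.Ito
open scoped Pointwise

/-- A finite non-abelian group in which every subgroup is normal is the internal direct product of a subgroup isomorphic to the quaternion group of order `8`, an elementary abelian `2`-subgroup and an abelian subgroup of odd order. -/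
theorem result {G : Type*} [Group G] [Finite G] (hna : ¬ IsMulCommutative G) (hn : ∀ H : Subgroup G, H.Normal) : ∃ Q E A : Subgroup G, Nonempty (Q ≃* QuaternionGroup 2) ∧ Cfsg.IsElementaryAbelian 2 E ∧ IsMulCommutative A ∧ Odd (Nat.card A) ∧ E ⊓ A = ⊥ ∧ Q ⊓ (E ⊔ A) = ⊥ ∧ Q ⊔ (E ⊔ A) = ⊤ := by
  have hd : IsDed G := hn
  have hna' : ∃ a b : G, a * b ≠ b * a := by
    by_contra h0
    push_neg at h0
    exact hna ⟨⟨h0⟩⟩
  obtain ⟨x, y, hx4, hsq, hconj⟩ := exists_quat_pair hd hna'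
  have h : QP x y := ⟨hx4, hsq, hconj⟩
  have hab := Cxy_comm hd h
  have hxQ : x ∈ Subgroup.closure ({x, y} : Set G) := Subgroup.subset_closure (by simp)
  have hcC : x ^ 2 ∈ Cxy x y := by
    rw [mem_Cxy]
    refine ⟨((Commute.refl x).pow_left 2).eq, ?_⟩
    rw [← h.sq]
    exact ((Commute.refl y).pow_left 2).eq
  obtain ⟨E, hEC, hE2, hcE, hmax⟩ := exists_max_E (Cxy x y) h.x2_ne
  have hEAC : E ⊔ oddPart (Cxy x y) hab ≤ Cxy x y := sup_le hEC (fun g hg => hg.1)
  refine ⟨Subgroup.closure ({x, y} : Set G), E, oddPart (Cxy x y) hab, Q_iso hd h,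
    ⟨⟨⟨fun a b => Subtype.ext (hab a (hEC a.2) b (hEC b.2))⟩⟩, hE2⟩,
    ⟨⟨fun a b => Subtype.ext (hab _ a.2.1 _ b.2.1)⟩⟩, odd_card_oddPart _ hab, ?_, ?_, ?_⟩
  · rw [eq_bot_iff]
    rintro g ⟨hgE, hgA⟩
    exact Subgroup.mem_bot.mpr (eq_one_of_sq_of_odd (hE2 g hgE) hgA.2)
  · rw [eq_bot_iff]
    rintro g ⟨hgQ, hgEA⟩
    rcases mem_Q_inf_C hd h hgQ (hEAC hgEA) with h0 | h0
    · exact Subgroup.mem_bot.mpr h0
    · exfalso
      have hgEA' : x ^ 2 ∈ E ⊔ oddPart (Cxy x y) hab := h0 ▸ hgEA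
      haveI := hd (oddPart (Cxy x y) hab)
      have h1 : x ^ 2 ∈ (E : Set G) * (oddPart (Cxy x y) hab : Set G) := by
        rw [← Subgroup.mul_normal]; exact hgEA'
      obtain ⟨e, he, a, ha, hea⟩ := Set.mem_mul.mp h1
      have ha2 : a ^ 2 = 1 := by
        have h2 : a = e⁻¹ * x ^ 2 := by rw [← hea]; group
        have hc : Commute e⁻¹ (x ^ 2) := hab _ ((Cxy x y).inv_mem (hEC he)) _ hcC
        rw [h2, hc.mul_pow, inv_pow, hE2 e he, inv_one, one_mul, ← pow_mul]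
        exact h.x4
      have ha1 : a = 1 := eq_one_of_sq_of_odd ha2 ha.2
      rw [ha1, mul_one] at hea
      exact hcE (hea ▸ he)
  · rw [eq_top_iff]
    intro g _
    obtain ⟨q, hq, c, hc, rfl⟩ := exists_mul_Cxy hd h g
    apply Subgroup.mul_mem _ ((le_sup_left : Subgroup.closure ({x, y} : Set G) ≤ _) hq)
    obtain ⟨a, b, ha, hb, hab', hao, k, hbo⟩ := pdecomp 2 c
    have hzC : Subgroup.zpowers c ≤ Cxy x y := Subgroup.zpowers_le.mpr hc
    rw [hab']
    apply Subgroup.mul_mem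
    · have haA : a ∈ oddPart (Cxy x y) hab := ⟨hzC ha, Nat.coprime_two_right.mp hao⟩
      exact (le_sup_right : E ⊔ oddPart (Cxy x y) hab ≤ _)
        ((le_sup_right : oddPart (Cxy x y) hab ≤ _) haA)
    · have hb2 : b ^ 2 = 1 := sq_eq_one_of_two_pow hd h k b (hzC hb)
        (by rw [← hbo]; exact pow_orderOf_eq_one b)
      have hbm := mem_sup_of_sq hd hab hEC hE2 hcE hmax (hzC hb) hb2
      have hle : Subgroup.zpowers (x ^ 2) ⊔ E ≤
          Subgroup.closure ({x, y} : Set G) ⊔ (E ⊔ oddPart (Cxy x y) hab) := by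
        apply sup_le
        · exact (Subgroup.zpowers_le.mpr (Subgroup.pow_mem _ hxQ 2)).trans le_sup_left
        · exact le_sup_left.trans le_sup_right
      exact hle hbm

end Cfsg.Agent.S4211
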