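import Mathlib
import Cfsg.Statements.S4217
import Cfsg.Agent.Lib.Lead.Gaschutz4

set_option autoImplicit false

open Cfsg

namespace Cfsg.Agent.S4217

open Cfsg.Agent.Lib.Lead Cfsg.Agent.Lib.Lead.Gaschutz
open scoped IsMulCommutative

universe u

variable {G : Type u} [Group G]

/-- Crossed homomorphisms `G → A`. -/
def IsCross (A : Subgroup G) [A.Normal] (c : G → A) : Prop :=
  ∀ g h : G, c (g * h) = c g * conjK g (c h)

theorem conjK_one (A : Subgroup G) [A.Normal] (x : A) : conjK (1 : G) x = x := by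
  apply Subtype.ext
  simp [conjK, conjHom_coe]

theorem conjK_mul (A : Subgroup G) [A.Normal] (g h : G) (x : A) :
    conjK (g * h) x = conjK g (conjK h x) := by
  apply Subtype.ext
  simp only [conjK, conjHom_coe]
  group

theorem IsCross.map_one {A : Subgroup G} [A.Normal] {c : G → A} (hc : IsCross A c) : c 1 = 1 := by
  have h := hc 1 1
  rw [mul_one, conjK_one] at h
  have h' : c 1 * c 1 = c 1 * 1 := by rw [mul_one]; exact h.symm
  exact mul_left_cancel h'

/-- The set of exponents `e` for which there is a crossed homomorphism acting as the `e`-th power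
on `A`. -/
def expSet (A : Subgroup G) [A.Normal] [IsMulCommutative A] : AddSubgroup ℤ where
  carrier := {e | ∃ c : G → A, IsCross A c ∧ ∀ a : A, c (a : G) = a ^ e}
  zero_mem' := ⟨fun _ => 1, fun g h => by simp, fun a => by simp⟩
  add_mem' := by
    rintro e₁ e₂ ⟨c₁, h₁, h₁'⟩ ⟨c₂, h₂, h₂'⟩
    refine ⟨fun g => c₁ g * c₂ g, fun g h => ?_, fun a => ?_⟩
    · show c₁ (g * h) * c₂ (g * h) = c₁ g * c₂ g * conjK g (c₁ h * c₂ h)
      rw [h₁ g h, h₂ g h, map_mul]
      rw [mul_mul_mul_comm]
    · show c₁ a * c₂ a = a ^ (e₁ + e₂)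
      rw [h₁', h₂', zpow_add]
  neg_mem' := by
    rintro e ⟨c, h, h'⟩
    refine ⟨fun g => (c g)⁻¹, fun g k => ?_, fun a => ?_⟩
    · show (c (g * k))⁻¹ = (c g)⁻¹ * conjK g (c k)⁻¹
      rw [h g k, map_inv, mul_inv, mul_comm]
    · show (c a)⁻¹ = a ^ (-e)
      rw [h', zpow_neg]

/-- The kernel of a crossed homomorphism. -/
def crossKer (A : Subgroup G) [A.Normal] (c : G → A) (hc : IsCross A c) : Subgroup G where
  carrier := {g | c g = 1}
  one_mem' := hc.map_one
  mul_mem' := by
    intro a b ha hb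
    simp only [Set.mem_ofPred_eq] at *
    rw [hc a b, ha, hb, map_one, one_mul]
  inv_mem' := by
    intro a ha
    simp only [Set.mem_ofPred_eq] at *
    have h1 := hc a⁻¹ a
    rw [inv_mul_cancel, hc.map_one, ha, map_one, mul_one] at h1
    exact h1.symm

theorem complement_of_one_mem (A : Subgroup G) [A.Normal] [IsMulCommutative A]
    (h : (1 : ℤ) ∈ expSet A) : ∃ K : Subgroup G, K.IsComplement' A := by
  obtain ⟨c, hc, hc'⟩ := h
  refine ⟨crossKer A c hc, Subgroup.IsComplement'.symm ?_⟩
  apply Subgroup.isComplement'_of_disjoint_and_mul_eq_univ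
  · rw [Subgroup.disjoint_def]
    intro a ha hker
    have h1 : c a = 1 := hker
    have h2 := hc' ⟨a, ha⟩
    rw [zpow_one] at h2
    have h3 : c a = ⟨a, ha⟩ := h2
    rw [h1] at h3
    exact (congrArg Subtype.val h3).symm
  · rw [Set.eq_univ_iff_forall]
    intro g
    refine ⟨(c g : G), (c g).2, (c g : G)⁻¹ * g, ?_, by group⟩
    show c ((c g : G)⁻¹ * g) = 1
    rw [hc]
    have h2 := hc' (c g)⁻¹
    rw [zpow_one] at h2
    have h3 : c ((c g : G)⁻¹) = (c g)⁻¹ := by
      have : (((c g)⁻¹ : A) : G) = (c g : G)⁻¹ := by simp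
      rw [← this]
      exact h2
    rw [h3, conjK_of_mem _ (A.inv_mem (c g).2)]
    exact inv_mul_cancel _

/-- The lead's Gaschütz cocycle gives the index of `U` as an element of `expSet`. -/
theorem index_mem_expSet [Finite G] (A : Subgroup G) [A.Normal] [IsMulCommutative A]
    (U K : Subgroup G) (hKA : K ⊓ A = ⊥) (hU : K ⊔ A = U) : (U.index : ℤ) ∈ expSet A := by
  classical
  have : Fintype (G ⧸ U) := Fintype.ofFinite _
  have hKU : K ≤ U := hU ▸ le_sup_left
  have hAU : A ≤ U := hU ▸ le_sup_right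
  have hdec : ∀ u ∈ U, ∃ k ∈ A, ∃ a ∈ K, u = k * a := by
    intro u hu
    rw [← hU, sup_comm, ← SetLike.mem_coe, Subgroup.normal_mul] at hu
    obtain ⟨k, hk, a, ha, rfl⟩ := hu
    exact ⟨k, hk, a, ha, rfl⟩
  obtain ⟨σ₀⟩ := exists_sec (K := A) (A := K) U hKU hAU hKA hdec
  refine ⟨c U σ₀, fun g h => c_mul U hdec σ₀ g h, fun a => ?_⟩
  rw [zpow_natCast]
  exact c_K U σ₀ a a.2

theorem result {G : Type*} [Group G] [Finite G] (A : Subgroup G) [A.Normal] (hA : IsMulCommutative A) : (∃ K : Subgroup G, K.IsComplement' A) ↔ ∀ p : ℕ, p.Prime → p ∣ A.index → ∃ (S : Sylow p (G ⧸ A)) (K : Subgroup G), K ⊓ A = ⊥ ∧ K ⊔ A = (S : Subgroup (G ⧸ A)).comap (QuotientGroup.mk' A) := by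
  classical
  constructor
  · rintro ⟨K, hK⟩ p hp _
    have : Fact p.Prime := ⟨hp⟩
    obtain ⟨S⟩ : Nonempty (Sylow p (G ⧸ A)) := inferInstance
    refine ⟨S, K ⊓ (S : Subgroup (G ⧸ A)).comap (QuotientGroup.mk' A), ?_, ?_⟩
    · rw [eq_bot_iff]
      calc K ⊓ (S : Subgroup (G ⧸ A)).comap (QuotientGroup.mk' A) ⊓ A ≤ K ⊓ A :=
            inf_le_inf_right _ inf_le_left
        _ = ⊥ := hK.disjoint.eq_bot
    · apply le_antisymm
      · apply sup_le inf_le_right
        intro a ha
        rw [Subgroup.mem_comap]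
        have : (QuotientGroup.mk' A) a = 1 := (QuotientGroup.eq_one_iff a).2 ha
        rw [this]
        exact Subgroup.one_mem _
      · intro u hu
        obtain ⟨⟨k, a⟩, hka, _⟩ := hK.existsUnique u
        simp only at hka
        rw [← hka]
        apply Subgroup.mul_mem_sup _ a.2
        refine ⟨k.2, ?_⟩
        rw [Subgroup.mem_comap] at hu
        apply Subgroup.mem_comap.2
        have h1 : (QuotientGroup.mk' A) u = (QuotientGroup.mk' A) (k : G) := by
          rw [← hka, map_mul]
          have : (QuotientGroup.mk' A) (a : G) = 1 := (QuotientGroup.eq_one_iff (a : G)).2 a.2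
          rw [this, mul_one]
        rw [← h1]
        exact hu
  · intro h
    apply complement_of_one_mem A
    obtain ⟨d, hd⟩ := Int.subgroup_cyclic (expSet A)
    -- every `n_p` is a multiple of `d`
    have hmem : ∀ e ∈ expSet A, d ∣ e := by
      intro e he
      rw [hd, AddSubgroup.mem_closure_singleton] at he
      obtain ⟨n, rfl⟩ := he
      exact ⟨n, by rw [smul_eq_mul, mul_comm]⟩
    have hdmem : d ∈ expSet A := by
      rw [hd]
      exact AddSubgroup.subset_closure rfl
    have hindex : ∀ p : ℕ, p.Prime → p ∣ A.index → ∃ n : ℕ, (n : ℤ) ∈ expSet A ∧ ¬ p ∣ n ∧ n ≠ 0 := by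
      intro p hp hpA
      have : Fact p.Prime := ⟨hp⟩
      obtain ⟨S, K, hKA, hKU⟩ := h p hp hpA
      refine ⟨((S : Subgroup (G ⧸ A)).comap (QuotientGroup.mk' A)).index,
        index_mem_expSet A _ K hKA hKU, ?_, ?_⟩
      · rw [Subgroup.index_comap_of_surjective _ (QuotientGroup.mk'_surjective A)]
        exact S.not_dvd_index
      · exact Subgroup.index_ne_zero_of_finite
    -- `d` is a unit
    have hunit : d.natAbs = 1 := by
      by_contra hne
      by_cases hd0 : d = 0
      · -- then expSet = 0, so G = A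
        by_cases hA1 : A.index = 1
        · -- no prime divides the index; but then `1 ∈ expSet` anyway: handled below
          exact hne (by
            exfalso
            -- `A = ⊤`: the index of `⊥ ⊔ A = A` is `1`
            have h1 : ((A.index : ℕ) : ℤ) ∈ expSet A :=
              index_mem_expSet A A ⊥ (by simp) (by simp)
            rw [hA1] at h1
            have := hmem _ h1
            rw [hd0] at this
            simp at this)
        · obtain ⟨p, hp, hpA⟩ := Nat.exists_prime_and_dvd hA1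
          obtain ⟨n, hn, _, hn0⟩ := hindex p hp hpA
          have := hmem _ hn
          rw [hd0, zero_dvd_iff] at this
          exact hn0 (by exact_mod_cast this)
      · obtain ⟨q, hq, hqd⟩ := Nat.exists_prime_and_dvd hne
        -- `q ∣ d ∣ A.index`
        have h1 : ((A.index : ℕ) : ℤ) ∈ expSet A :=
          index_mem_expSet A A ⊥ (by simp) (by simp)
        have h2 : d ∣ (A.index : ℤ) := hmem _ h1
        have hqA : q ∣ A.index := by
          have : (q : ℤ) ∣ (A.index : ℤ) :=
            dvd_trans (Int.natCast_dvd.2 hqd) h2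
          exact_mod_cast this
        obtain ⟨n, hn, hqn, _⟩ := hindex q hq hqA
        apply hqn
        have : (q : ℤ) ∣ (n : ℤ) := dvd_trans (Int.natCast_dvd.2 hqd) (hmem _ hn)
        exact_mod_cast this
    rcases Int.natAbs_eq d with h1 | h1
    · rw [hunit] at h1
      rw [← Nat.cast_one, ← h1]
      exact hdmem
    · rw [hunit] at h1
      have : (1 : ℤ) = -d := by rw [h1]; simp
      rw [this]
      exact (expSet A).neg_mem hdmem

end Cfsg.Agent.S4217
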