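import Cfsg.Statements.S4219
import Cfsg.Agent.Lib.Helper8.ConjBy

set_option autoImplicit false

open Cfsg

namespace Cfsg.Agent.S4219

open Cfsg.Agent.Lib.Helper8
open scoped Pointwise

section

variable {G : Type*} [Group G] [Finite G] {p : ℕ} [Fact p.Prime]

/-- Sylow conjugacy inside a subgroup `H`, phrased for subgroups of the ambient group. -/
theorem exists_conj_eq_of_card_eq (H : Subgroup G) (P : Sylow p H) (R : Subgroup G) (hR : R ≤ H)
    (hcard : Nat.card R = Nat.card P) :
    ∃ h ∈ H, Cfsg.conjBy R h = (P : Subgroup H).map H.subtype := by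
  have hc : Nat.card (R.subgroupOf H) = p ^ (Nat.card H).factorization p := by
    rw [Nat.card_congr (Subgroup.subgroupOfEquivOfLe hR).toEquiv, hcard, Sylow.card_eq_multiplicity]
  obtain ⟨h, hh⟩ := MulAction.exists_smul_eq H (Sylow.ofCard (R.subgroupOf H) hc) P
  refine ⟨h, h.2, ?_⟩
  have h1 : (MulAut.conj h • (R.subgroupOf H) : Subgroup H) = (P : Subgroup H) := by
    have := congrArg (fun S : Sylow p H => (S : Subgroup H)) hh
    simpa [Sylow.coe_subgroup_smul] using this
  rw [← h1]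
  ext y
  rw [mem_conjBy, Subgroup.mem_map]
  constructor
  · intro hy
    have hyH : y ∈ H := by
      have : y = (h : G) * ((h : G)⁻¹ * y * (h : G)) * (h : G)⁻¹ := by group
      rw [this]
      exact H.mul_mem (H.mul_mem h.2 (hR hy)) (H.inv_mem h.2)
    refine ⟨⟨y, hyH⟩, ?_, rfl⟩
    rw [Subgroup.mem_pointwise_smul_iff_inv_smul_mem, Subgroup.mem_subgroupOf]
    simpa [MulAut.smul_def] using hy
  · rintro ⟨z, hz, rfl⟩
    rw [Subgroup.mem_pointwise_smul_iff_inv_smul_mem, Subgroup.mem_subgroupOf] at hz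
    simpa [MulAut.smul_def] using hz

theorem key {α : Type*} [MulAction G α] {t : ℕ}
    (hG : MulAction.IsMultiplyPretransitive G α t) (x : Fin t ↪ α)
    (P : Sylow p (MulAction.stabilizer G x)) (c : Fin t ↪ α)
    (hc : ∀ i, c i ∈ MulAction.fixedPoints
      ((P : Subgroup (MulAction.stabilizer G x)).map (MulAction.stabilizer G x).subtype) α) :
    ∃ n ∈ Subgroup.normalizer
      ((((P : Subgroup (MulAction.stabilizer G x)).map (MulAction.stabilizer G x).subtype) :
        Subgroup G) : Set G), n • x = c := by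
  obtain ⟨P', hP'⟩ : ∃ P' : Subgroup G, P' =
      (P : Subgroup (MulAction.stabilizer G x)).map (MulAction.stabilizer G x).subtype := ⟨_, rfl⟩
  rw [← hP'] at hc ⊢
  have hP'card : Nat.card P' = Nat.card P := by
    rw [hP']
    exact Nat.card_congr
      ((P : Subgroup (MulAction.stabilizer G x)).equivMapOfInjective
        (MulAction.stabilizer G x).subtype (Subgroup.subtype_injective _)).symm.toEquiv
  have : MulAction.IsPretransitive G (Fin t ↪ α) := hG
  obtain ⟨g₁, hg₁⟩ := MulAction.exists_smul_eq G x c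
  have hfix : ∀ z ∈ P', z • c = c := by
    intro z hz
    ext i
    rw [Function.Embedding.smul_apply]
    exact hc i ⟨z, hz⟩
  have hR : Cfsg.conjBy P' g₁⁻¹ ≤ MulAction.stabilizer G x := by
    intro y hy
    rw [mem_conjBy, inv_inv] at hy
    rw [MulAction.mem_stabilizer_iff]
    have h1 := hfix _ hy
    rw [mul_smul, mul_smul, ← hg₁, inv_smul_smul] at h1
    exact smul_left_cancel g₁ h1
  have hRcard : Nat.card (Cfsg.conjBy P' g₁⁻¹) = Nat.card P := by
    rw [← hP'card]
    exact Nat.card_congr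
      (P'.equivMapOfInjective (MulAut.conj g₁⁻¹).toMonoidHom (MulAut.conj g₁⁻¹).injective).symm.toEquiv
  obtain ⟨h, hhH, hEq⟩ := exists_conj_eq_of_card_eq (MulAction.stabilizer G x) P _ hR hRcard
  rw [conjBy_conjBy, ← hP'] at hEq
  refine ⟨(h * g₁⁻¹)⁻¹, Subgroup.inv_mem _ (conjBy_eq_self_iff.mp hEq), ?_⟩
  rw [mul_inv_rev, inv_inv, mul_smul]
  have : h⁻¹ • x = x :=
    MulAction.mem_stabilizer_iff.mp ((MulAction.stabilizer G x).inv_mem hhH)
  rw [this, hg₁]

end

theorem result {G : Type*} [Group G] [Finite G] {α : Type*} [Fintype α] [MulAction G α] {t : ℕ} (hG : MulAction.IsMultiplyPretransitive G α t) (x : Fin t ↪ α) {p : ℕ} [Fact p.Prime] (P : Sylow p (MulAction.stabilizer G x)) (a b : Fin t ↪ α) (ha : ∀ i, a i ∈ MulAction.fixedPoints ((P : Subgroup (MulAction.stabilizer G x)).map (MulAction.stabilizer G x).subtype) α) (hb : ∀ i, b i ∈ MulAction.fixedPoints ((P : Subgroup (MulAction.stabilizer G x)).map (MulAction.stabilizer G x).subtype) α) : ∃ g ∈ Subgroup.normalizer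 ((((P : Subgroup (MulAction.stabilizer G x)).map (MulAction.stabilizer G x).subtype) : Subgroup G) : Set G), g • a = b := by
  obtain ⟨n₁, hn₁, hn₁x⟩ := key hG x P a ha
  obtain ⟨n₂, hn₂, hn₂x⟩ := key hG x P b hb
  refine ⟨n₂ * n₁⁻¹, Subgroup.mul_mem _ hn₂ (Subgroup.inv_mem _ hn₁), ?_⟩
  rw [mul_smul, ← hn₁x, inv_smul_smul, hn₂x]

end Cfsg.Agent.S4219
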