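import Cfsg.Statements.S4220
import Mathlib
import Cfsg.Agent.Lib.Helper2.Miller9
import Cfsg.Agent.S0711
import Cfsg.Agent.S0713
import Cfsg.Agent.S0415
import Cfsg.Agent.S0416

set_option autoImplicit false
open Cfsg

namespace Cfsg.Agent.S4220

open Cfsg.Agent.Lib.Helper2.Miller in
theorem stab_eq_bot {α : Type*} [Fintype α] [DecidableEq α] (G : Subgroup (Equiv.Perm α))
    {t r : ℕ} (hsupp : ∀ g ∈ G, g ≠ 1 → 2 * r ≤ g.support.card)
    (hlt : Fintype.card α < 2 * r + t) (x : Fin t ↪ α) : MulAction.stabilizer G x = ⊥ := by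
  rw [Subgroup.eq_bot_iff_forall]
  intro g hg
  rw [MulAction.mem_stabilizer_iff] at hg
  by_contra hg1
  have h1 : (g : Equiv.Perm α) ≠ 1 := fun e => hg1 (Subtype.ext e)
  have h2 := hsupp g g.2 h1
  have hfix : ∀ a, a ∉ (Set.range x)ᶜ → (g : Equiv.Perm α) a = a := by
    intro a ha
    rw [Set.notMem_compl_iff] at ha
    obtain ⟨i, rfl⟩ := ha
    have := congrArg (fun e : Fin t ↪ α => e i) hg
    exact this
  have h3 := card_support_le (T := (Set.range x)ᶜ) hfix
  rw [Set.ncard_compl, Set.ncard_range_of_injective x.injective, Nat.card_fin,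
    Nat.card_eq_fintype_card] at h3
  have h4 : t ≤ Fintype.card α := by
    have := Fintype.card_le_of_embedding x
    simpa using this
  have h5 : (g : Equiv.Perm α).support.card ≠ 0 := by
    rw [Ne, Equiv.Perm.card_support_eq_zero]; exact h1
  omega

/-- Let `n = kp + r` with `p` prime, `1 ≤ k < p` and `r > k`, excluding the case `k = 1, r = 2`. Then a permutation group of degree `n` that is `(r + 1)`-fold transitive contains the alternating group. -/
theorem result {α : Type*} [Fintype α] [DecidableEq α] (G : Subgroup (Equiv.Perm α)) {k p r : ℕ} (hp : p.Prime) (hn : Fintype.card α = k * p + r) (hk : 1 ≤ k) (hpk : k < p) (hrk : k < r) (hex : ¬ (k = 1 ∧ r = 2)) (hG : MulAction.IsMultiplyPretransitive G α (r + 1)) : alternatingGroup α ≤ G := by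
  by_contra hA
  haveI : Fact p.Prime := ⟨hp⟩
  have h3 : 3 ≤ r := by
    by_contra h
    push Not at h
    exact hex ⟨by omega, by omega⟩
  have hkp1 : 1 ≤ k * p := Nat.mul_pos (by omega) hp.pos
  have hkpp : p ≤ k * p := Nat.le_mul_of_pos_left p (by omega)
  have hcard : r + 1 ≤ Fintype.card α := by omega
  have hsupp : ∀ g ∈ G, g ≠ 1 → 2 * r ≤ g.support.card := by
    intro g hg hg1
    by_contra hlt
    push Not at hlt
    exact hA (Cfsg.Agent.S0711.result G (k := r + 1) (by omega) hcard hG g hg hg1 (by omega)).2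
  have h2 : MulAction.IsMultiplyPretransitive G α 2 :=
    MulAction.isMultiplyPretransitive_of_le (n := r + 1) (by omega)
      (by rw [Nat.card_eq_fintype_card]; exact hcard)
  have hprim : MulAction.IsPreprimitive G α := MulAction.isPreprimitive_of_is_two_pretransitive h2
  have hcyc : ∀ g ∈ G, g.IsCycle → g.support.card ≠ p := by
    intro g hg hc hcd
    exact hA (Cfsg.Agent.S0713.result G hprim hp (by omega) (by omega) hc hcd hg)
  by_cases hp5 : 2 ≤ k → r < 5 → ¬ p ∣ r.factorial
  · exact Cfsg.Agent.Lib.Helper2.Miller.miller_aux G hn hk hpk hrk h3 hG hsupp hcyc hp5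
  · push Not at hp5
    obtain ⟨hk2, hr5, hpd⟩ := hp5
    have hpr : p ≤ r := (Nat.Prime.dvd_factorial hp).mp hpd
    have hp3 : p = 3 := by
      have h1 : 3 ≤ p := by omega
      have h2 : p ≤ 4 := by omega
      interval_cases p
      · rfl
      · exact absurd hp (by decide)
    subst hp3
    have hk2' : k = 2 := by omega
    subst hk2'
    rcases (by omega : r = 3 ∨ r = 4) with rfl | rfl
    · haveI := hG
      have := Cfsg.Agent.S0415.result G (by omega)
        (fun x => stab_eq_bot G (r := 3) hsupp (by omega) x)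
      omega
    · haveI := hG
      have := Cfsg.Agent.S0416.result G (by omega)
        (fun x => stab_eq_bot G (r := 4) hsupp (by omega) x)
      omega

end Cfsg.Agent.S4220
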