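import Cfsg.Statements.S4221
import Cfsg.Agent.Lib.Helper4.Hall4M
import Cfsg.Agent.Lib.Helper1.Jordan5

set_option autoImplicit false
open Cfsg

namespace Cfsg.Agent.S4221

open MulAction Cfsg.Agent.Lib.Helper4.Hall4 Cfsg.Agent.Lib.Helper1.SharpTrans

/-- from `(2 k + 1) i = m` bound `k` -/
theorem odd_factor_le {k i m : ℕ} (hm : 0 < m) (h : (2 * k + 1) * i = m) : 2 * k + 1 ≤ m :=
  Nat.le_of_dvd hm (Dvd.intro _ h)

/-- Let `G` be a `4`-fold transitive permutation group on a finite set of `n` points in which the pointwise stabilizer of some four distinct points has odd order. Then `n = 4` or `n = 5` with `G` the full symmetric group, or `n = 6` or `n = 7` with `G` the alternating group, or `n = 11` and `G` has order `7920`. -/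
theorem result {α : Type*} [Fintype α] [DecidableEq α] (G : Subgroup (Equiv.Perm α)) (hG : MulAction.IsMultiplyPretransitive G α 4) (x : Fin 4 ↪ α) (hodd : Odd (Nat.card (MulAction.stabilizer G x))) : ((Fintype.card α = 4 ∨ Fintype.card α = 5) ∧ G = ⊤) ∨ ((Fintype.card α = 6 ∨ Fintype.card α = 7) ∧ G = alternatingGroup α) ∨ (Fintype.card α = 11 ∧ Nat.card G = 7920) := by
  have : IsMultiplyPretransitive G α 4 := hG
  have hall : ∀ e : Fin 4 ↪ α, Odd (Nat.card (stabilizer G e)) := fun e => odd_all hodd e
  have h4 : 4 ≤ Fintype.card α := by
    have := Fintype.card_le_of_embedding x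
    rwa [Fintype.card_fin] at this
  have hcardG := card_eq_descFactorial_mul (G := G) x
  have hidx := Subgroup.card_mul_index G
  rw [Nat.card_eq_fintype_card (α := Equiv.Perm α), Fintype.card_perm] at hidx
  by_cases h8 : 8 ≤ Fintype.card α
  · right; right
    exact hall_large hall h8
  · push Not at h8
    obtain ⟨k, hk⟩ := odd_all (G := G) hodd x
    rw [hk] at hcardG
    have hn : Fintype.card α = 4 ∨ Fintype.card α = 5 ∨ Fintype.card α = 6 ∨
        Fintype.card α = 7 := by omega
    have hPerm : Nat.card (Equiv.Perm α) = (Fintype.card α).factorial := by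
      rw [Nat.card_eq_fintype_card, Fintype.card_perm]
    rcases hn with hn | hn | hn | hn
    · left
      refine ⟨Or.inl hn, ?_⟩
      rw [hn] at hcardG hidx hPerm
      have h1 : Nat.descFactorial 4 4 = 24 := by decide
      have h2 : Nat.factorial 4 = 24 := by decide
      rw [h1] at hcardG
      rw [h2] at hidx hPerm
      have h3 : (2 * k + 1) * G.index = 1 := by
        have : 24 * ((2 * k + 1) * G.index) = 24 * 1 := by rw [← mul_assoc, ← hcardG, hidx]
        exact Nat.eq_of_mul_eq_mul_left (by norm_num) this
      have h5 := odd_factor_le (by norm_num) h3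
      have hk0 : k = 0 := by omega
      subst hk0
      apply Subgroup.eq_top_of_card_eq
      rw [hPerm, hcardG]; norm_num
    · left
      refine ⟨Or.inr hn, ?_⟩
      rw [hn] at hcardG hidx hPerm
      have h1 : Nat.descFactorial 5 4 = 120 := by decide
      have h2 : Nat.factorial 5 = 120 := by decide
      rw [h1] at hcardG
      rw [h2] at hidx hPerm
      have h3 : (2 * k + 1) * G.index = 1 := by
        have : 120 * ((2 * k + 1) * G.index) = 120 * 1 := by rw [← mul_assoc, ← hcardG, hidx]
        exact Nat.eq_of_mul_eq_mul_left (by norm_num) this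
      have h5 := odd_factor_le (by norm_num) h3
      have hk0 : k = 0 := by omega
      subst hk0
      apply Subgroup.eq_top_of_card_eq
      rw [hPerm, hcardG]; norm_num
    · right; left
      refine ⟨Or.inl hn, ?_⟩
      rw [hn] at hcardG hidx
      have h1 : Nat.descFactorial 6 4 = 360 := by decide
      have h2 : Nat.factorial 6 = 720 := by decide
      rw [h1] at hcardG
      rw [h2] at hidx
      have h3 : (2 * k + 1) * G.index = 2 := by
        have : 360 * ((2 * k + 1) * G.index) = 360 * 2 := by rw [← mul_assoc, ← hcardG, hidx]
        exact Nat.eq_of_mul_eq_mul_left (by norm_num) this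
      have h5 := odd_factor_le (by norm_num) h3
      have hk0 : k = 0 := by omega
      subst hk0
      apply Equiv.Perm.eq_alternatingGroup_of_index_eq_two
      omega
    · rw [hn] at hcardG hidx
      have h1 : Nat.descFactorial 7 4 = 840 := by decide
      have h2 : Nat.factorial 7 = 5040 := by decide
      rw [h1] at hcardG
      rw [h2] at hidx
      have h3 : (2 * k + 1) * G.index = 6 := by
        have : 840 * ((2 * k + 1) * G.index) = 840 * 6 := by rw [← mul_assoc, ← hcardG, hidx]
        exact Nat.eq_of_mul_eq_mul_left (by norm_num) this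
      have h5 := odd_factor_le (by norm_num) h3
      have hk3 : k ≤ 2 := by omega
      interval_cases k
      · -- sharply 4-transitive of degree 7: impossible
        exfalso
        have hsharp : ∀ e : Fin 4 ↪ α, stabilizer G e = ⊥ := by
          intro e
          have hc := card_stabilizer_eq (G := G) x e
          rw [hk] at hc
          exact Subgroup.eq_bot_of_card_eq _ hc
        have := jordan_four (G := G) (α := α) h4 hsharp
        omega
      · right; left
        refine ⟨Or.inr hn, ?_⟩
        apply Equiv.Perm.eq_alternatingGroup_of_index_eq_two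
        omega
      · exfalso
        omega

end Cfsg.Agent.S4221
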