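import Cfsg.Statements.S4222

set_option autoImplicit false
open Cfsg
open scoped Pointwise

namespace Cfsg.Agent.S4222

/-- A complete normal subgroup is a direct factor. -/
theorem result {T : Type*} [Group T] [Finite T] (N : Subgroup T) [N.Normal] (hz : Subgroup.center ↥N = ⊥) (ha : Function.Surjective (MulAut.conj : ↥N →* MulAut ↥N)) : (Subgroup.centralizer (N : Set T)).IsComplement' N := by
  apply Subgroup.isComplement'_of_disjoint_and_mul_eq_univ
  · rw [Subgroup.disjoint_def]
    intro x hxC hxN
    have hc : (⟨x, hxN⟩ : N) ∈ Subgroup.center N := by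
      rw [Subgroup.mem_center_iff]
      intro y
      apply Subtype.ext
      have := (Subgroup.mem_centralizer_iff.mp hxC) y.1 y.2
      simpa using this
    rw [hz, Subgroup.mem_bot] at hc
    exact congrArg Subtype.val hc
  · rw [Set.eq_univ_iff_forall]
    intro g
    obtain ⟨n, hn⟩ := ha (MulAut.conjNormal g)
    have hrel : ∀ x : N, g * x * g⁻¹ = n * x * (n : T)⁻¹ := by
      intro x
      have h1 := DFunLike.congr_fun hn x
      have h2 := congrArg Subtype.val h1
      rw [MulAut.conjNormal_apply] at h2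
      rw [← h2]
      simp [MulAut.conj_apply]
    refine Set.mem_mul.mpr ⟨g * (n : T)⁻¹, ?_, n, n.2, by group⟩
    rw [SetLike.mem_coe, Subgroup.mem_centralizer_iff]
    intro x hx
    have h := hrel ⟨(n : T)⁻¹ * x * n, N.mul_mem (N.mul_mem (N.inv_mem n.2) hx) n.2⟩
    simp only at h
    have e1 : (n : T) * ((n : T)⁻¹ * x * n) * (n : T)⁻¹ = x := by group
    rw [e1] at h
    -- h : g * (n⁻¹ * x * n) * g⁻¹ = x
    calc x * (g * (n : T)⁻¹) = (g * ((n : T)⁻¹ * x * n) * g⁻¹) * (g * (n : T)⁻¹) := by rw [h]
      _ = g * (n : T)⁻¹ * x := by group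

end Cfsg.Agent.S4222
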