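import Mathlib
import Cfsg.Statements.S4224
import Cfsg.Agent.Lib.Helper8.RegularP

set_option autoImplicit false
open Cfsg

namespace Cfsg.Agent.S4224

/-- In a regular `p`-group, for all elements `a`, `b` and every power `q = p^k`: `a^q` commutes with `b` if and only if the commutator `a⁻¹b⁻¹ab` has `q`-th power equal to `1`. -/
theorem result {G : Type*} [Group G] [Finite G] {p : ℕ} [Fact p.Prime] (hG : Cfsg.IsRegularPGroup p G) (a b : G) (k : ℕ) : a ^ p ^ k * b = b * a ^ p ^ k ↔ (a⁻¹ * b⁻¹ * a * b) ^ p ^ k = 1 := by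
  have h1 := Cfsg.Agent.Lib.Helper8.regular_pow_eq_pow_iff hG (b⁻¹ * a * b) a k
  have hconj : (b⁻¹ * a * b) ^ p ^ k = b⁻¹ * a ^ p ^ k * b := by
    have := conj_pow (i := p ^ k) (a := b⁻¹) (b := a)
    simpa using this
  have h2 : (a⁻¹ * b⁻¹ * a * b) ^ p ^ k = a⁻¹ * (b⁻¹ * a * b * a⁻¹) ^ p ^ k * a := by
    have := conj_pow (i := p ^ k) (a := a⁻¹) (b := b⁻¹ * a * b * a⁻¹)
    rw [inv_inv] at this
    rw [← this]
    congr 1
    group
  rw [h2]
  rw [hconj] at h1
  constructor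
  · intro h
    have h3 : b⁻¹ * a ^ p ^ k * b = a ^ p ^ k := by
      rw [mul_assoc, h, ← mul_assoc, inv_mul_cancel, one_mul]
    rw [h1.1 h3, mul_one, inv_mul_cancel]
  · intro h
    have h3 : (b⁻¹ * a * b * a⁻¹) ^ p ^ k = 1 := by
      have := congrArg (fun t => a * t * a⁻¹) h
      simpa [mul_assoc] using this
    have h4 := h1.2 h3
    have h5 : b * (b⁻¹ * a ^ p ^ k * b) = b * a ^ p ^ k := by rw [h4]
    rw [← h5]
    group

end Cfsg.Agent.S4224
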