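import Cfsg.Statements.S4230

set_option autoImplicit false

open Cfsg

namespace Cfsg.Agent.S4230

open Polynomial

theorem dvd_eval_iff_isRoot (p q f : ℕ) [Fact p.Prime] :
    ((p : ℤ) ∣ (Polynomial.cyclotomic f ℤ).eval (q : ℤ)) ↔
      (Polynomial.cyclotomic f (ZMod p)).IsRoot (q : ZMod p) := by
  rw [← ZMod.intCast_zmod_eq_zero_iff_dvd, IsRoot.def, ← map_cyclotomic_int f (ZMod p)]
  have := eval_intCast_map (Int.castRingHom (ZMod p)) (cyclotomic f ℤ) (q : ℤ)
  simp only [Int.cast_natCast, eq_intCast] at this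
  rw [this]

theorem result (p q f : ℕ) (hp : p.Prime) (hp2 : p ≠ 2) (hpq : ¬ p ∣ q) :
    ((p : ℤ) ∣ (Polynomial.cyclotomic f ℤ).eval (q : ℤ)) ↔ ∃ j : ℕ, f = orderOf (q : ZMod p) * p ^ j := by
  haveI : Fact p.Prime := ⟨hp⟩
  rw [dvd_eval_iff_isRoot]
  have hq0 : (q : ZMod p) ≠ 0 := by
    intro h
    exact hpq ((ZMod.natCast_eq_zero_iff q p).mp h)
  have hedvd : orderOf (q : ZMod p) ∣ p - 1 := ZMod.orderOf_dvd_card_sub_one hq0
  have hepos : 0 < orderOf (q : ZMod p) := by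
    apply Nat.pos_of_ne_zero
    intro h0
    rw [h0, zero_dvd_iff] at hedvd
    have := hp.two_le
    omega
  have hpe : ¬ p ∣ orderOf (q : ZMod p) := by
    intro h
    have h1 : p ∣ p - 1 := h.trans hedvd
    have h2 := Nat.le_of_dvd (by have := hp.two_le; omega) h1
    have := hp.two_le
    omega
  constructor
  · intro hroot
    have hf0 : f ≠ 0 := by
      rintro rfl
      rw [cyclotomic_zero, IsRoot.def, eval_one] at hroot
      exact one_ne_zero hroot
    obtain ⟨j, m, hpm, rfl⟩ := Nat.exists_eq_pow_mul_and_not_dvd hf0 p hp.ne_one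
    haveI : NeZero (m : ZMod p) := ⟨fun h => hpm ((ZMod.natCast_eq_zero_iff m p).mp h)⟩
    rw [isRoot_cyclotomic_prime_pow_mul_iff_of_charP] at hroot
    refine ⟨j, ?_⟩
    rw [← hroot.eq_orderOf, mul_comm]
  · rintro ⟨j, rfl⟩
    haveI : NeZero ((orderOf (q : ZMod p) : ℕ) : ZMod p) :=
      ⟨fun h => hpe ((ZMod.natCast_eq_zero_iff _ p).mp h)⟩
    rw [mul_comm, isRoot_cyclotomic_prime_pow_mul_iff_of_charP]
    exact IsPrimitiveRoot.orderOf _

end Cfsg.Agent.S4230
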