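import Mathlib
import Cfsg.Statements.S5164
import Cfsg.Agent.Lib.Helper9.SylAlt1
import Cfsg.Agent.Lib.Helper9.SylAlt2
import Cfsg.Agent.Lib.Helper9.SylAlt3

set_option autoImplicit false
open Cfsg

namespace Cfsg.Agent.S5164

open Cfsg.Agent.H9SylAlt in
/-- For n ≥ 6 and a prime p, a nontrivial Sylow p-subgroup of the alternating group of degree n is abelian if and only if n < p². -/
theorem result (n p : ℕ) (hn : 6 ≤ n) [Fact p.Prime] (S : Sylow p (alternatingGroup (Fin n))) (hS : (S : Subgroup (alternatingGroup (Fin n))) ≠ ⊥) : IsMulCommutative S ↔ n < p ^ 2 := by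
  constructor
  · intro hcomm
    by_contra hge
    push Not at hge
    by_cases hp2 : p = 2
    · subst hp2
      obtain ⟨Φ, hΦ⟩ := exists_hom_two n hn
      exact not_comm_sylow 2 S (heis_isPGroup 2) Φ hΦ
        ⟨heisMap 2 0 1 0, heisMap_mem 2 0 1 0⟩ ⟨heisMap 2 1 0 0, heisMap_mem 2 1 0 0⟩
        (fun h => heis_not_comm 2 (congrArg Subtype.val h)) hcomm
    · obtain ⟨Φ, hΦ⟩ := exists_hom_odd p n hp2 hge
      exact not_comm_sylow p S (heis_isPGroup p) Φ hΦ
        ⟨heisMap p 0 1 0, heisMap_mem p 0 1 0⟩ ⟨heisMap p 1 0 0, heisMap_mem p 1 0 0⟩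
        (fun h => heis_not_comm p (congrArg Subtype.val h)) hcomm
  · intro hlt
    refine ⟨⟨fun a b => ?_⟩⟩
    have hP : IsPGroup p ((S : Subgroup (alternatingGroup (Fin n))).map
        (alternatingGroup (Fin n)).subtype) := S.isPGroup'.map _
    have := commute_of_small_degree p (by rw [Fintype.card_fin]; exact hlt) _ hP a.1.1 b.1.1
      ⟨a.1, a.2, rfl⟩ ⟨b.1, b.2, rfl⟩
    exact Subtype.ext (Subtype.ext this)

end Cfsg.Agent.S5164
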