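import Cfsg.Statements.S4231
import Mathlib
import Cfsg.Agent.Lib.Helper2.AltPQ2
import Cfsg.Agent.Lib.Helper2.AltPQ3
import Cfsg.Agent.S5164

set_option autoImplicit false
open Cfsg

namespace Cfsg.Agent.S4231

open Cfsg.Agent.Lib.Helper2.AltPQ in
theorem s4231_five (r : ℕ) [Fact r.Prime] (hr : r ≠ 2) (R : Subgroup (alternatingGroup (Fin 5)))
    (hR : IsPGroup r R) : ∀ a ∈ R, ∀ b ∈ R, a * b = b * a := by
  have hr' : r.Prime := Fact.out
  obtain ⟨k, hk⟩ := IsPGroup.iff_card.mp hR
  have hdvd : Nat.card R ∣ Nat.card (alternatingGroup (Fin 5)) := Subgroup.card_subgroup_dvd_card R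
  have h60 : Nat.card (alternatingGroup (Fin 5)) = 60 := by
    rw [nat_card_alternatingGroup, Nat.card_eq_fintype_card, Fintype.card_fin]
    decide
  rw [h60, hk] at hdvd
  have hk1 : k ≤ 1 := by
    by_contra hlt
    push Not at hlt
    have h2 : r ^ 2 ∣ 60 := (pow_dvd_pow r hlt).trans hdvd
    have h1 : r ∣ 60 := (dvd_pow_self r (by norm_num)).trans h2
    have hle : r ≤ 60 := Nat.le_of_dvd (by norm_num) h1
    interval_cases r <;> first | omega | (exfalso; revert hr'; decide) | (exfalso; revert h2; decide)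
  intro a ha b hb
  rcases Nat.le_one_iff_eq_zero_or_eq_one.mp hk1 with h0 | h1
  · rw [h0, pow_zero] at hk
    have hsub : Subsingleton R := (Nat.card_eq_one_iff_unique.mp hk).1
    have e1 : (⟨a, ha⟩ : R) = ⟨b, hb⟩ := Subsingleton.elim _ _
    have : a = b := congrArg Subtype.val e1
    rw [this]
  · rw [h1, pow_one] at hk
    have hcyc : IsCyclic R := isCyclic_of_prime_card hk
    have := hcyc.commutative.is_comm.comm ⟨a, ha⟩ ⟨b, hb⟩
    exact congrArg Subtype.val this

open Cfsg.Agent.Lib.Helper2.AltPQ in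
theorem s4231_key (n : ℕ) (hn : 5 ≤ n) (G : Subgroup (MulAut (alternatingGroup (Fin n))))
    (hG : (MulAut.conj : alternatingGroup (Fin n) →* MulAut (alternatingGroup (Fin n))).range ≤ G)
    (r : ℕ) [Fact r.Prime] (P : Sylow r G) (hP : ¬ IsMulCommutative (P : Subgroup G)) :
    r = 2 ∨ r ^ 2 ≤ n := by
  by_cases hr : r = 2
  · left; exact hr
  right
  by_contra hlt
  push Not at hlt
  apply hP
  apply comm_of_comm n hn G r hr P
  rcases Nat.eq_or_lt_of_le hn with h5 | h6
  · subst h5
    exact s4231_five r hr _ (isPGroup_P0 5 le_rfl G r P)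
  · set S := sylow0 n G r P hn hG hr with hS
    by_cases hbot : (S : Subgroup (alternatingGroup (Fin n))) = ⊥
    · intro a ha b hb
      have ha' : a ∈ (S : Subgroup (alternatingGroup (Fin n))) := ha
      have hb' : b ∈ (S : Subgroup (alternatingGroup (Fin n))) := hb
      rw [hbot, Subgroup.mem_bot] at ha' hb'
      rw [ha', hb']
    · have hcomm := (Cfsg.Agent.S5164.result n r h6 S hbot).mpr hlt
      intro a ha b hb
      have := hcomm.is_comm.comm (⟨a, ha⟩ : S) ⟨b, hb⟩
      exact congrArg Subtype.val this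

/-- Let n ≥ 5 and let G be a group of automorphisms of the alternating group of degree n containing all inner automorphisms. If p ≠ q are primes and G has no element of order pq, then every Sylow p-subgroup of G is abelian or every Sylow q-subgroup of G is abelian. -/
theorem result (n : ℕ) (hn : 5 ≤ n) (G : Subgroup (MulAut (alternatingGroup (Fin n))))
    (hG : (MulAut.conj : alternatingGroup (Fin n) →* MulAut (alternatingGroup (Fin n))).range ≤ G)
    (p q : ℕ) [Fact p.Prime] [Fact q.Prime] (hpq : p ≠ q) (h : ∀ g : G, orderOf g ≠ p * q) :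
    (∀ P : Sylow p G, IsMulCommutative (P : Subgroup G)) ∨ (∀ Q : Sylow q G, IsMulCommutative (Q : Subgroup G)) := by
  by_contra hcon
  push Not at hcon
  obtain ⟨⟨P, hP⟩, ⟨Q, hQ⟩⟩ := hcon
  have h1 := s4231_key n hn G hG p P hP
  have h2 := s4231_key n hn G hG q Q hQ
  obtain ⟨σ, hσ⟩ := Cfsg.Agent.Lib.Helper2.AltPQ.exists_order_pq n p q Fact.out Fact.out hpq h1 h2
  have hinj := Cfsg.Agent.Lib.Helper2.AltPQ.conj_injective n (by omega)
  have hord : orderOf (MulAut.conj σ : MulAut (alternatingGroup (Fin n))) = p * q := by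
    rw [orderOf_injective _ hinj, hσ]
  apply h ⟨MulAut.conj σ, hG ⟨σ, rfl⟩⟩
  rw [← hord, ← Subgroup.orderOf_coe]

end Cfsg.Agent.S4231
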