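import Cfsg.Statements.S4234
import Cfsg.Agent.Lib.Helper9.PT5
import Cfsg.Agent.Lib.Helper2.DSubT7
import Cfsg.Agent.Lib.Helper2.SL2p7

set_option autoImplicit false
open Cfsg

namespace Cfsg.Agent.S4234

open Cfsg.Agent.Lib.Helper9.PT

attribute [local instance] fact_prime_13

theorem nmax_psl :
    NMax (Matrix.ProjectiveSpecialLinearGroup (Fin 2) (ZMod 13)) := by
  intro A hA
  haveI : CharP (ZMod 13) 13 := ZMod.charP 13
  exact main13 (F := ZMod 13) (ZMod.card 13) A hA

theorem nmax_sl :
    NMax (Matrix.SpecialLinearGroup (Fin 2) (ZMod 13)) := by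
  haveI : CharP (ZMod 13) 13 := ZMod.charP 13
  have h2 : (2 : ZMod 13) ≠ 0 := by decide
  refine NMax.of_central_invol
    (QuotientGroup.mk' (Subgroup.center (Matrix.SpecialLinearGroup (Fin 2) (ZMod 13))))
    (QuotientGroup.mk'_surjective _) (-1) ?_ ?_ ?_ ?_ nmax_psl
  · intro g
    rw [mul_neg, mul_one, neg_mul, one_mul]
  · rw [neg_mul_neg, one_mul]
  · intro g hg
    have hg' : g ∈ Subgroup.center (Matrix.SpecialLinearGroup (Fin 2) (ZMod 13)) :=
      (QuotientGroup.eq_one_iff g).mp hg
    exact Cfsg.Agent.Lib.Helper2.DSub.center_sl_two g hg'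
  · intro t htt hne
    exact Cfsg.Agent.Lib.Helper2.SL2p.eq_neg_one_of_mul_self h2 t htt hne

/-- Let K be isomorphic to PSL(2, 13) or to SL(2, 13) and let S be a finite abelian group of order coprime to the order of K. Then in the direct product K × S every subgroup that is not normal has a normalizer that is a maximal subgroup. -/
theorem result {K S : Type*} [Group K] [CommGroup S] [Finite K] [Finite S]
    (hK : Nonempty (K ≃* Matrix.ProjectiveSpecialLinearGroup (Fin 2) (ZMod 13)) ∨
      Nonempty (K ≃* Matrix.SpecialLinearGroup (Fin 2) (ZMod 13)))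
    (hKS : (Nat.card K).Coprime (Nat.card S)) (H : Subgroup (K × S)) (hH : ¬ H.Normal) :
    IsCoatom (Subgroup.normalizer (H : Set (K × S))) := by
  have hKn : NMax K := by
    rcases hK with ⟨⟨e⟩⟩ | ⟨⟨e⟩⟩
    · exact NMax.of_equiv e nmax_psl
    · exact NMax.of_equiv e nmax_sl
  exact NMax.prod_of_coprime hKS hKn H hH

end Cfsg.Agent.S4234
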