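import Cfsg.Statements.S4237
import Mathlib
import Cfsg.Agent.Lib.Helper4.PW6
import Cfsg.Agent.Lib.Helper4.PC7
-- import your own Cfsg.Agent.* helpers here

set_option autoImplicit false
open Cfsg

namespace Cfsg.Agent.S4237

theorem card_split {α : Type*} [Finite α] (A C : α → Prop) :
    Nat.card {x : α // A x} = Nat.card {x : α // A x ∧ ¬ C x} + Nat.card {x : α // C x ∧ A x} := by
  classical
  letI : Fintype α := Fintype.ofFinite α
  simp only [Nat.card_eq_fintype_card, Fintype.card_subtype]
  rw [← Finset.card_filter_add_card_filter_not (s := Finset.univ.filter A) C,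
    Finset.filter_filter, Finset.filter_filter, add_comm]
  congr 2
  ext x
  simp [and_comm]

/-- Let G be a finite group, p a prime and a a natural number such that p^(a+1) divides the order of G. Then the number of subgroups of G of order p^a is congruent to 1 or to 1 + p modulo p². -/
theorem result {G : Type*} [Group G] [Finite G] (p a : ℕ) (hp : p.Prime) (hdvd : p ^ (a + 1) ∣ Nat.card G) :
    Nat.card {H : Subgroup G // Nat.card H = p ^ a} ≡ 1 [MOD p ^ 2] ∨
      Nat.card {H : Subgroup G // Nat.card H = p ^ a} ≡ 1 + p [MOD p ^ 2] := by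
  classical
  have h := Cfsg.Agent.Lib.Helper4.PW.card_subgroups_modEq G p a hp hdvd
  set s := Nat.card {H : Subgroup G // Nat.card H = p ^ a} with hs
  set n := Nat.card {H : Subgroup G // Nat.card H = p ^ (a + 1) ∧ ¬ IsCyclic H} with hn
  haveI : Fact p.Prime := ⟨hp⟩
  -- it suffices to know `n` modulo `p`
  have key : ∀ r : ℕ, n ≡ r [MOD p] → s ≡ 1 + p * r [MOD p ^ 2] := by
    intro r hr
    refine h.trans ?_
    apply Nat.ModEq.add_left
    have h1 : p * n ≡ p * r [MOD p * p] := Nat.ModEq.mul_left' p hr
    rwa [← pow_two] at h1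
  have hn01 : n ≡ 0 [MOD p] ∨ n ≡ 1 [MOD p] := by
    by_cases hp2 : p = 2
    · subst hp2
      rcases Nat.mod_two_eq_zero_or_one n with h0 | h1
      · left; exact h0
      · right; exact h1
    by_cases ha : a = 0
    · left
      subst ha
      have hemp : IsEmpty {H : Subgroup G // Nat.card H = p ^ (0 + 1) ∧ ¬ IsCyclic H} := by
        constructor
        rintro ⟨H, hH, hc⟩
        apply hc
        rw [zero_add, pow_one] at hH
        exact isCyclic_of_prime_card hH
      rw [hn, Nat.card_of_isEmpty]
    by_cases hall : ∀ Q : Sylow p G, IsCyclic ↥(Q : Subgroup G)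
    · left
      have hemp : IsEmpty {H : Subgroup G // Nat.card H = p ^ (a + 1) ∧ ¬ IsCyclic H} := by
        constructor
        rintro ⟨H, hH, hc⟩
        apply hc
        obtain ⟨Q, hQ⟩ := IsPGroup.exists_le_sylow (IsPGroup.of_card hH)
        haveI := hall Q
        exact Subgroup.isCyclic_of_le hQ
      rw [hn, Nat.card_of_isEmpty]
    · right
      push Not at hall
      obtain ⟨Q, hQ⟩ := hall
      have h1 := Cfsg.Agent.Lib.Helper4.PW.frobenius G p (a + 1) hp hdvd
      have h2 := Cfsg.Agent.Lib.Helper4.PC.card_cyclic_dvd p hp2 Q hQ (a + 1) (by omega)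
      have h3 := card_split (α := Subgroup G) (fun H => Nat.card H = p ^ (a + 1))
        (fun H : Subgroup G => IsCyclic ↥H)
      rw [h3] at h1
      have h4 : Nat.card {Z : Subgroup G // IsCyclic ↥Z ∧ Nat.card ↥Z = p ^ (a + 1)} ≡ 0 [MOD p] :=
        (Nat.modEq_zero_iff_dvd).2 h2
      have h5 := Nat.ModEq.add_left n h4
      rw [add_zero] at h5
      exact h5.symm.trans h1
  rcases hn01 with h0 | h1
  · left
    have := key 0 h0
    rwa [mul_zero, add_zero] at this
  · right
    have := key 1 h1
    rwa [mul_one] at this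

end Cfsg.Agent.S4237
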