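import Cfsg.Statements.S4242
import Mathlib
import Cfsg.Agent.Lib.Lead.MaxNilp4

set_option autoImplicit false
open Cfsg

namespace Cfsg.Agent.S4242

/-- Let G be a finite group and p a prime dividing its order. Every maximal subgroup of G of order divisible by p is nilpotent if and only if G is nilpotent, or G is a minimal non-nilpotent group, or G is the internal direct product of a normal subgroup of order p and a normal minimal non-nilpotent subgroup of order prime to p. -/
theorem result {G : Type*} [Group G] [Finite G] (p : ℕ) (hp : p.Prime) (hpG : p ∣ Nat.card G) :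
    (∀ M : Subgroup G, IsCoatom M → p ∣ Nat.card M → Group.IsNilpotent M) ↔
      (Group.IsNilpotent G ∨ Cfsg.IsMinimalNonNilpotent G ∨
        ∃ Z K : Subgroup G, Z.Normal ∧ K.Normal ∧ Z ⊓ K = ⊥ ∧ Z ⊔ K = ⊤ ∧ Nat.card Z = p ∧
          Cfsg.IsMinimalNonNilpotent K ∧ ¬ p ∣ Nat.card K) := by
  classical
  haveI : Fact p.Prime := ⟨hp⟩
  constructor
  · intro H
    by_cases hnil : Group.IsNilpotent G
    · exact Or.inl hnil
    by_cases hall : ∀ M : Subgroup G, IsCoatom M → Group.IsNilpotent M
    · right; left
      refine ⟨hnil, ?_⟩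
      intro H' hH'
      obtain ⟨L, hL, hle⟩ := Cfsg.Agent.Lib.Helper2.Schmidt.exists_coatom_ge _ hH'
      exact Cfsg.Agent.Lib.Helper2.Schmidt.isNilpotent_of_le (hall L hL) hle
    · right; right
      push_neg at hall
      obtain ⟨M, hM, hMnil⟩ := hall
      obtain ⟨P⟩ : Nonempty (Sylow p G) := inferInstance
      have hP1 : (P : Subgroup G) ≠ ⊥ := by
        intro h
        have h1 := P.card_eq_multiplicity
        rw [h, Subgroup.card_bot] at h1
        have h2 : (Nat.card G).factorization p ≠ 0 := by
          have := (hp.pow_dvd_iff_le_factorization (k := 1) (n := Nat.card G) Nat.card_pos.ne').mp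
            (by rwa [pow_one])
          omega
        have h3 : p ∣ 1 := by rw [h1]; exact dvd_pow_self p h2
        exact hp.one_lt.ne' (Nat.dvd_one.mp h3)
      by_cases hPn : (P : Subgroup G).Normal
      · exact Cfsg.Agent.Lib.Lead.MaxNilp.exists_prod_of_normal_sylow H M hM hMnil P hP1 hPn
      · exact (Cfsg.Agent.Lib.Lead.MaxNilp.false_of_not_normal_sylow H M hM hMnil P hP1 hPn).elim
  · rintro (hnil | hmin | ⟨Z, K, hZn, hKn, hZK, hsup, hZ, hK, hpK⟩)
    · intro M _ _
      haveI := hnil
      infer_instance
    · intro M hM _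
      exact hmin.2 M hM.1
    · intro M hM hpM
      exact Cfsg.Agent.Lib.Lead.MaxNilp.isNilpotent_coatom_of_prod hp Z K hZn hKn hZK hsup hZ hK hpK
        M hM hpM

end Cfsg.Agent.S4242
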