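import Cfsg.Statements.S4244

set_option autoImplicit false
open Cfsg

namespace Cfsg.Agent.S4244

theorem step_dvd {G : Type*} [Group G] [Finite G] (H L K : Subgroup G) (hHL : H ≤ L)
    (hN : (H.subgroupOf L).Normal) : (H ⊓ K).relIndex H ∣ (L ⊓ K).relIndex L := by
  set M := L ⊓ K with hM
  have hML : M ≤ L := inf_le_left
  have hHM : H ⊓ K = H ⊓ M := by
    rw [hM, ← inf_assoc, inf_eq_left.mpr hHL]
  have e1 : (H ⊓ K).relIndex H * H.relIndex L = (H ⊓ K).relIndex L :=
    Subgroup.relIndex_mul_relIndex _ _ _ inf_le_left hHL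
  have e2 : (H ⊓ K).relIndex M * M.relIndex L = (H ⊓ K).relIndex L :=
    Subgroup.relIndex_mul_relIndex _ _ _ (by rw [hHM]; exact inf_le_right) hML
  have e3 : (H ⊓ K).relIndex M = H.relIndex M := by
    rw [hHM, Subgroup.inf_relIndex_right]
  have e4 : H.relIndex M ∣ H.relIndex L := by
    have := Subgroup.relIndex_dvd_index_of_normal (H.subgroupOf L) (M.subgroupOf L)
    rwa [Subgroup.relIndex_subgroupOf hML] at this
  obtain ⟨c, hc⟩ := e4
  have hne : H.relIndex M ≠ 0 := Subgroup.index_ne_zero_of_finite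
  rw [e3] at e2
  rw [hc, ← e2] at e1
  have : (H ⊓ K).relIndex H * c = M.relIndex L := by
    have h' : H.relIndex M * ((H ⊓ K).relIndex H * c) = H.relIndex M * M.relIndex L := by
      rw [← e1]; ring
    exact Nat.eq_of_mul_eq_mul_left (Nat.pos_of_ne_zero hne) h'
  exact ⟨c, this.symm⟩

/-- Let H be a subnormal subgroup of a finite group G. Then for every subgroup K of G the index of H ∩ K in H divides the index of K in G. -/
theorem result {G : Type*} [Group G] [Finite G] (H : Subgroup G) (hH : H.IsSubnormal) (K : Subgroup G) :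
    (H ⊓ K).relIndex H ∣ K.index := by
  induction hH with
  | top =>
    rw [top_inf_eq, Subgroup.relIndex_top_right]
  | step H L hHL hL hN ih =>
    exact dvd_trans (step_dvd H L K hHL hN) ih

end Cfsg.Agent.S4244
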