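import Mathlib
import Cfsg.Statements.S4250
import Cfsg.Agent.Lib.Helper4.AlperinTame4
import Cfsg.Agent.Lib.Helper4.TransferControl
-- import your own Cfsg.Agent.* helpers here

set_option autoImplicit false
open Cfsg Cfsg.Agent.Lib.Helper4 Cfsg.Agent.Lib.Helper7
open scoped commutatorElement

namespace Cfsg.Agent.S4250

theorem comm_le_of_le_normalizer {G : Type*} [Group G] {H K : Subgroup G}
    (hK : K ≤ Subgroup.normalizer (H : Set G)) : ⁅H, K⁆ ≤ H := by
  rw [Subgroup.commutator_le]
  intro a ha x hx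
  have h1 := (Subgroup.mem_normalizer_iff.mp (hK hx) a⁻¹).mp (H.inv_mem ha)
  have : ⁅a, x⁆ = a * (x * a⁻¹ * x⁻¹) := by rw [commutatorElement_def]; group
  rw [this]
  exact H.mul_mem ha h1

/-- Let P be a Sylow p-subgroup of a finite group G. Call an intersection H = P ∩ Q with a Sylow p-subgroup Q tame when N_P(H) and N_Q(H) are Sylow p-subgroups of N_G(H). Then P ∩ G′ is generated by [P, N_G(P)] together with the commutator subgroups [P ∩ Q, ⟨x⟩] for all tame intersections P ∩ Q and all p-elements x of N_G(P ∩ Q). -/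
theorem result {G : Type*} [Group G] [Finite G] (p : ℕ) [Fact p.Prime] (P : Sylow p G) :
    (P : Subgroup G) ⊓ commutator G =
      ⁅(P : Subgroup G), Subgroup.normalizer ((P : Subgroup G) : Set G)⁆ ⊔
        ⨆ (Q : Sylow p G) (_ : (¬ p ∣ ((P : Subgroup G) ⊓ Subgroup.normalizer (((P : Subgroup G) ⊓ (Q : Subgroup G) : Subgroup G) : Set G)).relIndex (Subgroup.normalizer (((P : Subgroup G) ⊓ (Q : Subgroup G) : Subgroup G) : Set G)) ∧ ¬ p ∣ ((Q : Subgroup G) ⊓ Subgroup.normalizer (((P : Subgroup G) ⊓ (Q : Subgroup G) : Subgroup G) : Set G)).relIndex (Subgroup.normalizer (((P : Subgroup G) ⊓ (Q : Subgroup G) : Subgroup G) : Set G))))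
          (x : G) (_ : x ∈ Subgroup.normalizer (((P : Subgroup G) ⊓ (Q : Subgroup G) : Subgroup G) : Set G) ∧ ∃ k : ℕ, orderOf x = p ^ k),
          ⁅(P : Subgroup G) ⊓ (Q : Subgroup G), Subgroup.zpowers x⁆ := by
  obtain ⟨D, hDdef⟩ : ∃ D : Subgroup G, D = ⁅(P : Subgroup G), Subgroup.normalizer ((P : Subgroup G) : Set G)⁆ ⊔
        ⨆ (Q : Sylow p G) (_ : (¬ p ∣ ((P : Subgroup G) ⊓ Subgroup.normalizer (((P : Subgroup G) ⊓ (Q : Subgroup G) : Subgroup G) : Set G)).relIndex (Subgroup.normalizer (((P : Subgroup G) ⊓ (Q : Subgroup G) : Subgroup G) : Set G)) ∧ ¬ p ∣ ((Q : Subgroup G) ⊓ Subgroup.normalizer (((P : Subgroup G) ⊓ (Q : Subgroup G) : Subgroup G) : Set G)).relIndex (Subgroup.normalizer (((P : Subgroup G) ⊓ (Q : Subgroup G) : Subgroup G) : Set G))))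
          (x : G) (_ : x ∈ Subgroup.normalizer (((P : Subgroup G) ⊓ (Q : Subgroup G) : Subgroup G) : Set G) ∧ ∃ k : ℕ, orderOf x = p ^ k),
          ⁅(P : Subgroup G) ⊓ (Q : Subgroup G), Subgroup.zpowers x⁆ := ⟨_, rfl⟩
  rw [← hDdef]
  apply le_antisymm
  · -- focal subgroup theorem plus Alperin
    rw [commutator_def]
    apply focal_le
    intro a ha u hu
    have hA : ({a} : Set G) ⊆ ((P : Subgroup G) : Set G) := by
      intro b hb; rw [Set.mem_singleton_iff] at hb; rw [hb]; exact ha
    have hAg : cs u⁻¹ ({a} : Set G) ⊆ ((P : Subgroup G) : Set G) := by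
      rintro _ ⟨b, hb, rfl⟩
      rw [Set.mem_singleton_iff] at hb
      rw [hb, inv_inv]; exact hu
    have hvia := alperin_tame_set P {a} u⁻¹ hA hAg
    have key := ViaP.comm_mem (𝓢 := StepOK P) D ?_ hvia a rfl
    · rw [inv_inv] at key; exact key
    · rintro T x ⟨Q, hTQ, htame, hQ⟩ hx b hb
      have hcomm : b⁻¹ * (x⁻¹ * b * x) = ⁅b⁻¹, x⁻¹⁆ := by
        rw [commutatorElement_def]; group
      rw [hDdef]
      rcases hQ with hQP | hk
      · apply Subgroup.mem_sup_left
        have hTP : T = (P : Subgroup G) := by rw [hTQ, hQP, inf_idem]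
        rw [hcomm]
        apply Subgroup.commutator_mem_commutator
        · rw [← hTP]; exact T.inv_mem hb
        · rw [← hTP]; exact Subgroup.inv_mem _ hx
      · apply Subgroup.mem_sup_right
        have hx' : x ∈ Subgroup.normalizer ((((P : Subgroup G) ⊓ (Q : Subgroup G)) : Subgroup G) : Set G) := by
          rw [← hTQ]; exact hx
        apply Subgroup.mem_iSup_of_mem Q
        apply Subgroup.mem_iSup_of_mem htame
        apply Subgroup.mem_iSup_of_mem x
        apply Subgroup.mem_iSup_of_mem ⟨hx', hk⟩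
        rw [hcomm]
        apply Subgroup.commutator_mem_commutator
        · rw [← hTQ]; exact T.inv_mem hb
        · exact Subgroup.inv_mem _ (Subgroup.mem_zpowers x)
  · rw [hDdef]
    apply sup_le
    · apply le_inf
      · exact comm_le_of_le_normalizer le_rfl
      · rw [commutator_def]
        exact Subgroup.commutator_mono le_top le_top
    · apply iSup_le; intro Q
      apply iSup_le; intro _
      apply iSup_le; intro x
      apply iSup_le; rintro ⟨hx, _⟩
      apply le_inf
      · have hz : Subgroup.zpowers x ≤ Subgroup.normalizer ((((P : Subgroup G) ⊓ (Q : Subgroup G)) : Subgroup G) : Set G) := by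
          rw [Subgroup.zpowers_le]; exact hx
        exact (comm_le_of_le_normalizer hz).trans inf_le_left
      · rw [commutator_def]
        exact Subgroup.commutator_mono le_top le_top

end Cfsg.Agent.S4250
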