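import Mathlib
import Cfsg.Statements.S4251
import Cfsg.Agent.Lib.Helper4.AlperinTame5
import Cfsg.Agent.Lib.Lead.FrobNPC5
-- import your own Cfsg.Agent.* helpers here

set_option autoImplicit false
open Cfsg Cfsg.Agent.Lib.Helper4 Cfsg.Agent.Lib.Helper7 Cfsg.Agent.Lib.Lead

namespace Cfsg.Agent.S4251

/-- Let P be a Sylow p-subgroup of a finite group G. Call an intersection H = P ∩ Q with a Sylow p-subgroup Q tame when N_P(H) and N_Q(H) are Sylow p-subgroups of N_G(H). If N_G(H)/C_G(H) is a p-group for every nontrivial tame intersection H = P ∩ Q, then G has a normal p-complement. -/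
theorem result {G : Type*} [Group G] [Finite G] (p : ℕ) [Fact p.Prime] (P : Sylow p G)
    (h : ∀ Q : Sylow p G, (P : Subgroup G) ⊓ (Q : Subgroup G) ≠ ⊥ → (¬ p ∣ ((P : Subgroup G) ⊓ Subgroup.normalizer (((P : Subgroup G) ⊓ (Q : Subgroup G) : Subgroup G) : Set G)).relIndex (Subgroup.normalizer (((P : Subgroup G) ⊓ (Q : Subgroup G) : Subgroup G) : Set G)) ∧ ¬ p ∣ ((Q : Subgroup G) ⊓ Subgroup.normalizer (((P : Subgroup G) ⊓ (Q : Subgroup G) : Subgroup G) : Set G)).relIndex (Subgroup.normalizer (((P : Subgroup G) ⊓ (Q : Subgroup G) : Subgroup G) : Set G))) →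
      IsPGroup p (Subgroup.normalizer (((P : Subgroup G) ⊓ (Q : Subgroup G) : Subgroup G) : Set G) ⧸
        (Subgroup.centralizer (((P : Subgroup G) ⊓ (Q : Subgroup G) : Subgroup G) : Set G)).subgroupOf
          (Subgroup.normalizer (((P : Subgroup G) ⊓ (Q : Subgroup G) : Subgroup G) : Set G)))) :
    Cfsg.HasNormalPComplement p G := by
  rw [hasNormalPComplement_iff_plocalCentral]
  apply plocalCentral_of_sylow P
  intro D hDP g hg hcop
  have hA : (D : Set G) ⊆ ((P : Subgroup G) : Set G) := fun a ha => hDP ha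
  have hAg : cs g (D : Set G) ⊆ ((P : Subgroup G) : Set G) := by
    rintro _ ⟨b, hb, rfl⟩
    apply hDP
    have hg' := Subgroup.inv_mem _ hg
    have := (Subgroup.mem_normalizer_iff.mp hg' b).mp hb
    rwa [inv_inv] at this
  have hvia := alperin_tame_set P (D : Set G) g hA hAg
  have key := ViaP.exists_conj (𝓢 := StepOK P) (P : Subgroup G) ?_ hvia
  · obtain ⟨y, hyP, hy⟩ := key
    obtain ⟨k, hk⟩ := (P.isPGroup' ⟨y, hyP⟩)
    have hk' : y ^ p ^ k = 1 := by
      have := congrArg Subtype.val hk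
      simpa using this
    exact mem_centralizer_of_conj_eq hg hcop hk' hy
  · rintro T x ⟨Q, hTQ, htame, _⟩ hx
    by_cases hbot : T = ⊥
    · refine ⟨1, Subgroup.one_mem _, ?_⟩
      intro a ha
      rw [hbot, Subgroup.mem_bot] at ha
      rw [ha]; group
    · have hne : (P : Subgroup G) ⊓ (Q : Subgroup G) ≠ ⊥ := by rw [← hTQ]; exact hbot
      have hpg := h Q hne htame
      rw [← hTQ] at hpg
      have hR := htame.1
      unfold TameInt at htame
      have hR := htame.1
      rw [← hTQ] at hR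
      exact exists_conj_of_isPGroup_automizer (P : Subgroup G) T hR hpg hx

end Cfsg.Agent.S4251
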