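import Cfsg.Statements.S4252

set_option autoImplicit false
open Cfsg
open scoped Pointwise

namespace Cfsg.Agent.S4252

theorem mem_conj_smul {G : Type*} [Group G] {A : Subgroup G} {g x : G} :
    x ∈ MulAut.conj g • A ↔ g⁻¹ * x * g ∈ A := by
  rw [Subgroup.mem_pointwise_smul_iff_inv_smul_mem]
  simp [MulAut.smul_def, MulAut.conj_symm_apply]

theorem mem_conj_stab {G Ω : Type*} [Group G] [MulAction G Ω] (α : Ω) (g x : G) :
    x ∈ MulAut.conj g • MulAction.stabilizer G α ↔ x • (g • α) = g • α := by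
  rw [mem_conj_smul, MulAction.mem_stabilizer_iff]
  rw [mul_smul, mul_smul, inv_smul_eq_iff]

/-- Frobenius action: point stabilizer is a Frobenius complement. -/
theorem result {G Ω : Type*} [Group G] [Finite G] [Fintype Ω] [MulAction G Ω] (hΩ : 1 < Fintype.card Ω)
    (htrans : ∀ α β : Ω, ∃ g : G, g • α = β) (hnreg : ∃ g : G, g ≠ 1 ∧ ∃ α : Ω, g • α = α)
    (hfix : ∀ g : G, g ≠ 1 → ∀ α β : Ω, g • α = α → g • β = β → α = β) (α : Ω) :
    Cfsg.IsFrobeniusComplement (MulAction.stabilizer G α) ∧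
      Cfsg.frobeniusKernel (MulAction.stabilizer G α) = {g : G | g = 1 ∨ ∀ ω : Ω, g • ω ≠ ω} := by
  refine ⟨⟨?_, ?_, ?_⟩, ?_⟩
  · -- H ≠ ⊥
    obtain ⟨g, hg1, β, hgβ⟩ := hnreg
    obtain ⟨x, hx⟩ := htrans α β
    intro hbot
    have hmem : x⁻¹ * g * x ∈ MulAction.stabilizer G α := by
      rw [MulAction.mem_stabilizer_iff, mul_smul, mul_smul, hx, hgβ, ← hx, inv_smul_smul]
    rw [hbot, Subgroup.mem_bot] at hmem
    apply hg1
    have : g = x * (x⁻¹ * g * x) * x⁻¹ := by group
    rw [this, hmem]; group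
  · -- H ≠ ⊤
    obtain ⟨β, hβ⟩ := Fintype.exists_ne_of_one_lt_card hΩ α
    obtain ⟨g, hg⟩ := htrans α β
    intro htop
    have : g ∈ MulAction.stabilizer G α := by rw [htop]; trivial
    rw [MulAction.mem_stabilizer_iff, hg] at this
    exact hβ this
  · intro g hg
    rw [eq_bot_iff]
    intro x hx
    rw [Subgroup.mem_inf] at hx
    obtain ⟨hx1, hx2⟩ := hx
    rw [mem_conj_stab] at hx2
    rw [MulAction.mem_stabilizer_iff] at hx1 hg
    rw [Subgroup.mem_bot]
    by_contra hne
    exact hg (hfix x hne _ _ hx2 hx1)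
  · ext x
    simp only [Cfsg.frobeniusKernel, Set.mem_setOf_eq]
    constructor
    · rintro (h | h)
      · left; exact h
      · right
        intro ω hω
        obtain ⟨g, hg⟩ := htrans α ω
        apply h g
        rw [mem_conj_stab, hg]; exact hω
    · rintro (h | h)
      · left; exact h
      · right
        intro g hg
        rw [mem_conj_stab] at hg
        exact h _ hg

end Cfsg.Agent.S4252
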