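import Cfsg.Statements.S4255
import Mathlib
import Cfsg.Agent.Lib.Helper8.CGr7

set_option autoImplicit false
open Cfsg

namespace Cfsg.Agent.S4255

/-- Let G be a finite group. Call a prime a vertex if it divides some conjugacy class size of G, and two distinct vertices adjacent if their product divides some class size. Suppose this graph is disconnected: the vertices split into two nonempty parts with no vertex of one part adjacent to a vertex of the other. Then G/Z(G) is a Frobenius group with abelian Frobenius complement and with a Frobenius kernel all of whose elements commute. -/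
theorem result {G : Type*} [Group G] [Finite G] (S : Set ℕ) (hS : ∃ p ∈ S, (p.Prime ∧ ∃ g : G, p ∣ (Subgroup.centralizer ({g} : Set G)).index)) (hS' : ∃ q ∉ S, (q.Prime ∧ ∃ g : G, q ∣ (Subgroup.centralizer ({g} : Set G)).index))
    (hdisc : ∀ p q : ℕ, (p.Prime ∧ ∃ g : G, p ∣ (Subgroup.centralizer ({g} : Set G)).index) → (q.Prime ∧ ∃ g : G, q ∣ (Subgroup.centralizer ({g} : Set G)).index) → p ∈ S → q ∉ S → ¬ (∃ g : G, p * q ∣ (Subgroup.centralizer ({g} : Set G)).index)) :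
    ∃ H : Subgroup (G ⧸ Subgroup.center G), Cfsg.IsFrobeniusComplement H ∧ IsMulCommutative H ∧
      ∀ x ∈ Cfsg.frobeniusKernel H, ∀ y ∈ Cfsg.frobeniusKernel H, x * y = y * x := by
  classical
  -- the dichotomy
  have hdS : Cfsg.Agent.Lib.Helper8.CGr.Dich S G := by
    intro g hg
    by_contra hcon
    push Not at hcon
    obtain ⟨h1, h2⟩ := hcon
    have e1 : ∃ q : ℕ, q.Prime ∧ q ∣ Cfsg.Agent.Lib.Helper8.CGr.cs g ∧ q ∉ S := by
      by_contra hno
      push Not at hno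
      exact h1 ⟨hg, fun p hp hpd => hno p hp hpd⟩
    have e2 : ∃ p : ℕ, p.Prime ∧ p ∣ Cfsg.Agent.Lib.Helper8.CGr.cs g ∧ p ∈ S := by
      by_contra hno
      push Not at hno
      exact h2 ⟨hg, fun p hp hpd => hno p hp hpd⟩
    obtain ⟨q, hq, hqd, hqS⟩ := e1
    obtain ⟨p, hp, hpd, hpS⟩ := e2
    have hpq : p ≠ q := fun h => hqS (h ▸ hpS)
    have hcop : p.Coprime q := (Nat.coprime_primes hp hq).mpr hpq
    exact hdisc p q ⟨hp, g, hpd⟩ ⟨hq, g, hqd⟩ hpS hqS ⟨g, hcop.mul_dvd_of_dvd_of_dvd hpd hqd⟩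
  -- elements of both kinds
  obtain ⟨x₁, hx₁⟩ : ∃ x : G, Cfsg.Agent.Lib.Helper8.CGr.IsT S x := by
    obtain ⟨p, hpS, hp, g, hpd⟩ := hS
    have hne : Cfsg.Agent.Lib.Helper8.CGr.cs g ≠ 1 := by
      intro h
      have hpd' : p ∣ Cfsg.Agent.Lib.Helper8.CGr.cs g := hpd
      rw [h] at hpd'
      exact hp.one_lt.ne' (Nat.dvd_one.mp hpd')
    rcases hdS g hne with h | h
    · exact ⟨g, h⟩
    · exact absurd hpS (h.2 p hp hpd)
  obtain ⟨y₁, hy₁⟩ : ∃ y : G, Cfsg.Agent.Lib.Helper8.CGr.IsT Sᶜ y := by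
    obtain ⟨q, hqS, hq, g, hqd⟩ := hS'
    have hne : Cfsg.Agent.Lib.Helper8.CGr.cs g ≠ 1 := by
      intro h
      have hqd' : q ∣ Cfsg.Agent.Lib.Helper8.CGr.cs g := hqd
      rw [h] at hqd'
      exact hq.one_lt.ne' (Nat.dvd_one.mp hqd')
    rcases hdS g hne with h | h
    · exact absurd (h.2 q hq hqd) hqS
    · exact ⟨g, h⟩
  -- a smallest non-central class
  have hex : ∃ n : ℕ, ∃ g : G, Cfsg.Agent.Lib.Helper8.CGr.cs g ≠ 1 ∧
      Cfsg.Agent.Lib.Helper8.CGr.cs g = n := ⟨_, x₁, hx₁.1, rfl⟩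
  obtain ⟨b₀, hb₀1, hb₀n⟩ := Nat.find_spec hex
  have hmin : ∀ g : G, Cfsg.Agent.Lib.Helper8.CGr.cs g ≠ 1 →
      Cfsg.Agent.Lib.Helper8.CGr.cs b₀ ≤ Cfsg.Agent.Lib.Helper8.CGr.cs g := by
    intro g hg
    rw [hb₀n]
    exact Nat.find_min' hex ⟨g, hg, rfl⟩
  rcases hdS b₀ hb₀1 with hb₀ | hb₀
  · have hs : Cfsg.Agent.Lib.Helper8.CGr.Setup S G :=
      ⟨hdS, fun x y hx hy => Cfsg.Agent.Lib.Helper8.CGr.lt_of_min hdS hb₀ hmin hx hy,
        ⟨y₁, hy₁⟩, ⟨x₁, hx₁⟩⟩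
    exact hs.main
  · have hs : Cfsg.Agent.Lib.Helper8.CGr.Setup Sᶜ G :=
      ⟨hdS.compl, fun x y hx hy => Cfsg.Agent.Lib.Helper8.CGr.lt_of_min hdS.compl hb₀ hmin hx hy,
        ⟨x₁, hx₁.compl_compl⟩, ⟨y₁, hy₁⟩⟩
    exact hs.main

end Cfsg.Agent.S4255
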