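import Cfsg.Statements.S4261
import Cfsg.Agent.Lib.Lead.HallThm

set_option autoImplicit false

open Cfsg

namespace Cfsg.Agent.S4261

open Cfsg.Agent.Lib.Lead

section

variable {G : Type*} [Group G]

/-- an element of order prime to `n` is a power of its `n`-th power -/
theorem mem_of_pow_mem_of_coprime {M : Subgroup G} {y : G} {n : ℕ}
    (hc : Nat.Coprime n (orderOf y)) (hy : y ^ n ∈ M) : y ∈ M := by
  have h := (Nat.Coprime.orderOf_pow (y := y) hc.symm)
  have h1 : Subgroup.zpowers (y ^ n) = Subgroup.zpowers y := by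
    by_cases h0 : orderOf y = 0
    · rw [h0, Nat.coprime_zero_right] at hc
      rw [hc, pow_one]
    · have hfin : (Subgroup.zpowers y : Set G).Finite := by
        have hy' : IsOfFinOrder y := orderOf_pos_iff.mp (Nat.pos_of_ne_zero h0)
        rw [← Set.finite_coe_iff]
        exact hy'.finite_zpowers
      have hle : Subgroup.zpowers (y ^ n) ≤ Subgroup.zpowers y :=
        Subgroup.zpowers_le.mpr (Subgroup.pow_mem _ (Subgroup.mem_zpowers y) n)
      apply SetLike.coe_injective
      apply Set.eq_of_subset_of_ncard_le hle _ hfin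
      rw [← Nat.card_coe_set_eq, ← Nat.card_coe_set_eq]
      change Nat.card (Subgroup.zpowers y) ≤ Nat.card (Subgroup.zpowers (y ^ n))
      rw [Nat.card_zpowers, Nat.card_zpowers, h]
  have : y ∈ Subgroup.zpowers (y ^ n) := by rw [h1]; exact Subgroup.mem_zpowers y
  exact (Subgroup.zpowers_le.mpr hy) this

/-- The core-free case. -/
theorem coreFree_case [Finite G] [Group.IsSolvable G] (M : Subgroup G) (hM : IsCoatom M)
    (hcore : M.normalCore = ⊥) (hexp : ∀ x : G, x ^ M.index ∈ M) : M = ⊥ := by
  rcases subsingleton_or_nontrivial G with hs | hnt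
  · exact Subsingleton.elim _ _
  obtain ⟨p, V, hp, hVn, hVc, hVp, hVbot, -⟩ := exists_normal_abelian_pgroup (G := G)
  have : Fact p.Prime := ⟨hp⟩
  have hVcomm : ∀ a ∈ V, ∀ b ∈ V, a * b = b * a := by
    intro a ha b hb
    have := hVc.is_comm.comm (⟨a, ha⟩ : V) ⟨b, hb⟩
    exact congrArg Subtype.val this
  -- V is not contained in M
  have hVM : ¬ V ≤ M := by
    intro h
    have : V ≤ M.normalCore := (Subgroup.normal_le_normalCore).mpr h
    rw [hcore] at this
    exact hVbot (le_bot_iff.mp this)
  have hsup : M ⊔ V = ⊤ := by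
    by_contra h
    have hlt : M < M ⊔ V := by
      refine lt_of_le_of_ne le_sup_left ?_
      intro heq
      apply hVM
      rw [heq]; exact le_sup_right
    exact h (hM.2 _ hlt)
  -- a subgroup of M normalized by M and centralized by V is trivial
  have key : ∀ C : Subgroup G, C ≤ M → (∀ m ∈ M, ∀ c ∈ C, m * c * m⁻¹ ∈ C) →
      (∀ v ∈ V, ∀ c ∈ C, v * c = c * v) → C = ⊥ := by
    intro C hCM hMC hVC
    have hn : C.Normal := by
      rw [← Subgroup.normalizer_eq_top_iff, eq_top_iff, ← hsup]
      apply sup_le
      · intro m hm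
        rw [Subgroup.mem_normalizer_iff]
        intro h
        constructor
        · intro hh; exact hMC m hm h hh
        · intro hh
          have := hMC m⁻¹ (M.inv_mem hm) _ hh
          have e : m⁻¹ * (m * h * m⁻¹) * m⁻¹⁻¹ = h := by group
          rw [e] at this; exact this
      · intro v hv
        rw [Subgroup.mem_normalizer_iff]
        intro h
        constructor
        · intro hh
          have h1 : v * h * v⁻¹ = h := by rw [hVC v hv h hh]; group
          rw [h1]; exact hh
        · intro hh
          have h1 := hVC v⁻¹ (V.inv_mem hv) _ hh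
          have e : h = v⁻¹ * (v * h * v⁻¹) * v := by group
          rw [e, h1]
          have e2 : v * h * v⁻¹ * v⁻¹ * v = v * h * v⁻¹ := by group
          rw [e2]; exact hh
    have : C ≤ M.normalCore := (Subgroup.normal_le_normalCore).mpr hCM
    rw [hcore] at this
    exact le_bot_iff.mp this
  -- V ⊓ M = ⊥
  have hVMbot : V ⊓ M = ⊥ := by
    apply key _ inf_le_right
    · intro m hm c hc
      exact ⟨hVn.conj_mem c hc.1 m, M.mul_mem (M.mul_mem hm hc.2) (M.inv_mem hm)⟩
    · intro v hv c hc
      exact hVcomm v hv c hc.1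
  -- index of M is the order of V
  have hcompl : Subgroup.IsComplement' V M := by
    apply Subgroup.isComplement'_of_disjoint_and_mul_eq_univ (disjoint_iff.mpr hVMbot)
    rw [← Subgroup.normal_mul, sup_comm, hsup]
    rfl
  have hidx : M.index = Nat.card V := hcompl.index_eq_card
  obtain ⟨k, hk⟩ := IsPGroup.iff_card.mp hVp
  -- p'-elements lie in M
  have hp' : ∀ y : G, Nat.Coprime p (orderOf y) → y ∈ M := by
    intro y hy
    apply mem_of_pow_mem_of_coprime (n := M.index) _ (hexp y)
    rw [hidx, hk]
    exact Nat.Coprime.pow_left k hy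
  -- p'-elements of M centralize V, so are trivial
  have hC : (Subgroup.centralizer (V : Set G)) ⊓ M = ⊥ := by
    apply key _ inf_le_right
    · intro m hm c hc
      have hcn : (Subgroup.centralizer (V : Set G)).Normal := Subgroup.normal_centralizer
      exact ⟨hcn.conj_mem c hc.1 m, M.mul_mem (M.mul_mem hm hc.2) (M.inv_mem hm)⟩
    · intro v hv c hc
      exact (Subgroup.mem_centralizer_iff.mp hc.1 v hv)
  have hp'1 : ∀ y : G, Nat.Coprime p (orderOf y) → y = 1 := by
    intro y hy
    have hyM := hp' y hy
    have : y ∈ (Subgroup.centralizer (V : Set G)) ⊓ M := by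
      refine Subgroup.mem_inf.mpr ⟨?_, hyM⟩
      rw [Subgroup.mem_centralizer_iff]
      intro v hv
      have h1 : v * y * v⁻¹ ∈ M := by
        apply hp'
        have : orderOf (v * y * v⁻¹) = orderOf y := by
          have := orderOf_injective (MulAut.conj v : G ≃* G).toMonoidHom (MulAut.conj v).injective y
          simpa using this
        rw [this]; exact hy
      have h2 : v * y * v⁻¹ * y⁻¹ ∈ V ⊓ M := by
        refine Subgroup.mem_inf.mpr ⟨?_, M.mul_mem h1 (M.inv_mem hyM)⟩
        have e : v * y * v⁻¹ * y⁻¹ = v * (y * v⁻¹ * y⁻¹) := by group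
        rw [e]
        exact V.mul_mem hv (hVn.conj_mem _ (V.inv_mem hv) y)
      rw [hVMbot, Subgroup.mem_bot] at h2
      have : v * y = (v * y * v⁻¹ * y⁻¹) * (y * v) := by group
      rw [this, h2, one_mul]
    rw [hC, Subgroup.mem_bot] at this
    exact this
  -- G is a p-group
  have hGp : IsPGroup p G := by
    intro x
    obtain ⟨a, m, hm, hxm⟩ := Nat.exists_eq_pow_mul_and_not_dvd (orderOf_pos x).ne' p hp.ne_one
    refine ⟨a, ?_⟩
    apply hp'1
    have h1 : orderOf (x ^ p ^ a) = m := by
      rw [orderOf_pow, hxm]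
      have : Nat.gcd (p ^ a * m) (p ^ a) = p ^ a := Nat.gcd_eq_right (Dvd.intro _ rfl)
      rw [this]
      exact Nat.mul_div_cancel_left m (pow_pos hp.pos a)
    rw [h1]
    exact (Nat.Prime.coprime_iff_not_dvd hp).mpr hm
  obtain ⟨hMn, -⟩ := coatom_normal_index_of_isPGroup hGp hM
  rw [← hcore]
  exact (Subgroup.normalCore_eq_self M).symm

end

theorem result {G : Type*} [Group G] [Finite G] (hG : Group.IsSolvable G) (M : Subgroup G) (hM : IsCoatom M)
    (hexp : ∀ x : G, x ^ M.index ∈ M) : M.Normal := by
  obtain ⟨N, hN⟩ : ∃ N : Subgroup G, N = M.normalCore := ⟨_, rfl⟩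
  have hNn : N.Normal := by rw [hN]; infer_instance
  have hNM : N ≤ M := by rw [hN]; exact Subgroup.normalCore_le M
  have hsurj : Function.Surjective (QuotientGroup.mk' N) := QuotientGroup.mk'_surjective N
  have hcomap : (M.map (QuotientGroup.mk' N)).comap (QuotientGroup.mk' N) = M := by
    rw [Subgroup.comap_map_eq, QuotientGroup.ker_mk']
    exact sup_eq_left.mpr hNM
  have hMb : IsCoatom (M.map (QuotientGroup.mk' N)) := by
    constructor
    · intro h
      apply hM.1
      rw [← hcomap, h, Subgroup.comap_top]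
    · intro Kb hKb
      have h1 : M ≤ Kb.comap (QuotientGroup.mk' N) := by
        rw [← hcomap]
        exact Subgroup.comap_mono hKb.le
      have h2 : M ≠ Kb.comap (QuotientGroup.mk' N) := by
        intro h
        have : M.map (QuotientGroup.mk' N) = Kb := by
          rw [h, Subgroup.map_comap_eq_self_of_surjective hsurj]
        exact hKb.ne this
      have h3 := hM.2 _ (lt_of_le_of_ne h1 h2)
      rw [← Subgroup.map_comap_eq_self_of_surjective hsurj Kb, h3]
      exact Subgroup.map_top_of_surjective _ hsurj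
  have hcore : (M.map (QuotientGroup.mk' N)).normalCore = ⊥ := by
    rw [eq_bot_iff]
    have h1 : ((M.map (QuotientGroup.mk' N)).normalCore).comap (QuotientGroup.mk' N) ≤ M :=
      le_trans (Subgroup.comap_mono (Subgroup.normalCore_le _)) hcomap.le
    have h2 : ((M.map (QuotientGroup.mk' N)).normalCore).comap (QuotientGroup.mk' N) ≤ N :=
      le_of_le_of_eq ((Subgroup.normal_le_normalCore).mpr h1) hN.symm
    rw [← Subgroup.map_comap_eq_self_of_surjective hsurj (M.map (QuotientGroup.mk' N)).normalCore]
    intro x hx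
    obtain ⟨y, hy, rfl⟩ := hx
    rw [Subgroup.mem_bot]
    exact (QuotientGroup.eq_one_iff y).mpr (h2 hy)
  have hidx : (M.map (QuotientGroup.mk' N)).index = M.index := by
    apply Subgroup.index_map_eq _ hsurj
    rw [QuotientGroup.ker_mk']
    exact hNM
  have hexpb : ∀ x : G ⧸ N, x ^ (M.map (QuotientGroup.mk' N)).index ∈ M.map (QuotientGroup.mk' N) := by
    intro xb
    obtain ⟨x, rfl⟩ := hsurj xb
    rw [hidx, ← map_pow]
    exact ⟨_, hexp x, rfl⟩
  have := coreFree_case (M.map (QuotientGroup.mk' N)) hMb hcore hexpb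
  have hMN : M = N := by
    rw [← hcomap, this]
    rw [MonoidHom.comap_bot, QuotientGroup.ker_mk']
  rw [hMN]
  exact hNn

end Cfsg.Agent.S4261
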