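import Cfsg.Statements.S4263
import Cfsg.Agent.Lib.Helper8.Fitting
import Cfsg.Agent.S4244

set_option autoImplicit false
open Cfsg

namespace Cfsg.Agent.S4263

open Cfsg.Agent.Lib.Helper8

theorem forward {G : Type*} [Group G] [Finite G] (x : G) (hx : x ∈ Cfsg.fittingSubgroup G)
    (H : Subgroup G) : x ^ H.index ∈ H := by
  set C := Subgroup.zpowers x with hC
  have hCF : C ≤ Cfsg.fittingSubgroup G := by
    rw [hC, Subgroup.zpowers_le]; exact hx
  have hsub : C.IsSubnormal := isSubnormal_of_le_fittingSubgroup C hCF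
  have hdvd : (C ⊓ H).relIndex C ∣ H.index := Cfsg.Agent.S4244.result C hsub H
  -- x ^ relIndex ∈ C ⊓ H
  have hcomm : IsMulCommutative C := by rw [hC]; infer_instance
  have hnorm : ((C ⊓ H).subgroupOf C).Normal := by
    constructor
    intro n hn g
    have : g * n * g⁻¹ = n := by
      have := hcomm.is_comm.comm g n
      rw [mul_inv_eq_iff_eq_mul]; exact this
    rwa [this]
  have hxC : x ∈ C := Subgroup.mem_zpowers x
  have h1 : (⟨x, hxC⟩ : C) ^ ((C ⊓ H).subgroupOf C).index ∈ (C ⊓ H).subgroupOf C :=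
    Subgroup.pow_index_mem _ _
  have h2 : x ^ (C ⊓ H).relIndex C ∈ H := by
    have := Subgroup.mem_subgroupOf.mp h1
    rw [Subgroup.coe_pow] at this
    exact this.2
  obtain ⟨k, hk⟩ := hdvd
  rw [hk, pow_mul]
  exact H.pow_mem h2 k

theorem backward {G : Type*} [Group G] [Finite G] (x : G)
    (h : ∀ H : Subgroup G, x ^ H.index ∈ H) : x ∈ Cfsg.fittingSubgroup G := by
  rw [← QuotientGroup.eq_one_iff (N := Cfsg.fittingSubgroup G)]
  by_contra hne
  have hd : orderOf (x : G ⧸ Cfsg.fittingSubgroup G) ≠ 1 := by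
    rwa [Ne, orderOf_eq_one_iff]
  obtain ⟨q, hq, hqd⟩ := Nat.exists_prime_and_dvd hd
  haveI : Fact q.Prime := ⟨hq⟩
  obtain ⟨P⟩ : Nonempty (Sylow q G) := inferInstance
  have hcore : x ^ (P : Subgroup G).index ∈ (P : Subgroup G).normalCore := by
    intro b
    have hb := h ((P : Subgroup G).map (MulAut.conj b⁻¹).toMonoidHom)
    have hidx : ((P : Subgroup G).map (MulAut.conj b⁻¹).toMonoidHom).index = (P : Subgroup G).index :=
      Subgroup.index_map_equiv (P : Subgroup G) (MulAut.conj b⁻¹)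
    rw [hidx, Subgroup.mem_map] at hb
    obtain ⟨y, hy, hyx⟩ := hb
    have : b * x ^ (P : Subgroup G).index * b⁻¹ = y := by
      rw [← hyx]
      simp [MulAut.conj_apply, mul_assoc]
    rw [this]; exact hy
  have hcoreF : (P : Subgroup G).normalCore ≤ Cfsg.fittingSubgroup G := by
    apply le_fittingSubgroup
    have hp : IsPGroup q (P : Subgroup G).normalCore := P.2.to_le (Subgroup.normalCore_le _)
    exact hp.isNilpotent
  have h1 : ((x : G ⧸ Cfsg.fittingSubgroup G)) ^ (P : Subgroup G).index = 1 := by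
    rw [← QuotientGroup.mk_pow, QuotientGroup.eq_one_iff]
    exact hcoreF hcore
  have h2 : q ∣ (P : Subgroup G).index := dvd_trans hqd (orderOf_dvd_of_pow_eq_one h1)
  exact P.not_dvd_index h2

/-- An element lies in the Fitting subgroup iff its `[G:H]`-th power lies in `H` for every subgroup `H`. -/
theorem result {G : Type*} [Group G] [Finite G] (x : G) :
    x ∈ Cfsg.fittingSubgroup G ↔ ∀ H : Subgroup G, x ^ H.index ∈ H :=
  ⟨fun hx H => forward x hx H, backward x⟩

end Cfsg.Agent.S4263
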