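import Mathlib
import Cfsg.Statements.S4269
import Cfsg.Agent.Lib.Helper7.Conj

set_option autoImplicit false

open Cfsg
open scoped commutatorElement Pointwise

namespace Cfsg.Agent.S4269

open Cfsg.Agent.Lib.Helper7

variable {G : Type*} [Group G]

theorem cj_commutator (g : G) (A B : Subgroup G) : cj g ⁅A, B⁆ = ⁅cj g A, cj g B⁆ :=
  Subgroup.map_commutator A B _

theorem mem_sup_left_normalizes {H N : Subgroup G} (hLE : H ≤ Subgroup.normalizer (N : Set G))
    {x : G} (hx : x ∈ H ⊔ N) : ∃ h ∈ H, ∃ n ∈ N, x = h * n := by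
  rw [← SetLike.mem_coe, Subgroup.coe_mul_of_left_le_normalizer_right H N hLE] at hx
  obtain ⟨h, hh, n, hn, rfl⟩ := hx
  exact ⟨h, hh, n, hn, rfl⟩

theorem mem_sup_right_normalizes {H N : Subgroup G} (hLE : H ≤ Subgroup.normalizer (N : Set G))
    {x : G} (hx : x ∈ N ⊔ H) : ∃ n ∈ N, ∃ h ∈ H, x = n * h := by
  rw [← SetLike.mem_coe, Subgroup.coe_mul_of_right_le_normalizer_left N H hLE] at hx
  obtain ⟨n, hn, h, hh, rfl⟩ := hx
  exact ⟨n, hn, h, hh, rfl⟩

theorem result {G : Type*} [Group G] [Finite G]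
    (V : Subgroup G) [V.Normal] (hV : IsMulCommutative ↥V) (H : Subgroup G) (hHV : H ⊔ V = ⊤) :
    Cfsg.IsPronormal H ↔
      ∀ U : Subgroup G, U ≤ V → (∀ h ∈ H, U.map (MulAut.conj h).toMonoidHom = U) →
        U = (U ⊓ Subgroup.normalizer (H : Set G)) ⊔ ⁅H, U⁆ := by
  have hVn : V.Normal := inferInstance
  have hcommV : ∀ a ∈ V, ∀ b ∈ V, a * b = b * a := by
    intro a ha b hb
    have := hV.is_comm.comm (⟨a, ha⟩ : V) ⟨b, hb⟩
    exact congrArg Subtype.val this
  constructor
  · intro hpro U hUV hinv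
    have hKU : ⁅H, U⁆ ≤ U := by
      rw [Subgroup.commutator_le]
      intro h hh u hu
      rw [commutatorElement_def]
      have h1 : h * u * h⁻¹ ∈ U := by
        rw [← hinv h hh]
        exact ⟨u, hu, rfl⟩
      exact U.mul_mem h1 (U.inv_mem hu)
    have hHK : H ≤ Subgroup.normalizer ((⁅H, U⁆ : Subgroup G) : Set G) := by
      intro h hh
      rw [mem_normalizer_iff_cj, cj_commutator]
      have h1 : cj h H = H := cj_eq_self_of_mem hh
      have h2 : cj h U = U := hinv h hh
      rw [h1, h2]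
    apply le_antisymm
    · intro u hu
      obtain ⟨x, hx, hxe⟩ := hpro u
      have h1 : H ⊔ H.map (MulAut.conj u).toMonoidHom ≤ ⁅H, U⁆ ⊔ H := by
        apply sup_le le_sup_right
        rintro _ ⟨h, hh, rfl⟩
        have : (MulAut.conj u).toMonoidHom h = ⁅u, h⁆ * h := by
          rw [commutatorElement_def]
          simp [MulAut.conj_apply]
        rw [this]
        apply Subgroup.mul_mem _ (Subgroup.mem_sup_left _) (Subgroup.mem_sup_right hh)
        have h2 : ⁅u, h⁆ = (⁅h, u⁆)⁻¹ := (commutatorElement_inv h u).symm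
        rw [h2]
        exact Subgroup.inv_mem _ (Subgroup.commutator_mem_commutator hh hu)
      obtain ⟨c, hc, h, hh, rfl⟩ := mem_sup_right_normalizes hHK (h1 hx)
      have h3 : cj (c * h) H = cj c H := by rw [cj_mul, cj_eq_self_of_mem hh]
      have h4 : cj (c⁻¹ * u) H = H := by
        rw [cj_mul]
        show cj c⁻¹ (H.map (MulAut.conj u).toMonoidHom) = H
        rw [hxe]
        show cj c⁻¹ (cj (c * h) H) = H
        rw [h3, cj_inv_cj]
      have h5 : c⁻¹ * u ∈ U ⊓ Subgroup.normalizer (H : Set G) :=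
        ⟨U.mul_mem (U.inv_mem (hKU hc)) hu, mem_normalizer_iff_cj.2 h4⟩
      have h6 : u = c * (c⁻¹ * u) := by group
      rw [h6, sup_comm]
      exact Subgroup.mul_mem _ (Subgroup.mem_sup_left hc) (Subgroup.mem_sup_right h5)
    · exact sup_le inf_le_left hKU
  · intro hcond g
    -- write `g = v * h`
    have hg : g ∈ V ⊔ H := by rw [sup_comm, hHV]; trivial
    obtain ⟨v, hv, h, hh, rfl⟩ := mem_sup_right_normalizes
      (Subgroup.le_normalizer_of_normal : H ≤ Subgroup.normalizer (V : Set G)) hg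
    have hgv : H.map (MulAut.conj (v * h)).toMonoidHom = cj v H := by
      show cj (v * h) H = cj v H
      rw [cj_mul, cj_eq_self_of_mem hh]
    rw [hgv]
    -- the `H`-closure of `v`
    set U : Subgroup G := Subgroup.closure {x | ∃ h ∈ H, x = h * v * h⁻¹} with hU
    have hUV : U ≤ V := by
      rw [hU, Subgroup.closure_le]
      rintro _ ⟨h, _, rfl⟩
      exact hVn.conj_mem v hv h
    have hvU : v ∈ U := Subgroup.subset_closure ⟨1, H.one_mem, by simp⟩
    have hle : ∀ h ∈ H, cj h U ≤ U := by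
      intro h hh
      show U.map (MulAut.conj h).toMonoidHom ≤ U
      rw [hU, MonoidHom.map_closure, Subgroup.closure_le]
      rintro _ ⟨_, ⟨h', hh', rfl⟩, rfl⟩
      apply Subgroup.subset_closure
      refine ⟨h * h', H.mul_mem hh hh', ?_⟩
      simp [MulAut.conj_apply, mul_assoc]
    have hinv : ∀ h ∈ H, U.map (MulAut.conj h).toMonoidHom = U := by
      intro h hh
      apply le_antisymm (hle h hh)
      have h1 := cj_mono h (hle h⁻¹ (H.inv_mem hh))
      rw [cj_cj_inv] at h1
      exact h1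
    have hUeq := hcond U hUV hinv
    have hKU : ⁅H, U⁆ ≤ U := by
      rw [Subgroup.commutator_le]
      intro h hh u hu
      rw [commutatorElement_def]
      have h1 : h * u * h⁻¹ ∈ U := by
        rw [← hinv h hh]
        exact ⟨u, hu, rfl⟩
      exact U.mul_mem h1 (U.inv_mem hu)
    -- decompose `v`
    have hnorm : U ⊓ Subgroup.normalizer (H : Set G) ≤
        Subgroup.normalizer ((⁅H, U⁆ : Subgroup G) : Set G) := by
      intro n hn
      rw [Subgroup.mem_normalizer_iff]
      intro k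
      constructor
      · intro hk
        have := hcommV n (hUV hn.1) k (hUV (hKU hk))
        rw [this, mul_inv_cancel_right]
        exact hk
      · intro hk
        have := hcommV n⁻¹ (V.inv_mem (hUV hn.1)) (n * k * n⁻¹) (hUV (hKU hk))
        have h2 : k = n⁻¹ * (n * k * n⁻¹) * n := by group
        rw [h2, this, inv_mul_cancel_right]
        exact hk
    have hvmem : v ∈ (U ⊓ Subgroup.normalizer (H : Set G)) ⊔ ⁅H, U⁆ := by rw [← hUeq]; exact hvU
    obtain ⟨n, hn, c, hc, hvnc⟩ := mem_sup_left_normalizes hnorm hvmem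
    have hnc : n * c = c * n := hcommV n (hUV hn.1) c (hUV (hKU hc))
    have hcjv : cj v H = cj c H := by
      rw [hvnc, hnc, cj_mul, mem_normalizer_iff_cj.1 hn.2]
    refine ⟨c, ?_, hcjv⟩
    -- `⁅H, U⁆ ≤ J`
    set J : Subgroup G := H ⊔ cj v H with hJ
    have hHJ : H ≤ J := le_sup_left
    have key : ∀ u ∈ U, u ∈ V ∧ ∀ h ∈ H, ⁅h, u⁆ ∈ J := by
      intro u hu
      rw [hU] at hu
      induction hu using Subgroup.closure_induction with
      | mem x hx =>
        obtain ⟨h', hh', rfl⟩ := hx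
        refine ⟨hVn.conj_mem v hv h', ?_⟩
        intro h hh
        have h1 : ⁅h, h' * v * h'⁻¹⁆ = (h * h') * (v * (h'⁻¹ * h⁻¹ * h') * v⁻¹) * h'⁻¹ := by
          rw [commutatorElement_def]; group
        rw [h1]
        apply J.mul_mem (J.mul_mem (hHJ (H.mul_mem hh hh')) _) (hHJ (H.inv_mem hh'))
        apply Subgroup.mem_sup_right
        exact ⟨h'⁻¹ * h⁻¹ * h', H.mul_mem (H.mul_mem (H.inv_mem hh') (H.inv_mem hh)) hh', rfl⟩
      | one =>
        refine ⟨V.one_mem, fun h _ => ?_⟩
        rw [commutatorElement_one_right]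
        exact J.one_mem
      | mul x y _ _ ihx ihy =>
        refine ⟨V.mul_mem ihx.1 ihy.1, fun h hh => ?_⟩
        have h1 : ⁅h, x * y⁆ = ⁅h, x⁆ * (x * ⁅h, y⁆ * x⁻¹) := by
          rw [commutatorElement_def, commutatorElement_def, commutatorElement_def]; group
        have hyV : ⁅h, y⁆ ∈ V := by
          rw [commutatorElement_def]
          exact V.mul_mem (hVn.conj_mem y ihy.1 h) (V.inv_mem ihy.1)
        have h2 : x * ⁅h, y⁆ * x⁻¹ = ⁅h, y⁆ := by
          rw [hcommV x ihx.1 _ hyV, mul_inv_cancel_right]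
        rw [h1, h2]
        exact J.mul_mem (ihx.2 h hh) (ihy.2 h hh)
      | inv x _ ihx =>
        refine ⟨V.inv_mem ihx.1, fun h hh => ?_⟩
        have h1 : ⁅h, x⁻¹⁆ = x⁻¹ * ⁅h, x⁆⁻¹ * x := by
          rw [commutatorElement_def, commutatorElement_def]; group
        have hxV : ⁅h, x⁆⁻¹ ∈ V := by
          rw [commutatorElement_def]
          exact V.inv_mem (V.mul_mem (hVn.conj_mem x ihx.1 h) (V.inv_mem ihx.1))
        have h2 : x⁻¹ * ⁅h, x⁆⁻¹ * x = ⁅h, x⁆⁻¹ := by
          rw [hcommV x⁻¹ (V.inv_mem ihx.1) _ hxV, inv_mul_cancel_right]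
        rw [h1, h2]
        exact J.inv_mem (ihx.2 h hh)
    have hKJ : ⁅H, U⁆ ≤ J := by
      rw [Subgroup.commutator_le]
      intro h hh u hu
      exact (key u hu).2 h hh
    exact hKJ hc

end Cfsg.Agent.S4269
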