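import Cfsg.Statements.S4275

set_option autoImplicit false

open Cfsg

namespace Cfsg.Agent.S4275

theorem result {Ω : Type*} [Fintype Ω] (G : Subgroup (Equiv.Perm Ω)) (htr : MulAction.IsPretransitive G Ω) (o : Ω) (α : G ≃* G) : (∃ σ : Equiv.Perm Ω, σ ∈ Subgroup.normalizer (G : Set (Equiv.Perm Ω)) ∧ ∀ g : G, ((α g : G) : Equiv.Perm Ω) = σ * (g : Equiv.Perm Ω) * σ⁻¹) ↔ ∃ ω : Ω, ∀ g ∈ (MulAction.stabilizer G o).map α.toMonoidHom, g • ω = ω := by
  constructor
  · rintro ⟨σ, -, hσ⟩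
    refine ⟨σ o, ?_⟩
    rintro g ⟨g₀, hg₀, rfl⟩
    have h0 : (g₀ : Equiv.Perm Ω) o = o := MulAction.mem_stabilizer_iff.mp hg₀
    show ((α g₀ : G) : Equiv.Perm Ω) (σ o) = σ o
    rw [hσ g₀]
    simp [h0]
  · rintro ⟨ω, hω⟩
    -- representatives
    have hr : ∀ pt : Ω, ∃ g : G, g • o = pt := fun pt => MulAction.exists_smul_eq G o pt
    choose r hr using hr
    have hfixω : ∀ g : G, g • o = o → (α g) • ω = ω := by
      intro g hg
      exact hω (α g) ⟨g, MulAction.mem_stabilizer_iff.mpr hg, rfl⟩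
    have hwell : ∀ g g' : G, g • o = g' • o → (α g) • ω = (α g') • ω := by
      intro g g' h
      have h1 : (g'⁻¹ * g) • o = o := by
        rw [mul_smul, h, inv_smul_smul]
      have h2 := hfixω _ h1
      rw [map_mul, map_inv, mul_smul] at h2
      have h3 := congrArg (fun z => (α g') • z) h2
      simpa using h3
    let σ₀ : Ω → Ω := fun pt => (α (r pt)) • ω
    have hequiv : ∀ (g : G) (pt : Ω), σ₀ (g • pt) = (α g) • σ₀ pt := by
      intro g pt
      show (α (r (g • pt))) • ω = (α g) • ((α (r pt)) • ω)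
      rw [← mul_smul, ← map_mul]
      apply hwell
      rw [hr, mul_smul, hr]
    have hσo : σ₀ o = ω := hfixω (r o) (hr o)
    have hsurj : Function.Surjective σ₀ := by
      intro ω'
      obtain ⟨g', hg'⟩ := MulAction.exists_smul_eq G ω ω'
      refine ⟨(α.symm g') • o, ?_⟩
      rw [hequiv, hσo, MulEquiv.apply_symm_apply, hg']
    have hbij : Function.Bijective σ₀ := (Finite.injective_iff_surjective.mpr hsurj) |> fun hi => ⟨hi, hsurj⟩
    let σ : Equiv.Perm Ω := Equiv.ofBijective σ₀ hbij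
    have hσapp : ∀ pt, σ pt = σ₀ pt := fun pt => rfl
    have hconj : ∀ g : G, ((α g : G) : Equiv.Perm Ω) = σ * (g : Equiv.Perm Ω) * σ⁻¹ := by
      intro g
      ext pt
      simp only [Equiv.Perm.coe_mul, Function.comp_apply]
      have h1 := hequiv g (σ⁻¹ pt)
      have h2 : σ₀ (σ⁻¹ pt) = pt := by rw [← hσapp]; simp
      rw [h2] at h1
      rw [hσapp]
      exact h1.symm
    refine ⟨σ, ?_, hconj⟩
    rw [Subgroup.mem_normalizer_iff]
    intro h
    constructor
    · intro hh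
      have := hconj ⟨h, hh⟩
      rw [← this]
      exact (α ⟨h, hh⟩).2
    · intro hh
      obtain ⟨g, hg⟩ := α.surjective ⟨σ * h * σ⁻¹, hh⟩
      have h1 := hconj g
      rw [hg] at h1
      have h2 : h = (g : Equiv.Perm Ω) := by
        have h3 : σ * h * σ⁻¹ = σ * (g : Equiv.Perm Ω) * σ⁻¹ := h1
        have h4 := congrArg (fun z => σ⁻¹ * z * σ) h3
        simpa [mul_assoc] using h4
      rw [h2]
      exact g.2

end Cfsg.Agent.S4275
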