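import Cfsg.Statements.S4277
import Mathlib
import Cfsg.Agent.Lib.Helper7.PrimeIdxOut3
import Cfsg.Agent.S0675
-- import your own Cfsg.Agent.* helpers here

set_option autoImplicit false
open Cfsg

namespace Cfsg.Agent.S4277

/-- A case of the Schreier conjecture: if a finite simple group G has a subgroup of prime index, then the outer automorphism group of G is solvable. -/
theorem result {G : Type*} [Group G] [Finite G] [IsSimpleGroup G] (H : Subgroup G) (hH : H.index.Prime) : Group.IsSolvable (Cfsg.Out G) := by
  classical
  by_cases hc : ∀ a b : G, a * b = b * a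
  · -- the commutative case: `G` is cyclic, `MulAut G` is commutative
    letI : CommGroup G := { ‹Group G› with mul_comm := hc }
    haveI : IsCyclic G := IsSimpleGroup.isCyclic
    have hcomm : ∀ a b : MulAut G, a * b = b * a := by
      intro a b
      apply (IsCyclic.mulAutMulEquiv G).injective
      rw [map_mul, map_mul, mul_comm]
    haveI : Group.IsSolvable (MulAut G) := Group.isSolvable_of_comm hcomm
    infer_instance
  · -- the nonabelian case
    have hp : H.index.Prime := hH
    set p : ℕ := H.index with hpdef
    haveI : Fact p.Prime := ⟨hp⟩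
    haveI : Finite (G ⧸ H) := inferInstance
    letI : Fintype (G ⧸ H) := Fintype.ofFinite _
    have hΩ : Nat.card (G ⧸ H) = p := (Subgroup.index_eq_card H).symm
    have hΩ' : Fintype.card (G ⧸ H) = p := by rw [← Nat.card_eq_fintype_card, hΩ]
    -- the action is faithful
    have hinj : Function.Injective (MulAction.toPermHom G (G ⧸ H)) := by
      rw [← MonoidHom.ker_eq_bot_iff]
      rcases (MulAction.toPermHom G (G ⧸ H)).normal_ker.eq_bot_or_eq_top with h | h
      · exact h
      · exfalso
        have hHtop : H = ⊤ := by
          rw [eq_top_iff]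
          intro g _
          have hg : g ∈ (MulAction.toPermHom G (G ⧸ H)).ker := by rw [h]; trivial
          rw [MonoidHom.mem_ker] at hg
          have h1 := congrArg (fun τ : Equiv.Perm (G ⧸ H) => τ ((1 : G) : G ⧸ H)) hg
          simp only [MulAction.toPermHom_apply, MulAction.toPerm_apply, Equiv.Perm.coe_one,
            id_eq] at h1
          have h2 : g • ((1 : G) : G ⧸ H) = ((g * 1 : G) : G ⧸ H) := rfl
          rw [h2, mul_one, QuotientGroup.eq, mul_one] at h1
          exact H.inv_mem_iff.1 h1
        rw [hpdef, hHtop, Subgroup.index_top] at hp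
        exact Nat.not_prime_one hp
    -- Burnside
    set Gh : Subgroup (Equiv.Perm (G ⧸ H)) := (MulAction.toPermHom G (G ⧸ H)).range with hGh
    haveI : MulAction.IsPretransitive Gh (G ⧸ H) := by
      constructor
      intro a b
      obtain ⟨g, hg⟩ := MulAction.exists_smul_eq G a b
      exact ⟨⟨MulAction.toPermHom G (G ⧸ H) g, ⟨g, rfl⟩⟩, hg⟩
    have h2 : MulAction.IsMultiplyPretransitive G (G ⧸ H) 2 := by
      rcases Cfsg.Agent.S0675.result (hΩ'.symm ▸ hp) Gh with hs | h2
      · exfalso
        apply hc
        rw [IsSimpleGroup.comm_iff_isSolvable]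
        haveI := hs
        exact Group.isSolvable_of_isSolvable_injective
          (f := (MonoidHom.ofInjective hinj).toMonoidHom) (MonoidHom.ofInjective hinj).injective
      · rw [MulAction.is_two_pretransitive_iff] at h2 ⊢
        intro a b c d hab hcd
        obtain ⟨⟨_, ⟨g, rfl⟩⟩, h1, h3⟩ := h2 hab hcd
        exact ⟨g, h1, h3⟩
    -- the Sylow subgroup
    have hp2 := Cfsg.Agent.Lib.Helper7.PIO.not_sq_dvd_card H hp rfl hinj
    obtain ⟨P⟩ : Nonempty (Sylow p G) := inferInstance
    have hPcard : Nat.card (P : Subgroup G) = p := by
      have h1 := Sylow.card_eq_multiplicity P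
      have hdvd : p ∣ Nat.card G := Subgroup.index_dvd_card H
      have hpos : 0 < (Nat.card G).factorization p :=
        hp.factorization_pos_of_dvd Nat.card_pos.ne' hdvd
      have hlt : (Nat.card G).factorization p < 2 := by
        by_contra hge
        push Not at hge
        apply hp2
        exact (pow_dvd_pow p hge).trans (Nat.ordProj_dvd _ _)
      have : (Nat.card G).factorization p = 1 := by omega
      rw [h1, this, pow_one]
    have hPcyc : IsCyclic (P : Subgroup G) := isCyclic_of_prime_card hPcard
    exact Cfsg.Agent.Lib.Helper7.PIO.out_solvable_of P hPcyc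
      (fun α hodd hfix =>
        Cfsg.Agent.Lib.Helper7.PIO.inner_of_odd_fix H hp rfl hinj h2 (P : Subgroup G) hPcard α hodd hfix)

end Cfsg.Agent.S4277
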