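import Cfsg.Statements.S4278
import Cfsg.Agent.Lib.Helper3.G2O4

set_option autoImplicit false
open Cfsg

namespace Cfsg.Agent.S4278

/-- In the Chevalley group of type G₂ over a finite field of odd order, any two involutions are conjugate. -/
theorem result {F : Type*} [Field F] [Fintype F] (hF : Odd (Fintype.card F)) (s t : ↥(Cfsg.Lie.chevG2.group F)) (hs : orderOf s = 2) (ht : orderOf t = 2) : IsConj s t := by
  have key : ∀ u : ↥(Cfsg.Lie.chevG2.group F), orderOf u = 2 →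
      ∃ x : ↥(Cfsg.Lie.chevG2.group F), x * u * x⁻¹ =
        ⟨Cfsg.Agent.Lib.Helper3.G2O.T (-1 : F) 1, Cfsg.Agent.Lib.Helper3.G2O.diag_le_group
          (Cfsg.Agent.Lib.Helper3.G2O.T_mem (-1 : F) 1 (by simp) one_ne_zero)⟩ := by
    intro u hu
    have h2 : u * u = 1 := by
      have := pow_orderOf_eq_one u
      rwa [hu, pow_two] at this
    have h1 : u ≠ 1 := by
      intro h
      rw [h, orderOf_one] at hu
      norm_num at hu
    have h2' : (u : GL Cfsg.Lie.chevG2.Idx F) * (u : GL Cfsg.Lie.chevG2.Idx F) = 1 := by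
      have := congrArg Subtype.val h2
      simpa using this
    have h1' : (u : GL Cfsg.Lie.chevG2.Idx F) ≠ 1 := by
      intro h
      apply h1
      exact Subtype.ext h
    obtain ⟨x, hx, e⟩ := Cfsg.Agent.Lib.Helper3.G2O.conjT0_invol hF (u : GL Cfsg.Lie.chevG2.Idx F) u.2 h2' h1'
    refine ⟨⟨x, hx⟩, ?_⟩
    apply Subtype.ext
    exact e
  obtain ⟨x, hx⟩ := key s hs
  obtain ⟨y, hy⟩ := key t ht
  rw [isConj_iff]
  refine ⟨y⁻¹ * x, ?_⟩
  calc y⁻¹ * x * s * (y⁻¹ * x)⁻¹ = y⁻¹ * (x * s * x⁻¹) * y := by group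
    _ = y⁻¹ * (y * t * y⁻¹) * y := by rw [hx, hy]
    _ = t := by group

end Cfsg.Agent.S4278
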