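import Cfsg.Statements.S4282
import Mathlib
import Cfsg.Agent.Lib.Helper8.HB5

set_option autoImplicit false
open Cfsg

namespace Cfsg.Agent.S4282

/-- A critical case behind the Hall–Higman theorem. Let p ≠ q be primes and G a finite group generated by a normal q-subgroup Q and a cyclic p-subgroup generated by x, such that the centralizer of every non-identity element of that cyclic subgroup is its product with the centre of G. Let K be an algebraically closed field of characteristic p and ρ a faithful representation of G on a nonzero finite-dimensional K-space whose restriction to Q is irreducible. If s is the least exponent with (ρ(x) − 1)^s = 0, then |⟨x⟩| − 1 ≤ s ≤ |⟨x⟩|; and if s = |⟨x⟩| − 1 then |⟨x⟩| − 1 is a power of q and Q is non-abelian. -/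
theorem result {G : Type*} [Group G] [Finite G] (p q : ℕ) [Fact p.Prime] [Fact q.Prime] (hpq : p ≠ q) (Q : Subgroup G) [Q.Normal] (hQ : IsPGroup q Q) (x : G) (hx : IsPGroup p (Subgroup.zpowers x)) (hgen : Q ⊔ Subgroup.zpowers x = ⊤) (hC : ∀ y ∈ Subgroup.zpowers x, y ≠ 1 → Subgroup.centralizer ({y} : Set G) = Subgroup.zpowers x ⊔ Subgroup.center G) {K : Type*} [Field K] [IsAlgClosed K] [CharP K p] {V : Type*} [AddCommGroup V] [Module K V] [FiniteDimensional K V] [Nontrivial V] (ρ : Representation K G V) (hfaith : Function.Injective ρ) (hirr : ∀ W : Submodule K V, (∀ g ∈ Q, Submodule.map (ρ g) W ≤ W) → W = ⊥ ∨ W = ⊤) (s : ℕ) (hs : (ρ x - 1) ^ s = 0) (hmin : ∀ k < s, (ρ x - 1) ^ k ≠ 0) : Nat.card (Subgroup.zpowers x) - 1 ≤ s ∧ s ≤ Nat.card (Subgroup.zpowers x) ∧ (s = Nat.card (Subgroup.zpowers x) - 1 → (∃ b : ℕ, Nat.card (Subgroup.zpowers x) - 1 = q ^ b) ∧ ¬ IsMulCommutative Q) := by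
  classical
  have hs1 : 1 ≤ s := by
    rcases Nat.eq_zero_or_pos s with h0 | h0
    · exfalso
      rw [h0, pow_zero] at hs
      exact one_ne_zero hs
    · exact h0
  have hsP : s ≤ Nat.card (Subgroup.zpowers x) := by
    obtain ⟨n, hn⟩ := IsPGroup.iff_card.mp hx
    by_contra hcon
    push Not at hcon
    apply hmin _ hcon
    rw [hn, Cfsg.Agent.Lib.Helper8.HB.sub_one_pow_char p (ρ x) n, ← hn, ← map_pow,
      Nat.card_zpowers, pow_orderOf_eq_one, map_one, sub_self]
  have hmain := Cfsg.Agent.Lib.Helper8.HB.critical p q hpq Q hQ x hx hC ρ hfaith hirr s hs hmin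
  have hirrQ : Cfsg.Agent.Lib.Helper8.HB.Irr (ρ.comp Q.subtype) := by
    intro W hW
    exact hirr W (fun g hg => hW ⟨g, hg⟩)
  refine ⟨?_, hsP, ?_⟩
  · by_contra hcon
    push Not at hcon
    have h1 := (hmain (by omega)).1
    omega
  · intro hsP1
    obtain ⟨_, h2, h3⟩ := hmain (le_of_eq hsP1)
    constructor
    · obtain ⟨b, hb⟩ := Cfsg.Agent.Lib.Helper8.HB.finrank_eq_prime_pow (K := K) q _ Q hQ rfl V
        (ρ.comp Q.subtype) hirrQ
      exact ⟨b, by rw [← h2]; exact hb⟩
    · intro hcomm
      have h4 : Module.finrank K V = 1 :=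
        Cfsg.Agent.Lib.Helper8.HB.finrank_eq_one_of_scalar (ρ.comp Q.subtype) hirrQ (fun g =>
          Cfsg.Agent.Lib.Helper8.HB.schur (ρ.comp Q.subtype) hirrQ _ (fun g' => by
            show ρ (g : G) * ρ (g' : G) = ρ (g' : G) * ρ (g : G)
            rw [← map_mul, ← map_mul]
            have h5 : g * g' = g' * g := hcomm.is_comm.comm g g'
            have h6 : (g : G) * (g' : G) = (g' : G) * (g : G) := congrArg Subtype.val h5
            rw [h6]))
      omega

end Cfsg.Agent.S4282
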