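import Cfsg.Statements.S4292
import Cfsg.Agent.Lib.Helper8.FpfLift7
import Cfsg.Agent.Lib.Helper5.FpfP1
import Cfsg.Agent.Lib.Helper3.FpfP5
import Cfsg.Agent.Lib.Helper1.FpfP67
import Cfsg.Agent.Lib.Helper7.FrobCons2

set_option autoImplicit false
open Cfsg

namespace Cfsg.Agent.S4292

open Cfsg.Agent.Lib.Helper8.FpfLift

/-- a group occurring as a Frobenius complement has `1 ∉ fpfIdeal ℚ G` -/
theorem rat_of_occurs {G : Type*} [Group G] [Finite G]
    (hFC : ∃ (L : Type) (_ : Group L) (_ : Finite L) (H : Subgroup L),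
      Cfsg.IsFrobeniusComplement H ∧ Nonempty (G ≃* H)) :
    (1 : MonoidAlgebra ℚ G) ∉ fpfIdeal ℚ G := by
  obtain ⟨p, hp, M, iM1, iM2, iM3, ρ, hpG, hfpf⟩ :=
    Cfsg.Agent.Lib.Helper5.fpf_module_of_frobenius_complement hFC
  exact one_notMem_fpfIdeal_rat_of_module hpG ρ hfpf

/-- a fixed-point-free action on a finite nontrivial abelian group makes the acting group a
Frobenius complement -/
theorem occurs_of_fpf_action {G : Type*} [Group G] [Finite G] [Nontrivial G] {K : Type*}
    [CommGroup K] [Finite K] [Nontrivial K] (φ : G →* MulAut K)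
    (hfpf : ∀ g : G, g ≠ 1 → ∀ v : K, φ g v = v → v = 1) :
    ∃ (L : Type) (_ : Group L) (_ : Finite L) (H : Subgroup L),
      Cfsg.IsFrobeniusComplement H ∧ Nonempty (G ≃* H) := by
  have hF := Cfsg.Agent.Lib.Helper8.isFrobeniusComplement_inr_range φ hfpf
  obtain ⟨L', i1, i2, C', hC', ⟨e'⟩⟩ :=
    Cfsg.Agent.Lib.Helper7.FrobCons.exists_small_frobenius _ hF
  exact ⟨L', i1, i2, C', hC', ⟨(Cfsg.Agent.Lib.Helper8.inrRangeEquiv φ).trans e'⟩⟩

/-- Let A and B be nontrivial finite groups. Then the direct product A × B occurs as a Frobenius complement if and only if A and B both occur as Frobenius complements and the orders of A and B are coprime. -/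
theorem result {A B : Type*} [Group A] [Finite A] [Nontrivial A] [Group B] [Finite B] [Nontrivial B] :
    (∃ (L : Type) (_ : Group L) (_ : Finite L) (H : Subgroup L), Cfsg.IsFrobeniusComplement H ∧ Nonempty ((A × B) ≃* H)) ↔
    ((∃ (L : Type) (_ : Group L) (_ : Finite L) (H : Subgroup L), Cfsg.IsFrobeniusComplement H ∧ Nonempty (A ≃* H)) ∧
     (∃ (L : Type) (_ : Group L) (_ : Finite L) (H : Subgroup L), Cfsg.IsFrobeniusComplement H ∧ Nonempty (B ≃* H)) ∧
     (Nat.card A).Coprime (Nat.card B)) := by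
  constructor
  · exact Cfsg.Agent.Lib.Helper3.FpfP5.of_prod
  · rintro ⟨hA, hB, hcop⟩
    have h1 := Cfsg.Agent.Lib.Helper1.Fpf.one_notMem_fpfIdeal_prod hcop
      (rat_of_occurs hA) (rat_of_occurs hB)
    -- a prime not dividing the order
    obtain ⟨r, hr1, hr2⟩ := Nat.exists_infinite_primes (Nat.card (A × B) + 1)
    have : Fact r.Prime := ⟨hr2⟩
    have hr : ¬ r ∣ Nat.card (A × B) := by
      intro hdvd
      have := Nat.le_of_dvd Nat.card_pos hdvd
      omega
    have h2 := Cfsg.Agent.Lib.Helper1.Fpf.one_notMem_fpfIdeal_zmod' r h1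
    obtain ⟨K, iK1, iK2, iK3, φ, hφ⟩ :=
      Cfsg.Agent.Lib.Helper1.Fpf.exists_fpf_group_of_notMem r hr h2
    exact occurs_of_fpf_action φ hφ

end Cfsg.Agent.S4292
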