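import Mathlib
import Cfsg.Statements.S4293
import Cfsg.Agent.Lib.Helper7.FrobCons2

set_option autoImplicit false
open Cfsg

namespace Cfsg.Agent.S4293

open Cfsg.Agent.Lib.Helper7.FrobCons

variable {D : Type*} [DivisionRing D] (H : Subgroup Dˣ)

/-- the inclusion of `H` in `D` -/
def iota : H →* D := (Units.coeHom D).comp H.subtype

theorem iota_injective : Function.Injective (iota H) := by
  intro a b hab
  apply Subtype.ext
  apply Units.ext
  exact hab

/-- the subring spanned by `H` -/
def SS : Subalgebra ℤ D := Algebra.adjoin ℤ (Set.range (iota H))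

/-- `H` inside the subring -/
def jj : H →* SS H where
  toFun h := ⟨iota H h, Algebra.subset_adjoin ⟨h, rfl⟩⟩
  map_one' := Subtype.ext (map_one _)
  map_mul' a b := Subtype.ext (map_mul _ a b)

theorem coe_jj (h : H) : ((jj H h : SS H) : D) = iota H h := rfl

theorem finite_SS [Finite H] : Module.Finite ℤ (SS H) := by
  have h1 : (Subalgebra.toSubmodule (SS H)) = Submodule.span ℤ (Set.range (iota H)) := by
    unfold SS
    rw [Algebra.adjoin_eq_span]
    congr 1
    have : (Submonoid.closure (Set.range (iota H)) : Set D) = Set.range (iota H) := by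
      rw [← MonoidHom.coe_mrange, Submonoid.closure_eq]
    exact this
  have h2 : (Subalgebra.toSubmodule (SS H)).FG := by
    rw [h1]
    exact Submodule.fg_span (Set.finite_range _)
  exact (Module.Finite.iff_fg (N := Subalgebra.toSubmodule (SS H))).mpr h2

theorem exists_good_prime [Finite H] : ∃ q : ℕ, q.Prime ∧ ¬ q ∣ Nat.card H ∧
    ∀ r : ℤ, (r : D) = 0 → (q : ℤ) ∣ r := by
  obtain ⟨c, hc⟩ := CharP.exists D
  rcases CharP.char_is_prime_or_zero D c with hp | h0
  · refine ⟨c, hp, ?_, fun r hr => (CharP.intCast_eq_zero_iff D c r).mp hr⟩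
    intro hdvd
    haveI : Fact c.Prime := ⟨hp⟩
    obtain ⟨h, hh⟩ := exists_prime_orderOf_dvd_card' c hdvd
    have h1 : (iota H h) ^ c = 1 := by rw [← map_pow, ← hh, pow_orderOf_eq_one, map_one]
    have h2 : (iota H h - 1) ^ c = 0 := by
      rw [sub_pow_char_of_commute (p := c) (Commute.one_right (iota H h)), h1, one_pow, sub_self]
    have h3 : iota H h = 1 := by
      have := (pow_eq_zero_iff hp.ne_zero).mp h2
      exact sub_eq_zero.mp this
    have h4 : h = 1 := iota_injective H (by rw [h3, map_one])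
    rw [h4, orderOf_one] at hh
    exact hp.one_lt.ne hh
  · subst h0
    obtain ⟨q, hq1, hq2⟩ := Nat.exists_infinite_primes (Nat.card H + 1)
    refine ⟨q, hq2, ?_, ?_⟩
    · intro hd
      have := Nat.le_of_dvd Nat.card_pos hd
      omega
    · intro r hr
      haveI : CharZero D := CharP.charP_to_charZero D
      have : r = 0 := by exact_mod_cast hr
      rw [this]; exact dvd_zero _

/-- the left ideal generated by `q` -/
def II (q : ℕ) : Submodule (SS H) (SS H) := Ideal.span {(q : SS H)}

theorem mem_II (q : ℕ) (s : SS H) : s ∈ II H q ↔ ∃ a : SS H, a * (q : SS H) = s := by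
  unfold II
  exact Ideal.mem_span_singleton'

theorem q_nsmul (q : ℕ) (x : SS H ⧸ II H q) : q • x = 0 := by
  obtain ⟨s, rfl⟩ := Submodule.Quotient.mk_surjective _ x
  have : q • (Submodule.Quotient.mk s : SS H ⧸ II H q) = Submodule.Quotient.mk (q • s) :=
    (map_nsmul (Submodule.mkQ (II H q)) q s).symm
  rw [this, Submodule.Quotient.mk_eq_zero, mem_II]
  refine ⟨s, ?_⟩
  rw [nsmul_eq_mul]
  exact ((Nat.cast_commute q s).eq).symm

theorem finite_quot [Finite H] (q : ℕ) (hq : q ≠ 0) : Finite (SS H ⧸ II H q) := by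
  haveI := finite_SS H
  let f0 : SS H →+ (SS H ⧸ II H q) := (Submodule.mkQ (II H q)).toAddMonoidHom
  let f : SS H →ₗ[ℤ] (SS H ⧸ II H q) := f0.toIntLinearMap
  have hf : Function.Surjective f := by
    intro y
    obtain ⟨s, rfl⟩ := Submodule.Quotient.mk_surjective _ y
    exact ⟨s, rfl⟩
  haveI : Module.Finite ℤ (SS H ⧸ II H q) := Module.Finite.of_surjective f hf
  apply Module.finite_of_fg_torsion
  intro x
  refine ⟨⟨(q : ℤ), ?_⟩, ?_⟩
  · rw [mem_nonZeroDivisors_iff_ne_zero]
    exact_mod_cast hq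
  · show (q : ℤ) • x = 0
    rw [natCast_zsmul]
    exact q_nsmul H q x

theorem one_not_mem [Finite H] (q : ℕ) (hq : q.Prime) (hC : ∀ r : ℤ, (r : D) = 0 → (q : ℤ) ∣ r) :
    (1 : SS H) ∉ II H q := by
  intro h1
  rw [mem_II] at h1
  obtain ⟨a, ha⟩ := h1
  haveI := finite_SS H
  have hin : (⊤ : Submodule ℤ (SS H)) ≤ (Ideal.span {(q : ℤ)}) • (⊤ : Submodule ℤ (SS H)) := by
    intro s _
    have : s = (q : ℤ) • (s * a) := by
      rw [zsmul_eq_mul, Int.cast_natCast]
      rw [(Nat.cast_commute q (s * a)).eq, mul_assoc, ha, mul_one]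
    rw [this]
    exact Submodule.smul_mem_smul (Ideal.mem_span_singleton_self _) Submodule.mem_top
  obtain ⟨r, hr1, hr2⟩ := Submodule.exists_sub_one_mem_and_smul_eq_zero_of_fg_of_le_smul
    (Ideal.span {(q : ℤ)}) (⊤ : Submodule ℤ (SS H)) Module.Finite.fg_top hin
  have h3 := hr2 1 Submodule.mem_top
  rw [zsmul_eq_mul, mul_one] at h3
  have h4 : ((r : ℤ) : D) = 0 := by
    have := congrArg (fun s : SS H => (s : D)) h3
    simpa using this
  have h5 := hC r h4
  rw [Ideal.mem_span_singleton] at hr1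
  have h6 : (q : ℤ) ∣ 1 := by
    have := dvd_sub h5 hr1
    simpa using this
  have h7 : q ∣ 1 := by exact_mod_cast h6
  exact hq.one_lt.ne' (Nat.dvd_one.mp h7)

theorem geom_zero [Finite H] (h : H) (hh : h ≠ 1) :
    ∑ k ∈ Finset.range (orderOf h), (jj H h) ^ k = 0 := by
  apply Subtype.ext
  have e : ((∑ k ∈ Finset.range (orderOf h), (jj H h) ^ k : SS H) : D)
      = ∑ k ∈ Finset.range (orderOf h), (iota H h) ^ k := by
    push_cast
    rfl
  rw [e]
  have h1 := geom_sum_mul (iota H h) (orderOf h)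
  rw [← map_pow, pow_orderOf_eq_one, map_one, sub_self] at h1
  rcases mul_eq_zero.mp h1 with h2 | h2
  · exact h2
  · exfalso
    apply hh
    apply iota_injective H
    rw [map_one]
    exact sub_eq_zero.mp h2

theorem fpf [Finite H] (q : ℕ) (hq : q.Prime) (hqH : ¬ q ∣ Nat.card H) (h : H) (hh : h ≠ 1)
    (x : SS H ⧸ II H q) (hx : jj H h • x = x) : x = 0 := by
  have h1 : ∀ k : ℕ, (jj H h) ^ k • x = x := by
    intro k
    induction k with
    | zero => rw [pow_zero, one_smul]
    | succ k ih => rw [pow_succ, mul_smul, hx, ih]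
  have h2 : (∑ k ∈ Finset.range (orderOf h), (jj H h) ^ k) • x = orderOf h • x := by
    rw [Finset.sum_smul, Finset.sum_congr rfl (fun k _ => h1 k), Finset.sum_const, Finset.card_range]
  rw [geom_zero H h hh, zero_smul] at h2
  have h3 := q_nsmul H q x
  have d1 : addOrderOf x ∣ orderOf h := addOrderOf_dvd_of_nsmul_eq_zero h2.symm
  have d2 : addOrderOf x ∣ q := addOrderOf_dvd_of_nsmul_eq_zero h3
  have d3 : orderOf h ∣ Nat.card H := orderOf_dvd_natCard h
  have hcop : Nat.Coprime (orderOf h) q := by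
    apply Nat.Coprime.symm
    rw [hq.coprime_iff_not_dvd]
    intro hd
    exact hqH (dvd_trans hd d3)
  have : addOrderOf x ∣ 1 := by
    have := Nat.dvd_gcd d1 d2
    rwa [hcop] at this
  exact AddMonoid.addOrderOf_eq_one_iff.mp (Nat.dvd_one.mp this)

/-- A nontrivial finite subgroup of the multiplicative group of a division ring occurs as a Frobenius complement of some finite Frobenius group. -/
theorem result {D : Type*} [DivisionRing D] (H : Subgroup Dˣ) [Finite H] (hH : H ≠ ⊥) :
    ∃ (L : Type) (_ : Group L) (_ : Finite L) (C : Subgroup L), Cfsg.IsFrobeniusComplement C ∧ Nonempty (H ≃* C) := by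
  obtain ⟨q, hq, hqH, hC⟩ := exists_good_prime H
  haveI : Nontrivial H := (Subgroup.nontrivial_iff_ne_bot H).mpr hH
  haveI : Finite (SS H ⧸ II H q) := finite_quot H q hq.ne_zero
  haveI : Nontrivial (SS H ⧸ II H q) := by
    refine ⟨⟨Submodule.Quotient.mk 1, 0, ?_⟩⟩
    rw [Ne, Submodule.Quotient.mk_eq_zero]
    exact one_not_mem H q hq hC
  letI : DistribMulAction H (SS H ⧸ II H q) := DistribMulAction.compHom _ (jj H)
  apply exists_frobenius_of_fpf (H := H) (V := SS H ⧸ II H q)
  intro h hh w hw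
  exact fpf H q hq hqH h hh w hw

end Cfsg.Agent.S4293
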