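import Mathlib
import Cfsg.Statements.S4296
import Cfsg.Agent.Lib.Helper7.QuatSq4

set_option autoImplicit false
open Cfsg

namespace Cfsg.Agent.S4296

open Cfsg.Agent.Lib.Lead Cfsg.Agent.Lib.Helper7.QuatSq Cfsg.Agent.Lib.Helper4.CNSolv

/-- Let H be a Frobenius complement in a finite group, and suppose some Sylow subgroup of H is not cyclic. Then the number of elements of the Frobenius kernel (the identity together with the elements lying in no conjugate of H) is an odd perfect square. -/
theorem result {L : Type*} [Group L] [Finite L] (H : Subgroup L) (hF : Cfsg.IsFrobeniusComplement H)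
    (hZ : ∃ (p : ℕ) (_ : Fact p.Prime) (P : Sylow p H), ¬ IsCyclic P) :
    Odd (Nat.card (Cfsg.frobeniusKernel H)) ∧ IsSquare (Nat.card (Cfsg.frobeniusKernel H)) := by
  obtain ⟨K, hK⟩ := exists_frobData hF
  haveI := hK.normal
  obtain ⟨p, hp, P, hP⟩ := hZ
  -- the image of `P` in `L`
  have hRH : (P : Subgroup H).map H.subtype ≤ H := Subgroup.map_subtype_le _
  have hRp : IsPGroup p ((P : Subgroup H).map H.subtype) := P.2.map _
  have hRK : (P : Subgroup H).map H.subtype ≤ Subgroup.normalizer (K : Set L) := by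
    rw [Subgroup.normalizer_eq_top_iff.mpr hK.normal]; exact le_top
  have hfpf : Fpf ((P : Subgroup H).map H.subtype) K := by
    intro a ha ha1
    rw [eq_bot_iff]
    intro k hk
    rw [Subgroup.mem_inf] at hk
    obtain ⟨hkK, hkc⟩ := hk
    rw [Subgroup.mem_centralizer_singleton_iff] at hkc
    exact Subgroup.mem_bot.mpr (hK.fpf (hRH ha) ha1 hkK hkc.symm)
  have hncyc : ¬ IsCyclic ((P : Subgroup H).map H.subtype) := by
    intro hc
    apply hP
    exact isCyclic_of_surjective
      ((P : Subgroup H).equivMapOfInjective H.subtype H.subtype_injective).symm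
      ((P : Subgroup H).equivMapOfInjective H.subtype H.subtype_injective).symm.surjective
  rcases pgroup_fpf_structure _ K hK.ne_bot hRK hfpf hRp with hc | ⟨-, n, ⟨e⟩⟩
  · exact absurd hc hncyc
  have hn0 : n ≠ 0 := by
    rintro rfl
    apply hncyc
    haveI := QuaternionGroup.quaternionGroup_one_isCyclic
    rw [pow_zero] at e
    exact isCyclic_of_surjective e.symm e.symm.surjective
  obtain ⟨n', rfl⟩ := Nat.exists_eq_succ_of_ne_zero hn0
  obtain ⟨i₀, j₀, h1, h2, h3, h4⟩ := exists_pair_quaternion n'
  have hcoe : ∀ x y : QuaternionGroup (2 ^ (n' + 1)),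
      ((e.symm (x * y) : (P : Subgroup H).map H.subtype) : L) =
        (e.symm x : L) * (e.symm y : L) := by
    intro x y
    rw [map_mul, Subgroup.coe_mul]
  have hres := frob_square hK (i := (e.symm i₀ : L)) (j := (e.symm j₀ : L)) (hRH (e.symm i₀).2)
    (by rw [← hcoe, ← hcoe, h1])
    (by rw [← hcoe, ← hcoe, h2])
    (by
      rw [← hcoe]
      intro h0
      apply h3
      have : e.symm (i₀ * i₀) = 1 := Subtype.ext h0
      exact (MulEquiv.map_eq_one_iff e.symm).mp this)
    (by
      rw [← hcoe, ← hcoe, h4, map_one]; rfl)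
  have hcard : Nat.card (Cfsg.frobeniusKernel H) = Nat.card K := by
    rw [← hK.coe_eq]; rfl
  rw [hcard]
  exact hres

end Cfsg.Agent.S4296
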