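import Mathlib
import Cfsg.Statements.S4295
import Cfsg.Agent.S4296
import Cfsg.Agent.Lib.Helper7.FrobCons1
import Cfsg.Agent.Lib.Lead.SL23R1
import Cfsg.Agent.Lib.Lead.FrobConj1
import Cfsg.Agent.Lib.Lead.FittingFrattini

set_option autoImplicit false
open Cfsg

namespace Cfsg.Agent.S4295

open Cfsg.Agent.Lib.Helper7.FrobCons Cfsg.Agent.Lib.Lead.SL23R

/-- there is a finite abelian group of order `m` on which `Q₈` acts without fixed points -/
def HasFpf (m : ℕ) : Prop :=
  ∃ (K : Type) (_ : CommGroup K) (_ : Finite K) (φ : QuaternionGroup 2 →* MulAut K),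
    (∀ q : QuaternionGroup 2, q ≠ 1 → ∀ v : K, φ q v = v → v = 1) ∧ Nat.card K = m

theorem hasFpf_one : HasFpf 1 := by
  refine ⟨Unit, inferInstance, inferInstance, 1, ?_, ?_⟩
  · intro q _ v _
    exact Subsingleton.elim _ _
  · exact Nat.card_unique

/-- product action -/
def prodHom {Q K₁ K₂ : Type*} [Group Q] [Group K₁] [Group K₂] (φ₁ : Q →* MulAut K₁)
    (φ₂ : Q →* MulAut K₂) : Q →* MulAut (K₁ × K₂) where
  toFun q := MulEquiv.prodCongr (φ₁ q) (φ₂ q)
  map_one' := by
    apply MulEquiv.ext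
    intro v
    show ((φ₁ 1) v.1, (φ₂ 1) v.2) = v
    rw [map_one, map_one]
    rfl
  map_mul' q r := by
    apply MulEquiv.ext
    intro v
    show ((φ₁ (q * r)) v.1, (φ₂ (q * r)) v.2) = ((φ₁ q) ((φ₁ r) v.1), (φ₂ q) ((φ₂ r) v.2))
    rw [map_mul, map_mul]
    rfl

theorem prodHom_apply {Q K₁ K₂ : Type*} [Group Q] [Group K₁] [Group K₂] (φ₁ : Q →* MulAut K₁)
    (φ₂ : Q →* MulAut K₂) (q : Q) (v : K₁ × K₂) :
    prodHom φ₁ φ₂ q v = (φ₁ q v.1, φ₂ q v.2) := rfl

theorem hasFpf_mul {m₁ m₂ : ℕ} (h₁ : HasFpf m₁) (h₂ : HasFpf m₂) : HasFpf (m₁ * m₂) := by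
  obtain ⟨K₁, i₁, f₁, φ₁, hφ₁, hc₁⟩ := h₁
  obtain ⟨K₂, i₂, f₂, φ₂, hφ₂, hc₂⟩ := h₂
  refine ⟨K₁ × K₂, inferInstance, inferInstance, prodHom φ₁ φ₂, ?_, ?_⟩
  · intro q hq v hv
    rw [prodHom_apply] at hv
    have e1 := congrArg Prod.fst hv
    have e2 := congrArg Prod.snd hv
    simp only at e1 e2
    ext
    · exact hφ₁ q hq _ e1
    · exact hφ₂ q hq _ e2
  · rw [Nat.card_prod, hc₁, hc₂]

section base

variable (R : Type) [CommRing R]

/-- rotation by a quarter turn -/
def rotIadd : (R × R) ≃+ (R × R) where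
  toFun v := (-v.2, v.1)
  invFun v := (v.2, -v.1)
  left_inv v := by ext <;> simp
  right_inv v := by ext <;> simp
  map_add' v w := by ext <;> simp [add_comm]

/-- rotation by a quarter turn -/
def rotI : MulAut (Multiplicative (R × R)) := AddEquiv.toMultiplicative (rotIadd R)

variable {R}

/-- a reflection-like map squaring to `-1` -/
def refJadd (a b : R) (h : a ^ 2 + b ^ 2 = -1) : (R × R) ≃+ (R × R) where
  toFun v := (a * v.1 + b * v.2, b * v.1 - a * v.2)
  invFun v := (-(a * v.1 + b * v.2), -(b * v.1 - a * v.2))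
  left_inv v := by
    ext
    · show -(a * (a * v.1 + b * v.2) + b * (b * v.1 - a * v.2)) = v.1
      linear_combination (-v.1) * h
    · show -(b * (a * v.1 + b * v.2) - a * (b * v.1 - a * v.2)) = v.2
      linear_combination (-v.2) * h
  right_inv v := by
    ext
    · show a * -(a * v.1 + b * v.2) + b * -(b * v.1 - a * v.2) = v.1
      linear_combination (-v.1) * h
    · show b * -(a * v.1 + b * v.2) - a * -(b * v.1 - a * v.2) = v.2
      linear_combination (-v.2) * h
  map_add' v w := by
    ext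
    · show a * (v.1 + w.1) + b * (v.2 + w.2) = (a * v.1 + b * v.2) + (a * w.1 + b * w.2)
      ring
    · show b * (v.1 + w.1) - a * (v.2 + w.2) = (b * v.1 - a * v.2) + (b * w.1 - a * w.2)
      ring

/-- a reflection-like map squaring to `-1` -/
def refJ (a b : R) (h : a ^ 2 + b ^ 2 = -1) : MulAut (Multiplicative (R × R)) :=
  AddEquiv.toMultiplicative (refJadd a b h)

theorem rotI_apply (v : Multiplicative (R × R)) :
    rotI R v = Multiplicative.ofAdd (-v.toAdd.2, v.toAdd.1) := rfl

theorem refJ_apply (a b : R) (h : a ^ 2 + b ^ 2 = -1) (v : Multiplicative (R × R)) :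
    refJ a b h v = Multiplicative.ofAdd
      (a * v.toAdd.1 + b * v.toAdd.2, b * v.toAdd.1 - a * v.toAdd.2) := rfl

theorem rotI_sq_apply (v : Multiplicative (R × R)) :
    (rotI R ^ 2) v = Multiplicative.ofAdd (-v.toAdd) := by
  rw [pow_two, MulAut.mul_apply, rotI_apply, rotI_apply]
  apply Multiplicative.toAdd.injective
  ext <;> simp

theorem rotI_pow : rotI R ^ (2 * 2) = 1 := by
  apply MulEquiv.ext
  intro v
  rw [pow_mul, pow_two (rotI R ^ 2), MulAut.mul_apply, rotI_sq_apply, rotI_sq_apply]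
  apply Multiplicative.toAdd.injective
  simp

theorem refJ_sq (a b : R) (h : a ^ 2 + b ^ 2 = -1) : refJ a b h ^ 2 = rotI R ^ 2 := by
  apply MulEquiv.ext
  intro v
  rw [rotI_sq_apply, pow_two, MulAut.mul_apply, refJ_apply, refJ_apply]
  apply Multiplicative.toAdd.injective
  ext
  · show a * (a * v.toAdd.1 + b * v.toAdd.2) + b * (b * v.toAdd.1 - a * v.toAdd.2) = -v.toAdd.1
    linear_combination v.toAdd.1 * h
  · show b * (a * v.toAdd.1 + b * v.toAdd.2) - a * (b * v.toAdd.1 - a * v.toAdd.2) = -v.toAdd.2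
    linear_combination v.toAdd.2 * h

theorem refJ_conj (a b : R) (h : a ^ 2 + b ^ 2 = -1) :
    refJ a b h * rotI R * (refJ a b h)⁻¹ = (rotI R)⁻¹ := by
  rw [mul_inv_eq_iff_eq_mul, eq_inv_mul_iff_mul_eq]
  apply MulEquiv.ext
  intro v
  rw [MulAut.mul_apply, MulAut.mul_apply, rotI_apply, refJ_apply, rotI_apply, refJ_apply]
  apply Multiplicative.toAdd.injective
  ext
  · show -(b * -v.toAdd.2 - a * v.toAdd.1) = a * v.toAdd.1 + b * v.toAdd.2
    ring
  · show a * -v.toAdd.2 + b * v.toAdd.1 = b * v.toAdd.1 - a * v.toAdd.2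
    ring

/-- the action of `Q₈` on `R × R` -/
noncomputable def quatAct (a b : R) (h : a ^ 2 + b ^ 2 = -1) :
    QuaternionGroup 2 →* MulAut (Multiplicative (R × R)) :=
  quatLift 2 (rotI R) (refJ a b h) rotI_pow (refJ_sq a b h) (refJ_conj a b h)

theorem quat_cases : ∀ q : QuaternionGroup 2, q ≠ 1 →
    q = QuaternionGroup.a 1 ^ 2 ∨ q ^ 2 = QuaternionGroup.a 1 ^ 2 := by
  decide

theorem quatAct_fpf (a b : R) (h : a ^ 2 + b ^ 2 = -1) (h2 : ∀ x : R, x + x = 0 → x = 0)
    (q : QuaternionGroup 2) (hq : q ≠ 1) (v : Multiplicative (R × R))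
    (hv : quatAct a b h q v = v) : v = 1 := by
  have key : (rotI R ^ 2) v = v := by
    have e : quatAct a b h (QuaternionGroup.a 1 ^ 2) = rotI R ^ 2 := by
      rw [map_pow]
      unfold quatAct
      rw [quatLift_a_one]
    rw [← e]
    rcases quat_cases q hq with h1 | h1
    · rw [← h1]; exact hv
    · rw [← h1, map_pow, pow_two, MulAut.mul_apply, hv, hv]
  rw [rotI_sq_apply] at key
  have key' : -v.toAdd = v.toAdd := congrArg Multiplicative.toAdd key
  have e1 := congrArg Prod.fst key'
  have e2 := congrArg Prod.snd key'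
  simp only [Prod.fst_neg, Prod.snd_neg] at e1 e2
  apply Multiplicative.toAdd.injective
  show v.toAdd = 0
  ext
  · apply h2
    nth_rewrite 1 [← e1]
    simp
  · apply h2
    nth_rewrite 1 [← e2]
    simp

end base

theorem hasFpf_prime (p : ℕ) (hp : p.Prime) (hodd : Odd p) : HasFpf (p * p) := by
  haveI : Fact p.Prime := ⟨hp⟩
  obtain ⟨a, b, hab⟩ := ZMod.sq_add_sq p (-1)
  have h2 : ∀ x : ZMod p, x + x = 0 → x = 0 := by
    intro x hx
    have h2' : (2 : ZMod p) ≠ 0 := by
      intro h0
      have : ((2 : ℕ) : ZMod p) = 0 := by exact_mod_cast h0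
      rw [ZMod.natCast_eq_zero_iff] at this
      have h3 : p = 2 := ((Nat.prime_dvd_prime_iff_eq hp Nat.prime_two).mp this)
      rw [h3] at hodd
      exact absurd hodd (by decide)
    have : (2 : ZMod p) * x = 0 := by rw [two_mul]; exact hx
    rcases mul_eq_zero.mp this with h | h
    · exact absurd h h2'
    · exact h
  refine ⟨Multiplicative (ZMod p × ZMod p), inferInstance, inferInstance,
    quatAct a b hab, ?_, ?_⟩
  · intro q hq v hv
    exact quatAct_fpf a b hab h2 q hq v hv
  · rw [Nat.card_congr Multiplicative.toAdd, Nat.card_prod, Nat.card_zmod]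

theorem hasFpf_sq (n : ℕ) : Odd n → HasFpf (n * n) := by
  induction n using Nat.recOnMul with
  | zero => intro h; exact absurd h (by decide)
  | one => intro _; exact hasFpf_one
  | prime p hp => exact hasFpf_prime p hp
  | mul a b iha ihb =>
    intro hab
    rw [Nat.odd_mul] at hab
    have := hasFpf_mul (iha hab.1) (ihb hab.2)
    have e : a * b * (a * b) = a * a * (b * b) := by ring
    rw [e]
    exact this

/-- For a natural number m the following are equivalent: (a) some finite group has a Frobenius complement isomorphic to the quaternion group of order 8 whose Frobenius kernel (the identity together with the elements lying in no conjugate of the complement) has exactly m elements; (b) m is an odd perfect square greater than 1. -/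
theorem result (m : ℕ) :
    (∃ (L : Type) (_ : Group L) (_ : Finite L) (H : Subgroup L), Cfsg.IsFrobeniusComplement H ∧
        Nonempty (H ≃* QuaternionGroup 2) ∧ Nat.card (Cfsg.frobeniusKernel H) = m) ↔
    (Odd m ∧ IsSquare m ∧ 1 < m) := by
  constructor
  · rintro ⟨L, _, _, H, hF, ⟨e⟩, hm⟩
    have hcard : Nat.card H = 2 ^ 3 := by
      rw [Nat.card_congr e.toEquiv, Nat.card_eq_fintype_card, QuaternionGroup.card]
      norm_num
    have hP : IsPGroup 2 H := IsPGroup.of_card hcard
    haveI : Fact (Nat.Prime 2) := ⟨Nat.prime_two⟩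
    have hZ : ∃ (p : ℕ) (_ : Fact p.Prime) (P : Sylow p H), ¬ IsCyclic P := by
      obtain ⟨P⟩ : Nonempty (Sylow 2 H) := inferInstance
      refine ⟨2, inferInstance, P, ?_⟩
      intro hc
      have htop := Cfsg.Agent.Lib.Lead.sylow_eq_top_of_isPGroup hP P
      -- H is then commutative, contradiction
      have hcomm : ∀ x y : H, x * y = y * x := by
        intro x y
        have hx : x ∈ (P : Subgroup H) := by rw [htop]; exact Subgroup.mem_top _
        have hy : y ∈ (P : Subgroup H) := by rw [htop]; exact Subgroup.mem_top _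
        haveI := hc
        have := (IsCyclic.commGroup (α := P)).mul_comm ⟨x, hx⟩ ⟨y, hy⟩
        exact congrArg Subtype.val this
      have hq : ∀ x y : QuaternionGroup 2, x * y = y * x := by
        intro x y
        have := hcomm (e.symm x) (e.symm y)
        rw [← map_mul, ← map_mul] at this
        exact e.symm.injective this
      exact absurd (hq (QuaternionGroup.a 1) (QuaternionGroup.xa 0)) (by decide)
    obtain ⟨h1, h2⟩ := Cfsg.Agent.S4296.result H hF hZ
    rw [hm] at h1 h2
    refine ⟨h1, h2, ?_⟩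
    obtain ⟨K, hK⟩ := Cfsg.Agent.Lib.Lead.exists_frobData hF
    have hne := hK.ne_bot
    have : Nat.card K = m := by
      rw [← hm, ← hK.coe_eq]
      rfl
    rw [← this]
    exact (Subgroup.one_lt_card_iff_ne_bot K).mpr hne
  · rintro ⟨hodd, ⟨n, rfl⟩, hlt⟩
    have hn : Odd n := (Nat.odd_mul.mp hodd).1
    obtain ⟨K, _, _, φ, hφ, hc⟩ := hasFpf_sq n hn
    haveI : Nontrivial K := by
      rw [← Finite.one_lt_card_iff_nontrivial, hc]
      exact hlt
    haveI : Nontrivial (QuaternionGroup 2) :=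
      ⟨⟨QuaternionGroup.a 1, 1, by decide⟩⟩
    haveI : Finite (K ⋊[φ] QuaternionGroup 2) :=
      Finite.of_equiv _ SemidirectProduct.equivProd.symm
    refine ⟨K ⋊[φ] QuaternionGroup 2, inferInstance, inferInstance,
      (SemidirectProduct.inr : QuaternionGroup 2 →* K ⋊[φ] QuaternionGroup 2).range,
      isFrobeniusComplement_range_inr φ hφ, ?_, ?_⟩
    · exact ⟨(MonoidHom.ofInjective SemidirectProduct.inr_injective).symm⟩
    · rw [card_frobeniusKernel φ hφ, hc]

end Cfsg.Agent.S4295
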