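import Cfsg.Statements.S4297
import Cfsg.Agent.Lib.Helper8.FrobeniusConstruct

set_option autoImplicit false

open Cfsg

namespace Cfsg.Agent.S4297

open Cfsg.Agent.Lib.Helper8

section rep

variable {n : ℕ} {F : Type*} [Field F] (z : ZMod (2 * n) → F)

/-- the underlying function of the two-dimensional representation -/
def psiFun : QuaternionGroup n → Matrix (Fin 2) (Fin 2) F
  | QuaternionGroup.a i => !![z i, 0; 0, z (-i)]
  | QuaternionGroup.xa i => !![0, z (-i); -z i, 0]

variable (z0 : z 0 = 1) (zadd : ∀ i j, z (i + j) = z i * z j) (zn : z (n : ZMod (2 * n)) = -1)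

include z0 zadd in
theorem z_mul_neg (i : ZMod (2 * n)) : z i * z (-i) = 1 := by
  rw [← zadd, add_neg_cancel, z0]

include z0 zadd zn in
theorem z_neg_n : z (-(n : ZMod (2 * n))) = -1 := by
  have := z_mul_neg z z0 zadd (n : ZMod (2 * n))
  rw [zn] at this
  have h2 : z (-(n : ZMod (2 * n))) = -(-1 * z (-(n : ZMod (2 * n)))) := by ring
  rw [h2, this]

/-- the two-dimensional representation of the dicyclic group -/
def psi : QuaternionGroup n →* Matrix (Fin 2) (Fin 2) F where
  toFun := psiFun z
  map_one' := by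
    show psiFun z (QuaternionGroup.a 0) = 1
    simp only [psiFun, neg_zero, z0]
    exact Matrix.one_fin_two.symm
  map_mul' := by
    have hnn := z_neg_n z z0 zadd zn
    have zsub : ∀ i j, z (i - j) = z i * z (-j) := by
      intro i j; rw [sub_eq_add_neg, zadd]
    rintro (i | i) (j | j)
    · rw [QuaternionGroup.a_mul_a]
      simp only [psiFun, Matrix.mul_fin_two, neg_add, zadd]
      simp
    · rw [QuaternionGroup.a_mul_xa]
      simp only [psiFun, Matrix.mul_fin_two, neg_sub, zsub]
      ext r c; fin_cases r <;> fin_cases c <;> simp [mul_comm]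
    · rw [QuaternionGroup.xa_mul_a]
      simp only [psiFun, Matrix.mul_fin_two, neg_add, zadd]
      ext r c; fin_cases r <;> fin_cases c <;> simp
    · rw [QuaternionGroup.xa_mul_xa]
      simp only [psiFun, Matrix.mul_fin_two, neg_sub, zsub, neg_add, zadd, zn, hnn]
      ext r c; fin_cases r <;> fin_cases c <;> simp [mul_comm]

include z0 zadd in
theorem psi_fpf (zinj : ∀ i, z i = 1 → i = 0) (h2 : (2 : F) ≠ 0)
    (q : QuaternionGroup n) (hq : q ≠ 1) (v : Fin 2 → F)
    (hv : (psi z z0 zadd zn q).mulVec v = v) : v = 0 := by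
  have key : v 0 = 0 ∧ v 1 = 0 := by
    rcases q with i | i
    · have hi : i ≠ 0 := by
        intro h; apply hq; rw [h]; rfl
      have hni : -i ≠ 0 := by
        intro h; apply hi; simpa using h
      have e0 := congrFun hv 0
      have e1 := congrFun hv 1
      simp only [psi, MonoidHom.coe_mk, OneHom.coe_mk, psiFun, Matrix.mulVec, dotProduct,
        Fin.sum_univ_two, Matrix.of_apply, Matrix.cons_val', Matrix.cons_val_zero,
        Matrix.cons_val_one, Matrix.cons_val_fin_one] at e0 e1
      constructor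
      · have : (z i - 1) * v 0 = 0 := by
          have : z i * v 0 = v 0 := by simpa using e0
          rw [sub_mul, this, one_mul, sub_self]
        rcases mul_eq_zero.mp this with h | h
        · exact absurd (zinj i (sub_eq_zero.mp h)) hi
        · exact h
      · have : (z (-i) - 1) * v 1 = 0 := by
          have : z (-i) * v 1 = v 1 := by simpa using e1
          rw [sub_mul, this, one_mul, sub_self]
        rcases mul_eq_zero.mp this with h | h
        · exact absurd (zinj (-i) (sub_eq_zero.mp h)) hni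
        · exact h
    · have e0 := congrFun hv 0
      have e1 := congrFun hv 1
      simp only [psi, MonoidHom.coe_mk, OneHom.coe_mk, psiFun, Matrix.mulVec, dotProduct,
        Fin.sum_univ_two, Matrix.of_apply, Matrix.cons_val', Matrix.cons_val_zero,
        Matrix.cons_val_one, Matrix.cons_val_fin_one] at e0 e1
      have e0' : z (-i) * v 1 = v 0 := by simpa using e0
      have e1' : -z i * v 0 = v 1 := by simpa using e1
      have hm := z_mul_neg z z0 zadd i
      have h3 : (2 : F) * v 1 = 0 := by
        have : v 1 = -v 1 := by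
          calc v 1 = -z i * (z (-i) * v 1) := by rw [e0', e1']
            _ = -(z i * z (-i)) * v 1 := by ring
            _ = -v 1 := by rw [hm]; ring
        calc (2 : F) * v 1 = v 1 + v 1 := by ring
          _ = v 1 + -v 1 := by rw [← this]
          _ = 0 := by ring
      have h4 : v 1 = 0 := by
        rcases mul_eq_zero.mp h3 with h | h
        · exact absurd h h2
        · exact h
      refine ⟨?_, h4⟩
      rw [← e0', h4, mul_zero]
  funext r
  fin_cases r
  · exact key.1
  · exact key.2

end rep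

theorem result (n : ℕ) (hn : 2 ≤ n) :
    ∃ (L : Type) (_ : Group L) (_ : Finite L) (H : Subgroup L), Cfsg.IsFrobeniusComplement H ∧ Nonempty (H ≃* QuaternionGroup n) := by
  have hn0 : NeZero n := ⟨by omega⟩
  have hm0 : 2 * n ≠ 0 := by omega
  have hm0' : NeZero (2 * n) := ⟨hm0⟩
  obtain ⟨p, hp, hp2, hmod⟩ := Nat.exists_prime_gt_modEq_one (k := 2 * n) 2 hm0
  have hpF : Fact p.Prime := ⟨hp⟩
  have hp0 : NeZero p := ⟨hp.ne_zero⟩
  have hdvd : 2 * n ∣ p - 1 := (Nat.modEq_iff_dvd' hp.one_lt.le).mp hmod.symm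
  obtain ⟨g, hg⟩ := IsCyclic.exists_ofOrder_eq_natCard (α := (ZMod p)ˣ)
  have hcardU : Nat.card (ZMod p)ˣ = p - 1 := by
    rw [Nat.card_eq_fintype_card, ZMod.card_units]
  rw [hcardU] at hg
  have hp1 : p - 1 ≠ 0 := by have := hp.two_le; omega
  have hζ : orderOf (g ^ (orderOf g / (2 * n))) = 2 * n :=
    orderOf_pow_orderOf_div (by rw [hg]; exact hp1) (by rw [hg]; exact hdvd)
  obtain ⟨ζ, hζdef⟩ : ∃ ζ : (ZMod p)ˣ, ζ = g ^ (orderOf g / (2 * n)) := ⟨_, rfl⟩
  rw [← hζdef] at hζ
  -- the function z
  obtain ⟨z, hz⟩ : ∃ z : ZMod (2 * n) → ZMod p, z = fun i => ((ζ ^ i.val : (ZMod p)ˣ) : ZMod p) := ⟨_, rfl⟩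
  have z0 : z 0 = 1 := by
    rw [hz]; simp
  have zadd : ∀ i j, z (i + j) = z i * z j := by
    intro i j
    rw [hz]
    simp only []
    rw [ZMod.val_add, ← Units.val_mul, ← pow_add]
    congr 1
    have := pow_mod_orderOf ζ (i.val + j.val)
    rwa [hζ] at this
  have zinj : ∀ i, z i = 1 → i = 0 := by
    intro i hi
    rw [hz] at hi
    simp only [] at hi
    have h1 : ζ ^ i.val = 1 := Units.ext hi
    have h2 := orderOf_dvd_of_pow_eq_one h1
    rw [hζ] at h2
    have h3 : i.val < 2 * n := ZMod.val_lt i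
    have h4 : i.val = 0 := Nat.eq_zero_of_dvd_of_lt h2 h3
    exact (ZMod.val_eq_zero i).mp h4
  have zn : z (n : ZMod (2 * n)) = -1 := by
    have h1 : z (n : ZMod (2 * n)) * z (n : ZMod (2 * n)) = 1 := by
      rw [← zadd, ← z0]
      congr 1
      have : ((n : ZMod (2 * n)) + n) = ((2 * n : ℕ) : ZMod (2 * n)) := by push_cast; ring
      rw [this, ZMod.natCast_self]
    rcases mul_self_eq_one_iff.mp h1 with h | h
    · exfalso
      have := zinj _ h
      rw [ZMod.natCast_eq_zero_iff] at this
      have := Nat.le_of_dvd (by omega) this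
      omega
    · exact h
  have h2 : (2 : ZMod p) ≠ 0 := by
    intro h
    have : ((2 : ℕ) : ZMod p) = 0 := by exact_mod_cast h
    rw [ZMod.natCast_eq_zero_iff] at this
    have := Nat.le_of_dvd (by omega) this
    omega
  exact exists_frobenius_of_fpf_matrix (psi z z0 zadd zn)
    (fun q hq v hv => psi_fpf z z0 zadd zn zinj h2 q hq v hv)

end Cfsg.Agent.S4297
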