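import Cfsg.Statements.S4298
import Cfsg.Agent.Lib.Helper8.FrobeniusConstruct

set_option autoImplicit false

open Cfsg

namespace Cfsg.Agent.S4298

open Cfsg.Agent.Lib.Helper8

/-- table of an embedding of SL(2,3) into SL(2,5), indexed by the entries of the matrix -/
def tbl : List (ZMod 5 × ZMod 5 × ZMod 5 × ZMod 5) :=
  [(1, 0, 0, 1), (1, 0, 0, 1), (1, 0, 0, 1), (1, 0, 0, 1), (1, 0, 0, 1), (1, 0, 0, 1), (1, 0, 0, 1), (1, 0, 0, 1), (1, 0, 0, 1), (1, 0, 0, 1), (1, 0, 0, 1), (1, 0, 0, 1), (1, 0, 0, 1), (1, 0, 0, 1), (1, 0, 0, 1), (0, 1, 4, 0), (4, 1, 2, 2), (1, 3, 4, 3), (1, 0, 0, 1), (1, 0, 0, 1), (1, 0, 0, 1), (0, 4, 1, 0), (4, 2, 1, 2), (1, 4, 3, 3), (1, 0, 0, 1), (1, 0, 0, 1), (1, 0, 0, 1), (1, 0, 0, 1), (1, 0, 0, 1), (1, 0, 0, 1), (1, 0, 0, 1), (1, 1, 2, 3), (1, 0, 0, 1), (1, 0, 0, 1), (3, 4, 3, 1), (1, 0, 0, 1), (1, 0, 0, 1), (1, 2, 1, 3), (1, 0, 0, 1), (1,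 0, 0, 1), (1, 0, 0, 1), (2, 0, 0, 3), (2, 3, 4, 4), (1, 0, 0, 1), (1, 0, 0, 1), (1, 0, 0, 1), (3, 3, 4, 1), (1, 0, 0, 1), (2, 4, 3, 4), (1, 0, 0, 1), (1, 0, 0, 1), (1, 0, 0, 1), (1, 0, 0, 1), (0, 3, 3, 0), (1, 0, 0, 1), (1, 0, 0, 1), (4, 0, 0, 4), (1, 0, 0, 1), (1, 0, 0, 1), (2, 1, 2, 4), (1, 0, 0, 1), (1, 0, 0, 1), (4, 4, 3, 2), (1, 0, 0, 1), (1, 0, 0, 1), (2, 2, 1, 4), (1, 0, 0, 1), (0, 2, 2, 0), (1, 0, 0, 1), (3, 1, 2, 1), (1, 0, 0, 1), (1, 0, 0, 1), (1, 0, 0, 1), (1, 0, 0, 1), (4, 3, 4, 2), (3, 2, 1, 1), (1, 0, 0, 1), (1, 0, 0, 1), (1, 0, 0, 1), (3, 0, 0, 2), (1, 0, 0, 1)]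

/-- the image of the matrix with the given entries -/
def psiTup (a b c d : ZMod 3) : ZMod 5 × ZMod 5 × ZMod 5 × ZMod 5 :=
  tbl.getD (a.val * 27 + b.val * 9 + c.val * 3 + d.val) (1, 0, 0, 1)

/-- product of 2×2 matrices given as tuples -/
def tupMul (s t : ZMod 5 × ZMod 5 × ZMod 5 × ZMod 5) : ZMod 5 × ZMod 5 × ZMod 5 × ZMod 5 :=
  (s.1 * t.1 + s.2.1 * t.2.2.1, s.1 * t.2.1 + s.2.1 * t.2.2.2,
   s.2.2.1 * t.1 + s.2.2.2 * t.2.2.1, s.2.2.1 * t.2.1 + s.2.2.2 * t.2.2.2)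

theorem mul_ok : ∀ a b c d a' b' c' d' : ZMod 3, a * d - b * c = 1 → a' * d' - b' * c' = 1 →
    psiTup (a * a' + b * c') (a * b' + b * d') (c * a' + d * c') (c * b' + d * d') =
      tupMul (psiTup a b c d) (psiTup a' b' c' d') := by
  decide +kernel

theorem fpf_ok : ∀ a b c d : ZMod 3, a * d - b * c = 1 → ¬ (a = 1 ∧ b = 0 ∧ c = 0 ∧ d = 1) →
    ∀ x y : ZMod 5, (psiTup a b c d).1 * x + (psiTup a b c d).2.1 * y = x →
      (psiTup a b c d).2.2.1 * x + (psiTup a b c d).2.2.2 * y = y → x = 0 ∧ y = 0 := by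
  decide +kernel

/-- the matrix attached to a tuple -/
def toMat (t : ZMod 5 × ZMod 5 × ZMod 5 × ZMod 5) : Matrix (Fin 2) (Fin 2) (ZMod 5) :=
  !![t.1, t.2.1; t.2.2.1, t.2.2.2]

theorem toMat_tupMul (s t : ZMod 5 × ZMod 5 × ZMod 5 × ZMod 5) :
    toMat (tupMul s t) = toMat s * toMat t := by
  simp only [toMat, tupMul, Matrix.mul_fin_two]

/-- the underlying function of the embedding -/
def psiFun (A : Matrix.SpecialLinearGroup (Fin 2) (ZMod 3)) : Matrix (Fin 2) (Fin 2) (ZMod 5) :=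
  toMat (psiTup (A 0 0) (A 0 1) (A 1 0) (A 1 1))

theorem det_eq (A : Matrix.SpecialLinearGroup (Fin 2) (ZMod 3)) :
    A 0 0 * A 1 1 - A 0 1 * A 1 0 = 1 := by
  have := A.2
  rw [Matrix.det_fin_two] at this
  exact this

/-- the embedding of SL(2,3) into 2×2 matrices over `ZMod 5` -/
def psi : Matrix.SpecialLinearGroup (Fin 2) (ZMod 3) →* Matrix (Fin 2) (Fin 2) (ZMod 5) where
  toFun := psiFun
  map_one' := by
    show toMat (psiTup ((1 : Matrix.SpecialLinearGroup (Fin 2) (ZMod 3)) 0 0) ((1 : Matrix.SpecialLinearGroup (Fin 2) (ZMod 3)) 0 1) ((1 : Matrix.SpecialLinearGroup (Fin 2) (ZMod 3)) 1 0) ((1 : Matrix.SpecialLinearGroup (Fin 2) (ZMod 3)) 1 1)) = 1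
    simp only [Matrix.SpecialLinearGroup.coe_one, Matrix.one_apply_eq, ne_eq, zero_ne_one,
      not_false_eq_true, Matrix.one_apply_ne, one_ne_zero]
    have : psiTup 1 0 0 1 = (1, 0, 0, 1) := by decide +kernel
    rw [this]
    simp only [toMat]
    exact Matrix.one_fin_two.symm
  map_mul' A B := by
    show toMat _ = toMat _ * toMat _
    rw [← toMat_tupMul, ← mul_ok _ _ _ _ _ _ _ _ (det_eq A) (det_eq B)]
    simp only [Matrix.SpecialLinearGroup.coe_mul, Matrix.mul_apply, Fin.sum_univ_two]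

theorem psi_fpf (A : Matrix.SpecialLinearGroup (Fin 2) (ZMod 3)) (hA : A ≠ 1)
    (v : Fin 2 → ZMod 5) (hv : (psi A).mulVec v = v) : v = 0 := by
  have hne : ¬ (A 0 0 = 1 ∧ A 0 1 = 0 ∧ A 1 0 = 0 ∧ A 1 1 = 1) := by
    rintro ⟨h00, h01, h10, h11⟩
    apply hA
    ext i j
    fin_cases i <;> fin_cases j <;> simp [h00, h01, h10, h11]
  have e0 := congrFun hv 0
  have e1 := congrFun hv 1
  simp only [psi, MonoidHom.coe_mk, OneHom.coe_mk, psiFun, toMat, Matrix.mulVec, dotProduct,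
    Fin.sum_univ_two, Matrix.of_apply, Matrix.cons_val', Matrix.cons_val_zero,
    Matrix.cons_val_one, Matrix.cons_val_fin_one] at e0 e1
  have := fpf_ok _ _ _ _ (det_eq A) hne (v 0) (v 1) e0 e1
  funext r
  fin_cases r
  · exact this.1
  · exact this.2

theorem result :
    ∃ (L : Type) (_ : Group L) (_ : Finite L) (H : Subgroup L), Cfsg.IsFrobeniusComplement H ∧ Nonempty (H ≃* Matrix.SpecialLinearGroup (Fin 2) (ZMod 3)) := by
  have hnt : Nontrivial (Matrix.SpecialLinearGroup (Fin 2) (ZMod 3)) := by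
    refine ⟨⟨⟨!![1, 1; 0, 1], by simp [Matrix.det_fin_two]⟩, 1, ?_⟩⟩
    intro h
    have := congrArg (fun A : Matrix.SpecialLinearGroup (Fin 2) (ZMod 3) => A 0 1) h
    simp at this
  have h15 : Fact (1 < 5) := ⟨by norm_num⟩
  exact exists_frobenius_of_fpf_matrix psi psi_fpf

end Cfsg.Agent.S4298
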