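import Cfsg.Statements.S4299
import Cfsg.Agent.Lib.Helper8.FrobeniusConstruct

set_option autoImplicit false

open Cfsg

namespace Cfsg.Agent.S4299

open Cfsg.Agent.Lib.Helper8

/-- multiplication action of a group of units on the additive group of `ZMod p` -/
noncomputable def phi (p : ℕ) (U : Subgroup (ZMod p)ˣ) : U →* MulAut (Multiplicative (ZMod p)) :=
  (MulAutMultiplicative (ZMod p)).symm.toMonoidHom.comp ((AddAut.mulLeft (R := ZMod p)).comp U.subtype)

theorem phi_apply (p : ℕ) (U : Subgroup (ZMod p)ˣ) (u : U) (a : Multiplicative (ZMod p)) :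
    phi p U u a = Multiplicative.ofAdd (((u : (ZMod p)ˣ) : ZMod p) * Multiplicative.toAdd a) := rfl

theorem result {C : Type*} [Group C] [Finite C] [IsCyclic C] [Nontrivial C] :
    ∃ (L : Type) (_ : Group L) (_ : Finite L) (H : Subgroup L), Cfsg.IsFrobeniusComplement H ∧ Nonempty (C ≃* H) := by
  have hn2 : 1 < Nat.card C := Finite.one_lt_card
  obtain ⟨p, hp, -, hmod⟩ := Nat.exists_prime_gt_modEq_one (k := Nat.card C) 0 (by omega)
  have hpF : Fact p.Prime := ⟨hp⟩
  have hdvd : Nat.card C ∣ p - 1 := (Nat.modEq_iff_dvd' hp.one_lt.le).mp hmod.symm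
  obtain ⟨g, hg⟩ := IsCyclic.exists_ofOrder_eq_natCard (α := (ZMod p)ˣ)
  have hcardU : Nat.card (ZMod p)ˣ = p - 1 := by
    rw [Nat.card_eq_fintype_card, ZMod.card_units]
  rw [hcardU] at hg
  have hp1 : p - 1 ≠ 0 := by have := hp.two_le; omega
  have hζ : orderOf (g ^ (orderOf g / Nat.card C)) = Nat.card C :=
    orderOf_pow_orderOf_div (by rw [hg]; exact hp1) (by rw [hg]; exact hdvd)
  obtain ⟨ζ, hζdef⟩ : ∃ ζ : (ZMod p)ˣ, ζ = g ^ (orderOf g / Nat.card C) := ⟨_, rfl⟩
  rw [← hζdef] at hζ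
  obtain ⟨U, hU⟩ : ∃ U : Subgroup (ZMod p)ˣ, U = Subgroup.zpowers ζ := ⟨_, rfl⟩
  have hUcard : Nat.card U = Nat.card C := by rw [hU, Nat.card_zpowers, hζ]
  have hUcyc : IsCyclic U := by rw [hU]; infer_instance
  have hUnt : Nontrivial U := by
    rw [← Finite.one_lt_card_iff_nontrivial, hUcard]; exact hn2
  have hNnt : Nontrivial (Multiplicative (ZMod p)) := by
    have : Nontrivial (ZMod p) := inferInstance
    exact this
  have hfpf : ∀ u : U, u ≠ 1 → ∀ a : Multiplicative (ZMod p), phi p U u a = a → a = 1 := by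
    intro u hu a ha
    rw [phi_apply] at ha
    have h1 : ((u : (ZMod p)ˣ) : ZMod p) * Multiplicative.toAdd a = Multiplicative.toAdd a := by
      have := congrArg Multiplicative.toAdd ha
      simpa using this
    have h2 : (((u : (ZMod p)ˣ) : ZMod p) - 1) * Multiplicative.toAdd a = 0 := by
      rw [sub_mul, h1, one_mul, sub_self]
    rcases mul_eq_zero.mp h2 with h3 | h3
    · exfalso
      apply hu
      apply Subtype.ext
      apply Units.ext
      rw [sub_eq_zero] at h3
      rw [h3]; rfl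
    · have : a = Multiplicative.ofAdd (Multiplicative.toAdd a) := rfl
      rw [this, h3]; rfl
  refine ⟨Multiplicative (ZMod p) ⋊[phi p U] U, inferInstance, inferInstance,
    (SemidirectProduct.inr : U →* Multiplicative (ZMod p) ⋊[phi p U] U).range,
    isFrobeniusComplement_inr_range (phi p U) hfpf, ⟨?_⟩⟩
  exact (mulEquivOfCyclicCardEq hUcard.symm).trans (inrRangeEquiv (phi p U))

end Cfsg.Agent.S4299
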