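import Cfsg.Statements.S4300

set_option autoImplicit false

open Cfsg

namespace Cfsg.Agent.S4300

theorem result {G : Type*} [Group G] {X : Type*} [MulAction G X] [FaithfulSMul G X]
    (hprim : MulAction.IsPreprimitive G X) (x : X) (hsimple : IsSimpleGroup (MulAction.stabilizer G x)) :
    IsSimpleGroup G ∨ ∃ N : Subgroup G, N.Normal ∧ N ≠ ⊥ ∧ N ≠ ⊤ ∧
      MulAction.IsPretransitive N X ∧ ∀ y : X, MulAction.stabilizer N y = ⊥ := by
  by_cases hs : IsSimpleGroup G
  · left; exact hs
  right
  have hntS : Nontrivial (MulAction.stabilizer G x) := hsimple.toNontrivial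
  have hnt : Nontrivial G := by
    obtain ⟨a, b, hab⟩ := hntS.exists_pair_ne
    exact ⟨⟨a.1, b.1, fun h => hab (Subtype.ext h)⟩⟩
  obtain ⟨N, hNn, hNbot, hNtop⟩ : ∃ N : Subgroup G, N.Normal ∧ N ≠ ⊥ ∧ N ≠ ⊤ := by
    by_contra hcon
    push Not at hcon
    apply hs
    refine { exists_pair_ne := hnt.exists_pair_ne, eq_bot_or_eq_top_of_normal := ?_ }
    intro H hH
    by_cases h : H = ⊥
    · left; exact h
    · right; exact hcon H hH h
  have hfix : MulAction.fixedPoints N X ≠ Set.univ := by
    intro h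
    apply hNbot
    rw [Subgroup.eq_bot_iff_forall]
    intro n hn
    apply FaithfulSMul.eq_of_smul_eq_smul (α := X)
    intro y
    have hy : y ∈ MulAction.fixedPoints N X := by rw [h]; exact Set.mem_univ y
    have := hy ⟨n, hn⟩
    rw [one_smul]
    exact this
  have htrans : MulAction.IsPretransitive N X :=
    MulAction.IsQuasiPreprimitive.isPretransitive_of_normal (G := G) (X := X) hfix
  refine ⟨N, hNn, hNbot, hNtop, htrans, ?_⟩
  have hnormal : (N.subgroupOf (MulAction.stabilizer G x)).Normal := hNn.subgroupOf _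
  rcases hnormal.eq_bot_or_eq_top with h | h
  · -- N ∩ G_x = 1
    rw [Subgroup.subgroupOf_eq_bot, Subgroup.disjoint_def] at h
    intro y
    obtain ⟨g, rfl⟩ := MulAction.exists_smul_eq G x y
    rw [Subgroup.eq_bot_iff_forall]
    intro n hn
    rw [MulAction.mem_stabilizer_iff] at hn
    have hn' : (n : G) • g • x = g • x := hn
    have h1 : g⁻¹ * (n : G) * g ∈ N := hNn.conj_mem' _ n.2 g
    have h2 : g⁻¹ * (n : G) * g ∈ MulAction.stabilizer G x := by
      rw [MulAction.mem_stabilizer_iff, mul_smul, mul_smul, hn', inv_smul_smul]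
    have h3 := h h1 h2
    apply Subtype.ext
    have h4 : (n : G) = g * (g⁻¹ * (n : G) * g) * g⁻¹ := by group
    rw [h4, h3]; simp
  · -- G_x ≤ N, so N = ⊤
    exfalso
    rw [Subgroup.subgroupOf_eq_top] at h
    apply hNtop
    rw [eq_top_iff]
    intro g _
    obtain ⟨n, hn⟩ := MulAction.exists_smul_eq N x (g • x)
    have hn' : (n : G) • x = g • x := hn
    have h1 : (n : G)⁻¹ * g ∈ MulAction.stabilizer G x := by
      rw [MulAction.mem_stabilizer_iff, mul_smul, ← hn', inv_smul_smul]
    have h2 : g = (n : G) * ((n : G)⁻¹ * g) := by group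
    rw [h2]
    exact N.mul_mem n.2 (h h1)

end Cfsg.Agent.S4300
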