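import Cfsg.Statements.S4301

set_option autoImplicit false

open Cfsg

namespace Cfsg.Agent.S4301

theorem result {X : Type*} (G : Subgroup (Equiv.Perm (Option X))) (hfix : ∀ f ∈ G, f none = none)
    (k : ℕ) (hk : 2 ≤ k) (hkX : Nonempty (Fin k ↪ X))
    (htrans : ∀ a b : Fin k ↪ X, ∃ f ∈ G, ∀ i, f (some (a i)) = some (b i))
    (h g : Equiv.Perm (Option X)) (hg : g ∈ G) (x y : X)
    (h1 : h none = some x) (h2 : h (some x) = none) (h3 : h (some y) = some y)
    (h4 : g (some x) = some y) (h5 : g (some y) = some x)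
    (h6 : (g * h) ^ 3 ∈ G) (h7 : h ^ 2 ∈ G)
    (h8 : ∀ f ∈ G, f (some x) = some x → h * f * h ∈ G ∧ (h * f * h) (some x) = some x) :
    (∀ f ∈ Subgroup.closure ((G : Set (Equiv.Perm (Option X))) ∪ {h}), f none = none ↔ f ∈ G) ∧
      MulAction.IsMultiplyPretransitive (Subgroup.closure ((G : Set (Equiv.Perm (Option X))) ∪ {h})) (Option X) (k + 1) := by
  classical
  obtain ⟨e⟩ := hkX
  have hxy : x ≠ y := by
    intro hxy
    rw [hxy, h3] at h2
    exact Option.some_ne_none _ h2
  -- elements of G map points of X to points of X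
  have hsome : ∀ f ∈ G, ∀ w : X, ∃ w', f (some w) = some w' := by
    intro f hf w
    rcases hfw : f (some w) with _ | w'
    · exfalso
      have h0 := hfix f hf
      rw [← h0] at hfw
      exact Option.some_ne_none _ (f.injective hfw)
    · exact ⟨w', rfl⟩
  obtain ⟨i0, hi0⟩ : ∃ i0 : Fin k, i0 = ⟨0, by omega⟩ := ⟨_, rfl⟩
  obtain ⟨i1, hi1⟩ : ∃ i1 : Fin k, i1 = ⟨1, by omega⟩ := ⟨_, rfl⟩
  have hi01 : i0 ≠ i1 := by
    rw [hi0, hi1]; simp [Fin.ext_iff]
  have T1 : ∀ x1 y1 : X, ∃ f ∈ G, f (some x1) = some y1 := by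
    intro x1 y1
    obtain ⟨f, hf, hfa⟩ := htrans (e.setValue i0 x1) (e.setValue i0 y1)
    refine ⟨f, hf, ?_⟩
    have := hfa i0
    rwa [Function.Embedding.setValue_eq, Function.Embedding.setValue_eq] at this
  have T2 : ∀ x1 x2 y1 y2 : X, x1 ≠ x2 → y1 ≠ y2 →
      ∃ f ∈ G, f (some x1) = some y1 ∧ f (some x2) = some y2 := by
    intro x1 x2 y1 y2 hx hy
    have key : ∀ z1 z2 : X, z1 ≠ z2 → ((e.setValue i0 z1).setValue i1 z2) i0 = z1 ∧
        ((e.setValue i0 z1).setValue i1 z2) i1 = z2 := by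
      intro z1 z2 hz
      refine ⟨?_, Function.Embedding.setValue_eq _ _ _⟩
      rw [Function.Embedding.setValue_eq_of_ne hi01]
      · exact Function.Embedding.setValue_eq _ _ _
      · rw [Function.Embedding.setValue_eq]; exact hz
    obtain ⟨f, hf, hfa⟩ := htrans ((e.setValue i0 x1).setValue i1 x2) ((e.setValue i0 y1).setValue i1 y2)
    refine ⟨f, hf, ?_, ?_⟩
    · have := hfa i0
      rwa [(key x1 x2 hx).1, (key y1 y2 hy).1] at this
    · have := hfa i1
      rwa [(key x1 x2 hx).2, (key y1 y2 hy).2] at this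
  have hh2x : (h ^ 2) (some x) = some x := by
    rw [pow_two, Equiv.Perm.mul_apply, h2, h1]
  have F5a : ∀ f ∈ G, f (some x) = some x → h * f * h⁻¹ ∈ G := by
    intro f hf hfx
    have e1 : h * f * h⁻¹ = (h * f * h) * (h ^ 2)⁻¹ := by rw [pow_two]; group
    rw [e1]
    exact G.mul_mem (h8 f hf hfx).1 (G.inv_mem h7)
  have F5b : ∀ f ∈ G, f (some x) = some x → h⁻¹ * f * h ∈ G := by
    intro f hf hfx
    have e1 : h⁻¹ * f * h = (h ^ 2)⁻¹ * (h * f * h) := by rw [pow_two]; group
    rw [e1]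
    exact G.mul_mem (G.inv_mem h7) (h8 f hf hfx).1
  -- double coset decomposition
  have F6 : ∀ f ∈ G, f (some x) = some x ∨ ∃ c ∈ G, c (some x) = some x ∧ ∃ d ∈ G,
      d (some x) = some x ∧ f = c * g * d := by
    intro f hf
    by_cases hfx : f (some x) = some x
    · left; exact hfx
    · right
      obtain ⟨w, hw⟩ := hsome f hf x
      have hwx : x ≠ w := by
        intro h0; apply hfx; rw [hw, h0]
      obtain ⟨c, hc, hcx, hcy⟩ := T2 x y x w hxy hwx
      refine ⟨c, hc, hcx, g⁻¹ * c⁻¹ * f, G.mul_mem (G.mul_mem (G.inv_mem hg) (G.inv_mem hc)) hf, ?_, ?_⟩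
      · rw [Equiv.Perm.mul_apply, Equiv.Perm.mul_apply, hw]
        have : c⁻¹ (some w) = some y := by rw [Equiv.Perm.inv_eq_iff_eq]; exact hcy.symm
        rw [this, Equiv.Perm.inv_eq_iff_eq]; exact h4.symm
      · group
  -- h g h ∈ G h G
  have F7 : h * g * h = (g⁻¹ * (g * h) ^ 3) * h * ((h ^ 2)⁻¹ * g⁻¹) := by
    simp only [pow_succ, pow_zero]
    group
  obtain ⟨S, hS⟩ : ∃ S : Equiv.Perm (Option X) → Prop,
      S = fun f => f ∈ G ∨ ∃ a ∈ G, ∃ b ∈ G, f = a * h * b := ⟨_, rfl⟩
  have F8 : ∀ f ∈ G, S (h * f * h) := by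
    intro f hf
    rw [hS]
    rcases F6 f hf with hfx | ⟨c, hc, hcx, d, hd, hdx, rfl⟩
    · left; exact (h8 f hf hfx).1
    · right
      refine ⟨(h * c * h⁻¹) * (g⁻¹ * (g * h) ^ 3),
        G.mul_mem (F5a c hc hcx) (G.mul_mem (G.inv_mem hg) h6),
        ((h ^ 2)⁻¹ * g⁻¹) * (h⁻¹ * d * h),
        G.mul_mem (G.mul_mem (G.inv_mem h7) (G.inv_mem hg)) (F5b d hd hdx), ?_⟩
      have e1 : h * (c * g * d) * h = (h * c * h⁻¹) * (h * g * h) * (h⁻¹ * d * h) := by group
      rw [e1, F7]
      simp only [mul_assoc]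
  have hinv : h⁻¹ = h * (h ^ 2)⁻¹ := by rw [pow_two]; group
  have F9 : ∀ f ∈ Subgroup.closure ((G : Set (Equiv.Perm (Option X))) ∪ {h}), S f := by
    intro f hf
    induction hf using Subgroup.closure_induction with
    | mem f hf =>
      rw [hS]
      rcases hf with hf | hf
      · left; exact hf
      · right
        rw [Set.mem_singleton_iff] at hf
        exact ⟨1, G.one_mem, 1, G.one_mem, by rw [hf]; group⟩
    | one => rw [hS]; left; exact G.one_mem
    | mul p q _ _ hp hq =>
      rw [hS] at hp hq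
      rcases hp with hp | ⟨a, ha, b, hb, rfl⟩
      · rcases hq with hq | ⟨a', ha', b', hb', rfl⟩
        · rw [hS]; left; exact G.mul_mem hp hq
        · rw [hS]; right
          exact ⟨p * a', G.mul_mem hp ha', b', hb', by group⟩
      · rcases hq with hq | ⟨a', ha', b', hb', rfl⟩
        · rw [hS]; right
          exact ⟨a, ha, b * q, G.mul_mem hb hq, by group⟩
        · have h0 := F8 (b * a') (G.mul_mem hb ha')
          rw [hS] at h0
          have e1 : a * h * b * (a' * h * b') = a * (h * (b * a') * h) * b' := by group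
          rw [e1]
          rcases h0 with h0 | ⟨a'', ha'', b'', hb'', h0⟩
          · rw [hS]; left
            exact G.mul_mem (G.mul_mem ha h0) hb'
          · rw [hS]; right
            rw [h0]
            exact ⟨a * a'', G.mul_mem ha ha'', b'' * b', G.mul_mem hb'' hb', by group⟩
    | inv p _ hp =>
      rw [hS] at hp
      rcases hp with hp | ⟨a, ha, b, hb, rfl⟩
      · rw [hS]; left; exact G.inv_mem hp
      · rw [hS]; right
        refine ⟨b⁻¹, G.inv_mem hb, (h ^ 2)⁻¹ * a⁻¹, G.mul_mem (G.inv_mem h7) (G.inv_mem ha), ?_⟩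
        have e1 : (a * h * b)⁻¹ = b⁻¹ * h⁻¹ * a⁻¹ := by group
        rw [e1, hinv]
        simp only [mul_assoc]
  have hGK : ∀ f ∈ G, f ∈ Subgroup.closure ((G : Set (Equiv.Perm (Option X))) ∪ {h}) :=
    fun f hf => Subgroup.subset_closure (Or.inl hf)
  have hhK : h ∈ Subgroup.closure ((G : Set (Equiv.Perm (Option X))) ∪ {h}) :=
    Subgroup.subset_closure (Or.inr rfl)
  constructor
  · intro f hf
    constructor
    · intro hfn
      have h0 := F9 f hf
      rw [hS] at h0
      rcases h0 with h0 | ⟨a, ha, b, hb, rfl⟩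
      · exact h0
      · exfalso
        rw [Equiv.Perm.mul_apply, Equiv.Perm.mul_apply, hfix b hb, h1] at hfn
        obtain ⟨w, hw⟩ := hsome a ha x
        rw [hw] at hfn
        exact Option.some_ne_none _ hfn
    · exact hfix f
  · refine ⟨fun a b => ?_⟩
    have hto : ∀ w : Option X, ∃ u ∈ Subgroup.closure ((G : Set (Equiv.Perm (Option X))) ∪ {h}),
        u w = none := by
      intro w
      rcases w with _ | w'
      · exact ⟨1, Subgroup.one_mem _, rfl⟩
      · obtain ⟨f, hf, hfw⟩ := T1 w' x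
        refine ⟨h * f, Subgroup.mul_mem _ hhK (hGK f hf), ?_⟩
        rw [Equiv.Perm.mul_apply, hfw, h2]
    obtain ⟨u, hu, hua⟩ := hto (a 0)
    obtain ⟨v, hv, hvb⟩ := hto (b 0)
    have hane : ∀ i : Fin k, ∃ w : X, u (a i.succ) = some w := by
      intro i
      apply Option.ne_none_iff_exists'.mp
      intro hi
      rw [← hua] at hi
      have := a.injective (u.injective hi)
      exact Fin.succ_ne_zero i this
    have hbne : ∀ i : Fin k, ∃ w : X, v (b i.succ) = some w := by
      intro i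
      apply Option.ne_none_iff_exists'.mp
      intro hi
      rw [← hvb] at hi
      have := b.injective (v.injective hi)
      exact Fin.succ_ne_zero i this
    choose a'' ha'' using hane
    choose b'' hb'' using hbne
    have ha''inj : Function.Injective a'' := by
      intro i j hij
      have : u (a i.succ) = u (a j.succ) := by rw [ha'', ha'', hij]
      exact Fin.succ_injective _ (a.injective (u.injective this))
    have hb''inj : Function.Injective b'' := by
      intro i j hij
      have : v (b i.succ) = v (b j.succ) := by rw [hb'', hb'', hij]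
      exact Fin.succ_injective _ (b.injective (v.injective this))
    obtain ⟨f, hf, hfab⟩ := htrans ⟨a'', ha''inj⟩ ⟨b'', hb''inj⟩
    refine ⟨⟨v⁻¹ * f * u, Subgroup.mul_mem _ (Subgroup.mul_mem _ (Subgroup.inv_mem _ hv) (hGK f hf)) hu⟩, ?_⟩
    ext i : 1
    show (v⁻¹ * f * u) (a i) = b i
    refine Fin.cases ?_ ?_ i
    · rw [Equiv.Perm.mul_apply, Equiv.Perm.mul_apply, hua, hfix f hf, Equiv.Perm.inv_eq_iff_eq, hvb]
    · intro j
      rw [Equiv.Perm.mul_apply, Equiv.Perm.mul_apply, ha'' j]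
      have := hfab j
      simp only [Function.Embedding.coeFn_mk] at this
      rw [this, ← hb'' j, Equiv.Perm.inv_eq_iff_eq]

end Cfsg.Agent.S4301
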