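import Cfsg.Statements.S4309

set_option autoImplicit false
open Cfsg

namespace Cfsg.Agent.S4309

theorem step_dvd {G : Type*} [Group G] [Finite G] (H L K : Subgroup G) (hHL : H ≤ L)
    (hN : (H.subgroupOf L).Normal) : (H ⊓ K).relIndex H ∣ (L ⊓ K).relIndex L := by
  set M := L ⊓ K with hM
  have hML : M ≤ L := inf_le_left
  have hHM : H ⊓ K = H ⊓ M := by
    rw [hM, ← inf_assoc, inf_eq_left.mpr hHL]
  have e1 : (H ⊓ K).relIndex H * H.relIndex L = (H ⊓ K).relIndex L :=
    Subgroup.relIndex_mul_relIndex _ _ _ inf_le_left hHL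
  have e2 : (H ⊓ K).relIndex M * M.relIndex L = (H ⊓ K).relIndex L :=
    Subgroup.relIndex_mul_relIndex _ _ _ (by rw [hHM]; exact inf_le_right) hML
  have e3 : (H ⊓ K).relIndex M = H.relIndex M := by
    rw [hHM, Subgroup.inf_relIndex_right]
  have e4 : H.relIndex M ∣ H.relIndex L := by
    have := Subgroup.relIndex_dvd_index_of_normal (H.subgroupOf L) (M.subgroupOf L)
    rwa [Subgroup.relIndex_subgroupOf hML] at this
  obtain ⟨c, hc⟩ := e4
  have hne : H.relIndex M ≠ 0 := Subgroup.index_ne_zero_of_finite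
  rw [e3] at e2
  rw [hc, ← e2] at e1
  have : (H ⊓ K).relIndex H * c = M.relIndex L := by
    have h' : H.relIndex M * ((H ⊓ K).relIndex H * c) = H.relIndex M * M.relIndex L := by
      rw [← e1]; ring
    exact Nat.eq_of_mul_eq_mul_left (Nat.pos_of_ne_zero hne) h'
  exact ⟨c, this.symm⟩

/-- Hall subgroups meet normal subgroups and quotients in Hall subgroups. -/
theorem result {G : Type*} [Group G] [Finite G] (π : Set ℕ)
    (H A : Subgroup G) [A.Normal] (hH : Cfsg.IsPiHall π H) :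
    Cfsg.IsPiHall π ((H ⊓ A).subgroupOf A) ∧ Cfsg.IsPiHall π (H.map (QuotientGroup.mk' A)) := by
  obtain ⟨h1, h2⟩ := hH
  refine ⟨⟨?_, ?_⟩, ⟨?_, ?_⟩⟩
  · intro p hp hdvd
    apply h1 p hp
    have e : Nat.card ((H ⊓ A).subgroupOf A) = Nat.card (H ⊓ A : Subgroup G) :=
      Nat.card_congr (Subgroup.subgroupOfEquivOfLe inf_le_right).toEquiv
    rw [e] at hdvd
    exact dvd_trans hdvd (Subgroup.card_dvd_of_le inf_le_left)
  · intro p hp hpπ hdvd
    apply h2 p hp hpπ
    have e : ((H ⊓ A).subgroupOf A).index = (A ⊓ H).relIndex A := by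
      rw [inf_comm]; rfl
    rw [e] at hdvd
    have hN : (A.subgroupOf ⊤).Normal := inferInstance
    have := step_dvd A ⊤ H le_top hN
    rw [top_inf_eq, Subgroup.relIndex_top_right] at this
    exact dvd_trans hdvd this
  · intro p hp hdvd
    exact h1 p hp (dvd_trans hdvd (Subgroup.card_map_dvd H _))
  · intro p hp hpπ hdvd
    exact h2 p hp hpπ (dvd_trans hdvd (Subgroup.index_map_dvd H (QuotientGroup.mk'_surjective A)))

end Cfsg.Agent.S4309
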