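import Mathlib
import Cfsg.Statements.S4314
import Cfsg.Agent.Lib.Helper7.CM3
import Cfsg.Agent.Lib.Helper7.CM6
import Cfsg.Agent.Lib.Helper7.CM7

set_option autoImplicit false
open Cfsg

namespace Cfsg.Agent.S4314

open Cfsg.Agent.Lib.Helper7 Cfsg.Agent.Lib.Helper7.CM Cfsg.Agent.Lib.Lead
open scoped Pointwise

theorem class_two_of_quotient_comm {G : Type*} [Group G]
    (hab : ∀ a b : G ⧸ Subgroup.center G, a * b = b * a) :
    Subgroup.upperCentralSeries G 2 = ⊤ := by
  rw [eq_top_iff]
  intro x _
  rw [show (2 : ℕ) = 1 + 1 from rfl, Subgroup.mem_upperCentralSeries_succ_iff]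
  intro y
  rw [Subgroup.upperCentralSeries_one]
  apply (QuotientGroup.eq_one_iff _).mp
  rw [commutatorElement_def]
  have h1 := hab ((QuotientGroup.mk' (Subgroup.center G)) x) ((QuotientGroup.mk' (Subgroup.center G)) y)
  have h2 : ((x * y * x⁻¹ * y⁻¹ : G) : G ⧸ Subgroup.center G) =
      (QuotientGroup.mk' (Subgroup.center G)) x * (QuotientGroup.mk' (Subgroup.center G)) y *
        ((QuotientGroup.mk' (Subgroup.center G)) x)⁻¹ * ((QuotientGroup.mk' (Subgroup.center G)) y)⁻¹ := rfl
  rw [h2, h1]
  group

/-- Let `G` be a finite group every conjugacy class of which has size 1 or a prime. Then either `G` is nilpotent of class at most 2, or `G/Z(G)` is a non-abelian group of order `pq` for distinct primes `p, q` (a Frobenius group of order `pq`). -/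
theorem result {G : Type*} [Group G] [Finite G]
    (h : ∀ x : G, (Subgroup.centralizer ({x} : Set G)).index = 1 ∨ ((Subgroup.centralizer ({x} : Set G)).index).Prime) :
    Subgroup.upperCentralSeries G 2 = ⊤ ∨
      ∃ p q : ℕ, p.Prime ∧ q.Prime ∧ p ≠ q ∧ Nat.card (G ⧸ Subgroup.center G) = p * q ∧ ¬ IsMulCommutative (G ⧸ Subgroup.center G) := by
  have hprime : ∀ x : G, x ∉ Subgroup.center G → (Cen x).index.Prime := by
    intro x hx
    rcases h x with h1 | h1
    · exact absurd (Subgroup.index_eq_one.mp h1) (Cen_ne_top hx)
    · exact h1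
  have hCM : IsCM G := fun x hx => isCoatom_of_index_prime _ (hprime x hx)
  by_cases hna : IsMulCommutative G
  · left
    apply class_two_of_quotient_comm
    intro a b
    induction a using QuotientGroup.induction_on with
    | H g =>
      induction b using QuotientGroup.induction_on with
      | H k =>
        rw [← QuotientGroup.mk_mul, ← QuotientGroup.mk_mul, hna.is_comm.comm g k]
  by_cases hnorm : ∀ x : G, x ∉ Subgroup.center G → (Cen x).Normal
  · left
    obtain ⟨p, hp, hab, hexp⟩ := case_normal hCM hna hnorm
    exact class_two_of_quotient_comm hab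
  · push_neg at hnorm
    obtain ⟨x₀, hx₀, hnn⟩ := hnorm
    by_cases hex : ∃ y : G, y ∉ Subgroup.center G ∧ ¬ (Cen y).Normal ∧
        ∀ u ∈ Cen y, ∀ v ∈ Cen y, u * v = v * u
    · obtain ⟨y, hy, hyn, hyab⟩ := hex
      right
      obtain ⟨Kb, hK, hKbco⟩ := case_abelian_struct hCM hy hyn hyab
      haveI hKbn : Kb.Normal := hK.normal
      have hq : Kb.index.Prime := index_prime_of_normal_coatom hKbco
      have hcm := hK.card_mul
      have hci := Subgroup.card_mul_index Kb
      have hKpos : 0 < Nat.card Kb := Nat.card_pos
      have hHcard : Nat.card ((Cen y).map (QuotientGroup.mk' (Subgroup.center G))) = Kb.index := by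
        apply Nat.eq_of_mul_eq_mul_left hKpos
        rw [hcm, hci]
      have hKcard : Nat.card Kb = (Cen y).index := by
        have h1 := Subgroup.card_mul_index ((Cen y).map (QuotientGroup.mk' (Subgroup.center G)))
        have h2 : ((Cen y).map (QuotientGroup.mk' (Subgroup.center G))).index = (Cen y).index := by
          rw [Subgroup.index_map, QuotientGroup.ker_mk', sup_eq_left.mpr (center_le_Cen y),
            MonoidHom.range_eq_top_of_surjective _ (QuotientGroup.mk'_surjective _),
            Subgroup.index_top, mul_one]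
        rw [h2, ← hcm, mul_comm] at h1
        have hHpos : 0 < Nat.card ((Cen y).map (QuotientGroup.mk' (Subgroup.center G))) := Nat.card_pos
        exact (Nat.eq_of_mul_eq_mul_right hHpos h1).symm
      have hp : (Nat.card Kb).Prime := by rw [hKcard]; exact hprime y hy
      refine ⟨Nat.card Kb, Kb.index, hp, hq, ?_, hci.symm, ?_⟩
      · have hcop := hK.coprime
        rw [hHcard] at hcop
        exact (Nat.coprime_primes hp hq).mp hcop
      · intro hcomm
        obtain ⟨hH1, hH2, hH3⟩ := hK.frob
        obtain ⟨g, hg⟩ : ∃ g : G ⧸ Subgroup.center G,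
            g ∉ (Cen y).map (QuotientGroup.mk' (Subgroup.center G)) := by
          by_contra h0
          push_neg at h0
          exact hH2 (eq_top_iff.mpr (fun g _ => h0 g))
        have h1 := hH3 g hg
        have h2 : MulAut.conj g • (Cen y).map (QuotientGroup.mk' (Subgroup.center G)) =
            (Cen y).map (QuotientGroup.mk' (Subgroup.center G)) := by
          ext z
          rw [mem_conj_smul_iff]
          have : g⁻¹ * z * g = z := by
            rw [hcomm.is_comm.comm g⁻¹ z, mul_assoc, inv_mul_cancel, mul_one]
          rw [this]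
        rw [h2, inf_idem] at h1
        exact hH1 h1
    · exfalso
      apply case_nonabelian_false hCM hx₀ hnn
      intro y hy hyn
      by_contra h0
      push_neg at h0
      exact hex ⟨y, hy, hyn, h0⟩

end Cfsg.Agent.S4314
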