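import Mathlib
import Cfsg.Statements.S4325

set_option autoImplicit false

open Cfsg

namespace Cfsg.Agent.S4325

/-- `m` swaps on `r > m + 1` points admit a nonzero invariant rational function vanishing at
a given point. -/
theorem exists_invariant (r m : ℕ) (hm : m + 1 < r) (x y : Fin m → Fin r) (a₀ : Fin r) :
    ∃ v : Fin r → ℚ, v ≠ 0 ∧ v a₀ = 0 ∧ ∀ i, v (x i) = v (y i) := by
  -- the linear map recording the differences and the value at a₀
  let L : (Fin r → ℚ) →ₗ[ℚ] (Option (Fin m) → ℚ) :=
    { toFun := fun v o => match o with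
        | none => v a₀
        | some i => v (x i) - v (y i)
      map_add' := by
        intro v w
        funext o
        cases o with
        | none => simp
        | some i => simp; ring
      map_smul' := by
        intro c v
        funext o
        cases o with
        | none => simp
        | some i => simp; ring }
  have hrank : Module.finrank ℚ (Fin r → ℚ) = r := by simp
  have hrank2 : Module.finrank ℚ (Option (Fin m) → ℚ) = m + 1 := by simp
  have hker : LinearMap.ker L ≠ ⊥ := by
    intro hbot
    have hinj : Function.Injective L := LinearMap.ker_eq_bot.mp hbot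
    have := LinearMap.finrank_le_finrank_of_injective hinj
    rw [hrank, hrank2] at this
    omega
  obtain ⟨v, hv, hv0⟩ := (Submodule.ne_bot_iff _).mp hker
  refine ⟨v, hv0, ?_, ?_⟩
  · have := congrFun (LinearMap.mem_ker.mp hv) none
    exact this
  · intro i
    have := congrFun (LinearMap.mem_ker.mp hv) (some i)
    exact sub_eq_zero.mp this

theorem result (r m : ℕ) (hr : r.Prime)
    (hm : m + 1 < r) (π : Set ℕ) (hπ : ∀ q : ℕ, q.Prime → q < r → q ∈ π) (hrπ : r ∉ π)
    (t : Fin m → Equiv.Perm (Fin r)) (ht : ∀ i, (t i).IsSwap) :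
    Cfsg.IsPiSubgroup π (Subgroup.closure (Set.range t)) ∧ Cfsg.piCore π (Equiv.Perm (Fin r)) = ⊥ := by
  have hrF : Fact r.Prime := ⟨hr⟩
  have hr0 : NeZero r := ⟨hr.ne_zero⟩
  have hcardr : Fintype.card (Fin r) = r := Fintype.card_fin r
  -- primes dividing the order of a subgroup not divisible by r lie in π
  have hprimes : ∀ K : Subgroup (Equiv.Perm (Fin r)), ¬ r ∣ Nat.card K →
      ∀ p : ℕ, p.Prime → p ∣ Nat.card K → p ∈ π := by
    intro K hK p hp hpK
    have h1 : p ∣ Nat.card (Equiv.Perm (Fin r)) := dvd_trans hpK (Subgroup.card_subgroup_dvd_card K)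
    rw [Nat.card_perm, Nat.card_eq_fintype_card, hcardr] at h1
    have h2 : p ≤ r := (Nat.Prime.dvd_factorial hp).mp h1
    have h3 : p ≠ r := by
      intro h; rw [h] at hpK; exact hK hpK
    exact hπ p hp (lt_of_le_of_ne h2 h3)
  constructor
  · apply hprimes
    intro hdvd
    -- an element of order r in the closure
    obtain ⟨σ, hσ⟩ := exists_prime_orderOf_dvd_card' (G := Subgroup.closure (Set.range t)) r hdvd
    have hσ' : orderOf (σ : Equiv.Perm (Fin r)) = r := by rw [Subgroup.orderOf_coe, hσ]
    have hcyc : (σ : Equiv.Perm (Fin r)).IsCycle :=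
      Equiv.Perm.isCycle_of_prime_order'' (by rw [hcardr]; exact hr) (by rw [hσ', hcardr])
    have hsupp : (σ : Equiv.Perm (Fin r)).support = Finset.univ := by
      apply Finset.eq_univ_of_card
      rw [← hcyc.orderOf, hσ', hcardr]
    -- the invariant function
    choose x y hxy using ht
    obtain ⟨v, hv0, hva, hvxy⟩ := exists_invariant r m hm x y 0
    have hinv : ∀ τ ∈ Subgroup.closure (Set.range t), ∀ a, v (τ a) = v a := by
      intro τ hτ
      induction hτ using Subgroup.closure_induction with
      | mem τ h =>
        obtain ⟨i, rfl⟩ := h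
        intro a
        rw [(hxy i).2]
        by_cases h1 : a = x i
        · rw [h1, Equiv.swap_apply_left, hvxy i]
        · by_cases h2 : a = y i
          · rw [h2, Equiv.swap_apply_right, hvxy i]
          · rw [Equiv.swap_apply_of_ne_of_ne h1 h2]
      | one => intro a; rfl
      | mul τ₁ τ₂ _ _ h1 h2 =>
        intro a
        rw [Equiv.Perm.mul_apply, h1, h2]
      | inv τ _ h =>
        intro a
        have := h (τ⁻¹ a)
        have e : τ (τ⁻¹ a) = a := by simp
        rw [e] at this
        exact this.symm
    apply hv0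
    funext a
    have h0 : (σ : Equiv.Perm (Fin r)) 0 ≠ 0 := by
      rw [← Equiv.Perm.mem_support, hsupp]; exact Finset.mem_univ _
    have ha : (σ : Equiv.Perm (Fin r)) a ≠ a := by
      rw [← Equiv.Perm.mem_support, hsupp]; exact Finset.mem_univ _
    obtain ⟨k, hk⟩ := hcyc.exists_zpow_eq h0 ha
    have hmem : ((σ : Equiv.Perm (Fin r)) ^ k) ∈ Subgroup.closure (Set.range t) :=
      Subgroup.zpow_mem _ σ.2 k
    have := hinv _ hmem 0
    rw [hk, hva] at this
    exact this
  · unfold Cfsg.piCore
    rw [sSup_eq_bot]
    rintro N ⟨hNn, hNπ⟩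
    by_contra hNbot
    have hrN : ¬ r ∣ Nat.card N := fun h => hrπ (hNπ r hr h)
    apply hrN
    -- N is transitive
    have hfix : MulAction.fixedPoints N (Fin r) ≠ Set.univ := by
      intro h
      apply hNbot
      rw [eq_bot_iff]
      intro σ hσ
      rw [Subgroup.mem_bot]
      ext a
      have ha : a ∈ MulAction.fixedPoints N (Fin r) := by rw [h]; trivial
      have := ha ⟨σ, hσ⟩
      simpa using congrArg Fin.val this
    have htrans : MulAction.IsPretransitive N (Fin r) :=
      MulAction.IsQuasiPreprimitive.isPretransitive_of_normal hfix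
    have horb : MulAction.orbit N (0 : Fin r) = Set.univ := MulAction.orbit_eq_univ N 0
    have h2 : (MulAction.orbit N (0 : Fin r)).ncard = r := by
      rw [horb, Set.ncard_univ, Nat.card_eq_fintype_card, hcardr]
    have h3 : (MulAction.stabilizer N (0 : Fin r)).index ∣ Nat.card N := Subgroup.index_dvd_card _
    rw [MulAction.index_stabilizer, h2] at h3
    exact h3

end Cfsg.Agent.S4325
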