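import Cfsg.Statements.S4326

set_option autoImplicit false

open Cfsg
open Pointwise

namespace Cfsg.Agent.S4326

section

variable {G : Type*} [Group G]

theorem mem_conj_smul_iff' {H : Subgroup G} {g x : G} :
    x ∈ MulAut.conj g • H ↔ g⁻¹ * x * g ∈ H := by
  rw [Subgroup.mem_pointwise_smul_iff_inv_smul_mem]
  simp [MulAut.smul_def]

/-- the map induced on cosets of `M` by an automorphism fixing `M` pointwise -/
def qmap (M : Subgroup G) (y : MulAut G) (hy : ∀ m ∈ M, y m = m) : Function.End (G ⧸ M) :=
  Quotient.map' (fun g => y g) (by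
    intro a b hab
    rw [QuotientGroup.leftRel_apply] at hab ⊢
    rw [← map_inv, ← map_mul, hy _ hab]; exact hab)

theorem qmap_mk (M : Subgroup G) (y : MulAut G) (hy : ∀ m ∈ M, y m = m) (g : G) :
    qmap M y hy (g : G ⧸ M) = ((y g : G) : G ⧸ M) := rfl

theorem fix_pow (M : Subgroup G) (y : MulAut G) (hy : ∀ m ∈ M, y m = m) (n : ℕ) :
    ∀ m ∈ M, (y ^ n) m = m := by
  induction n with
  | zero => intro m _; simp
  | succ n ih =>
    intro m hm
    rw [pow_succ, MulAut.mul_apply, hy m hm, ih m hm]

theorem qmap_pow (M : Subgroup G) (y : MulAut G) (hy : ∀ m ∈ M, y m = m) (n : ℕ) :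
    (qmap M y hy) ^ n = qmap M (y ^ n) (fix_pow M y hy n) := by
  induction n with
  | zero =>
    funext q
    induction q using QuotientGroup.induction_on with
    | H g => rfl
  | succ n ih =>
    rw [pow_succ, ih]
    funext q
    induction q using QuotientGroup.induction_on with
    | H g =>
      show qmap M (y ^ n) (fix_pow M y hy n) (qmap M y hy (g : G ⧸ M)) = _
      rw [qmap_mk, qmap_mk, qmap_mk, pow_succ, MulAut.mul_apply]

end

theorem result {G : Type*} [Group G] [Finite G]
    (p : ℕ) [Fact p.Prime] (x : MulAut G) (hx : ∃ k : ℕ, orderOf x = p ^ k) (M : Subgroup G)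
    (hM : ∀ g : G, g ∈ M ↔ x g = g) (hp : p ∣ M.index)
    (hself : Subgroup.normalizer (M : Set G) = M ∨ Subgroup.center M = ⊥) :
    ∃ g : G, (∀ y ∈ MulAut.conj g • M, x y ∈ MulAut.conj g • M) ∧ ∃ y ∈ MulAut.conj g • M, x y ≠ y := by
  classical
  obtain ⟨k, hk⟩ := hx
  have hfix : ∀ m ∈ M, x m = m := fun m hm => (hM m).mp hm
  have : Fintype (G ⧸ M) := Fintype.ofFinite _
  have hpow : (qmap M x hfix) ^ p ^ k = 1 := by
    rw [qmap_pow]
    funext q
    induction q using QuotientGroup.induction_on with
    | H g =>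
      rw [qmap_mk]
      have : x ^ p ^ k = 1 := by rw [← hk]; exact pow_orderOf_eq_one x
      rw [this]; rfl
  have hmod := Equiv.Perm.card_fixedPoints_modEq (p := p) hpow
  have hcard : Fintype.card (G ⧸ M) = M.index := by
    rw [Subgroup.index_eq_card, Nat.card_eq_fintype_card]
  rw [hcard] at hmod
  have hdvd : p ∣ Nat.card (Function.fixedPoints (qmap M x hfix)) := by
    have := (Nat.modEq_zero_iff_dvd.mpr hp).symm.trans hmod
    have := (Nat.modEq_zero_iff_dvd.mp this.symm)
    convert this using 1
    rw [Nat.card_eq_fintype_card]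
    exact congrArg (@Fintype.card _) (Subsingleton.elim _ _)
  have h1fix : ((1 : G) : G ⧸ M) ∈ Function.fixedPoints (qmap M x hfix) := by
    show qmap M x hfix ((1 : G) : G ⧸ M) = _
    rw [qmap_mk, map_one]
  have hlt : 1 < Nat.card (Function.fixedPoints (qmap M x hfix)) := by
    have : Nonempty (Function.fixedPoints (qmap M x hfix)) := ⟨⟨_, h1fix⟩⟩
    have hpos : 0 < Nat.card (Function.fixedPoints (qmap M x hfix)) := Nat.card_pos
    have := Nat.le_of_dvd hpos hdvd
    have := (Fact.out : p.Prime).two_le
    omega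
  have hnt : Nontrivial (Function.fixedPoints (qmap M x hfix)) :=
    Finite.one_lt_card_iff_nontrivial.mp hlt
  obtain ⟨⟨q, hq⟩, hq1⟩ := exists_ne (⟨_, h1fix⟩ : Function.fixedPoints (qmap M x hfix))
  obtain ⟨g, rfl⟩ := QuotientGroup.mk_surjective q
  have hgM : g ∉ M := by
    intro h
    apply hq1
    apply Subtype.ext
    show (g : G ⧸ M) = ((1 : G) : G ⧸ M)
    rw [QuotientGroup.eq]
    simpa using M.inv_mem h
  have hm : g⁻¹ * x g ∈ M := by
    have : qmap M x hfix (g : G ⧸ M) = (g : G ⧸ M) := hq
    rw [qmap_mk] at this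
    exact QuotientGroup.eq.mp this.symm
  obtain ⟨m, hmdef⟩ : ∃ m, m = g⁻¹ * x g := ⟨_, rfl⟩
  rw [← hmdef] at hm
  have hxg : x g = g * m := by rw [hmdef]; group
  -- formula for x on the conjugate
  have hform : ∀ y ∈ M, x (g * y * g⁻¹) = g * (m * y * m⁻¹) * g⁻¹ := by
    intro y hy
    rw [map_mul, map_mul, map_inv, hxg, hfix y hy]
    group
  refine ⟨g, ?_, ?_⟩
  · intro y hy
    rw [mem_conj_smul_iff'] at hy ⊢
    have e : y = g * (g⁻¹ * y * g) * g⁻¹ := by group
    rw [e, hform _ hy]
    have e2 : g⁻¹ * (g * (m * (g⁻¹ * y * g) * m⁻¹) * g⁻¹) * g = m * (g⁻¹ * y * g) * m⁻¹ := by group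
    rw [e2]
    exact M.mul_mem (M.mul_mem hm hy) (M.inv_mem hm)
  · by_contra hcon
    push Not at hcon
    rcases hself with hN | hZ
    · -- self-normalizing: the conjugate lies in M hence equals M
      have hle : MulAut.conj g • M ≤ M := by
        intro y hy
        exact (hM y).mpr (hcon y hy)
      have heq : MulAut.conj g • M = M := by
        apply SetLike.coe_injective
        apply Set.eq_of_subset_of_ncard_le hle _ (Set.toFinite _)
        rw [← Nat.card_coe_set_eq, ← Nat.card_coe_set_eq]
        change Nat.card M ≤ Nat.card (MulAut.conj g • M : Subgroup G)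
        exact (Nat.card_congr (Subgroup.equivSMul (MulAut.conj g) M).toEquiv).le
      have : g ∈ Subgroup.normalizer (M : Set G) := by
        rw [Subgroup.mem_normalizer_iff]
        intro h
        constructor
        · intro hh
          rw [← heq, mem_conj_smul_iff']
          have e : g⁻¹ * (g * h * g⁻¹) * g = h := by group
          rw [e]; exact hh
        · intro hh
          rw [← heq, mem_conj_smul_iff'] at hh
          have e : g⁻¹ * (g * h * g⁻¹) * g = h := by group
          rw [e] at hh; exact hh
      rw [hN] at this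
      exact hgM this
    · -- trivial center: m is central in M hence trivial
      have hmc : (⟨m, hm⟩ : M) ∈ Subgroup.center M := by
        rw [Subgroup.mem_center_iff]
        intro y
        apply Subtype.ext
        show (y : G) * m = m * y
        have hy' : g * (y : G) * g⁻¹ ∈ MulAut.conj g • M := by
          rw [mem_conj_smul_iff']
          have e : g⁻¹ * (g * (y : G) * g⁻¹) * g = y := by group
          rw [e]; exact y.2
        have h1 := hcon _ hy'
        rw [hform _ y.2] at h1
        have h2 : m * (y : G) * m⁻¹ = y := by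
          have := congrArg (fun t => g⁻¹ * t * g) h1
          beta_reduce at this
          have e1 : g⁻¹ * (g * (m * (y : G) * m⁻¹) * g⁻¹) * g = m * (y : G) * m⁻¹ := by group
          have e2 : g⁻¹ * (g * (y : G) * g⁻¹) * g = y := by group
          rw [e1, e2] at this
          exact this
        calc (y : G) * m = (m * (y : G) * m⁻¹) * m := by rw [h2]
          _ = m * y := by group
      rw [hZ, Subgroup.mem_bot] at hmc
      have hm1 : m = 1 := congrArg Subtype.val hmc
      apply hgM
      rw [hM, hxg, hm1, mul_one]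

end Cfsg.Agent.S4326
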