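import Mathlib
import Cfsg.Statements.S4331
import Cfsg.Agent.Lib.Helper7.SubnEx1

set_option autoImplicit false
open Cfsg

namespace Cfsg.Agent.S4331

open SemidirectProduct

/-- the plane over the field with three elements -/
abbrev V3 := ZMod 3 × ZMod 3

/-- the same, written multiplicatively -/
abbrev N9 := Multiplicative V3

/-- multiplication by `1 + i` on `F_9 = F_3[i]` -/
def cAdd : V3 ≃+ V3 where
  toFun p := (p.1 - p.2, p.1 + p.2)
  invFun p := (-p.1 - p.2, p.1 - p.2)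
  left_inv := by decide
  right_inv := by decide
  map_add' := by decide

/-- the Frobenius map on `F_9 = F_3[i]` -/
def aAdd : V3 ≃+ V3 where
  toFun p := (p.1, -p.2)
  invFun p := (p.1, -p.2)
  left_inv := by decide
  right_inv := by decide
  map_add' := by decide

def cM : MulAut N9 := AddEquiv.toMultiplicative cAdd
def aM : MulAut N9 := AddEquiv.toMultiplicative aAdd

theorem cM_pow_eight : cM ^ 8 = 1 := by
  apply MulEquiv.ext
  decide

theorem aM_sq : aM ^ 2 = 1 := by
  apply MulEquiv.ext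
  decide

theorem aM_ne_one : aM ≠ 1 := by
  intro h
  have := congrArg (fun f : MulAut N9 => f (Multiplicative.ofAdd ((0, 1) : V3))) h
  revert this
  decide

theorem conj_cM : aM * cM * aM⁻¹ = cM ^ 3 := by
  have h : aM⁻¹ = aM := by
    rw [inv_eq_iff_mul_eq_one, ← pow_two, aM_sq]
  rw [h]
  apply MulEquiv.ext
  decide

/-- the semidihedral group of order 16 acting on the plane -/
def T16 : Subgroup (MulAut N9) := Subgroup.zpowers aM ⊔ Subgroup.zpowers cM

theorem aM_mem : aM ∈ T16 := Subgroup.mem_sup_left (Subgroup.mem_zpowers _)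
theorem cM_mem : cM ∈ T16 := Subgroup.mem_sup_right (Subgroup.mem_zpowers _)

theorem isPGroup_T16 : IsPGroup 2 ↥T16 := by
  haveI : Fact (Nat.Prime 2) := ⟨Nat.prime_two⟩
  have hA : IsPGroup 2 (Subgroup.zpowers aM) := by
    rintro ⟨g, hg⟩
    obtain ⟨j, rfl⟩ := Subgroup.mem_zpowers_iff.mp hg
    refine ⟨1, Subtype.ext ?_⟩
    show (aM ^ j) ^ 2 ^ 1 = 1
    rw [pow_one, ← zpow_natCast, ← zpow_mul, mul_comm, zpow_mul, zpow_natCast, aM_sq, one_zpow]
  have hC : IsPGroup 2 (Subgroup.zpowers cM) := by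
    rintro ⟨g, hg⟩
    obtain ⟨j, rfl⟩ := Subgroup.mem_zpowers_iff.mp hg
    refine ⟨3, Subtype.ext ?_⟩
    show (cM ^ j) ^ 2 ^ 3 = 1
    rw [show (2 : ℕ) ^ 3 = 8 by norm_num, ← zpow_natCast, ← zpow_mul, mul_comm, zpow_mul,
      zpow_natCast, cM_pow_eight, one_zpow]
  have hnorm : Subgroup.zpowers aM ≤ Subgroup.normalizer (Subgroup.zpowers cM : Set (MulAut N9)) := by
    rw [Subgroup.zpowers_le, Subgroup.mem_normalizer_iff]
    have hinv : aM⁻¹ = aM := by
      rw [inv_eq_iff_mul_eq_one, ← pow_two, aM_sq]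
    intro h
    constructor
    · intro hh
      obtain ⟨j, rfl⟩ := Subgroup.mem_zpowers_iff.mp hh
      rw [← conj_zpow, conj_cM]
      exact Subgroup.zpow_mem _ (Subgroup.pow_mem _ (Subgroup.mem_zpowers _) _) _
    · intro hh
      obtain ⟨j, hj⟩ := Subgroup.mem_zpowers_iff.mp hh
      have h1 : h = aM * (aM * h * aM⁻¹) * aM⁻¹ := by
        rw [hinv]
        have h2 : aM * aM = 1 := by rw [← pow_two, aM_sq]
        calc h = (aM * aM) * h * (aM * aM) := by rw [h2, one_mul, mul_one]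
          _ = aM * (aM * h * aM) * aM := by group
      rw [h1, ← hj, ← conj_zpow, conj_cM]
      exact Subgroup.zpow_mem _ (Subgroup.pow_mem _ (Subgroup.mem_zpowers _) _) _
  exact IsPGroup.to_sup_of_normal_right' hA hC hnorm

theorem orbit_meets_fix : ∀ v : N9, ∃ i : Fin 8, aM ((cM ^ (i : ℕ)) v) = (cM ^ (i : ℕ)) v := by
  decide

theorem result :
    ∃ (G : Type) (_ : Group G) (_ : Finite G) (A : Subgroup G), Group.IsSolvable G ∧ Nat.card A = 2 ∧
      (∀ c : G, ∃ g : G, IsConj c g ∧ (A.subgroupOf (A ⊔ Subgroup.zpowers g)).IsSubnormal) ∧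
      ¬ A ≤ Cfsg.pCore 2 G := by
  classical
  have hN : Odd (Nat.card N9) := by
    have : Nat.card N9 = 9 := by
      rw [Nat.card_eq_fintype_card]
      decide
    rw [this]; decide
  set a : ↥T16 := ⟨aM, aM_mem⟩ with ha
  have hao : orderOf a = 2 := by
    apply orderOf_eq_prime
    · apply Subtype.ext
      show aM ^ 2 = 1
      exact aM_sq
    · intro h
      exact aM_ne_one (congrArg Subtype.val h)
  have h1 : ∀ v : N9, ∃ t : ↥T16, T16.subtype a (T16.subtype t v) = T16.subtype t v := by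
    intro v
    obtain ⟨i, hi⟩ := orbit_meets_fix v
    exact ⟨⟨cM ^ (i : ℕ), Subgroup.pow_mem _ cM_mem _⟩, hi⟩
  have h2 : ∃ v : N9, T16.subtype a v ≠ v := by
    refine ⟨Multiplicative.ofAdd ((0, 1) : V3), ?_⟩
    show aM (Multiplicative.ofAdd ((0, 1) : V3)) ≠ Multiplicative.ofAdd ((0, 1) : V3)
    decide
  obtain ⟨m1, m2, m3, m4⟩ :=
    Cfsg.Agent.Lib.Helper7.SubnEx.main T16.subtype hN isPGroup_T16 a hao h1 h2
  exact ⟨N9 ⋊[T16.subtype] ↥T16, inferInstance, inferInstance,
    Subgroup.zpowers (inr a : N9 ⋊[T16.subtype] ↥T16), m1, m2, m3, m4⟩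

end Cfsg.Agent.S4331
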