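import Mathlib
import Cfsg.Prelude.Def_Solvable
import Cfsg.Statements.S4332

set_option autoImplicit false
open Pointwise
open Cfsg

namespace Cfsg.Agent.S4332

open scoped commutatorElement

section helpers
open Equiv Equiv.Perm

theorem cyc_eq {α : Type*} [DecidableEq α] {a b d : α} (hab : a ≠ b) (had : a ≠ d) (hbd : b ≠ d) :
    swap b a * swap b d = swap a d * swap a b := by
  ext x
  simp only [Equiv.Perm.mul_apply, Equiv.swap_apply_def]
  grind

theorem comm_of_indep {α : Type*} [DecidableEq α] {a b d a' b' d' : α}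
    (h1 : a' ≠ a) (h2 : a' ≠ b) (h3 : a' ≠ d) (h4 : b' ≠ a) (h5 : b' ≠ b) (h6 : b' ≠ d)
    (h7 : d' ≠ a) (h8 : d' ≠ b) (h9 : d' ≠ d) :
    Commute (swap a' b' * swap a' d') (swap a b * swap a d) := by
  apply Equiv.Perm.Disjoint.commute
  intro x
  simp only [Equiv.Perm.mul_apply, Equiv.swap_apply_def]
  grind

theorem conj_cyc {α : Type*} [DecidableEq α] (c : Perm α) (a b d : α) :
    c * (swap a b * swap a d) * c⁻¹ = swap (c a) (c b) * swap (c a) (c d) := by
  rw [Equiv.swap_apply_apply, Equiv.swap_apply_apply]; group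

/-- An independent triple gives the desired three-cycle. -/
theorem of_indep (c : Perm (Fin 8)) {a b d : Fin 8} (hab : a ≠ b) (had : a ≠ d) (hbd : b ≠ d)
    (h1 : c a ≠ a) (h2 : c a ≠ b) (h3 : c a ≠ d) (h4 : c b ≠ a) (h5 : c b ≠ b) (h6 : c b ≠ d)
    (h7 : c d ≠ a) (h8 : c d ≠ b) (h9 : c d ≠ d) :
    ∃ s : Perm (Fin 8), s.IsThreeCycle ∧ Commute (c * s * c⁻¹) s :=
  ⟨swap a b * swap a d, isThreeCycle_swap_mul_swap_same hab had hbd, by
    rw [conj_cyc]; exact comm_of_indep h1 h2 h3 h4 h5 h6 h7 h8 h9⟩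

theorem comb (c : Perm (Fin 8)) : ∃ s : Perm (Fin 8), s.IsThreeCycle ∧ Commute (c * s * c⁻¹) s := by
  classical
  -- case 1: a 3-cycle of c
  by_cases h1 : ∃ a, c a ≠ a ∧ c (c (c a)) = a
  · obtain ⟨a, ha, h3⟩ := h1
    have hab : a ≠ c a := fun h => ha h.symm
    have hbd : c a ≠ c (c a) := fun h => ha (c.injective h.symm)
    have had : a ≠ c (c a) := by
      intro h
      apply ha
      have : c a = c (c (c a)) := congrArg c h
      rw [h3] at this; exact this
    refine ⟨swap a (c (c a)) * swap a (c a), isThreeCycle_swap_mul_swap_same had hab hbd.symm, ?_⟩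
    rw [conj_cyc, h3, cyc_eq hab had hbd]
  push Not at h1
  -- case 2: three fixed points
  set F : Finset (Fin 8) := Finset.univ.filter (fun x => c x = x) with hF
  set M : Finset (Fin 8) := Finset.univ.filter (fun x => c x ≠ x) with hM
  by_cases h2 : 2 < F.card
  · rw [Finset.two_lt_card] at h2
    obtain ⟨a, ha, b, hb, d, hd, hab, had, hbd⟩ := h2
    simp only [hF, Finset.mem_filter, Finset.mem_univ, true_and] at ha hb hd
    refine ⟨swap a b * swap a d, isThreeCycle_swap_mul_swap_same hab had hbd, ?_⟩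
    rw [conj_cyc, ha, hb, hd]
  have hcard : F.card + M.card = 8 := by
    have := Finset.card_filter_add_card_filter_not (s := (Finset.univ : Finset (Fin 8))) (fun x => c x = x)
    simpa [hF, hM] using this
  have hM6 : 6 ≤ M.card := by omega
  have memM : ∀ x, x ∈ M ↔ c x ≠ x := by intro x; simp [hM]
  -- case 3
  by_cases h3 : ∃ a, c a ≠ a ∧ c (c a) ≠ a
  · obtain ⟨a, ha, ha2⟩ := h3
    have ha3 := h1 a ha
    -- pick d in M outside {c⁻¹ a, a, c a, c² a, c³ a}
    obtain ⟨d, hdM, hdE⟩ := Finset.exists_mem_notMem_of_card_lt_card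
      (s := ({c⁻¹ a, a, c a, c (c a), c (c (c a))} : Finset (Fin 8))) (t := M)
      (lt_of_le_of_lt (Finset.card_le_five) (by omega))
    simp only [Finset.mem_insert, Finset.mem_singleton, not_or] at hdE
    obtain ⟨e1, e2, e3, e4, e5⟩ := hdE
    rw [memM] at hdM
    refine of_indep c (a := a) (b := c (c a)) (d := d) (Ne.symm ha2) (Ne.symm e2) (Ne.symm e4)
      ha ?_ (Ne.symm e3) ha3 ?_ (Ne.symm e5) ?_ ?_ hdM
    · intro h; exact ha (c.injective h.symm)
    · intro h; exact ha (c.injective (c.injective h))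
    · intro h; apply e1; rw [← h]; simp
    · intro h; exact e3 (c.injective h)
  · push Not at h3
    -- every moved point lies in a 2-cycle
    have hMpos : 0 < M.card := by omega
    obtain ⟨a, haM⟩ := Finset.card_pos.mp hMpos
    obtain ⟨b, hbM, hbE⟩ := Finset.exists_mem_notMem_of_card_lt_card
      (s := ({a, c a} : Finset (Fin 8))) (t := M)
      (lt_of_le_of_lt (Finset.card_le_two) (by omega))
    obtain ⟨d, hdM, hdE⟩ := Finset.exists_mem_notMem_of_card_lt_card
      (s := ({a, c a, b, c b} : Finset (Fin 8))) (t := M)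
      (lt_of_le_of_lt (Finset.card_le_four) (by omega))
    simp only [Finset.mem_insert, Finset.mem_singleton, not_or] at hbE hdE
    rw [memM] at haM hbM hdM
    have ha2 := h3 a haM
    have hb2 := h3 b hbM
    have hd2 := h3 d hdM
    refine of_indep c (a := a) (b := b) (d := d) (Ne.symm hbE.1) (Ne.symm hdE.1) (Ne.symm hdE.2.2.1)
      haM (Ne.symm hbE.2) (Ne.symm hdE.2.1) ?_ hbM (Ne.symm hdE.2.2.2) ?_ ?_ hdM
    · intro h; apply hbE.2; rw [← h, hb2]
    · intro h; apply hdE.2.1; rw [← h, hd2]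
    · intro h; apply hdE.2.2.2; rw [← h, hd2]


theorem key {G : Type*} [Group G] (s g : G) (h : Commute (g * s * g⁻¹) s) :
    ((Subgroup.zpowers s).subgroupOf (Subgroup.zpowers s ⊔ MulAut.conj g • Subgroup.zpowers s)).IsSubnormal := by
  apply Subgroup.Normal.isSubnormal
  rw [Subgroup.normal_subgroupOf_iff_le_normalizer le_sup_left]
  apply sup_le Subgroup.le_normalizer
  have : MulAut.conj g • Subgroup.zpowers s = Subgroup.zpowers (g * s * g⁻¹) := by
    rw [Subgroup.pointwise_smul_def]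
    exact MonoidHom.map_zpowers (MulAut.conj g).toMonoidHom s
  rw [this, Subgroup.zpowers_le]
  rw [Subgroup.mem_normalizer_iff]
  intro x
  have hx : ∀ x ∈ Subgroup.zpowers s, (g * s * g⁻¹) * x * (g * s * g⁻¹)⁻¹ = x := by
    intro x hx
    obtain ⟨k, rfl⟩ := Subgroup.mem_zpowers_iff.mp hx
    have := (h.zpow_right k).eq
    rw [this]; group
  constructor
  · intro hxs; rw [hx x hxs]; exact hxs
  · intro hxs
    have := hx _ hxs
    have h2 : x = (g * s * g⁻¹)⁻¹ * ((g * s * g⁻¹) * x * (g * s * g⁻¹)⁻¹) * (g * s * g⁻¹) := by group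
    rw [h2]
    have h3 : (g * s * g⁻¹)⁻¹ * ((g * s * g⁻¹) * x * (g * s * g⁻¹)⁻¹) * (g * s * g⁻¹)
        = (g * s * g⁻¹) * x * (g * s * g⁻¹)⁻¹ := by
      have h4 := hx _ hxs
      calc (g * s * g⁻¹)⁻¹ * ((g * s * g⁻¹) * x * (g * s * g⁻¹)⁻¹) * (g * s * g⁻¹)
          = (g * s * g⁻¹)⁻¹ * ((g * s * g⁻¹) * ((g * s * g⁻¹) * x * (g * s * g⁻¹)⁻¹) * (g * s * g⁻¹)⁻¹) * (g * s * g⁻¹) := by rw [h4]
        _ = (g * s * g⁻¹) * x * (g * s * g⁻¹)⁻¹ := by group
    rw [h3]; exact hxs

theorem pcore_bot : Cfsg.pCore 3 (Equiv.Perm (Fin 8)) = ⊥ := by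
  unfold Cfsg.pCore
  rw [sSup_eq_bot]
  rintro N ⟨hN, hp⟩
  by_contra hne
  haveI := hN
  have hnt : Nontrivial N := (Subgroup.nontrivial_iff_ne_bot N).mpr hne
  have hle := Equiv.Perm.alternatingGroup_le_of_normal (α := Fin 8) (by simp) hnt
  have hmem : (swap (0 : Fin 8) 1 * swap (2 : Fin 8) 3) ∈ alternatingGroup (Fin 8) := by
    rw [Equiv.Perm.mem_alternatingGroup]
    decide
  have hN' := hle hmem
  obtain ⟨k, hk⟩ := hp ⟨_, hN'⟩
  have hk' : (swap (0 : Fin 8) 1 * swap (2 : Fin 8) 3) ^ 3 ^ k = 1 := by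
    have := congrArg Subtype.val hk
    simpa using this
  have h2 : (swap (0 : Fin 8) 1 * swap (2 : Fin 8) 3) ^ 2 = 1 := by decide
  have hord : orderOf (swap (0 : Fin 8) 1 * swap (2 : Fin 8) 3) = 2 := by
    apply orderOf_eq_prime h2
    decide
  have hdvd := orderOf_dvd_of_pow_eq_one hk'
  rw [hord] at hdvd
  have := (Nat.Prime.dvd_of_dvd_pow Nat.prime_two hdvd)
  omega

theorem main (σ : Equiv.Perm (Fin 8)) (hσ : σ.IsThreeCycle) :
    (∀ c : Equiv.Perm (Fin 8), ∃ g : Equiv.Perm (Fin 8), IsConj c g ∧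
      ((Subgroup.zpowers σ).subgroupOf (Subgroup.zpowers σ ⊔ MulAut.conj g • Subgroup.zpowers σ)).IsSubnormal) ∧
    Cfsg.pCore 3 (Equiv.Perm (Fin 8)) = ⊥ := by
  refine ⟨?_, pcore_bot⟩
  intro c
  obtain ⟨s, hs, hcomm⟩ := comb c
  have hconj : IsConj s σ := by
    rw [Equiv.Perm.isConj_iff_cycleType_eq]
    rw [hs.cycleType, hσ.cycleType]
  obtain ⟨t, ht⟩ := isConj_iff.mp hconj
  refine ⟨t * c * t⁻¹, isConj_iff.mpr ⟨t, rfl⟩, ?_⟩
  apply key
  rw [← ht]
  have : t * c * t⁻¹ * (t * s * t⁻¹) * (t * c * t⁻¹)⁻¹ = t * (c * s * c⁻¹) * t⁻¹ := by group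
  rw [this]
  have := hcomm.eq
  show t * (c * s * c⁻¹) * t⁻¹ * (t * s * t⁻¹) = (t * s * t⁻¹) * (t * (c * s * c⁻¹) * t⁻¹)
  calc t * (c * s * c⁻¹) * t⁻¹ * (t * s * t⁻¹) = t * ((c * s * c⁻¹) * s) * t⁻¹ := by group
    _ = t * (s * (c * s * c⁻¹)) * t⁻¹ := by rw [this]
    _ = (t * s * t⁻¹) * (t * (c * s * c⁻¹) * t⁻¹) := by group

end helpers



/-- In the symmetric group of degree 8, let A be the subgroup generated by a 3-cycle. Then every conjugacy class contains an element g for which A is subnormal in the subgroup generated by A and its conjugate by g, although O_3 of the symmetric group of degree 8 is trivial. -/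
theorem result
    (σ : Equiv.Perm (Fin 8)) (hσ : σ.IsThreeCycle) :
    (∀ c : Equiv.Perm (Fin 8), ∃ g : Equiv.Perm (Fin 8), IsConj c g ∧
      ((Subgroup.zpowers σ).subgroupOf (Subgroup.zpowers σ ⊔ MulAut.conj g • Subgroup.zpowers σ)).IsSubnormal) ∧
    Cfsg.pCore 3 (Equiv.Perm (Fin 8)) = ⊥ := by
  exact main σ hσ

end Cfsg.Agent.S4332
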