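import Mathlib
import Cfsg.Statements.S4333
import Cfsg.Agent.Lib.Helper7.Wielandt5

set_option autoImplicit false

open Cfsg

namespace Cfsg.Agent.S4333

open Cfsg.Agent.Lib.Helper7
open scoped Pointwise

variable {G : Type*} [Group G]

theorem maxIn_cj {M H : Subgroup G} (hM : MaxIn M H) {g : G} (hg : g ∈ H) :
    MaxIn (cj g M) H := by
  have hH : cj g H = H := cj_eq_self_of_mem hg
  have hH' : cj g⁻¹ H = H := cj_eq_self_of_mem (H.inv_mem hg)
  refine ⟨?_, ?_⟩
  · have := (cj_lt_cj_iff g).mpr hM.1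
    rwa [hH] at this
  · intro X hMX hXH
    have h1 : M ≤ cj g⁻¹ X := by
      have := cj_mono g⁻¹ hMX
      rwa [cj_inv_cj] at this
    have h2 : cj g⁻¹ X < H := by
      have := (cj_lt_cj_iff g⁻¹).mpr hXH
      rwa [hH'] at this
    have h3 := hM.2 _ h1 h2
    rw [← h3, cj_cj_inv]

theorem sharp_aux [Finite G] (n : ℕ) :
    ∀ H A : Subgroup G, Nat.card H = n → A ≤ H →
      (∀ a ∈ A, ∀ g ∈ H, SubnIn A (A ⊔ cj (g⁻¹ * a * g) A)) → SubnIn A H := by
  induction n using Nat.strong_induction_on with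
  | _ n ih =>
  intro H A hcard hAH h
  by_contra hns
  have hprop : ∀ K : Subgroup G, A ≤ K → K < H → SubnIn A K := fun K hAK hKH =>
    ih _ (hcard ▸ card_lt_of_lt hKH) K A rfl hAK (fun a ha g hg => h a ha g (hKH.le hg))
  have hAltH : A < H := by
    refine lt_of_le_of_ne hAH ?_
    rintro rfl
    exact hns (SubnIn.refl _)
  obtain ⟨M, hAM, hM⟩ := exists_maxIn_ge hAltH
  -- every `x = g⁻¹ a g` normalizes `M`
  have hnorm : ∀ a ∈ A, ∀ g ∈ H, g⁻¹ * a * g ∈ Subgroup.normalizer (M : Set G) := by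
    intro a ha g hg
    obtain ⟨x, hx⟩ : ∃ x, x = g⁻¹ * a * g := ⟨_, rfl⟩
    rw [← hx]
    have hxH : x ∈ H := by
      rw [hx]; exact H.mul_mem (H.mul_mem (H.inv_mem hg) (hAH ha)) hg
    have hle : A ⊔ cj x A ≤ H := sup_le hAH (cj_le_of_mem hxH hAH)
    have hlt : A ⊔ cj x A < H := by
      refine lt_of_le_of_ne hle ?_
      intro heq
      have := h a ha g hg
      rw [← hx, heq] at this
      exact hns this
    obtain ⟨M', hM'le, hM'⟩ := exists_maxIn_ge hlt
    have e1 : M' = M := zipper hAH hns hprop hM' hM (le_sup_left.trans hM'le) hAM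
    have hxA : cj x A ≤ M := e1 ▸ (le_sup_right.trans hM'le)
    -- `A ≤ cj x⁻¹ M`
    have hA' : A ≤ cj x⁻¹ M := by
      have := cj_mono x⁻¹ hxA
      rwa [cj_inv_cj] at this
    have e2 : cj x⁻¹ M = M :=
      zipper hAH hns hprop (maxIn_cj hM (H.inv_mem hxH)) hM hA' hAM
    have : x⁻¹ ∈ Subgroup.normalizer (M : Set G) := mem_normalizer_iff_cj.mpr e2
    simpa using (Subgroup.normalizer (M : Set G)).inv_mem this
  obtain ⟨C, hC⟩ : ∃ C, C = ⨆ x : H, cj (x : G) A := ⟨_, rfl⟩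
  have hAC : A ≤ C := by
    have h1 : cj ((1 : H) : G) A ≤ C := hC ▸ le_iSup (fun x : H => cj (x : G) A) 1
    have h2 : cj ((1 : H) : G) A = A := cj_one A
    rwa [h2] at h1
  have hCH' : C ≤ H := hC ▸ iSup_le fun x => cj_le_of_mem x.2 hAH
  have hHC : H ≤ Subgroup.normalizer (C : Set G) := by
    intro x hx
    rw [mem_normalizer_iff_cj]
    apply cj_eq_of_le
    rw [hC]
    unfold cj
    rw [Subgroup.map_iSup]
    apply iSup_le
    intro y
    have h2 : cj x (cj (y : G) A) = cj (x * (y : G)) A := (cj_mul x (y : G) A).symm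
    have h3 : cj (x * (y : G)) A ≤ ⨆ y : H, cj (y : G) A :=
      le_iSup (fun y : H => cj (y : G) A) ⟨x * (y : G), H.mul_mem hx y.2⟩
    exact h2.le.trans h3
  have hCN : C ≤ Subgroup.normalizer (M : Set G) := by
    rw [hC]
    apply iSup_le
    intro y z hz
    rw [mem_cj] at hz
    have := hnorm _ hz (y : G)⁻¹ (H.inv_mem y.2)
    have e : ((y : G)⁻¹)⁻¹ * ((y : G)⁻¹ * z * y) * (y : G)⁻¹ = z := by group
    rwa [e] at this
  -- the normalizer of `M` in `H`
  have hMle : M ≤ Subgroup.normalizer (M : Set G) ⊓ H :=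
    le_inf Subgroup.le_normalizer hM.1.le
  by_cases hcase : Subgroup.normalizer (M : Set G) ⊓ H < H
  · have hNM : Subgroup.normalizer (M : Set G) ⊓ H = M := hM.2 _ hMle hcase
    have hCM : C ≤ M := hNM ▸ le_inf hCN hCH'
    have hCH : C < H := lt_of_le_of_lt hCM hM.1
    have h1 : SubnIn A C := hprop C hAC hCH
    have h2 : SubnIn C H := SubnIn.of_normal hCH.le hHC
    exact hns (h1.trans h2)
  · have hHN : H ≤ Subgroup.normalizer (M : Set G) := by
      have : Subgroup.normalizer (M : Set G) ⊓ H = H :=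
        (eq_or_lt_of_le inf_le_right).resolve_right hcase
      rw [← this]; exact inf_le_left
    have h1 : SubnIn A M := hprop M hAM hM.1
    have h2 : SubnIn M H := SubnIn.of_normal hM.1.le hHN
    exact hns (h1.trans h2)

theorem result {G : Type*} [Group G] [Finite G]
    (A : Subgroup G)
    (h : ∀ a ∈ A, ∀ g : G, (A.subgroupOf (A ⊔ MulAut.conj (g⁻¹ * a * g) • A)).IsSubnormal) :
    A.IsSubnormal := by
  apply subnIn_top_iff.mp
  apply sharp_aux _ ⊤ A rfl le_top
  intro a ha g _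
  rw [subnIn_iff]
  refine ⟨le_sup_left, ?_⟩
  exact h a ha g

end Cfsg.Agent.S4333
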