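import Mathlib
import Cfsg.Statements.S4337
import Cfsg.Agent.Lib.Helper8.SmallSolvable

set_option autoImplicit false

open Cfsg

namespace Cfsg.Agent.S4337

open Cfsg.Agent.Lib.Helper8

section

variable {α : Type*} [DecidableEq α] [Fintype α]

theorem swap_fix {x y z : α} (hz : z ∉ ({x, y} : Finset α)) : Equiv.swap x y z = z := by
  simp only [Finset.mem_insert, Finset.mem_singleton, not_or] at hz
  exact Equiv.swap_apply_of_ne_of_ne hz.1 hz.2

/-- a group generated by swaps with supports in `T` fixes the complement of `T` -/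
theorem closure_fix (T : Finset α) (S : Set (Equiv.Perm α)) (hS : ∀ σ ∈ S, ∀ x, x ∉ T → σ x = x) :
    ∀ σ ∈ Subgroup.closure S, ∀ x, x ∉ T → σ x = x := by
  intro σ hσ
  induction hσ using Subgroup.closure_induction with
  | mem σ h => exact hS σ h
  | one => intro x _; rfl
  | mul σ τ _ _ hσ hτ =>
    intro x hx
    rw [Equiv.Perm.mul_apply, hτ x hx, hσ x hx]
  | inv σ _ hσ =>
    intro x hx
    rw [Equiv.Perm.inv_eq_iff_eq, hσ x hx]

/-- swaps with disjoint supports commute -/
theorem swap_comm_of_disjoint {x y u v : α} (h : Disjoint ({x, y} : Finset α) {u, v}) :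
    Equiv.swap x y * Equiv.swap u v = Equiv.swap u v * Equiv.swap x y := by
  rw [Finset.disjoint_left] at h
  have hx : x ∈ ({x, y} : Finset α) := by simp
  have hy : y ∈ ({x, y} : Finset α) := by simp
  have hxu : x ≠ u := fun e => h hx (by rw [e]; simp)
  have hxv : x ≠ v := fun e => h hx (by rw [e]; simp)
  have hyu : y ≠ u := fun e => h hy (by rw [e]; simp)
  have hyv : y ≠ v := fun e => h hy (by rw [e]; simp)
  have hd : Equiv.Perm.Disjoint (Equiv.swap x y) (Equiv.swap u v) := by
    intro z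
    by_cases hz : z = x ∨ z = y
    · right
      rcases hz with rfl | rfl
      · exact Equiv.swap_apply_of_ne_of_ne hxu hxv
      · exact Equiv.swap_apply_of_ne_of_ne hyu hyv
    · left
      push Not at hz
      exact Equiv.swap_apply_of_ne_of_ne hz.1 hz.2
  exact hd.commute.eq

/-- two swaps generate a solvable group -/
theorem two_swaps_solvable (x₁ y₁ x₂ y₂ : α) :
    Group.IsSolvable (Subgroup.closure ({Equiv.swap x₁ y₁, Equiv.swap x₂ y₂} : Set (Equiv.Perm α))) := by
  apply isSolvable_of_support_subset ({x₁, y₁} ∪ {x₂, y₂})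
  · calc (({x₁, y₁} : Finset α) ∪ {x₂, y₂}).card ≤ ({x₁, y₁} : Finset α).card + ({x₂, y₂} : Finset α).card :=
        Finset.card_union_le _ _
      _ ≤ 2 + 2 := Nat.add_le_add Finset.card_le_two Finset.card_le_two
  · apply closure_fix
    intro σ hσ z hz
    rw [Finset.mem_union, not_or] at hz
    rcases hσ with rfl | hσ
    · exact swap_fix hz.1
    · rw [Set.mem_singleton_iff] at hσ
      subst hσ
      exact swap_fix hz.2

/-- if the third swap is disjoint from the other two, the group is solvable -/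
theorem solvable_of_disjoint (x₁ y₁ x₂ y₂ x₃ y₃ : α)
    (h1 : Disjoint ({x₃, y₃} : Finset α) {x₁, y₁}) (h2 : Disjoint ({x₃, y₃} : Finset α) {x₂, y₂}) :
    Group.IsSolvable (Subgroup.closure
      ({Equiv.swap x₁ y₁, Equiv.swap x₂ y₂, Equiv.swap x₃ y₃} : Set (Equiv.Perm α))) := by
  obtain ⟨N, hN⟩ : ∃ N : Subgroup (Equiv.Perm α),
      N = Subgroup.closure ({Equiv.swap x₁ y₁, Equiv.swap x₂ y₂} : Set (Equiv.Perm α)) := ⟨_, rfl⟩
  obtain ⟨Z, hZ⟩ : ∃ Z : Subgroup (Equiv.Perm α), Z = Subgroup.zpowers (Equiv.swap x₃ y₃) := ⟨_, rfl⟩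
  have hNs : Group.IsSolvable N := by rw [hN]; exact two_swaps_solvable x₁ y₁ x₂ y₂
  have hZs : Group.IsSolvable Z := by
    rw [hZ]
    apply Group.isSolvable_of_comm
    intro a b
    exact (IsCyclic.commGroup (α := Subgroup.zpowers (Equiv.swap x₃ y₃))).mul_comm a b
  -- elements of N commute with the third swap
  have hcommN : ∀ n ∈ N, n * Equiv.swap x₃ y₃ = Equiv.swap x₃ y₃ * n := by
    intro n hn
    have hcen : N ≤ Subgroup.centralizer ({Equiv.swap x₃ y₃} : Set (Equiv.Perm α)) := by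
      rw [hN, Subgroup.closure_le]
      intro σ hσ
      rw [SetLike.mem_coe, Subgroup.mem_centralizer_iff]
      intro c hc
      rw [Set.mem_singleton_iff] at hc
      subst hc
      rcases hσ with rfl | hσ
      · exact swap_comm_of_disjoint h1
      · rw [Set.mem_singleton_iff] at hσ
        subst hσ
        exact swap_comm_of_disjoint h2
    have := Subgroup.mem_centralizer_iff.mp (hcen hn) _ rfl
    exact this.symm
  have hcomm : ∀ (n : N) (z : Z), Commute (N.subtype n) (Z.subtype z) := by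
    intro n z
    obtain ⟨k, hk⟩ : ∃ k : ℤ, (Equiv.swap x₃ y₃) ^ k = (z : Equiv.Perm α) := by
      have h3 : (z : Equiv.Perm α) ∈ Subgroup.zpowers (Equiv.swap x₃ y₃) := by rw [← hZ]; exact z.2
      exact Subgroup.mem_zpowers_iff.mp h3
    show Commute (n : Equiv.Perm α) (z : Equiv.Perm α)
    rw [← hk]
    exact Commute.zpow_right (hcommN n n.2) k
  have hrange : (MonoidHom.noncommCoprod N.subtype Z.subtype hcomm).range =
      Subgroup.closure ({Equiv.swap x₁ y₁, Equiv.swap x₂ y₂, Equiv.swap x₃ y₃} : Set (Equiv.Perm α)) := by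
    rw [MonoidHom.noncommCoprod_range, Subgroup.range_subtype, Subgroup.range_subtype, hN, hZ,
      Subgroup.zpowers_eq_closure, ← Subgroup.closure_union]
    congr 1
    ext σ
    simp only [Set.mem_union, Set.mem_insert_iff, Set.mem_singleton_iff]
    tauto
  rw [← hrange]
  exact Group.isSolvable_of_surjective (f := (MonoidHom.noncommCoprod N.subtype Z.subtype hcomm).rangeRestrict)
    (MonoidHom.rangeRestrict_surjective _)

/-- if the supports are linked, the group is solvable -/
theorem solvable_of_linked (x₁ y₁ x₂ y₂ x₃ y₃ : α)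
    (h1 : ¬ Disjoint ({x₁, y₁} : Finset α) {x₂, y₂})
    (h2 : ¬ Disjoint ({x₃, y₃} : Finset α) ({x₁, y₁} ∪ {x₂, y₂})) :
    Group.IsSolvable (Subgroup.closure
      ({Equiv.swap x₁ y₁, Equiv.swap x₂ y₂, Equiv.swap x₃ y₃} : Set (Equiv.Perm α))) := by
  apply isSolvable_of_support_subset (({x₁, y₁} ∪ {x₂, y₂}) ∪ {x₃, y₃})
  · have hc1 : (({x₁, y₁} : Finset α) ∪ {x₂, y₂}).card ≤ 3 := by
      have := Finset.card_union_add_card_inter ({x₁, y₁} : Finset α) {x₂, y₂}
      have h3 : 1 ≤ (({x₁, y₁} : Finset α) ∩ {x₂, y₂}).card := by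
        rw [Nat.one_le_iff_ne_zero, Ne, Finset.card_eq_zero, ← Finset.disjoint_iff_inter_eq_empty]
        exact h1
      have h4 : ({x₁, y₁} : Finset α).card ≤ 2 := Finset.card_le_two
      have h5 : ({x₂, y₂} : Finset α).card ≤ 2 := Finset.card_le_two
      omega
    have := Finset.card_union_add_card_inter (({x₁, y₁} : Finset α) ∪ {x₂, y₂}) {x₃, y₃}
    have h3 : 1 ≤ ((({x₁, y₁} : Finset α) ∪ {x₂, y₂}) ∩ {x₃, y₃}).card := by
      rw [Nat.one_le_iff_ne_zero, Ne, Finset.card_eq_zero, ← Finset.disjoint_iff_inter_eq_empty,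
        disjoint_comm]
      exact h2
    have h5 : ({x₃, y₃} : Finset α).card ≤ 2 := Finset.card_le_two
    omega
  · apply closure_fix
    intro σ hσ z hz
    rw [Finset.mem_union, Finset.mem_union, not_or, not_or] at hz
    rcases hσ with rfl | rfl | hσ
    · exact swap_fix hz.1.1
    · exact swap_fix hz.1.2
    · rw [Set.mem_singleton_iff] at hσ
      subst hσ
      exact swap_fix hz.2

end

theorem result (n : ℕ) (a b c : Equiv.Perm (Fin n))
    (ha : a.IsSwap) (hb : b.IsSwap) (hc : c.IsSwap) :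
    Group.IsSolvable (Subgroup.closure ({a, b, c} : Set (Equiv.Perm (Fin n)))) := by
  obtain ⟨x₁, y₁, -, rfl⟩ := ha
  obtain ⟨x₂, y₂, -, rfl⟩ := hb
  obtain ⟨x₃, y₃, -, rfl⟩ := hc
  by_cases h12 : Disjoint ({x₁, y₁} : Finset (Fin n)) {x₂, y₂}
  · by_cases h13 : Disjoint ({x₁, y₁} : Finset (Fin n)) {x₃, y₃}
    · -- a is disjoint from b and c
      have := solvable_of_disjoint x₂ y₂ x₃ y₃ x₁ y₁ h12 h13
      have e : ({Equiv.swap x₁ y₁, Equiv.swap x₂ y₂, Equiv.swap x₃ y₃} : Set (Equiv.Perm (Fin n))) =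
          {Equiv.swap x₂ y₂, Equiv.swap x₃ y₃, Equiv.swap x₁ y₁} := by
        ext σ
        simp only [Set.mem_insert_iff, Set.mem_singleton_iff]
        tauto
      rw [e]; exact this
    · by_cases h23 : Disjoint ({x₂, y₂} : Finset (Fin n)) {x₃, y₃}
      · -- b is disjoint from a and c
        have := solvable_of_disjoint x₁ y₁ x₃ y₃ x₂ y₂ (disjoint_comm.mp h12) h23
        have e : ({Equiv.swap x₁ y₁, Equiv.swap x₂ y₂, Equiv.swap x₃ y₃} : Set (Equiv.Perm (Fin n))) =
            {Equiv.swap x₁ y₁, Equiv.swap x₃ y₃, Equiv.swap x₂ y₂} := by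
          ext σ
          simp only [Set.mem_insert_iff, Set.mem_singleton_iff]
          tauto
        rw [e]; exact this
      · -- a ~ c and b ~ c
        have h := solvable_of_linked x₁ y₁ x₃ y₃ x₂ y₂ h13 (by
          intro hd
          apply h23
          rw [Finset.disjoint_union_right] at hd
          exact hd.2)
        have e : ({Equiv.swap x₁ y₁, Equiv.swap x₂ y₂, Equiv.swap x₃ y₃} : Set (Equiv.Perm (Fin n))) =
            {Equiv.swap x₁ y₁, Equiv.swap x₃ y₃, Equiv.swap x₂ y₂} := by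
          ext σ
          simp only [Set.mem_insert_iff, Set.mem_singleton_iff]
          tauto
        rw [e]; exact h
  · by_cases h3 : Disjoint ({x₃, y₃} : Finset (Fin n)) ({x₁, y₁} ∪ {x₂, y₂})
    · rw [Finset.disjoint_union_right] at h3
      exact solvable_of_disjoint x₁ y₁ x₂ y₂ x₃ y₃ h3.1 h3.2
    · exact solvable_of_linked x₁ y₁ x₂ y₂ x₃ y₃ h12 h3

end Cfsg.Agent.S4337
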