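import Mathlib
import Cfsg.Statements.S4341
import Cfsg.Agent.Lib.Helper8.SylowIndex

set_option autoImplicit false

open Cfsg

namespace Cfsg.Agent.S4341

open Cfsg.Agent.Lib.Helper8

theorem aux {G : Type*} [Group G] [Finite G]
    (p : ℕ) [Fact p.Prime] (K : Subgroup G) [K.Normal] (P : Sylow p G) (Q N : Subgroup G)
    (hQ : Q = (P : Subgroup G) ⊓ K)
    (hN : N = ((P : Subgroup G) ⊔ K) ⊓ Subgroup.normalizer (Q : Set G))
    [hn : (Q.subgroupOf N).Normal] :
    Nat.card (Sylow p G) =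
      Nat.card (Sylow p (G ⧸ K)) * Nat.card (Sylow p K) *
        Nat.card (Sylow p (N ⧸ Q.subgroupOf N)) := by
  obtain ⟨Pg, hPg⟩ : ∃ Pg : Subgroup G, Pg = (P : Subgroup G) := ⟨_, rfl⟩
  have hPp : IsPGroup p Pg := hPg ▸ P.isPGroup'
  have hPidx : ¬ p ∣ Pg.index := hPg ▸ P.not_dvd_index
  obtain ⟨B, hB⟩ : ∃ B, B = Subgroup.normalizer (Pg : Set G) := ⟨_, rfl⟩
  obtain ⟨H, hH⟩ : ∃ H, H = Pg ⊔ K := ⟨_, rfl⟩
  obtain ⟨A, hA⟩ : ∃ A, A = Subgroup.normalizer (H : Set G) := ⟨_, rfl⟩
  obtain ⟨C, hC⟩ : ∃ C, C = Subgroup.normalizer (Q : Set G) := ⟨_, rfl⟩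
  have hKn : ∀ X : Subgroup G, X ≤ Subgroup.normalizer (K : Set G) := fun X => by
    rw [Subgroup.normalizer_eq_top]; exact le_top
  have hBA : B ≤ A := by
    rw [hA, hH]; exact le_normalizer_sup (hB ▸ le_rfl) (hKn B)
  have hBC : B ≤ C := by
    rw [hC, hQ, ← hPg]; exact le_normalizer_inf (hB ▸ le_rfl) (hKn B)
  have hPH : Pg ≤ H := hH ▸ le_sup_left
  have hKH : K ≤ H := hH ▸ le_sup_right
  have hHA : H ≤ A := hA ▸ Subgroup.le_normalizer
  have hPB : Pg ≤ B := hB ▸ Subgroup.le_normalizer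
  have hQK : Q ≤ K := hQ ▸ inf_le_right
  have hQP : Q ≤ Pg := by rw [hQ, ← hPg]; exact inf_le_left
  have hPC : Pg ≤ C := hPB.trans hBC
  have hNdef : N = H ⊓ C := by rw [hN, hC, hH, hPg]
  have hNH : N ≤ H := hNdef ▸ inf_le_left
  have hNC : N ≤ C := hNdef ▸ inf_le_right
  have hPN : Pg ≤ N := hNdef ▸ le_inf hPH hPC
  have hQp : IsPGroup p Q := hPp.to_le hQP
  have hidx_of_le : ∀ X : Subgroup G, Pg ≤ X → ¬ p ∣ Pg.relIndex X := fun X hX hdvd =>
    hPidx (hdvd.trans (Subgroup.relIndex_dvd_index_of_le hX))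
  have hidxK : ¬ p ∣ Q.relIndex K := by
    have h1 : Q.relIndex K = Pg.relIndex K := by
      rw [hQ, ← hPg]; exact Subgroup.inf_relIndex_right _ _
    rw [h1, ← relIndex_sup_of_le_normalizer Pg K (hKn Pg)]
    exact hidx_of_le _ le_sup_right
  -- Step 1
  have s1 : Nat.card (Sylow p G) = B.index := by
    rw [Sylow.card_eq_index_normalizer P, hB, hPg]; rfl
  have s2 : B.relIndex A * A.index = B.index := Subgroup.relIndex_mul_index hBA
  have s3 : Nat.card (Sylow p (G ⧸ K)) = A.index := by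
    rw [card_sylow_quotient_eq_index p K P, hA, hH, hPg]
  -- Frattini 1
  have hAeq : A = H ⊔ B := by
    apply le_antisymm
    · have := frattini_rel H A Pg hPH hPp (hidx_of_le H hPH) hHA (hA ▸ le_rfl)
      rw [← hB, inf_eq_right.mpr hBA] at this
      exact this
    · exact sup_le hHA hBA
  have s4 : B.relIndex A = B.relIndex H := by
    rw [hAeq]; exact relIndex_sup_of_le_normalizer B H (hA ▸ hBA)
  have s5 : B.relIndex N * N.relIndex H = B.relIndex H := by
    have := Subgroup.relIndex_inf_mul_relIndex B N H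
    rw [inf_eq_left.mpr hNH] at this
    rw [this]
    have e : (B ⊓ N) ⊓ H = B ⊓ H := by
      rw [hNdef]
      apply le_antisymm
      · exact le_inf (inf_le_left.trans inf_le_left) inf_le_right
      · exact le_inf (le_inf inf_le_left (le_inf inf_le_right (inf_le_left.trans hBC))) inf_le_right
    rw [← Subgroup.inf_relIndex_right (B ⊓ N) H, e, Subgroup.inf_relIndex_right]
  have s6 : Nat.card (Sylow p N) = B.relIndex N := by
    rw [hB]; exact card_sylow_subgroup_eq_relIndex N Pg hPN hPp (hidx_of_le N hPN)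
  -- Frattini 2
  have hHeq : H = K ⊔ N := by
    apply le_antisymm
    · have := frattini_rel K H Q hQK hQp hidxK hKH (hKn H)
      rw [← hC, ← hNdef] at this
      exact this
    · exact sup_le hKH hNH
  have s7 : N.relIndex H = N.relIndex K := by
    rw [hHeq]; exact relIndex_sup_of_le_normalizer N K (hKn N)
  have s8 : N.relIndex K = C.relIndex K := by
    rw [← Subgroup.inf_relIndex_right N K, ← Subgroup.inf_relIndex_right C K]
    congr 1
    rw [hNdef]
    apply le_antisymm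
    · exact le_inf (inf_le_left.trans inf_le_right) inf_le_right
    · exact le_inf (le_inf (inf_le_right.trans hKH) inf_le_left) inf_le_right
  have s9 : Nat.card (Sylow p K) = C.relIndex K := by
    rw [hC]; exact card_sylow_subgroup_eq_relIndex K Q hQK hQp hidxK
  -- quotient of N
  have s10 : Nat.card (Sylow p (N ⧸ Q.subgroupOf N)) = Nat.card (Sylow p N) := by
    let P' : Sylow p N := (hPp.comap_subtype (K := N)).toSylow (hidx_of_le N hPN)
    have hP' : (P' : Subgroup N) = Pg.subgroupOf N := rfl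
    rw [card_sylow_quotient_eq_index p (Q.subgroupOf N) P', Sylow.card_eq_index_normalizer P']
    have hle : Q.subgroupOf N ≤ (P' : Subgroup N) := fun x hx => hQP hx
    rw [sup_eq_left.mpr hle]
    rfl
  rw [s1, ← s2, s3, s4, ← s5, s7, s8, s10, s9, s6]
  ring

theorem result {G : Type*} [Group G] [Finite G]
    (p : ℕ) [Fact p.Prime] (K : Subgroup G) [K.Normal] (P : Sylow p G) (N : Subgroup G)
    (hN : N = ((P : Subgroup G) ⊔ K) ⊓ Subgroup.normalizer (((P : Subgroup G) ⊓ K : Subgroup G) : Set G))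
    [hn : (((P : Subgroup G) ⊓ K).subgroupOf N).Normal] :
    Nat.card (Sylow p G) =
      Nat.card (Sylow p (G ⧸ K)) * Nat.card (Sylow p K) * Nat.card (Sylow p (N ⧸ ((P : Subgroup G) ⊓ K).subgroupOf N)) := by
  exact aux p K P _ N rfl hN

end Cfsg.Agent.S4341
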