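import Cfsg.Statements.S4342
import Cfsg.Agent.Lib.Helper8.SylowExtra

set_option autoImplicit false

open Cfsg

namespace Cfsg.Agent.S4342

open Cfsg.Agent.Lib.Helper8

theorem result {G : Type*} [Group G] [Finite G]
    (p : ℕ) [Fact p.Prime] (H : Subgroup G) [H.Normal] (hp : ¬ p ∣ H.index) :
    Nat.card (Sylow p (H ⧸ Subgroup.center H)) = Nat.card (Sylow p G) := by
  rw [← card_sylow_eq_of_normal_of_not_dvd_index H hp]
  symm
  have hsurj : Function.Surjective (QuotientGroup.mk' (Subgroup.center H)) :=
    QuotientGroup.mk'_surjective _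
  have hker : (QuotientGroup.mk' (Subgroup.center H)).ker ≤ Subgroup.center H := by
    rw [QuotientGroup.ker_mk']
  exact Nat.card_congr (Equiv.ofBijective _
    (mapSurjective_bijective_of_ker_le_center (p := p) hsurj hker))

end Cfsg.Agent.S4342
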