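import Mathlib
import Cfsg.Statements.S4343
import Cfsg.Agent.Lib.Lead.Brodkey
import Cfsg.Agent.Lib.Lead.Core

set_option autoImplicit false
open Cfsg
open Cfsg.Agent.Lib.Lead
open scoped Pointwise commutatorElement

namespace Cfsg.Agent.S4343

section

variable {S : Type*} [Group S] [Finite S] {p : ℕ} [Fact p.Prime]

omit [Fact (Nat.Prime p)] in
/-- the index in `P` of `P ∩ Q` is at most the number of Sylow subgroups -/
theorem index_subgroupOf_le (P Q : Sylow p S) :
    ((Q : Subgroup S).subgroupOf (P : Subgroup S)).index ≤ Nat.card (Sylow p S) := by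
  have hstab : MulAction.stabilizer (P : Subgroup S) Q
      = (Q : Subgroup S).subgroupOf (P : Subgroup S) := by
    ext x
    rw [MulAction.mem_stabilizer_iff, Subgroup.mem_subgroupOf]
    have h1 : x • Q = (x : S) • Q := rfl
    rw [h1, Sylow.smul_eq_iff_mem_normalizer]
    have h2 := IsPGroup.inf_normalizer_sylow P.isPGroup' Q
    constructor
    · intro h
      exact ((le_of_eq h2) ⟨x.2, h⟩).2
    · intro h
      exact ((le_of_eq h2.symm) ⟨x.2, h⟩).2
  rw [← hstab, MulAction.index_stabilizer]
  rw [← Nat.card_coe_set_eq]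
  exact Nat.card_le_card_of_injective _ Subtype.val_injective

/-- if the index of `D` in a `p`-group is `1` or `p`, then `D` contains the commutator subgroup -/
theorem commutator_le_of_index {P : Type*} [Group P] [Finite P] (hP : IsPGroup p P)
    (D : Subgroup P) (hD : D.index = 1 ∨ D.index = p) : commutator P ≤ D := by
  have hp : p.Prime := Fact.out
  rcases hD with h | h
  · rw [Subgroup.index_eq_one.mp h]; exact le_top
  · obtain ⟨a, ha⟩ := IsPGroup.iff_card.mp hP
    have ha1 : a ≠ 0 := by
      rintro rfl
      rw [pow_zero] at ha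
      have h1 := D.index_dvd_card
      rw [h, ha] at h1
      exact hp.one_lt.ne' (Nat.dvd_one.mp h1)
    haveI : D.Normal := by
      apply Subgroup.normal_of_index_eq_minFac_card
      rw [h, ha, Nat.Prime.pow_minFac hp ha1]
    have hq : Nat.card (P ⧸ D) = p := h
    haveI : IsCyclic (P ⧸ D) := isCyclic_of_prime_card hq
    rw [← Subgroup.Normal.quotient_commutative_iff_commutator_le]
    exact ⟨⟨fun a b => IsCyclic.commGroup.mul_comm a b⟩⟩

end

theorem result {S : Type*} [Group S] [Finite S]
    [IsSimpleGroup S] (hS : ¬ IsMulCommutative S) (p : ℕ) [Fact p.Prime] (hp : p ∣ Nat.card S)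
    (hn : Nat.card (Sylow p S) < p ^ 2) (P : Sylow p S) : Nat.card P = p := by
  classical
  have hpp : p.Prime := Fact.out
  -- `O_p(S) = 1`
  have hcore : Cfsg.pCore p S = ⊥ := by
    haveI := pCore_normal (G := S) p
    rcases (pCore_normal (G := S) p).eq_bot_or_eq_top with h | h
    · exact h
    · exfalso
      apply hS
      have hPG : IsPGroup p S := by
        have h1 := pCore_isPGroup (G := S) p
        rw [h] at h1
        exact IsPGroup.of_equiv h1 Subgroup.topEquiv
      haveI := IsPGroup.center_nontrivial hPG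
      have hc : Subgroup.center S = ⊤ := by
        rcases (inferInstance : (Subgroup.center S).Normal).eq_bot_or_eq_top with h2 | h2
        · exfalso
          have : Nontrivial (Subgroup.center S) := inferInstance
          rw [h2] at this
          exact not_nontrivial _ this
        · exact h2
      refine ⟨⟨fun a b => ?_⟩⟩
      have : b ∈ Subgroup.center S := by rw [hc]; trivial
      exact (Subgroup.mem_center_iff.mp this a)
  -- index of `P ∩ Q` in `P`
  obtain ⟨a, ha⟩ := IsPGroup.iff_card.mp P.isPGroup'
  have hidx : ∀ Q : Sylow p S, ((Q : Subgroup S).subgroupOf (P : Subgroup S)).index = 1 ∨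
      ((Q : Subgroup S).subgroupOf (P : Subgroup S)).index = p := by
    intro Q
    have h1 := index_subgroupOf_le P Q
    have h2 := ((Q : Subgroup S).subgroupOf (P : Subgroup S)).index_dvd_card
    rw [ha] at h2
    obtain ⟨i, -, hi⟩ := (Nat.dvd_prime_pow hpp).mp h2
    rw [hi] at h1 ⊢
    have h3 : p ^ i < p ^ 2 := lt_of_le_of_lt h1 hn
    have h4 : i < 2 := (Nat.pow_lt_pow_iff_right hpp.one_lt).mp h3
    interval_cases i
    · left; simp
    · right; simp
  -- `P` is abelian
  have hcomm : ∀ x ∈ (P : Subgroup S), ∀ y ∈ (P : Subgroup S), x * y = y * x := by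
    intro x hx y hy
    have h1 : ∀ Q : Sylow p S, ⁅x, y⁆ ∈ (Q : Subgroup S) := by
      intro Q
      have h2 := commutator_le_of_index (p := p) P.isPGroup'
        ((Q : Subgroup S).subgroupOf (P : Subgroup S)) (hidx Q)
      have h3 : ⁅(⟨x, hx⟩ : (P : Subgroup S)), ⟨y, hy⟩⁆ ∈ commutator (P : Subgroup S) :=
        Subgroup.commutator_mem_commutator (Subgroup.mem_top _) (Subgroup.mem_top _)
      have h4 := h2 h3
      rw [Subgroup.mem_subgroupOf] at h4
      exact h4
    have h5 : ⁅x, y⁆ ∈ Cfsg.pCore p S := by
      rw [pCore_eq_iInf_sylow, Subgroup.mem_iInf]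
      exact h1
    rw [hcore, Subgroup.mem_bot] at h5
    exact commutatorElement_eq_one_iff_mul_comm.mp h5
  obtain ⟨g, hg⟩ := brodkey p P hcomm hcore
  -- the Sylow subgroup `g • P`
  obtain ⟨Q, hQ⟩ : ∃ Q : Sylow p S, (Q : Subgroup S) = MulAut.conj g • (P : Subgroup S) :=
    ⟨MulAut.conj g • P, Sylow.pointwise_smul_def⟩
  have hsub : (Q : Subgroup S).subgroupOf (P : Subgroup S) = ⊥ := by
    rw [hQ, eq_bot_iff]
    intro x hx
    rw [Subgroup.mem_subgroupOf] at hx
    have : (x : S) ∈ (P : Subgroup S) ⊓ MulAut.conj g • (P : Subgroup S) := ⟨x.2, hx⟩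
    rw [hg, Subgroup.mem_bot] at this
    rw [Subgroup.mem_bot]
    exact Subtype.ext this
  have hPcard : Nat.card (P : Subgroup S) ≠ 1 := by
    intro h
    have h1 := P.card_eq_multiplicity
    rw [h] at h1
    have h2 : (Nat.card S).factorization p = 0 := by
      by_contra h3
      have : 1 < p ^ (Nat.card S).factorization p := Nat.one_lt_pow h3 hpp.one_lt
      omega
    have h3 : 0 < (Nat.card S).factorization p :=
      hpp.factorization_pos_of_dvd Nat.card_pos.ne' hp
    omega
  rcases hidx Q with h | h
  · rw [hsub, Subgroup.index_bot] at h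
    exact absurd h hPcard
  · rw [hsub, Subgroup.index_bot] at h
    exact h

end Cfsg.Agent.S4343
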