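import Cfsg.Statements.S4344

set_option autoImplicit false

open Cfsg

namespace Cfsg.Agent.S4344

open scoped Pointwise

/-- two Sylow `p`-subgroups inside a commutative subgroup coincide -/
theorem sylow_eq_of_le_commutative {S : Type*} [Group S] {p : ℕ} [Fact p.Prime]
    (C : Subgroup S) (hC : ∀ a ∈ C, ∀ b ∈ C, a * b = b * a) (P Q : Sylow p S)
    (hP : (P : Subgroup S) ≤ C) (hQ : (Q : Subgroup S) ≤ C) : Q = P := by
  have hQN : (Q : Subgroup S) ≤ Subgroup.normalizer ((P : Subgroup S) : Set S) := by
    intro y hy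
    rw [Subgroup.mem_normalizer_iff]
    intro x
    constructor
    · intro hx
      have : y * x * y⁻¹ = x := by
        rw [hC y (hQ hy) x (hP hx)]; group
      rw [this]; exact hx
    · intro hx
      have hxC : y * x * y⁻¹ ∈ C := hP hx
      have hx' : x ∈ C := by
        have : x = y⁻¹ * (y * x * y⁻¹) * y := by group
        rw [this]
        exact C.mul_mem (C.mul_mem (C.inv_mem (hQ hy)) hxC) (hQ hy)
      have : y * x * y⁻¹ = x := by
        rw [hC y (hQ hy) x hx']; group
      rw [this] at hx; exact hx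
  have hsup : IsPGroup p ((Q : Subgroup S) ⊔ (P : Subgroup S) : Subgroup S) :=
    IsPGroup.to_sup_of_normal_right' Q.isPGroup' P.isPGroup' hQN
  have h1 : ((Q : Subgroup S) ⊔ (P : Subgroup S) : Subgroup S) = P :=
    P.is_maximal' hsup le_sup_right
  have h2 : (Q : Subgroup S) ≤ P := by
    rw [← h1]; exact le_sup_left
  have h3 := Q.is_maximal' P.isPGroup' h2
  exact Sylow.ext h3.symm

theorem result {S : Type*} [Group S] [Finite S]
    [IsSimpleGroup S] (hS : ¬ IsMulCommutative S) (p : ℕ) [Fact p.Prime] (hp : p ∣ Nat.card S)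
    (M : Subgroup S) (hM : IsCoatom M) (C : Subgroup S) (hCM : C ≤ M) (hCn : (C.subgroupOf M).Normal)
    (hC : IsCyclic C) (P : Sylow p S) (hP : (P : Subgroup S) ≤ C) :
    Nat.card (Sylow p S) = M.index := by
  have hCcomm : ∀ a ∈ C, ∀ b ∈ C, a * b = b * a := by
    intro a ha b hb
    have hcomm : IsMulCommutative C := inferInstance
    have := congrArg Subtype.val (hcomm.is_comm.comm ⟨a, ha⟩ ⟨b, hb⟩)
    simpa using this
  -- M normalizes P
  have hMN : M ≤ Subgroup.normalizer ((P : Subgroup S) : Set S) := by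
    intro m hm
    change m ∈ Subgroup.normalizer (P : Set S)
    rw [← Sylow.smul_eq_iff_mem_normalizer]
    apply sylow_eq_of_le_commutative C hCcomm P (m • P) hP
    intro y hy
    rw [Sylow.coe_subgroup_smul, Subgroup.mem_pointwise_smul_iff_inv_smul_mem] at hy
    simp only [MulAut.smul_def, map_inv, MulAut.inv_apply, MulAut.conj_symm_apply] at hy
    -- m⁻¹ * y * m ∈ P ≤ C
    have h1 : m⁻¹ * y * m ∈ C := hP hy
    have h2 := hCn.conj_mem ⟨m⁻¹ * y * m, hCM h1⟩ (Subgroup.mem_subgroupOf.mpr h1) ⟨m, hm⟩
    rw [Subgroup.mem_subgroupOf] at h2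
    have h3 : y = m * (m⁻¹ * y * m) * m⁻¹ := by group
    rw [h3]
    simpa using h2
  have hNtop : Subgroup.normalizer ((P : Subgroup S) : Set S) ≠ ⊤ := by
    intro htop
    have hPn : (P : Subgroup S).Normal := Subgroup.normalizer_eq_top_iff.mp htop
    rcases hPn.eq_bot_or_eq_top with h | h
    · exact P.ne_bot_of_dvd_card hp h
    · -- S is a p-group
      have hpg : IsPGroup p S := by
        have := P.isPGroup'
        rw [h] at this
        exact this.of_equiv Subgroup.topEquiv
      have hnt : Nontrivial (Subgroup.center S) := hpg.center_nontrivial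
      have hcn : (Subgroup.center S).Normal := inferInstance
      rcases hcn.eq_bot_or_eq_top with h' | h'
      · rw [Subgroup.nontrivial_iff_ne_bot] at hnt
        exact hnt h'
      · exact hS (Subgroup.center_eq_top_iff.mp h')
  have hEq : Subgroup.normalizer ((P : Subgroup S) : Set S) = M := by
    rcases lt_or_eq_of_le hMN with h | h
    · exact absurd (hM.2 _ h) hNtop
    · exact h.symm
  rw [Sylow.card_eq_index_normalizer P]
  change (Subgroup.normalizer ((P : Subgroup S) : Set S)).index = M.index
  rw [hEq]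

end Cfsg.Agent.S4344
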