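import Mathlib
import Cfsg.Statements.S4345
import Cfsg.Agent.Lib.Helper8.SylowIndex2
import Cfsg.Agent.Lib.Lead.HallThm

set_option autoImplicit false

open Cfsg

namespace Cfsg.Agent.S4345

open Cfsg.Agent.Lib.Helper8

universe u

theorem pow_factorization_of_dvd_prime_pow {m r k ℓ p : ℕ} (hr : r.Prime)
    (hm : m ∣ r ^ k) (hmod : m ≡ 1 [MOD p]) : ℓ ^ m.factorization ℓ ≡ 1 [MOD p] := by
  obtain ⟨c, -, rfl⟩ := (Nat.dvd_prime_pow hr).mp hm
  rw [Nat.Prime.factorization_pow hr]
  by_cases h : ℓ = r
  · subst h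
    simpa using hmod
  · have : (Finsupp.single r c) ℓ = 0 := Finsupp.single_eq_of_ne (Ne.symm (Ne.symm h))
    rw [this, pow_zero]

theorem main (p ℓ : ℕ) [Fact p.Prime] (hℓ : ℓ.Prime) :
    ∀ (n : ℕ) (G : Type u) [Group G] [Finite G], Nat.card G = n → Group.IsSolvable G →
      ℓ ^ (Nat.card (Sylow p G)).factorization ℓ ≡ 1 [MOD p] := by
  intro n
  induction n using Nat.strong_induction_on with
  | _ n ih =>
    intro G _ _ hn hG
    by_cases htriv : Subsingleton G
    · have : Nat.card (Sylow p G) = 1 := by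
        have hsub : Subsingleton (Sylow p G) := by
          constructor
          intro P Q
          apply Sylow.ext
          rw [Subsingleton.elim (P : Subgroup G) ⊥, Subsingleton.elim (Q : Subgroup G) ⊥]
        exact Nat.card_eq_one_iff_unique.mpr ⟨hsub, inferInstance⟩
      rw [this]
      simp [Nat.ModEq]
    · rw [not_subsingleton_iff_nontrivial] at htriv
      obtain ⟨r, K, hr, hKn, -, hKp, hKne, -⟩ :=
        Cfsg.Agent.Lib.Lead.exists_normal_abelian_pgroup (G := G)
      obtain ⟨P⟩ : Nonempty (Sylow p G) := inferInstance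
      have h1 := card_sylow_eq_quotient_mul_sup p K P
      have h2 := card_sylow_sup_dvd_card p K P
      haveI : Fact r.Prime := ⟨hr⟩
      obtain ⟨k, hk⟩ := IsPGroup.iff_card.mp hKp
      rw [hk] at h2
      have h3 : Nat.card (Sylow p ((P : Subgroup G) ⊔ K : Subgroup G)) ≡ 1 [MOD p] :=
        card_sylow_modEq_one p _
      have hlt : Nat.card (G ⧸ K) < n := by
        rw [← hn, ← Subgroup.index_eq_card K]
        have hcard := Subgroup.card_mul_index K
        have hK1 : 1 < Nat.card K := by
          rw [Subgroup.one_lt_card_iff_ne_bot]; exact hKne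
        have hpos : 0 < K.index := Nat.pos_of_ne_zero Subgroup.index_ne_zero_of_finite
        nlinarith
      have h4 := ih _ hlt (G ⧸ K) rfl inferInstance
      have h5 := pow_factorization_of_dvd_prime_pow (p := p) (ℓ := ℓ) hr h2 h3
      rw [h1, Nat.factorization_mul (Nat.card_pos.ne') (Nat.card_pos.ne'), Finsupp.add_apply,
        pow_add]
      simpa using h4.mul h5

theorem result {G : Type*} [Group G] [Finite G]
    (hG : Group.IsSolvable G) (p ℓ : ℕ) [Fact p.Prime] (hℓ : ℓ.Prime) :
    ℓ ^ (Nat.card (Sylow p G)).factorization ℓ ≡ 1 [MOD p] :=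
  main p ℓ hℓ _ G rfl hG

end Cfsg.Agent.S4345
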