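import Cfsg.Statements.S4347

set_option autoImplicit false
open Cfsg
open scoped Pointwise

namespace Cfsg.Agent.S4347

theorem mem_smul_sylow {G : Type*} [Group G] {p : ℕ} (g x : G) (P : Sylow p G) :
    x ∈ g • P ↔ g⁻¹ * x * g ∈ P := by
  have : x ∈ ((g • P : Sylow p G) : Subgroup G) ↔ g⁻¹ * x * g ∈ (P : Subgroup G) := by
    rw [Sylow.coe_subgroup_smul, Subgroup.mem_pointwise_smul_iff_inv_smul_mem]
    simp [MulAut.smul_def, MulAut.conj_symm_apply]
  exact this

/-- No redundant Sylow iff some p-element in a unique Sylow. -/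
theorem result {G : Type*} [Group G] [Finite G]
    (p : ℕ) [Fact p.Prime] :
    (¬ ∃ Q : Sylow p G, ∀ x : G, (∃ k : ℕ, orderOf x = p ^ k) → ∃ P : Sylow p G, P ≠ Q ∧ x ∈ P) ↔
      ∃ x : G, (∃ k : ℕ, orderOf x = p ^ k) ∧ ∃! P : Sylow p G, x ∈ P := by
  constructor
  · intro hno
    by_contra hcon
    apply hno
    obtain ⟨Q⟩ : Nonempty (Sylow p G) := inferInstance
    refine ⟨Q, ?_⟩
    intro x hx
    -- x lies in some Sylow
    have hpg : IsPGroup p (Subgroup.zpowers x) := by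
      obtain ⟨k, hk⟩ := hx
      apply IsPGroup.of_card (n := k)
      rw [Nat.card_zpowers, hk]
    obtain ⟨P, hP⟩ := hpg.exists_le_sylow
    have hxP : x ∈ P := hP (Subgroup.mem_zpowers x)
    by_cases hxQ : x ∈ Q
    · by_contra hnone
      apply hcon
      refine ⟨x, hx, Q, hxQ, ?_⟩
      intro P' hP'
      by_contra hne
      exact hnone ⟨P', hne, hP'⟩
    · refine ⟨P, ?_, hxP⟩
      rintro rfl
      exact hxQ hxP
  · rintro ⟨x, hx, P₀, hxP₀, huniq⟩
    rintro ⟨Q, hQ⟩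
    obtain ⟨g, hg⟩ := MulAction.exists_smul_eq G P₀ Q
    have hy : ∃ k : ℕ, orderOf (g * x * g⁻¹) = p ^ k := by
      obtain ⟨k, hk⟩ := hx
      refine ⟨k, ?_⟩
      have hs : SemiconjBy g x (g * x * g⁻¹) := by
        unfold SemiconjBy; group
      rw [← hs.orderOf_eq, hk]
    obtain ⟨P, hPQ, hyP⟩ := hQ _ hy
    have h1 : x ∈ g⁻¹ • P := by
      rw [mem_smul_sylow, inv_inv]; exact hyP
    have h2 : g⁻¹ • P = P₀ := huniq _ h1
    apply hPQ
    rw [← hg, ← h2, smul_inv_smul]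

end Cfsg.Agent.S4347
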