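import Cfsg.Statements.S4348

set_option autoImplicit false

open Cfsg

namespace Cfsg.Agent.S4348

theorem pCore_le_sylow {G : Type*} [Group G] (p : ℕ) [Fact p.Prime] (Q : Sylow p G) :
    Cfsg.pCore p G ≤ Q := by
  have hn : (Cfsg.pCore p G).Normal := Subgroup.sSup_normal _ (fun _ hH => hH.1)
  have hp : IsPGroup p (Cfsg.pCore p G) :=
    Sylow.sSup_of_normal _ (fun _ hH => hH.2) (fun _ hH => hH.1)
  exact hp.le_sylow_of_normal Q

theorem result {G : Type*} [Group G] [Finite G]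
    (p : ℕ) [Fact p.Prime] (P : Sylow p G)
    [hn : ((Cfsg.pCore p G).subgroupOf (P : Subgroup G)).Normal]
    (hc : IsCyclic ((P : Subgroup G) ⧸ (Cfsg.pCore p G).subgroupOf (P : Subgroup G))) :
    ∃ x : G, (∃ k : ℕ, orderOf x = p ^ k) ∧ ∃! Q : Sylow p G, x ∈ Q := by
  obtain ⟨q, hq⟩ := hc.exists_generator
  obtain ⟨x', rfl⟩ := QuotientGroup.mk_surjective q
  refine ⟨(x' : G), ?_, P, x'.2, ?_⟩
  · obtain ⟨k, hk⟩ := P.isPGroup' x'
    have hdvd : orderOf x' ∣ p ^ k := orderOf_dvd_of_pow_eq_one hk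
    obtain ⟨j, -, hj⟩ := (Nat.dvd_prime_pow Fact.out).mp hdvd
    exact ⟨j, by rw [Subgroup.orderOf_coe, hj]⟩
  · intro Q hxQ
    have hPQ : (P : Subgroup G) ≤ Q := by
      intro y hy
      have hmem := hq (QuotientGroup.mk (⟨y, hy⟩ : (P : Subgroup G)))
      obtain ⟨n, hn'⟩ := hmem
      -- (mk x')^n = mk y
      have h1 : (QuotientGroup.mk (x' ^ n) :
          (P : Subgroup G) ⧸ (Cfsg.pCore p G).subgroupOf (P : Subgroup G)) =
          QuotientGroup.mk ⟨y, hy⟩ := by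
        rw [QuotientGroup.mk_zpow]; exact hn'
      rw [QuotientGroup.eq] at h1
      rw [Subgroup.mem_subgroupOf] at h1
      have h2 : ((x' ^ n)⁻¹ * ⟨y, hy⟩ : (P : Subgroup G)).1 ∈ (Q : Subgroup G) :=
        pCore_le_sylow p Q h1
      have h3 : y = (x' : G) ^ n * ((x' ^ n)⁻¹ * ⟨y, hy⟩ : (P : Subgroup G)).1 := by
        simp
      rw [h3]
      exact Subgroup.mul_mem _ (Subgroup.zpow_mem _ hxQ n) h2
    have := P.is_maximal' Q.isPGroup' hPQ
    exact Sylow.ext this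

end Cfsg.Agent.S4348
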