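import Cfsg.Statements.S4349
import Mathlib
import Cfsg.Agent.Lib.Helper2.USyl5
import Cfsg.Agent.Lib.Helper2.USyl6
import Cfsg.Agent.Lib.Helper2.USyl8

set_option autoImplicit false
open Cfsg

namespace Cfsg.Agent.S4349

open Cfsg.Agent.Lib.Helper2.USyl in
theorem s4349_aux (n : ℕ) (x : Equiv.Perm (Fin n)) (hx : ∃ k : ℕ, orderOf x = 2 ^ k) :
    (∃! P : Sylow 2 (Equiv.Perm (Fin n)), x ∈ P) ↔ (n ≤ x.support.card + 2 ∧ x.cycleType.Nodup) := by
  constructor
  · rintro ⟨P, hxP, huniq⟩
    have huniq' : ∀ Q : Sylow 2 (Equiv.Perm (Fin n)), x ∈ Q → Q = P := fun Q hQ => huniq Q hQ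
    constructor
    · by_contra hlt
      push Not at hlt
      have hF : 2 < (Finset.univ \ x.support).card := by
        rw [Finset.card_sdiff_of_subset (Finset.subset_univ _), Finset.card_univ, Fintype.card_fin]
        omega
      obtain ⟨a, ha, b, hb, c, hc, hab, hac, hbc⟩ := Finset.two_lt_card.mp hF
      have fixd : ∀ z ∈ Finset.univ \ x.support, x z = z := by
        intro z hz
        rw [Finset.mem_sdiff, Equiv.Perm.mem_support, not_not] at hz
        exact hz.2
      exact fixed_le_two x P hxP huniq' a b c (fixd a ha) (fixd b hb) (fixd c hc) hab hac hbc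
    · by_contra hnd
      rw [Equiv.Perm.cycleType_def,
        Multiset.nodup_map_iff_inj_on x.cycleFactorsFinset.nodup] at hnd
      push Not at hnd
      obtain ⟨c1, h1, c2, h2, hcard, hne⟩ := hnd
      exact cycles_distinct x P hxP huniq' c1 c2 (Finset.mem_val.mp h1) (Finset.mem_val.mp h2) hne
        hcard
  · rintro ⟨h1, h2⟩
    have hgood : Good x := good_of_cycleType x (by rw [Fintype.card_fin]; exact h1) h2
    obtain ⟨k, hk⟩ := hx
    have hzp : IsPGroup 2 (Subgroup.zpowers x) :=
      isPGroup_zpowers_of_pow x k (by rw [← hk]; exact pow_orderOf_eq_one x)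
    obtain ⟨P, hP⟩ := hzp.exists_le_sylow
    have hxP : x ∈ P := hP (Subgroup.mem_zpowers x)
    exact ⟨P, hxP, fun Q hQ => sylow_unique_of_good n x hgood Q P hQ hxP⟩

/-- Let n ≥ 2 and let x be an element of 2-power order of the symmetric group of degree n. Then x lies in exactly one Sylow 2-subgroup if and only if x has at most two fixed points and the nontrivial cycles of x have pairwise different lengths. -/
theorem result (n : ℕ) (hn : 2 ≤ n)
    (x : Equiv.Perm (Fin n)) (hx : ∃ k : ℕ, orderOf x = 2 ^ k) :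
    (∃! P : Sylow 2 (Equiv.Perm (Fin n)), x ∈ P) ↔ (n ≤ x.support.card + 2 ∧ x.cycleType.Nodup) := by
  exact s4349_aux n x hx

end Cfsg.Agent.S4349
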