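import Cfsg.Statements.S4359
import Cfsg.Agent.Lib.Helper8.Gl69Defs
import Cfsg.Agent.Lib.Helper1.Gl69G1a
import Cfsg.Agent.Lib.Helper9.Gl69G1b
import Cfsg.Agent.Lib.Helper8.Gl69G2a
import Cfsg.Agent.Lib.Helper8.Gl69G2b
import Cfsg.Agent.Lib.Helper6.Gl69G3

set_option autoImplicit false
open Pointwise
open Cfsg

namespace Cfsg.Agent.S4359

open Cfsg.Agent.Lib.Helper8.Gl69 in
/-- Let P be a subgroup of a finite group G and g an element such that P ∩ g⁻¹Pg is a normal subgroup of prime index p in g⁻¹Pg. Let n ≥ 1 and let K be the subgroup generated by P and its conjugates g⁻ⁱPgⁱ for i ≤ n. Suppose that g normalizes no non-identity normal subgroup of P and that P meets the center of K trivially. Then the order of P is pᵗ for some t with 1 ≤ t ≤ 3n and t ≠ 3n - 1. -/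
theorem result {G : Type*} [Group G] [Finite G]
    (P : Subgroup G) (g : G) (p : ℕ) (hp : p.Prime)
    (hN : ((P ⊓ MulAut.conj g⁻¹ • P).subgroupOf (MulAut.conj g⁻¹ • P)).Normal)
    (hidx : (P ⊓ MulAut.conj g⁻¹ • P).relIndex (MulAut.conj g⁻¹ • P) = p)
    (n : ℕ) (hn : 1 ≤ n) (K : Subgroup G) (hK : K = ⨆ i ∈ Finset.range (n + 1), MulAut.conj (g ^ i)⁻¹ • P)
    (h1 : ∀ Q : Subgroup G, Q ≤ P → (Q.subgroupOf P).Normal → MulAut.conj g • Q = Q → Q = ⊥)
    (h2 : P ⊓ (Subgroup.center K).map K.subtype = ⊥) :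
    ∃ t : ℕ, Nat.card P = p ^ t ∧ 1 ≤ t ∧ t ≤ 3 * n ∧ t ≠ 3 * n - 1 := by
  obtain ⟨t, ht1, hc⟩ := chain_card P g p hp hN hidx h1
  obtain ⟨x, hS, hPx⟩ := exists_seq P g p hp t ht1 hc
  have hcomm := fun k hk1 hk => seq_commute hp hS k hk1 hk
  obtain ⟨h3, h4⟩ := endgame hS hp ht1 hcomm P hPx n hn K hK h2
  refine ⟨t, ?_, ht1, h3, h4⟩
  have h0 := hc 0 (Nat.zero_le _)
  have hch : chain P g 0 = P := by
    simp [chain, cj]
  rw [hch, Nat.sub_zero] at h0
  exact h0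

end Cfsg.Agent.S4359
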