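import Mathlib
import Cfsg.Statements.S4364
import Cfsg.Agent.Lib.Helper8.KZ7

set_option autoImplicit false
open Cfsg

namespace Cfsg.Agent.S4364

open Cfsg.Agent.Lib.Lead Cfsg.Agent.Lib.Helper8 Cfsg.Agent.Lib.Helper8.KZ

/-- Let G be a finite group, p a prime and x an element whose conjugacy class has p-power size. Then for any two conjugates y and z of x, the commutator y z y⁻¹ z⁻¹ lies in O_p(G), the largest normal p-subgroup of G. -/
theorem result {G : Type*} [Group G] [Finite G] (p : ℕ) [Fact p.Prime]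
    (x : G) (hx : ∃ a : ℕ, (Subgroup.centralizer ({x} : Set G)).index = p ^ a) (g h : G) :
    (g * x * g⁻¹) * (h * x * h⁻¹) * (g * x * g⁻¹)⁻¹ * (h * x * h⁻¹)⁻¹ ∈ Cfsg.pCore p G := by
  have hp : p.Prime := Fact.out
  haveI hn : (pCore p G).Normal := pCore_normal (G := G) p
  obtain ⟨a, ha⟩ := hx
  set π := QuotientGroup.mk' (pCore p G) with hπ
  have hdvd : (Subgroup.centralizer ({π x} : Set (G ⧸ pCore p G))).index ∣ p ^ a := by
    rw [← ha]
    exact index_centralizer_quotient_dvd (pCore p G) x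
  obtain ⟨b, -, hb⟩ := (Nat.dvd_prime_pow hp).1 hdvd
  have hcore : pCore p (G ⧸ pCore p G) = ⊥ := pCore_quotient_pCore_eq_bot p
  have hNn : (Subgroup.normalClosure ({π x} : Set (G ⧸ pCore p G))).Normal :=
    Subgroup.normalClosure_normal
  have hmem : ∀ t : G, π (t * x * t⁻¹) ∈ Subgroup.normalClosure ({π x} : Set (G ⧸ pCore p G)) := by
    intro t
    rw [map_mul, map_mul, map_inv]
    exact hNn.conj_mem _ (Subgroup.subset_normalClosure (Set.mem_singleton _)) _
  have hcomm := commute_of_mem_normalClosure hp hcore (π x) hb (hmem g) (hmem h)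
  rw [← QuotientGroup.eq_one_iff]
  show π _ = 1
  rw [map_mul, map_mul, map_mul, map_inv, map_inv, hcomm]
  group

end Cfsg.Agent.S4364
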