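import Mathlib
import Cfsg.Statements.S4370
import Cfsg.Agent.S0016

set_option autoImplicit false

open Cfsg

namespace Cfsg.Agent.S4370

open QuaternionGroup

theorem zmod_double_eq_zero {n : ℕ} [NeZero n] (j : ZMod (2 * n)) (hj : j + j = 0) :
    j = 0 ∨ j = (n : ZMod (2 * n)) := by
  have hpos : 0 < n := NeZero.pos n
  have : NeZero (2 * n) := ⟨by omega⟩
  have h1 : ((j.val + j.val : ℕ) : ZMod (2 * n)) = 0 := by
    rw [Nat.cast_add, ZMod.natCast_zmod_val]
    exact hj
  rw [ZMod.natCast_eq_zero_iff] at h1
  have h2 : j.val < 2 * n := ZMod.val_lt j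
  obtain ⟨c, hc⟩ := h1
  have hc2 : c < 2 := by
    by_contra hge
    push Not at hge
    have : 2 * n * 2 ≤ 2 * n * c := Nat.mul_le_mul_left _ hge
    omega
  interval_cases c
  · left
    have : j.val = 0 := by omega
    exact (ZMod.val_eq_zero j).1 this
  · right
    have h3 : j.val = n := by omega
    have h4 : ((j.val : ℕ) : ZMod (2 * n)) = j := ZMod.natCast_zmod_val j
    rw [← h4]
    exact congrArg (Nat.cast : ℕ → ZMod (2 * n)) h3

theorem quat_central_or_cyclic {n : ℕ} [NeZero n] (g : QuaternionGroup n) :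
    g ∈ Subgroup.center (QuaternionGroup n) ∨ IsCyclic (Subgroup.centralizer ({g} : Set (QuaternionGroup n))) := by
  have hnn : ((n : ZMod (2 * n)) + n) = 0 := by
    have : ((2 * n : ℕ) : ZMod (2 * n)) = 0 := ZMod.natCast_self _
    rw [← this]
    push_cast
    ring
  rcases g with i | i
  · by_cases hi : i + i = 0
    · left
      rw [Subgroup.mem_center_iff]
      rintro (j | j)
      · simp [add_comm]
      · simp only [xa_mul_a, a_mul_xa]
        congr 1
        have : j + i = j - i + (i + i) := by ring
        rw [this, hi, add_zero]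
    · right
      have hle : Subgroup.centralizer ({a i} : Set (QuaternionGroup n)) ≤ Subgroup.zpowers (a 1) := by
        intro x hx
        rw [Subgroup.mem_centralizer_iff] at hx
        have hx' := hx (a i) rfl
        rcases x with j | j
        · rw [Subgroup.mem_zpowers_iff]
          refine ⟨(j.val : ℤ), ?_⟩
          rw [zpow_natCast, a_one_pow, ZMod.natCast_zmod_val]
        · exfalso
          simp only [xa_mul_a, a_mul_xa] at hx'
          injection hx' with hx''
          apply hi
          have : i + i = (j + i) - (j - i) := by ring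
          rw [this, ← hx'', sub_self]
      exact Subgroup.isCyclic_of_le hle
  · right
    have hle : Subgroup.centralizer ({xa i} : Set (QuaternionGroup n)) ≤ Subgroup.zpowers (xa i) := by
      intro x hx
      rw [Subgroup.mem_centralizer_iff] at hx
      have hx' := hx (xa i) rfl
      rcases x with j | j
      · simp only [xa_mul_a, a_mul_xa] at hx'
        injection hx' with hx''
        have hjj : j + j = 0 := by
          have : j + j = (i + j) - (i - j) := by ring
          rw [this, hx'', sub_self]
        rcases zmod_double_eq_zero j hjj with rfl | rfl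
        · rw [a_zero]
          exact Subgroup.one_mem _
        · rw [← xa_sq i]
          exact Subgroup.pow_mem _ (Subgroup.mem_zpowers _) 2
      · simp only [xa_mul_xa] at hx'
        injection hx' with hx''
        have hjj : (j - i) + (j - i) = 0 := by
          have : (j - i) + (j - i) = ((n : ZMod (2 * n)) + j - i) - ((n : ZMod (2 * n)) + i - j) := by ring
          rw [this, hx'', sub_self]
        rcases zmod_double_eq_zero (j - i) hjj with h0 | h0
        · have : j = i := sub_eq_zero.1 h0
          rw [this]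
          exact Subgroup.mem_zpowers _
        · have hj : j = i + n := by rw [← h0]; ring
          have h3 : xa j = (xa i) ^ 3 := by
            rw [pow_succ, xa_sq, a_mul_xa, hj]
            congr 1
            have : i - (n : ZMod (2 * n)) = i + n - (n + n) := by ring
            rw [this, hnn, sub_zero]
          rw [h3]
          exact Subgroup.pow_mem _ (Subgroup.mem_zpowers _) 3
    exact Subgroup.isCyclic_of_le hle

theorem backward {G : Type*} [Group G] [Finite G] (k m : ℕ) (hm : Odd m)
    (e : G ≃* QuaternionGroup (2 ^ k) × Multiplicative (ZMod m)) (x : G)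
    (hx : x ∉ Subgroup.center G) :
    IsCyclic (Subgroup.centralizer ({x} : Set G)) := by
  have hm0 : NeZero m := ⟨by rintro rfl; simp at hm⟩
  set g := (e x).1 with hg
  have hgc : g ∉ Subgroup.center (QuaternionGroup (2 ^ k)) := by
    intro hgc
    apply hx
    rw [Subgroup.mem_center_iff] at hgc ⊢
    intro y
    apply e.injective
    rw [map_mul, map_mul]
    apply Prod.ext
    · simp only [Prod.fst_mul]
      exact hgc (e y).1
    · simp only [Prod.snd_mul]
      exact mul_comm _ _
  have hcyc : IsCyclic (Subgroup.centralizer ({g} : Set (QuaternionGroup (2 ^ k)))) :=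
    (quat_central_or_cyclic g).resolve_left hgc
  let f : Subgroup.centralizer ({x} : Set G) →*
      Subgroup.centralizer ({g} : Set (QuaternionGroup (2 ^ k))) × Multiplicative (ZMod m) :=
    { toFun := fun c => (⟨(e c).1, by
          rw [Subgroup.mem_centralizer_iff]
          intro h hh
          rw [Set.mem_singleton_iff] at hh
          rw [hh, hg]
          have h1 := (Subgroup.mem_centralizer_iff.1 c.2) x rfl
          have h2 := congrArg (fun t => (e t).1) h1
          simpa using h2⟩, (e c).2)
      map_one' := by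
        apply Prod.ext
        · apply Subtype.ext
          simp
        · simp
      map_mul' := by
        intro c d
        apply Prod.ext
        · apply Subtype.ext
          simp
        · simp }
  have hf : Function.Injective f := by
    intro c d hcd
    apply Subtype.ext
    apply e.injective
    have h1 := congrArg (fun t => (t.1 : QuaternionGroup (2 ^ k))) hcd
    have h2 := congrArg (fun t => t.2) hcd
    exact Prod.ext h1 h2
  have hZ : IsCyclic (Multiplicative (ZMod m)) := inferInstance
  have hcop : (Nat.card (Subgroup.centralizer ({g} : Set (QuaternionGroup (2 ^ k))))).Coprime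
      (Nat.card (Multiplicative (ZMod m))) := by
    have h1 : Nat.card (Subgroup.centralizer ({g} : Set (QuaternionGroup (2 ^ k)))) ∣ 4 * 2 ^ k := by
      have := Subgroup.card_subgroup_dvd_card (Subgroup.centralizer ({g} : Set (QuaternionGroup (2 ^ k))))
      rwa [Nat.card_eq_fintype_card (α := QuaternionGroup (2 ^ k)), QuaternionGroup.card] at this
    have h2 : Nat.card (Multiplicative (ZMod m)) = m := by
      rw [Nat.card_congr Multiplicative.toAdd, Nat.card_zmod]
    rw [h2]
    apply Nat.Coprime.coprime_dvd_left h1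
    have h3 : 4 * 2 ^ k = 2 ^ (k + 2) := by ring
    rw [h3]
    apply Nat.Coprime.pow_left
    exact (Nat.coprime_two_left.2 hm)
  have hT : IsCyclic (Subgroup.centralizer ({g} : Set (QuaternionGroup (2 ^ k))) ×
      Multiplicative (ZMod m)) := Group.isCyclic_prod_iff.2 ⟨hcyc, hZ, hcop⟩
  exact isCyclic_of_injective f hf

section Forward

variable {G : Type*} [Group G] [Finite G]

theorem comm_of_sylow_comm (hG : Group.IsNilpotent G)
    (h : ∀ p ∈ (Nat.card G).primeFactors, ∀ P : Sylow p G, ∀ x ∈ P, ∀ y ∈ P, x * y = y * x)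
    (a b : G) : a * b = b * a := by
  obtain ⟨e⟩ := ((Group.isNilpotent_of_finite_tfae (G := G)).out 0 4).mp hG
  have hpi : ∀ f g : (∀ p : (Nat.card G).primeFactors, ∀ P : Sylow p G, (↑P : Subgroup G)),
      f * g = g * f := by
    intro f g
    funext p P
    apply Subtype.ext
    exact h p p.2 P _ (f p P).2 _ (g p P).2
  have := hpi (e.symm a) (e.symm b)
  rw [← map_mul, ← map_mul] at this
  exact e.symm.injective this

theorem mem_normal_sylow {p : ℕ} [Fact p.Prime] (P : Sylow p G) [hP : P.Normal] (y : G) (b : ℕ)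
    (hy : y ^ p ^ b = 1) : y ∈ P := by
  have hyp : IsPGroup p (Subgroup.zpowers y) := by
    rw [IsPGroup.iff_orderOf]
    intro z
    have h1 : (z : G) ^ p ^ b = 1 := by
      obtain ⟨j, hj⟩ := Subgroup.mem_zpowers_iff.1 z.2
      rw [← hj, ← zpow_natCast, ← zpow_mul, mul_comm, zpow_mul, zpow_natCast, hy, one_zpow]
    have h2 : orderOf z ∣ p ^ b := by
      rw [← Subgroup.orderOf_coe]
      exact orderOf_dvd_of_pow_eq_one h1
    obtain ⟨i, _, hi⟩ := (Nat.dvd_prime_pow Fact.out).1 h2
    exact ⟨i, hi⟩
  obtain ⟨Q, hQ⟩ := hyp.exists_le_sylow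
  have := Sylow.unique_of_normal P hP
  have hQP : Q = P := Subsingleton.elim _ _
  rw [← hQP]
  exact hQ (Subgroup.mem_zpowers y)

theorem dvd_of_forall_prime_pow {n d : ℕ} (hn : n ≠ 0) (hd : d ≠ 0)
    (h : ∀ q : ℕ, q.Prime → q ^ n.factorization q ∣ d) : n ∣ d := by
  rw [← Nat.factorization_le_iff_dvd hn hd]
  intro q
  by_cases hq : q.Prime
  · exact (hq.pow_dvd_iff_le_factorization hd).1 (h q hq)
  · rw [Nat.factorization_eq_zero_of_not_prime n hq]
    exact Nat.zero_le _

/-- In a cyclic subgroup two elements of the same prime order generate the same subgroup. -/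
theorem mem_zpowers_of_cyclic (C : Subgroup G) [IsCyclic C] (p : ℕ) (hp : p.Prime) (h z : G)
    (hh : h ∈ C) (hz : z ∈ C) (hho : h ^ p = 1) (hzo : orderOf z = p) : h ∈ Subgroup.zpowers z := by
  classical
  have : Fintype C := Fintype.ofFinite C
  have hle := IsCyclic.card_pow_eq_one_le (α := C) (n := p) hp.pos
  set S : Finset C := Finset.univ.filter (fun a : C => a ^ p = 1) with hS
  set T : Finset C := (Finset.range p).image (fun k => (⟨z, hz⟩ : C) ^ k) with hT
  have hzo' : orderOf (⟨z, hz⟩ : C) = p := by rw [← hzo, Subgroup.orderOf_mk]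
  have hTS : T ⊆ S := by
    intro a ha
    rw [hT, Finset.mem_image] at ha
    obtain ⟨k, _, rfl⟩ := ha
    rw [hS, Finset.mem_filter]
    refine ⟨Finset.mem_univ _, ?_⟩
    rw [← pow_mul, mul_comm, pow_mul, ← hzo', pow_orderOf_eq_one, one_pow]
  have hTcard : T.card = p := by
    rw [hT, Finset.card_image_of_injOn, Finset.card_range]
    intro k hk l hl hkl
    simp only [Finset.coe_range, Set.mem_Iio] at hk hl
    rw [← hzo'] at hk hl
    exact pow_injOn_Iio_orderOf hk hl hkl
  have hST : S = T := (Finset.eq_of_subset_of_card_le hTS (by rw [hTcard]; exact hle)).symm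
  have hhS : (⟨h, hh⟩ : C) ∈ S := by
    rw [hS, Finset.mem_filter]
    refine ⟨Finset.mem_univ _, ?_⟩
    apply Subtype.ext
    simpa using hho
  rw [hST, hT, Finset.mem_image] at hhS
  obtain ⟨k, _, hk⟩ := hhS
  rw [Subgroup.mem_zpowers_iff]
  refine ⟨k, ?_⟩
  have := congrArg Subtype.val hk
  simpa using this

theorem forward (hG : Group.IsNilpotent G) (hna : ¬ IsMulCommutative G)
    (h : ∀ x : G, x ∉ Subgroup.center G → IsCyclic (Subgroup.centralizer ({x} : Set G))) :
    ∃ (k m : ℕ), 1 ≤ k ∧ Odd m ∧
      Nonempty (G ≃* QuaternionGroup (2 ^ k) × Multiplicative (ZMod m)) := by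
  classical
  -- a non-abelian Sylow subgroup
  have hex : ∃ p ∈ (Nat.card G).primeFactors, ∃ P : Sylow p G, ∃ x ∈ P, ∃ y ∈ P, x * y ≠ y * x := by
    by_contra hcon
    push Not at hcon
    exact hna ⟨⟨comm_of_sylow_comm hG hcon⟩⟩
  obtain ⟨p, hpmem, P, x, hxP, y₀, hy₀P, hxy⟩ := hex
  have hp : p.Prime := Nat.prime_of_mem_primeFactors hpmem
  have : Fact p.Prime := ⟨hp⟩
  have hPn : P.Normal := inferInstance
  have hxc : x ∉ Subgroup.center G := by
    intro hc
    exact hxy ((Subgroup.mem_center_iff.1 hc y₀).symm)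
  have hC : IsCyclic (Subgroup.centralizer ({x} : Set G)) := h x hxc
  set K : Subgroup G := Subgroup.centralizer ((P : Subgroup G) : Set G) with hK
  have hKC : K ≤ Subgroup.centralizer ({x} : Set G) :=
    Subgroup.centralizer_le (by simpa using hxP)
  have hKcyc : IsCyclic K := Subgroup.isCyclic_of_le hKC
  -- the other Sylow subgroups centralize `P`
  have hother : ∀ q : ℕ, q.Prime → q ≠ p → ∀ Q : Sylow q G, (Q : Subgroup G) ≤ K := by
    intro q hq hqp Q
    have : Fact q.Prime := ⟨hq⟩
    have hQn : Q.Normal := inferInstance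
    have hdis : Disjoint (Q : Subgroup G) (P : Subgroup G) :=
      IsPGroup.disjoint_of_ne q p hqp _ _ Q.2 P.2
    intro u hu
    rw [hK, Subgroup.mem_centralizer_iff]
    intro v hv
    exact (Subgroup.commute_of_normal_of_disjoint _ _ hQn hPn hdis u v hu hv).eq.symm
  -- `P ⊔ K = ⊤`
  have hPK : (P : Subgroup G) ⊔ K = ⊤ := by
    apply Subgroup.eq_top_of_card_eq
    apply Nat.dvd_antisymm (Subgroup.card_subgroup_dvd_card _)
    apply dvd_of_forall_prime_pow Nat.card_pos.ne' Nat.card_pos.ne'
    intro q hq
    have : Fact q.Prime := ⟨hq⟩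
    by_cases hqp : q = p
    · subst hqp
      rw [← P.card_eq_multiplicity]
      exact Subgroup.card_dvd_of_le le_sup_left
    · obtain ⟨Q⟩ : Nonempty (Sylow q G) := inferInstance
      rw [← Q.card_eq_multiplicity]
      exact Subgroup.card_dvd_of_le ((hother q hq hqp Q).trans le_sup_right)
  -- a generator of `K`
  obtain ⟨c, hc⟩ := (Subgroup.isCyclic_iff_exists_zpowers_eq_top K).1 hKcyc
  have hcK : c ∈ K := by rw [← hc]; exact Subgroup.mem_zpowers c
  have hN0 : orderOf c ≠ 0 := (orderOf_pos c).ne'
  obtain ⟨a, m, hpm, hNam⟩ := Nat.exists_eq_pow_mul_and_not_dvd hN0 p hp.ne_one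
  set M : Subgroup G := Subgroup.zpowers (c ^ p ^ a) with hM
  have hMK : M ≤ K := by
    rw [hM, Subgroup.zpowers_le]
    exact K.pow_mem hcK _
  have hMm : ∀ y ∈ M, y ^ m = 1 := by
    intro y hy
    obtain ⟨j, rfl⟩ := Subgroup.mem_zpowers_iff.1 hy
    rw [← zpow_natCast, ← zpow_mul, mul_comm, zpow_mul, zpow_natCast, ← pow_mul, ← hNam,
      pow_orderOf_eq_one, one_zpow]
  have hcop : Nat.Coprime (p ^ a) m := Nat.Coprime.pow_left a ((Nat.Prime.coprime_iff_not_dvd hp).2 hpm)
  -- `P ⊓ M = ⊥`
  have hPM : Disjoint (P : Subgroup G) M := by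
    rw [Subgroup.disjoint_def]
    intro y hyP hyM
    obtain ⟨b, hb⟩ := (IsPGroup.iff_orderOf.1 P.2) ⟨y, hyP⟩
    rw [Subgroup.orderOf_mk] at hb
    have h1 : orderOf y ∣ m := orderOf_dvd_of_pow_eq_one (hMm y hyM)
    rw [hb] at h1
    rcases Nat.eq_zero_or_pos b with rfl | hbpos
    · rw [pow_zero, orderOf_eq_one_iff] at hb
      exact hb
    · exact absurd (dvd_trans (dvd_pow_self p hbpos.ne') h1) hpm
  -- `K ≤ P ⊔ M`
  have hKPM : K ≤ (P : Subgroup G) ⊔ M := by
    rw [← hc, Subgroup.zpowers_le]
    have h1 : c ^ m ∈ (P : Subgroup G) := by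
      apply mem_normal_sylow P (c ^ m) a
      rw [← pow_mul, mul_comm, ← hNam, pow_orderOf_eq_one]
    have h2 : c ^ p ^ a ∈ M := Subgroup.mem_zpowers _
    have hbez := Nat.gcd_eq_gcd_ab (p ^ a) m
    rw [Nat.Coprime.gcd_eq_one hcop] at hbez
    have h3 : c = (c ^ p ^ a) ^ (Nat.gcdA (p ^ a) m) * (c ^ m) ^ (Nat.gcdB (p ^ a) m) := by
      rw [← zpow_natCast c (p ^ a), ← zpow_natCast c m, ← zpow_mul, ← zpow_mul, ← zpow_add]
      rw [← hbez, Nat.cast_one, zpow_one]
    rw [h3]
    exact Subgroup.mul_mem _ (Subgroup.zpow_mem _ (Subgroup.mem_sup_right h2) _)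
      (Subgroup.zpow_mem _ (Subgroup.mem_sup_left h1) _)
  have hPMtop : (P : Subgroup G) ⊔ M = ⊤ := by
    rw [eq_top_iff, ← hPK]
    exact sup_le le_sup_left hKPM
  -- a central element of order `p` in `P`
  have hPnt : Nontrivial (P : Subgroup G) := ⟨⟨⟨x, hxP⟩, 1, fun hx1 => by
    have hx1' : x = 1 := congrArg Subtype.val hx1
    apply hxy
    rw [hx1', one_mul, mul_one]⟩⟩
  have hZnt : Nontrivial (Subgroup.center (P : Subgroup G)) := IsPGroup.center_nontrivial P.2
  have hpZ : p ∣ Nat.card (Subgroup.center (P : Subgroup G)) := by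
    obtain ⟨n, hn⟩ := IsPGroup.iff_card.1 (P.2.to_subgroup (Subgroup.center (P : Subgroup G)))
    rw [hn]
    rcases Nat.eq_zero_or_pos n with rfl | hnpos
    · rw [pow_zero] at hn
      have := (Nat.card_eq_one_iff_unique.1 hn).1
      exact absurd hZnt (not_nontrivial _)
    · exact dvd_pow_self p hnpos.ne'
  obtain ⟨z', hz'⟩ := exists_prime_orderOf_dvd_card' p hpZ
  obtain ⟨z, hzP, hzc, hzo⟩ : ∃ z : G, z ∈ (P : Subgroup G) ∧ (∀ v ∈ (P : Subgroup G), z * v = v * z) ∧
      orderOf z = p := by
    refine ⟨((z' : (P : Subgroup G)) : G), (z' : (P : Subgroup G)).2, ?_, ?_⟩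
    · intro v hv
      have := Subgroup.mem_center_iff.1 z'.2 ⟨v, hv⟩
      have := congrArg Subtype.val this
      simpa using this.symm
    · rw [Subgroup.orderOf_coe, Subgroup.orderOf_coe]
      exact hz'
  -- every element of order dividing `p` of `P` is a power of `z`
  have hkey : ∀ u ∈ (P : Subgroup G), u ^ p = 1 → u ∈ Subgroup.zpowers z := by
    intro u hu hup
    by_cases huc : u ∈ Subgroup.center G
    · have : IsCyclic (Subgroup.centralizer ({x} : Set G)) := hC
      apply mem_zpowers_of_cyclic (Subgroup.centralizer ({x} : Set G)) p hp u z _ _ hup hzo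
      · rw [Subgroup.mem_centralizer_iff]
        intro w hw
        rw [Set.mem_singleton_iff] at hw
        subst hw
        exact (Subgroup.mem_center_iff.1 huc w)
      · rw [Subgroup.mem_centralizer_iff]
        intro w hw
        rw [Set.mem_singleton_iff] at hw
        subst hw
        exact (hzc w hxP).symm
    · have : IsCyclic (Subgroup.centralizer ({u} : Set G)) := h u huc
      apply mem_zpowers_of_cyclic (Subgroup.centralizer ({u} : Set G)) p hp u z _ _ hup hzo
      · rw [Subgroup.mem_centralizer_iff]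
        intro w hw
        rw [Set.mem_singleton_iff] at hw
        subst hw
        rfl
      · rw [Subgroup.mem_centralizer_iff]
        intro w hw
        rw [Set.mem_singleton_iff] at hw
        subst hw
        exact (hzc w hu).symm
  have hzo' : orderOf (⟨z, hzP⟩ : (P : Subgroup G)) = p := by
    rw [Subgroup.orderOf_mk]; exact hzo
  have hH : ∀ H : Subgroup (P : Subgroup G), Nat.card H = p →
      H = Subgroup.zpowers (⟨z, hzP⟩ : (P : Subgroup G)) := by
    intro H hHc
    have hle : H ≤ Subgroup.zpowers (⟨z, hzP⟩ : (P : Subgroup G)) := by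
      intro u hu
      have h1 : (⟨u, hu⟩ : H) ^ Nat.card H = 1 := pow_card_eq_one'
      rw [hHc] at h1
      have h2 : ((u : (P : Subgroup G)) : G) ^ p = 1 := by
        have := congrArg (fun t : H => ((t : (P : Subgroup G)) : G)) h1
        simpa using this
      obtain ⟨k, hk⟩ := Subgroup.mem_zpowers_iff.1 (hkey _ u.2 h2)
      rw [Subgroup.mem_zpowers_iff]
      refine ⟨k, ?_⟩
      apply Subtype.ext
      simpa using hk
    apply Subgroup.eq_of_le_of_card_ge hle
    rw [hHc, Nat.card_zpowers, hzo']
  have huniq : ∀ H K : Subgroup (P : Subgroup G), Nat.card H = p → Nat.card K = p → H = K := by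
    intro H K hH1 hK1
    rw [hH H hH1, hH K hK1]
  have hPnc : ¬ IsCyclic (P : Subgroup G) := by
    intro hcyc
    have h1 := (IsCyclic.isMulCommutative (α := (P : Subgroup G))).is_comm.comm ⟨x, hxP⟩ ⟨y₀, hy₀P⟩
    have h2 := congrArg Subtype.val h1
    exact hxy h2
  rcases Cfsg.Agent.S0016.result (G := (P : Subgroup G)) p P.2 huniq with hcyc | ⟨hp2, n, ⟨eP⟩⟩
  · exact absurd hcyc hPnc
  have hn1 : 1 ≤ n := by
    rcases Nat.eq_zero_or_pos n with rfl | hnpos
    · exfalso
      apply hPnc
      rw [pow_zero] at eP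
      have := quaternionGroup_one_isCyclic
      exact isCyclic_of_surjective eP.symm eP.symm.surjective
    · exact hnpos
  -- `M` is cyclic of odd order
  have hMcyc : IsCyclic M := by
    rw [hM]
    infer_instance
  have hmodd : Odd m := by
    rw [Nat.odd_iff]
    rw [hp2] at hpm
    omega
  have hMcard : Odd (Nat.card M) := by
    have h1 : Nat.card M ∣ m := by
      rw [hM, Nat.card_zpowers]
      apply orderOf_dvd_of_pow_eq_one
      exact hMm _ (Subgroup.mem_zpowers _)
    exact Odd.of_dvd_nat hmodd h1
  -- the direct product decomposition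
  have hcomm : ∀ (u : (P : Subgroup G)) (v : M), Commute ((P : Subgroup G).subtype u) (M.subtype v) := by
    intro u v
    have := hMK v.2
    rw [hK, Subgroup.mem_centralizer_iff] at this
    exact this u u.2
  set f : ↥(P : Subgroup G) × ↥M →* G :=
    MonoidHom.noncommCoprod (P : Subgroup G).subtype M.subtype hcomm with hf
  have hfinj : Function.Injective f := by
    rw [injective_iff_map_eq_one]
    rintro ⟨u, v⟩ huv
    rw [hf, MonoidHom.noncommCoprod_apply] at huv
    simp only [Subgroup.subtype_apply] at huv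
    have h1 : (u : G) = (v : G)⁻¹ := eq_inv_of_mul_eq_one_left huv
    have h2 : (u : G) ∈ M := by rw [h1]; exact M.inv_mem v.2
    have h3 : (u : G) = 1 := (Subgroup.disjoint_def.1 hPM) u.2 h2
    have h4 : (v : G) = 1 := by
      rw [h3, one_mul] at huv
      exact huv
    ext
    · simpa using h3
    · simpa using h4
  have hfsurj : Function.Surjective f := by
    intro g
    have hg : g ∈ (P : Subgroup G) ⊔ M := by rw [hPMtop]; exact Subgroup.mem_top g
    have hmul := Subgroup.normal_mul (P : Subgroup G) M
    have hg' : g ∈ (((P : Subgroup G) ⊔ M : Subgroup G) : Set G) := hg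
    rw [hmul] at hg'
    obtain ⟨u, hu, v, hv, rfl⟩ := Set.mem_mul.1 hg'
    refine ⟨(⟨u, hu⟩, ⟨v, hv⟩), ?_⟩
    rw [hf, MonoidHom.noncommCoprod_apply]
    rfl
  have eG : ↥(P : Subgroup G) × ↥M ≃* G := MulEquiv.ofBijective f ⟨hfinj, hfsurj⟩
  have eM : Multiplicative (ZMod (Nat.card M)) ≃* M := zmodCyclicMulEquiv hMcyc
  exact ⟨n, Nat.card M, hn1, hMcard, ⟨eG.symm.trans (MulEquiv.prodCongr eP eM.symm)⟩⟩

end Forward

/-- Let G be a finite non-abelian nilpotent group. Then the centralizer of every non-central element of G is cyclic if and only if G is isomorphic to the direct product of a generalized quaternion group and a cyclic group of odd order. -/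
theorem result {G : Type*} [Group G] [Finite G] (hG : Group.IsNilpotent G)
    (hna : ¬ IsMulCommutative G) :
    (∀ x : G, x ∉ Subgroup.center G → IsCyclic (Subgroup.centralizer ({x} : Set G))) ↔
      ∃ (k m : ℕ), 1 ≤ k ∧ Odd m ∧ Nonempty (G ≃* QuaternionGroup (2 ^ k) × Multiplicative (ZMod m)) := by
  constructor
  · intro h
    exact forward hG hna h
  · rintro ⟨k, m, _, hm, ⟨e⟩⟩ x hx
    exact backward k m hm e x hx

end Cfsg.Agent.S4370
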