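import Cfsg.Statements.S4377

set_option autoImplicit false
open Cfsg

namespace Cfsg.Agent.S4377

open Finset in
theorem cardA {G : Type*} [Group G] [Fintype G] [DecidableEq G] (n : ℕ) :
    Nat.card {g : G // orderOf g = n} = #{x : G | orderOf x = n} := by
  rw [Nat.card_eq_fintype_card, Fintype.card_subtype]

open Finset in
theorem cardB {G : Type*} [Group G] [Fintype G] [DecidableEq G] (n : ℕ) :
    Nat.card {g : G // g ^ n = 1} = #{x : G | x ^ n = 1} := by
  rw [Nat.card_eq_fintype_card, Fintype.card_subtype]

theorem sumAB {G : Type*} [Group G] [Finite G] (n : ℕ) (hn : n ≠ 0) :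
    ∑ m ∈ Nat.divisors n, Nat.card {g : G // orderOf g = m} = Nat.card {g : G // g ^ n = 1} := by
  classical
  have : Fintype G := Fintype.ofFinite G
  rw [cardB]
  have := sum_card_orderOf_eq_card_pow_eq_one (G := G) hn
  rw [← this]
  apply Finset.sum_congr rfl
  intro m _
  rw [cardA]

theorem cardB_mul {G : Type*} [Group G] [Finite G] (k : ℕ) :
    Nat.card {g : G // g ^ (Nat.card G * k) = 1} = Nat.card G := by
  have : ∀ g : G, g ^ (Nat.card G * k) = 1 := by
    intro g
    rw [pow_mul, pow_card_eq_one', one_pow]
  have e : {g : G // g ^ (Nat.card G * k) = 1} ≃ G :=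
    { toFun := fun g => g.1
      invFun := fun g => ⟨g, this g⟩
      left_inv := fun g => rfl
      right_inv := fun g => rfl }
  exact Nat.card_congr e

/-- Same order type iff same power-map kernel counts. -/
theorem result {G H : Type*} [Group G] [Finite G] [Group H] [Finite H] :
    (∀ n : ℕ, Nat.card {g : G // orderOf g = n} = Nat.card {h : H // orderOf h = n}) ↔
      ∀ n : ℕ, Nat.card {g : G // g ^ n = 1} = Nat.card {h : H // h ^ n = 1} := by
  constructor
  · intro hA
    have hpos : ∀ n : ℕ, n ≠ 0 → Nat.card {g : G // g ^ n = 1} = Nat.card {h : H // h ^ n = 1} := by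
      intro n hn
      rw [← sumAB n hn, ← sumAB n hn]
      exact Finset.sum_congr rfl (fun m _ => hA m)
    have hcard : Nat.card G = Nat.card H := by
      have hN : Nat.card G * Nat.card H ≠ 0 :=
        Nat.mul_ne_zero Nat.card_pos.ne' Nat.card_pos.ne'
      have h1 := hpos _ hN
      rw [cardB_mul] at h1
      rw [mul_comm, cardB_mul] at h1
      exact h1
    intro n
    rcases Nat.eq_zero_or_pos n with rfl | hn
    · have e1 : Nat.card {g : G // g ^ 0 = 1} = Nat.card G := by
        have := cardB_mul (G := G) 0
        simpa using this
      have e2 : Nat.card {g : H // g ^ 0 = 1} = Nat.card H := by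
        have := cardB_mul (G := H) 0
        simpa using this
      rw [e1, e2, hcard]
    · exact hpos n hn.ne'
  · intro hB n
    induction n using Nat.strong_induction_on with
    | _ n ih =>
      rcases Nat.eq_zero_or_pos n with rfl | hn
      · have e1 : Nat.card {g : G // orderOf g = 0} = 0 := by
          rw [Nat.card_eq_zero]
          left
          exact ⟨fun g => (orderOf_pos g.1).ne' g.2⟩
        have e2 : Nat.card {g : H // orderOf g = 0} = 0 := by
          rw [Nat.card_eq_zero]
          left
          exact ⟨fun g => (orderOf_pos g.1).ne' g.2⟩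
        rw [e1, e2]
      · have h1 := sumAB (G := G) n hn.ne'
        have h2 := sumAB (G := H) n hn.ne'
        rw [← Nat.cons_self_properDivisors hn.ne', Finset.sum_cons] at h1 h2
        have h3 : ∑ i ∈ n.properDivisors, Nat.card {g : G // orderOf g = i} =
            ∑ i ∈ n.properDivisors, Nat.card {g : H // orderOf g = i} := by
          apply Finset.sum_congr rfl
          intro i hi
          exact ih i (Nat.mem_properDivisors.mp hi).2
        have h4 := hB n
        omega

end Cfsg.Agent.S4377
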