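import Cfsg.Statements.S4385
import Cfsg.Agent.Lib.Helper5.GDihR2
import Cfsg.Agent.Lib.Helper8.Gl69Defs
import Cfsg.Agent.Lib.Helper8.GDihDefs
import Cfsg.Agent.Lib.Helper8.GDihT1
import Cfsg.Agent.Lib.Helper8.GDihRA
import Cfsg.Agent.Lib.Helper8.GDihRB
import Cfsg.Agent.Lib.Helper6.GDihD0
import Cfsg.Agent.Lib.Helper1.GDihB1
import Cfsg.Agent.Lib.Helper1.GDihB1n
import Cfsg.Agent.Lib.Helper7.GDihB2
import Cfsg.Agent.Lib.Helper7.GDihR4
import Cfsg.Agent.Lib.Helper7.Sims3_14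

set_option autoImplicit false
open Pointwise
open Cfsg

namespace Cfsg.Agent.S4385

open Cfsg.Agent.Lib.Helper7 Cfsg.Agent.Lib.Helper7.Sims3 Cfsg.Agent.Lib.Helper8.Gl69
  Cfsg.Agent.Lib.Helper8.GDih in
/-- the case `k = 3`: `H / O(H) ≅ S₄`. -/
theorem r_three {G : Type*} [Group G] [Finite G] {x : ℤ → G} {h : G} {k n ℓ : ℕ}
    (T : TSn x h k n) (hn : Odd n) (N : NA x k ℓ) (hk : k = 3) (hℓ : ℓ = 2) :
    Nonempty (↥(Y x 0 k) ⧸ Cfsg.oddCore ↥(Y x 0 k) ≃* Equiv.Perm (Fin 4)) := by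
  obtain ⟨h0, h1, h2, h3⟩ := rb_bridge T hn N (by omega) (ra_three T N hk hℓ)
  have : (((Y x 1 ℓ).subgroupOf (Y x 0 k)).map
      (QuotientGroup.mk' (Cfsg.oddCore ↥(Y x 0 k)))).Normal :=
    Subgroup.Normal.map h0 _ (QuotientGroup.mk'_surjective _)
  exact iso_perm_four_of_normal_four (by rw [h1, hk]; norm_num) _ (by rw [h2, hℓ]; norm_num) h3

open Cfsg.Agent.Lib.Helper7 Cfsg.Agent.Lib.Helper7.Sims3 Cfsg.Agent.Lib.Helper8.Gl69
  Cfsg.Agent.Lib.Helper8.GDih in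
/-- Let H be a subgroup of a finite group G whose largest normal 2-subgroup O_2(H) is nontrivial and such that H/O_2(H) is a dihedral group of order at least 4. Let P be a Sylow 2-subgroup of H and S a Sylow 2-subgroup of G containing P. Suppose y ∈ S lies outside P, normalizes P, has y² in the product of P with the centralizer of P in G, and normalizes no non-identity normal subgroup of H contained in P. Then P has order 4, 8 or 16, and H modulo its largest normal subgroup of odd order is isomorphic to the four-group, to the symmetric group of degree 4, or to the direct product of the symmetric group of degree 4 with a group of order 2. -/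
theorem result {G : Type*} [Group G] [Finite G]
    (H : Subgroup G) (hO : Cfsg.pCore 2 ↥H ≠ ⊥) (n : ℕ) (hn : 2 ≤ n) (hdih : Nonempty (↥H ⧸ Cfsg.pCore 2 ↥H ≃* DihedralGroup n))
    (P : Subgroup G) (hPH : P ≤ H) (hP : IsPGroup 2 P) (hPsyl : ¬ 2 ∣ P.relIndex H)
    (S : Sylow 2 G) (hPS : P ≤ (S : Subgroup G)) (y : G) (hyS : y ∈ (S : Subgroup G)) (hyP : y ∉ P)
    (hy2 : y ^ 2 ∈ P ⊔ Subgroup.centralizer (P : Set G)) (hyN : MulAut.conj y • P = P)
    (hyQ : ∀ Q : Subgroup G, Q ≤ P → (Q.subgroupOf H).Normal → MulAut.conj y • Q = Q → Q = ⊥) :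
    (Nat.card P = 4 ∨ Nat.card P = 8 ∨ Nat.card P = 16) ∧
    (Nonempty (↥H ⧸ Cfsg.oddCore ↥H ≃* Multiplicative (ZMod 2) × Multiplicative (ZMod 2)) ∨
     Nonempty (↥H ⧸ Cfsg.oddCore ↥H ≃* Equiv.Perm (Fin 4)) ∨
     Nonempty (↥H ⧸ Cfsg.oddCore ↥H ≃* Equiv.Perm (Fin 4) × Multiplicative (ZMod 2))) := by
  obtain ⟨x, hx, hsup, hidx, hne⟩ := d0_structure H hO n hn hdih P hPH hP hPsyl
  obtain ⟨t, z, ht, hS, hPz⟩ := b1_seq H P x hx hsup hidx hne y hyN hyQ
  have hyN' : MulAut.conj y⁻¹ • P = P := by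
    conv_lhs => rw [← hyN]
    rw [← mul_smul, ← map_mul, inv_mul_cancel, map_one, one_smul]
  have hg1 : MulAut.conj (y * x)⁻¹ • P = MulAut.conj x⁻¹ • P := by
    rw [mul_inv_rev, map_mul, mul_smul, hyN']
  have hxH : MulAut.conj x • H = H := Subgroup.conj_smul_eq_self_of_mem hx
  have hg2 : MulAut.conj (y * x) • H = MulAut.conj y • H := by
    rw [map_mul, mul_smul, hxH]
  obtain ⟨x', T, hH, hP'⟩ := b2_tsn H P (y * x) t ht z hS hPz (by rw [hg1]; exact hsup)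
    (fun N hNP hN1 hN2 => b1_nn H P hPH y hy2 hyN hyQ N hNP hN1 (by rw [← hg2]; exact hN2))
  have hodd : Odd (P.relIndex H) := by
    rw [← Nat.not_even_iff_odd, even_iff_two_dvd]
    exact hPsyl
  have hcardP : Nat.card P = 2 ^ t := by
    rw [← hP', T.card 0 ((t : ℤ) - 1) (by omega) (by omega)]
    congr 1
    omega
  subst hH
  rcases T.cases (by omega) with ⟨h1, _⟩ | ⟨h1, hN⟩ | ⟨h1, hN⟩
  · have h2 : t = 2 := by omega
    exact ⟨Or.inl (by rw [hcardP, h2]; norm_num), Or.inl (r_two T hodd h2)⟩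
  · subst h1
    exact ⟨Or.inr (Or.inl (by rw [hcardP]; norm_num)), Or.inr (Or.inl (r_three T hodd hN rfl rfl))⟩
  · subst h1
    exact ⟨Or.inr (Or.inr (by rw [hcardP]; norm_num)), Or.inr (Or.inr (r_four T hodd hN rfl rfl))⟩

end Cfsg.Agent.S4385
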