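import Cfsg.Statements.S4387
import Cfsg.Agent.Lib.Helper8.ConjCover

set_option autoImplicit false

open Cfsg

namespace Cfsg.Agent.S4387

open Cfsg.Agent.Lib.Helper8
open scoped Pointwise

theorem exists_coatom_ge {G : Type*} [Group G] [Finite G] (K : Subgroup G) (hK : K ≠ ⊤) :
    ∃ M : Subgroup G, IsCoatom M ∧ K ≤ M := by
  rcases eq_top_or_exists_le_coatom K with h | ⟨M, hM, hKM⟩
  · exact absurd h hK
  · exact ⟨M, hM, hKM⟩

theorem result {G : Type*} [Group G] [Finite G] [Nontrivial G]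
    (h : ∀ M N : Subgroup G, IsCoatom M → IsCoatom N → ∃ g : G, N = MulAut.conj g • M) :
    IsCyclic G ∧ IsPrimePow (Nat.card G) := by
  obtain ⟨M, hM, -⟩ := exists_coatom_ge (⊥ : Subgroup G) bot_ne_top
  obtain ⟨x, hx⟩ := exists_not_mem_conj_smul M hM.1
  have hgen : Subgroup.zpowers x = ⊤ := by
    by_contra hne
    obtain ⟨N, hN, hxN⟩ := exists_coatom_ge _ hne
    obtain ⟨g, rfl⟩ := h M N hM hN
    exact hx g (hxN (Subgroup.mem_zpowers x))
  have hcyc : IsCyclic G := isCyclic_iff_exists_zpowers_eq_top.mpr ⟨x, hgen⟩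
  refine ⟨hcyc, ?_⟩
  have hcomm : ∀ a b : G, a * b = b * a := by
    intro a b
    have ha : a ∈ Subgroup.zpowers x := by rw [hgen]; exact Subgroup.mem_top a
    have hb : b ∈ Subgroup.zpowers x := by rw [hgen]; exact Subgroup.mem_top b
    obtain ⟨i, rfl⟩ := ha
    obtain ⟨j, rfl⟩ := hb
    exact (Commute.zpow_zpow_self x i j).eq
  -- unique maximal subgroup
  have huniq : ∀ N : Subgroup G, IsCoatom N → N = M := by
    intro N hN
    obtain ⟨g, rfl⟩ := h M N hM hN
    ext y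
    rw [Subgroup.mem_pointwise_smul_iff_inv_smul_mem]
    simp only [MulAut.smul_def, MulAut.inv_apply, MulAut.conj_symm_apply]
    have : g⁻¹ * y * g = y := by rw [mul_assoc, hcomm y g, ← mul_assoc, inv_mul_cancel, one_mul]
    rw [this]
  have hord : orderOf x = Nat.card G := orderOf_eq_card_of_zpowers_eq_top hgen
  have hcard1 : Nat.card G ≠ 1 := by
    have := Finite.one_lt_card (α := G)
    omega
  rw [isPrimePow_iff_unique_prime_dvd]
  obtain ⟨p, hp, hpdvd⟩ := Nat.exists_prime_and_dvd hcard1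
  -- for each prime divisor q, x^q ∈ M
  have hpow : ∀ q : ℕ, q.Prime → q ∣ Nat.card G → x ^ q ∈ M := by
    intro q hq hqdvd
    have hne : Subgroup.zpowers (x ^ q) ≠ ⊤ := by
      intro htop
      have h1 : orderOf (x ^ q) = Nat.card G := orderOf_eq_card_of_zpowers_eq_top htop
      rw [orderOf_pow_of_dvd hq.ne_zero (by rw [hord]; exact hqdvd), hord] at h1
      have h2 : 0 < Nat.card G := Nat.card_pos
      have h3 := Nat.div_lt_self h2 hq.one_lt
      omega
    obtain ⟨N, hN, hle⟩ := exists_coatom_ge _ hne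
    rw [huniq N hN] at hle
    exact hle (Subgroup.mem_zpowers _)
  refine ⟨p, ⟨hp, hpdvd⟩, ?_⟩
  rintro q ⟨hq, hqdvd⟩
  by_contra hne
  have hcop : Nat.Coprime q p := (Nat.coprime_primes hq hp).mpr hne
  -- x = (x^q)^a * (x^p)^b ∈ M
  have hxM : x ∈ M := by
    have hb := Nat.gcd_eq_gcd_ab q p
    rw [hcop] at hb
    have : x = (x ^ q) ^ (Nat.gcdA q p) * (x ^ p) ^ (Nat.gcdB q p) := by
      rw [← zpow_natCast x q, ← zpow_natCast x p, ← zpow_mul, ← zpow_mul, ← zpow_add, ← hb]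
      simp
    rw [this]
    exact M.mul_mem (M.zpow_mem (hpow q hq hqdvd) _) (M.zpow_mem (hpow p hp hpdvd) _)
  apply hM.1
  rw [eq_top_iff, ← hgen]
  exact (Subgroup.zpowers_le).mpr hxM

end Cfsg.Agent.S4387
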