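-- Statement S4395: the universal minimal non-p-nilpotent group of order p^a₀ q^r (team swarm, Dec 3;
-- paper proof notes/S4395_paper_lead.md; packages by lead, helper1-5, helper7, helper8).
import Cfsg.Statements.S4395
import Cfsg.Agent.Lib.Lead.SchDefs
import Cfsg.Agent.Lib.Helper5.SchCrit
import Cfsg.Agent.Lib.Helper4.SchStruct
import Cfsg.Agent.Lib.Helper2.SchExist
import Cfsg.Agent.Lib.Helper3.SchFibB
import Cfsg.Agent.Lib.Helper8.SchBoundFinal

set_option autoImplicit false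
universe u
open Cfsg

namespace Cfsg.Agent.S4395

open Cfsg.Agent.Lib.Lead.Sch

/-- Let p ≠ q be primes, r ≥ 1, a the multiplicative order of p modulo q, and a₀ = a when a is odd, a₀ = 3a/2 when a is even. Call a finite group minimal non-p-nilpotent when it has no normal p-complement but every proper subgroup has one. Then there is a minimal non-p-nilpotent group G₀ of order p^a₀ · q^r such that every minimal non-p-nilpotent group of order p^t · q^r (any t) is a quotient of G₀ by a central subgroup. -/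
theorem result (p q r : ℕ) [Fact p.Prime] [Fact q.Prime] (hpq : p ≠ q) (hr : 1 ≤ r) (a a₀ : ℕ)
    (ha : a = orderOf (p : ZMod q)) (ha₀ : a₀ = if a % 2 = 1 then a else 3 * a / 2) :
    ∃ (G₀ : Type u) (_ : Group G₀) (_ : Finite G₀),
      (¬ Cfsg.HasNormalPComplement p G₀ ∧ ∀ K : Subgroup G₀, K ≠ ⊤ → Cfsg.HasNormalPComplement p ↥K) ∧ Nat.card G₀ = p ^ a₀ * q ^ r ∧
      ∀ (X : Type u) [Group X] [Finite X], (¬ Cfsg.HasNormalPComplement p X ∧ ∀ K : Subgroup X, K ≠ ⊤ → Cfsg.HasNormalPComplement p ↥K) →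
        (∃ t : ℕ, Nat.card X = p ^ t * q ^ r) → ∃ φ : G₀ →* X, Function.Surjective φ ∧ φ.ker ≤ Subgroup.center G₀ := by
  obtain ⟨G₀, hG, hF, sd₀, h0, hP0⟩ := exist.{u} p q r hpq hr
  have ha0 : a₀ = a0 p q := by subst ha; rw [ha₀]; rfl
  have hmin : MinNonPNilp p G₀ :=
    crit p q hpq sd₀.P sd₀.C sd₀.y sd₀.P_normal sd₀.P_pgroup sd₀.y_order sd₀.gen sd₀.yq_central sd₀.C_le
      sd₀.C_central sd₀.quot_comm sd₀.irr sd₀.nongen sd₀.moved
  refine ⟨G₀, hG, hF, hmin, ?_, ?_⟩
  · rw [SD.card_eq p q hpq sd₀, h0, hP0, ha0]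
  · intro X _ _ hXm ⟨t, ht⟩
    obtain ⟨sdX, hyX, -⟩ := struct p q hpq t r hr hXm ht
    exact fiber_of_bound r hpq sd₀ sdX h0 hyX hP0 (fun Y _ _ sd => bound p q hpq sd)

end Cfsg.Agent.S4395
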