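import Mathlib
import Cfsg.Statements.S4399
import Cfsg.Agent.Lib.Lead.MaxClass7
import Cfsg.Agent.Lib.Lead.QuatRecog
import Cfsg.Agent.Lib.Helper1.DihedralIso
import Cfsg.Agent.S4370

set_option autoImplicit false
open Cfsg

namespace Cfsg.Agent.S4399

open Cfsg.Agent.Lib.Lead

/-- The structure of a nonabelian 2-group with a cyclic subgroup of index two and abelianisation
of order four. -/
theorem main {S : Type*} [Group S] [Finite S] (n : ℕ) (hn3 : 3 ≤ n) (hn : Nat.card S = 2 ^ n)
    (h4 : (commutator S).index = 4) :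
    ((∃ k : ℕ, Nonempty (S ≃* DihedralGroup (2 ^ (k + 2)))) ∨
      (∃ k : ℕ, Nat.card S = 2 ^ (k + 4) ∧ ∃ a b : S, orderOf a = 2 ^ (k + 3) ∧ orderOf b = 2 ∧ b * a * b⁻¹ = a ^ (2 ^ (k + 2) - 1)) ∨
      (∃ k : ℕ, Nonempty (S ≃* QuaternionGroup (2 ^ (k + 1))))) := by
  classical
  obtain ⟨C, hCcyc, hCidx⟩ := exists_cyclic_index_two_of_index_commutator n S hn3 hn h4
  have hCn : C.Normal := Subgroup.normal_of_index_eq_two hCidx
  have hCcomm : IsMulCommutative C := IsCyclic.isMulCommutative
  obtain ⟨a, ha⟩ := (Subgroup.isCyclic_iff_exists_zpowers_eq_top C).1 hCcyc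
  have haC : a ∈ C := by rw [← ha]; exact Subgroup.mem_zpowers a
  have hCcard : Nat.card C = 2 ^ (n - 1) := by
    have h2 := Subgroup.card_mul_index C
    rw [hCidx, hn] at h2
    have h3 : (2 : ℕ) ^ n = 2 ^ (n - 1) * 2 := by rw [← pow_succ]; congr 1; omega
    rw [h3] at h2
    exact Nat.eq_of_mul_eq_mul_right (by norm_num) h2
  have haord : orderOf a = 2 ^ (n - 1) := by
    rw [← Nat.card_zpowers, ha, hCcard]
  obtain ⟨x, hxC⟩ : ∃ x : S, x ∉ C := by
    by_contra hall
    push Not at hall
    have : C = ⊤ := by rw [eq_top_iff]; intro y _; exact hall y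
    rw [this, Subgroup.index_top] at hCidx
    omega
  have hK2 := card_inf_centralizer_of_index_commutator h4 C hCcyc hCidx x hxC
  set K := C ⊓ Subgroup.centralizer {x} with hK
  -- the involution `z` of `C`
  set m := 2 ^ (n - 2) with hm
  have hm2 : 2 ^ (n - 1) = 2 * m := by
    rw [hm, ← pow_succ']; congr 1; omega
  set z := a ^ m with hz
  have hzC : z ∈ C := C.pow_mem haC m
  have hz2 : z ^ 2 = 1 := by
    rw [hz, ← pow_mul, mul_comm, ← hm2, ← haord]; exact pow_orderOf_eq_one a
  have hmpos : 0 < m := by rw [hm]; positivity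
  have hz1 : z ≠ 1 := by
    intro h
    have := orderOf_dvd_of_pow_eq_one h
    rw [haord, hm2] at this
    have := Nat.le_of_dvd hmpos this
    omega
  have hzord : orderOf z = 2 := orderOf_eq_prime hz2 hz1
  -- elements of `K` are `1` or `z`
  have hKmem : ∀ y ∈ K, y = 1 ∨ y = z := by
    intro y hy
    have hy2 : y ^ 2 = 1 := by
      have h1 : (⟨y, hy⟩ : K) ^ Nat.card K = 1 := pow_card_eq_one'
      rw [hK2] at h1
      exact congrArg Subtype.val h1
    have := Cfsg.Agent.S4370.mem_zpowers_of_cyclic C 2 Nat.prime_two y z hy.1 hzC hy2 hzord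
    obtain ⟨j, hj⟩ := Subgroup.mem_zpowers_iff.1 this
    rcases Int.even_or_odd j with ⟨i, hi⟩ | ⟨i, hi⟩
    · left
      rw [← hj, hi, ← two_mul, zpow_mul, zpow_two, ← pow_two, hz2, one_zpow]
    · right
      rw [← hj, hi, zpow_add, zpow_mul, zpow_two, ← pow_two, hz2, one_zpow, one_mul, zpow_one]
  have hxcent : ∀ y : S, x * y = y * x → y ∈ Subgroup.centralizer {x} := by
    intro y hy
    rw [Subgroup.mem_centralizer_iff]
    intro w hw
    rw [Set.mem_singleton_iff] at hw
    subst hw
    exact hy
  -- `x ^ 2 ∈ K`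
  have hx2C : x ^ 2 ∈ C := Subgroup.sq_mem_of_index_two hCidx x
  have hx2K : x ^ 2 ∈ K := ⟨hx2C, hxcent _ (by rw [← pow_succ', ← pow_succ])⟩
  -- `x ^ 2` commutes with `a`
  have hx2a : x ^ 2 * a = a * x ^ 2 := by
    have h1 : (⟨x ^ 2, hx2C⟩ : C) * ⟨a, haC⟩ = ⟨a, haC⟩ * ⟨x ^ 2, hx2C⟩ :=
      hCcomm.is_comm.comm _ _
    exact congrArg Subtype.val h1
  -- the element `t := x a x⁻¹ a`
  set t := x * a * x⁻¹ * a with ht
  have hxaC : x * a * x⁻¹ ∈ C := hCn.conj_mem a haC x
  have htC : t ∈ C := C.mul_mem hxaC haC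
  have htK : t ∈ K := by
    refine ⟨htC, hxcent _ ?_⟩
    -- `x t x⁻¹ = t`
    have hx2a' : x * x * a = a * (x * x) := by rw [← pow_two]; exact hx2a
    have h1 : x * t * x⁻¹ = ((x * x) * a * (x * x)⁻¹) * (x * a * x⁻¹) := by
      rw [ht]; group
    have h2 : (x * x) * a * (x * x)⁻¹ = a := by rw [hx2a', mul_inv_cancel_right]
    have h3 : a * (x * a * x⁻¹) = (x * a * x⁻¹) * a := by
      have h1 : (⟨a, haC⟩ : C) * ⟨x * a * x⁻¹, hxaC⟩ = ⟨x * a * x⁻¹, hxaC⟩ * ⟨a, haC⟩ :=
        hCcomm.is_comm.comm _ _
      exact congrArg Subtype.val h1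
    rw [h2, h3] at h1
    have h4 : x * t * x⁻¹ = t := h1
    calc x * t = x * t * x⁻¹ * x := by group
      _ = t * x := by rw [h4]
  have hconj : x * a * x⁻¹ = t * a⁻¹ := by rw [ht]; group
  have htop := sup_zpowers_eq_top_of_index_two C hCidx x hxC
  have hnz : NeZero m := ⟨hmpos.ne'⟩
  rcases hKmem t htK with ht1 | htz
  · -- `x` inverts `a`
    rw [ht1, one_mul] at hconj
    rcases hKmem _ hx2K with hx1 | hxz
    · -- dihedral
      left
      refine ⟨n - 3, ?_⟩
      have hxord : orderOf x = 2 := by
        apply orderOf_eq_prime hx1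
        rintro rfl
        exact hxC C.one_mem
      have hxinv : x⁻¹ = x := by
        apply inv_eq_of_mul_eq_one_left
        rw [← pow_two]; exact hx1
      have hy2 : (x * a) ^ 2 = 1 := by
        have : (x * a) ^ 2 = (x * a * x⁻¹) * (x * x) * a := by rw [pow_two]; group
        rw [this, hconj, ← pow_two, hx1, mul_one, inv_mul_cancel]
      have hyord : orderOf (x * a) = 2 := by
        apply orderOf_eq_prime hy2
        intro h
        apply hxC
        have : x = a⁻¹ := eq_inv_of_mul_eq_one_left h
        rw [this]; exact C.inv_mem haC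
      have hprod : x * (x * a) = a := by rw [← mul_assoc, ← pow_two, hx1, one_mul]
      have hne : orderOf (x * (x * a)) ≠ 0 := by rw [hprod, haord]; positivity
      obtain ⟨e⟩ := Cfsg.Agent.Lib.Helper1.DihedralIso.closure_equiv_dihedral x (x * a) hxord hyord hne
      have hcl : Subgroup.closure ({x, x * a} : Set S) = ⊤ := by
        rw [eq_top_iff, ← htop]
        apply sup_le
        · rw [← ha, Subgroup.zpowers_le]
          have hmem : x * (x * a) ∈ Subgroup.closure ({x, x * a} : Set S) :=
            Subgroup.mul_mem _ (Subgroup.subset_closure (by simp))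
              (Subgroup.subset_closure (by simp))
          rwa [hprod] at hmem
        · rw [Subgroup.zpowers_le]
          exact Subgroup.subset_closure (by simp)
      have hexp : orderOf (x * (x * a)) = 2 ^ (n - 3 + 2) := by
        rw [hprod, haord]; congr 1; omega
      rw [hexp] at e
      exact ⟨(Subgroup.topEquiv.symm.trans (MulEquiv.subgroupCongr hcl.symm)).trans e⟩
    · -- quaternion
      right; right
      refine ⟨n - 3, ?_⟩
      have hm' : m = 2 ^ (n - 3 + 1) := by rw [hm]; congr 1; omega
      have := quaternion_recognition m a x (by rw [haord, hm2]) hxz hconj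
        (by rw [ha]; exact hxC) (by rw [hn, show n = (n - 2) + 2 by omega, pow_add, ← hm]; ring)
      rw [hm'] at this
      exact this
  · -- semidihedral
    right; left
    rw [htz] at hconj
    -- `n ≥ 4`
    have hn4 : 4 ≤ n := by
      by_contra hlt
      push Not at hlt
      have hn3' : n = 3 := by omega
      have hm1 : m = 2 := by rw [hm, hn3']; rfl
      -- then `x` centralizes `a`
      have h1 : x * a * x⁻¹ = a := by
        rw [hconj, hz, hm1]
        have : a ^ 4 = 1 := by
          have := pow_orderOf_eq_one a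
          rw [haord, hn3'] at this
          exact this
        have h2 : a ^ 2 * a⁻¹ = a := by group
        exact h2
      have h2 : a ∈ K := by
        refine ⟨haC, hxcent _ ?_⟩
        have := congrArg (fun u => u * x) h1
        simpa [mul_assoc] using this
      rcases hKmem a h2 with h | h
      · rw [h, orderOf_one, hn3'] at haord
        norm_num at haord
      · have : orderOf a = 2 := by rw [h]; exact hzord
        rw [haord, hn3'] at this
        norm_num at this
    refine ⟨n - 4, ?_, ?_⟩
    · rw [hn]; congr 1; omega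
    have hord' : orderOf a = 2 ^ (n - 4 + 3) := by rw [haord]; congr 1; omega
    have hmm : m = 2 ^ (n - 4 + 2) := by rw [hm]; congr 1; omega
    have hrel : z * a⁻¹ = a ^ (2 ^ (n - 4 + 2) - 1) := by
      rw [← hmm, hz]
      have : a ^ m = a ^ (m - 1 + 1) := by congr 1; omega
      rw [this, pow_succ, mul_inv_cancel_right]
    rcases hKmem _ hx2K with hx1 | hxz
    · refine ⟨a, x, hord', ?_, ?_⟩
      · apply orderOf_eq_prime hx1
        rintro rfl
        exact hxC C.one_mem
      · rw [hconj, hrel]
    · refine ⟨a, x * a, hord', ?_, ?_⟩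
      · apply orderOf_eq_prime
        · have h1 : (x * a) ^ 2 = (x * a * x⁻¹) * x ^ 2 * a := by
            rw [pow_two, pow_two]; group
          have hza : z * a⁻¹ * z * a = z * z := by
            have hcomm : a⁻¹ * z = z * a⁻¹ := by
              rw [hz]
              exact ((Commute.refl a).inv_left.pow_right m).eq
            rw [mul_assoc z, hcomm, ← mul_assoc, mul_assoc (z * z), inv_mul_cancel, mul_one]
          rw [h1, hconj, hxz, hza, ← pow_two, hz2]
        · intro h
          apply hxC
          have : x = a⁻¹ := eq_inv_of_mul_eq_one_left h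
          rw [this]; exact C.inv_mem haC
      · have : x * a * a * (x * a)⁻¹ = x * a * x⁻¹ := by group
        rw [this, hconj, hrel]

/-- Let S be a finite 2-group whose commutator quotient S/[S,S] is a Klein four-group (order 4 and exponent 2). Then S itself has order 4, or S is dihedral of order at least 8, semidihedral of order at least 16 (order 2^(k+4) with an element a of order 2^(k+3) and an involution b with b a b⁻¹ = a^(2^(k+2)−1)), or generalized quaternion of order at least 8. -/
theorem result {S : Type*} [Group S] [Finite S] (h2 : IsPGroup 2 S) (hab : Nat.card (Abelianization S) = 4)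
    (hexp : ∀ x : Abelianization S, x ^ 2 = 1) :
    Nat.card S = 4 ∨
    ((∃ k : ℕ, Nonempty (S ≃* DihedralGroup (2 ^ (k + 2)))) ∨
      (∃ k : ℕ, Nat.card S = 2 ^ (k + 4) ∧ ∃ a b : S, orderOf a = 2 ^ (k + 3) ∧ orderOf b = 2 ∧ b * a * b⁻¹ = a ^ (2 ^ (k + 2) - 1)) ∨
      (∃ k : ℕ, Nonempty (S ≃* QuaternionGroup (2 ^ (k + 1))))) := by
  have : Fact (Nat.Prime 2) := ⟨Nat.prime_two⟩
  have h4 : (commutator S).index = 4 := by
    rw [Subgroup.index_eq_card]; exact hab
  have hcardmul : Nat.card (commutator S) * 4 = Nat.card S := by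
    rw [← h4]; exact Subgroup.card_mul_index _
  by_cases hcomm : commutator S = ⊥
  · left
    rw [hcomm, Subgroup.card_bot] at hcardmul
    omega
  · right
    obtain ⟨n, hn⟩ := IsPGroup.iff_card.1 h2
    have hn3 : 3 ≤ n := by
      have h1 : 1 < Nat.card (commutator S) := by
        rw [Nat.one_lt_iff_ne_zero_and_ne_one]
        refine ⟨Nat.card_pos.ne', ?_⟩
        intro h
        exact hcomm (Subgroup.card_eq_one.1 h)
      have h2 : 8 ≤ 2 ^ n := by rw [← hn]; omega
      by_contra hlt
      push Not at hlt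
      have : 2 ^ n ≤ 2 ^ 2 := Nat.pow_le_pow_right (by norm_num) (by omega)
      omega
    exact main n hn3 hn h4

end Cfsg.Agent.S4399
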