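import Cfsg.Statements.S4401
import Mathlib
import Cfsg.Agent.Lib.Helper8.SK5

set_option autoImplicit false
open Cfsg

namespace Cfsg.Agent.S4401

/-- Let S be a finite 2-group of sectional 2-rank at most 4 and P a proper non-abelian subgroup whose centre has order 2. Let S₀ be the centralizer in S of Z(P) and suppose P is normal in S₀. Then either S₀ = S, or P has sectional 2-rank at most 2 and S₀ has index 2 in S. -/
theorem result {S : Type*} [Group S] [Finite S] (h2 : IsPGroup 2 S) (hr : Cfsg.SectionalPRankLE 2 4 S)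
    (P : Subgroup S) (hPlt : P ≠ ⊤) (hP : ¬ IsMulCommutative ↥P) (hZP : Nat.card ↥(Subgroup.center ↥P) = 2)
    (S₀ : Subgroup S) (hS₀ : S₀ = Subgroup.centralizer (((Subgroup.center ↥P).map P.subtype : Subgroup S) : Set S))
    (hPn : ∀ s ∈ S₀, ∀ x ∈ P, s * x * s⁻¹ ∈ P) :
    S₀ = ⊤ ∨ (Cfsg.SectionalPRankLE 2 2 ↥P ∧ S₀.index = 2) := by
  classical
  by_cases hS₀top : S₀ = ⊤
  · exact Or.inl hS₀top
  right
  -- the generator of the centre
  have hnt : Nontrivial ↥(Subgroup.center ↥P) := by
    rw [← Finite.one_lt_card_iff_nontrivial, hZP]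
    norm_num
  obtain ⟨z₀, hz₀⟩ := exists_ne (1 : ↥(Subgroup.center ↥P))
  have hz₀' : ((z₀ : ↥P)) ≠ 1 := fun h => hz₀ (Subtype.ext h)
  have hall : ∀ w : ↥P, w ∈ Subgroup.center ↥P → w = 1 ∨ w = (z₀ : ↥P) := by
    intro w hw
    by_cases hw1 : w = 1
    · exact Or.inl hw1
    · exact Or.inr (Cfsg.Agent.S4400.eq_of_card_two hZP hw z₀.2 hw1 hz₀')
  have hzc : ∀ a : ↥P, a * (z₀ : ↥P) = (z₀ : ↥P) * a := fun a =>
    Subgroup.mem_center_iff.mp z₀.2 a
  have hsq : (z₀ : ↥P) * (z₀ : ↥P) = 1 := by
    rcases hall _ ((Subgroup.center ↥P).mul_mem z₀.2 z₀.2) with h | h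
    · exact h
    · exfalso
      apply hz₀'
      have := mul_left_cancel (h.trans (mul_one _).symm)
      exact this
  have c : Cfsg.Agent.Lib.Helper8.SK.Ctx P S₀ (((z₀ : ↥P)) : S) := by
    refine ⟨(z₀ : ↥P).2, ?_, ?_, ?_, ?_, ?_, hPn, ?_⟩
    · intro h
      apply hz₀'
      exact Subtype.ext h
    · exact congrArg Subtype.val hsq
    · intro a ha
      exact congrArg Subtype.val (hzc ⟨a, ha⟩)
    · intro w hw hwc
      have hwcen : (⟨w, hw⟩ : ↥P) ∈ Subgroup.center ↥P := by
        rw [Subgroup.mem_center_iff]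
        intro a
        exact Subtype.ext (hwc a a.2)
      rcases hall _ hwcen with h | h
      · left
        exact congrArg Subtype.val h
      · right
        exact congrArg Subtype.val h
    · intro s
      rw [hS₀, Subgroup.mem_centralizer_iff]
      constructor
      · intro h
        have h1 : (((z₀ : ↥P)) : S) ∈ (((Subgroup.center ↥P).map P.subtype : Subgroup S) : Set S) :=
          ⟨(z₀ : ↥P), z₀.2, rfl⟩
        exact (h _ h1).symm
      · rintro h _ ⟨w, hw, rfl⟩
        rcases hall w hw with h3 | h3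
        · rw [h3]
          simp
        · rw [h3]
          exact h.symm
    · by_contra hcon
      push Not at hcon
      apply hP
      refine ⟨⟨fun u v => ?_⟩⟩
      apply Subtype.ext
      exact hcon u u.2 v v.2
  exact c.main h2 hr hS₀top

end Cfsg.Agent.S4401
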