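import Cfsg.Statements.S4405
import Mathlib
import Cfsg.Agent.S0044
import Cfsg.Agent.S0144
import Cfsg.Agent.Lib.Lead.Core
import Cfsg.Agent.Lib.Lead.Extra2
import Cfsg.Agent.Lib.Helper2.Ord320f

set_option autoImplicit false
open Cfsg

namespace Cfsg.Agent.S4405

open scoped commutatorElement

/-- Let G be a finite group of order 320 = 64·5 whose largest normal 2-subgroup H = O₂(G) equals the Fitting subgroup F(G) and is extraspecial of order 32 containing no elementary abelian subgroup of order 8 (so H is the central product of a quaternion group and a dihedral group of order 8). If T is an involution of G outside H whose centralizer in H contains an elementary abelian subgroup of order 4, then C_H(T) itself is elementary abelian of order 4. -/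
theorem result {G : Type*} [Group G] [Finite G]
    (hG : Nat.card G = 320) (hHF : Cfsg.pCore 2 G = Cfsg.fittingSubgroup G)
    (hex : Cfsg.IsExtraspecial 2 ↥(Cfsg.pCore 2 G)) (h32 : Nat.card ↥(Cfsg.pCore 2 G) = 32)
    (hminus : ∀ A : Subgroup G, A ≤ Cfsg.pCore 2 G → Cfsg.IsElementaryAbelian 2 A → Nat.card ↥A ≤ 4)
    (T : G) (hT : orderOf T = 2) (hTH : T ∉ Cfsg.pCore 2 G)
    (V : Subgroup G) (hV : V ≤ Cfsg.pCore 2 G ⊓ Subgroup.centralizer ({T} : Set G)) (hV4 : Nat.card ↥V = 4) (hVe : Cfsg.IsElementaryAbelian 2 V) :
    Nat.card ↥(Cfsg.pCore 2 G ⊓ Subgroup.centralizer ({T} : Set G)) = 4 ∧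
      Cfsg.IsElementaryAbelian 2 (Cfsg.pCore 2 G ⊓ Subgroup.centralizer ({T} : Set G)) := by
  classical
  set H := Cfsg.pCore 2 G with hH
  have hHn : H.Normal := Cfsg.Agent.Lib.Lead.pCore_normal 2
  haveI : Group.IsSolvable G :=
    Cfsg.Agent.S0144.result 2 5 6 1 Nat.prime_two (by norm_num) (by rw [hG]; norm_num)
  obtain ⟨z₀, hES⟩ := Cfsg.Agent.Lib.Lead.Extra.exists_ES hex
  have hTT : T * T = 1 := by
    rw [← pow_two, ← hT]; exact pow_orderOf_eq_one T
  have hzc : ∀ k ∈ H, k * (z₀ : G) = (z₀ : G) * k := by
    intro k hk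
    have := hES.z_comm ⟨k, hk⟩
    exact congrArg Subtype.val this
  have hz1 : (z₀ : G) ≠ 1 := by
    intro h
    exact hES.z_ne (Subtype.ext h)
  have hcentral : ∀ g : G, g * (z₀ : G) = (z₀ : G) * g := by
    intro g
    have hy : g * (z₀ : G) * g⁻¹ ∈ H := hHn.conj_mem _ z₀.2 g
    have hyc : (⟨g * (z₀ : G) * g⁻¹, hy⟩ : H) ∈ Subgroup.center H := by
      rw [Subgroup.mem_center_iff]
      intro k
      apply Subtype.ext
      show (k : G) * (g * (z₀ : G) * g⁻¹) = (g * (z₀ : G) * g⁻¹) * (k : G)
      have hk' : g⁻¹ * (k : G) * g ∈ H := by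
        have := hHn.conj_mem _ k.2 g⁻¹
        simpa using this
      have h1 := hzc _ hk'
      calc (k : G) * (g * (z₀ : G) * g⁻¹) = g * ((g⁻¹ * (k : G) * g) * (z₀ : G)) * g⁻¹ := by group
        _ = g * ((z₀ : G) * (g⁻¹ * (k : G) * g)) * g⁻¹ := by rw [h1]
        _ = _ := by group
    rcases hES.cen _ hyc with h1 | h1
    · exfalso
      have h2 : g * (z₀ : G) * g⁻¹ = 1 := congrArg Subtype.val h1
      apply hz1
      have : (z₀ : G) = g⁻¹ * (g * (z₀ : G) * g⁻¹) * g := by group
      rw [this, h2]; group
    · have h2 : g * (z₀ : G) * g⁻¹ = (z₀ : G) := congrArg Subtype.val h1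
      exact mul_inv_eq_iff_eq_mul.1 h2
  have hS : Cfsg.Agent.Lib.Helper2.Ord320.Setup G H (z₀ : G) :=
    { normal := hHn
      cardG := hG
      cardH := h32
      z_mem := z₀.2
      z_ne := hz1
      z_sq := by
        have := hES.z_mul_z
        exact congrArg Subtype.val this
      z_central := hcentral
      comm := by
        intro h hh k hk
        rcases hES.comm ⟨h, hh⟩ ⟨k, hk⟩ with h1 | h1
        · left
          have := congrArg Subtype.val h1
          simpa [commutatorElement_def] using this
        · right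
          have := congrArg Subtype.val h1
          simpa [commutatorElement_def] using this
      sq := by
        intro h hh
        rcases hES.sq ⟨h, hh⟩ with h1 | h1
        · left
          have := congrArg Subtype.val h1
          simpa [pow_two] using this
        · right
          have := congrArg Subtype.val h1
          simpa [pow_two] using this
      minus := by
        intro A hA hab hexp
        apply hminus A hA
        refine ⟨⟨⟨fun a b => Subtype.ext (hab a a.2 b b.2)⟩⟩, ?_⟩
        intro a ha
        rw [pow_two]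
        exact hexp a ha
      cent := by
        intro g hg
        have h1 : g ∈ Subgroup.centralizer (Cfsg.fittingSubgroup G : Set G) := by
          rw [Subgroup.mem_centralizer_iff]
          intro k hk
          rw [← hHF] at hk
          exact (hg k hk).symm
        have h2 := Cfsg.Agent.S0044.result h1
        rw [← hHF] at h2
        exact h2
      maxl := fun N hN hp => Cfsg.Agent.Lib.Lead.le_pCore hN hp }
  have h4 := hS.card_cent T hTT hTH V hV hV4
  refine ⟨h4, ?_⟩
  haveI : Finite G := hS.finite
  have hVeq : V = H ⊓ Subgroup.centralizer ({T} : Set G) :=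
    Subgroup.eq_of_le_of_card_ge hV (by rw [h4, hV4])
  rw [← hVeq]
  exact hVe

end Cfsg.Agent.S4405
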