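import Mathlib
import Cfsg.Statements.S4406

set_option autoImplicit false
open Cfsg

namespace Cfsg.Agent.S4406

abbrev A4 := ↥(alternatingGroup (Fin 4))

set_option maxRecDepth 100000 in
theorem f_order : ∀ a : A4, a ^ 2 = 1 ∨ a ^ 3 = 1 := by decide

set_option maxRecDepth 100000 in
theorem f_exists3 : ∃ a : A4, a ≠ 1 ∧ a ^ 3 = 1 := by decide

set_option maxRecDepth 100000 in
set_option synthInstance.maxSize 1000 in
set_option synthInstance.maxHeartbeats 200000 in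
theorem f_conj : ∀ a s : A4, a ^ 3 = 1 → a ≠ 1 → s ^ 2 = 1 → s ≠ 1 →
    a * (a * s * a⁻¹) * a⁻¹ = s * (a * s * a⁻¹) := by decide

set_option maxRecDepth 100000 in
set_option synthInstance.maxSize 1000 in
set_option synthInstance.maxHeartbeats 200000 in
theorem f_pick : ∀ b s u : A4,
    (b ^ 3 = 1 ∧ b ≠ 1 ∧ s ^ 2 = 1 ∧ s ≠ 1 ∧ u ^ 2 = 1 ∧ u ≠ 1 ∧ u ≠ s) →
    u = b * s * b⁻¹ ∨ u = b⁻¹ * s * b := by decide

theorem conj3 {G : Type*} [Group G] (c x : G) :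
    c * (c * (c * x * c⁻¹) * c⁻¹) * c⁻¹ = c ^ 3 * x * (c ^ 3)⁻¹ := by
  simp only [pow_succ, pow_zero, one_mul, mul_inv_rev, mul_assoc]

theorem conj_mul {G : Type*} [Group G] (c x y : G) :
    c * (x * y) * c⁻¹ = (c * x * c⁻¹) * (c * y * c⁻¹) := by group

theorem pick (a t u : A4) (ha3 : a ^ 3 = 1) (ha1 : a ≠ 1) (ht2 : t ^ 2 = 1) (ht1 : t ≠ 1)
    (hu2 : u ^ 2 = 1) (hu1 : u ≠ 1) (hut : u ≠ t) :
    ∃ a' : A4, (a' = a ∨ a' = a⁻¹) ∧ a' ^ 3 = 1 ∧ a' ≠ 1 ∧ a' * t * a'⁻¹ = u := by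
  rcases f_pick a t u ⟨ha3, ha1, ht2, ht1, hu2, hu1, hut⟩ with h | h
  · exact ⟨a, Or.inl rfl, ha3, ha1, h.symm⟩
  · refine ⟨a⁻¹, Or.inr rfl, by rw [inv_pow, ha3, inv_one], by simpa using ha1, ?_⟩
    rw [inv_inv]; exact h.symm

theorem pow_two_of_two_pow (a : A4) (k : ℕ) (h : a ^ (2 ^ k) = 1) : a ^ 2 = 1 := by
  rcases f_order a with h2 | h3
  · exact h2
  · have h1 : orderOf a ∣ 2 ^ k := orderOf_dvd_of_pow_eq_one h
    have h2 : orderOf a ∣ 3 := orderOf_dvd_of_pow_eq_one h3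
    have hc : Nat.Coprime (2 ^ k) 3 := Nat.Coprime.pow_left k (by norm_num)
    have : orderOf a = 1 := Nat.eq_one_of_dvd_coprimes hc h1 h2
    rw [orderOf_eq_one_iff] at this; rw [this]; simp

theorem pow_three_of_three_pow (a : A4) (k : ℕ) (h : a ^ (3 ^ k) = 1) : a ^ 3 = 1 := by
  rcases f_order a with h2 | h3
  · have h1 : orderOf a ∣ 3 ^ k := orderOf_dvd_of_pow_eq_one h
    have h2 : orderOf a ∣ 2 := orderOf_dvd_of_pow_eq_one h2
    have hc : Nat.Coprime (3 ^ k) 2 := Nat.Coprime.pow_left k (by norm_num)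
    have : orderOf a = 1 := Nat.eq_one_of_dvd_coprimes hc h1 h2
    rw [orderOf_eq_one_iff] at this; rw [this]; simp
  · exact h3

theorem sylow2_coords (X : Sylow 2 (A4 × A4)) (x : A4 × A4) (hx : x ∈ (X : Subgroup _)) :
    x.1 ^ 2 = 1 ∧ x.2 ^ 2 = 1 := by
  obtain ⟨k, hk⟩ := X.isPGroup' ⟨x, hx⟩
  have hk' : x ^ (2 ^ k) = 1 := by simpa using congrArg Subtype.val hk
  exact ⟨pow_two_of_two_pow x.1 k (by rw [← Prod.pow_fst, hk']; rfl),
    pow_two_of_two_pow x.2 k (by rw [← Prod.pow_snd, hk']; rfl)⟩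

theorem sylow3_coords (Q : Sylow 3 (A4 × A4)) (x : A4 × A4) (hx : x ∈ (Q : Subgroup _)) :
    x.1 ^ 3 = 1 ∧ x.2 ^ 3 = 1 := by
  obtain ⟨k, hk⟩ := Q.isPGroup' ⟨x, hx⟩
  have hk' : x ^ (3 ^ k) = 1 := by simpa using congrArg Subtype.val hk
  exact ⟨pow_three_of_three_pow x.1 k (by rw [← Prod.pow_fst, hk']; rfl),
    pow_three_of_three_pow x.2 k (by rw [← Prod.pow_snd, hk']; rfl)⟩

theorem exists_in_sylow3 (Q : Sylow 3 (A4 × A4)) :
    (∃ a : A4, a ≠ 1 ∧ a ^ 3 = 1 ∧ ((a, 1) : A4 × A4) ∈ (Q : Subgroup _)) ∧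
    (∃ b : A4, b ≠ 1 ∧ b ^ 3 = 1 ∧ ((1, b) : A4 × A4) ∈ (Q : Subgroup _)) := by
  have hQ3 := sylow3_coords Q
  set Q₁ := (Q : Subgroup (A4 × A4)).map (MonoidHom.fst A4 A4) with hQ₁
  set Q₂ := (Q : Subgroup (A4 × A4)).map (MonoidHom.snd A4 A4) with hQ₂
  have h1 : ∀ x ∈ Q₁, x ^ 3 = 1 := by
    rintro _ ⟨q, hq, rfl⟩; exact (hQ3 q hq).1
  have h2 : ∀ y ∈ Q₂, y ^ 3 = 1 := by
    rintro _ ⟨q, hq, rfl⟩; exact (hQ3 q hq).2
  have hmax : ∀ K₁ K₂ : Subgroup A4, (∀ x ∈ K₁, x ^ 3 = 1) → (∀ y ∈ K₂, y ^ 3 = 1) →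
      Q₁ ≤ K₁ → Q₂ ≤ K₂ → K₁.prod K₂ = (Q : Subgroup (A4 × A4)) := by
    intro K₁ K₂ hK₁ hK₂ h₁ h₂
    apply Q.is_maximal'
    · intro z
      refine ⟨1, ?_⟩
      apply Subtype.ext
      have hz := Subgroup.mem_prod.mp z.2
      rw [pow_one, Subgroup.coe_pow, Subgroup.coe_one]
      exact Prod.ext (hK₁ _ hz.1) (hK₂ _ hz.2)
    · intro q hq
      exact Subgroup.mem_prod.mpr ⟨h₁ ⟨q, hq, rfl⟩, h₂ ⟨q, hq, rfl⟩⟩
  have hQeq := hmax Q₁ Q₂ h1 h2 le_rfl le_rfl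
  obtain ⟨a₀, ha₀1, ha₀3⟩ := f_exists3
  have hz3 : ∀ x ∈ Subgroup.zpowers a₀, x ^ 3 = 1 := by
    intro x hx
    obtain ⟨k, rfl⟩ := Subgroup.mem_zpowers_iff.mp hx
    rw [← zpow_natCast, ← zpow_mul, mul_comm, zpow_mul, zpow_natCast, ha₀3, one_zpow]
  constructor
  · have hne : Q₁ ≠ ⊥ := by
      intro hbot
      have := hmax (Subgroup.zpowers a₀) Q₂ hz3 h2 (by rw [hbot]; exact bot_le) le_rfl
      have hmem : ((a₀, 1) : A4 × A4) ∈ (Q : Subgroup (A4 × A4)) := by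
        rw [← this]; exact Subgroup.mem_prod.mpr ⟨Subgroup.mem_zpowers a₀, one_mem _⟩
      have : a₀ ∈ Q₁ := ⟨(a₀, 1), hmem, rfl⟩
      rw [hbot, Subgroup.mem_bot] at this
      exact ha₀1 this
    obtain ⟨⟨a, ha⟩, ha1⟩ := Subgroup.ne_bot_iff_exists_ne_one.mp hne
    refine ⟨a, fun h => ha1 (Subtype.ext h), h1 a ha, ?_⟩
    rw [← hQeq]; exact Subgroup.mem_prod.mpr ⟨ha, one_mem _⟩
  · have hne : Q₂ ≠ ⊥ := by
      intro hbot
      have := hmax Q₁ (Subgroup.zpowers a₀) h1 hz3 le_rfl (by rw [hbot]; exact bot_le)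
      have hmem : ((1, a₀) : A4 × A4) ∈ (Q : Subgroup (A4 × A4)) := by
        rw [← this]; exact Subgroup.mem_prod.mpr ⟨one_mem _, Subgroup.mem_zpowers a₀⟩
      have : a₀ ∈ Q₂ := ⟨(1, a₀), hmem, rfl⟩
      rw [hbot, Subgroup.mem_bot] at this
      exact ha₀1 this
    obtain ⟨⟨b, hb⟩, hb1⟩ := Subgroup.ne_bot_iff_exists_ne_one.mp hne
    refine ⟨b, fun h => hb1 (Subtype.ext h), h2 b hb, ?_⟩
    rw [← hQeq]; exact Subgroup.mem_prod.mpr ⟨one_mem _, hb⟩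

/-- In the direct product P = A₄ × A₄, let X be the Sylow 2-subgroup, X₁ and X₂ its intersections with the two direct factors, Q a Sylow 3-subgroup and Q₁, Q₂ its intersections with the two factors. Then every subgroup B of X of order 4 either meets X₁ or X₂ nontrivially, or is normalized by one of the two subgroups of Q of order 3 other than Q₁ and Q₂. -/
theorem result
    (X : Sylow 2 (↥(alternatingGroup (Fin 4)) × ↥(alternatingGroup (Fin 4))))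
    (Q : Sylow 3 (↥(alternatingGroup (Fin 4)) × ↥(alternatingGroup (Fin 4))))
    (B : Subgroup (↥(alternatingGroup (Fin 4)) × ↥(alternatingGroup (Fin 4)))) (hBX : B ≤ (X : Subgroup _)) (hB4 : Nat.card ↥B = 4) :
    B ⊓ ((X : Subgroup _) ⊓ Subgroup.prod ⊤ ⊥) ≠ ⊥ ∨ B ⊓ ((X : Subgroup _) ⊓ Subgroup.prod ⊥ ⊤) ≠ ⊥ ∨
      ∃ R : Subgroup (↥(alternatingGroup (Fin 4)) × ↥(alternatingGroup (Fin 4))), R ≤ (Q : Subgroup _) ∧ Nat.card ↥R = 3 ∧
        R ≠ (Q : Subgroup _) ⊓ Subgroup.prod ⊤ ⊥ ∧ R ≠ (Q : Subgroup _) ⊓ Subgroup.prod ⊥ ⊤ ∧ R ≤ Subgroup.normalizer (B : Set _) := by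
  by_cases h1 : B ⊓ ((X : Subgroup _) ⊓ Subgroup.prod ⊤ ⊥) ≠ ⊥
  · exact Or.inl h1
  by_cases h2 : B ⊓ ((X : Subgroup _) ⊓ Subgroup.prod ⊥ ⊤) ≠ ⊥
  · exact Or.inr (Or.inl h2)
  right; right
  push Not at h1 h2
  have hsq : ∀ x ∈ B, x.1 ^ 2 = 1 ∧ x.2 ^ 2 = 1 := fun x hx => sylow2_coords X x (hBX hx)
  have hsq' : ∀ x ∈ B, x * x = 1 := fun x hx => by
    rw [← pow_two]
    exact Prod.ext (hsq x hx).1 (hsq x hx).2
  have hfst : ∀ x ∈ B, x.2 = 1 → x = 1 := by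
    intro x hx hx2
    have : x ∈ B ⊓ ((X : Subgroup _) ⊓ Subgroup.prod ⊤ ⊥) :=
      Subgroup.mem_inf.mpr ⟨hx, Subgroup.mem_inf.mpr ⟨hBX hx,
        Subgroup.mem_prod.mpr ⟨Subgroup.mem_top _, by rw [Subgroup.mem_bot]; exact hx2⟩⟩⟩
    rw [h1, Subgroup.mem_bot] at this; exact this
  have hsnd : ∀ x ∈ B, x.1 = 1 → x = 1 := by
    intro x hx hx2
    have : x ∈ B ⊓ ((X : Subgroup _) ⊓ Subgroup.prod ⊥ ⊤) :=
      Subgroup.mem_inf.mpr ⟨hx, Subgroup.mem_inf.mpr ⟨hBX hx,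
        Subgroup.mem_prod.mpr ⟨by rw [Subgroup.mem_bot]; exact hx2, Subgroup.mem_top _⟩⟩⟩
    rw [h2, Subgroup.mem_bot] at this; exact this
  -- pick β ≠ 1 in B
  haveI : Finite B := Nat.finite_of_card_ne_zero (by rw [hB4]; norm_num)
  haveI : Nontrivial B := Finite.one_lt_card_iff_nontrivial.mp (by rw [hB4]; norm_num)
  obtain ⟨⟨β, hβ⟩, hβ1'⟩ := exists_ne (1 : B)
  have hβ1 : β ≠ 1 := fun h => hβ1' (Subtype.ext h)
  -- pick γ ∈ B outside zpowers β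
  have hzβ : Subgroup.zpowers β < B := by
    refine lt_of_le_of_ne (Subgroup.zpowers_le.mpr hβ) ?_
    intro heq
    have hc : Nat.card (Subgroup.zpowers β) = 2 := by
      rw [Nat.card_zpowers]
      exact orderOf_eq_prime (by rw [pow_two]; exact hsq' β hβ) hβ1
    rw [heq, hB4] at hc
    norm_num at hc
  obtain ⟨γ, hγ, hγz⟩ := SetLike.exists_of_lt hzβ
  have hγ1 : γ ≠ 1 := fun h => hγz (h ▸ one_mem _)
  have hγβ : γ ≠ β := fun h => hγz (h ▸ Subgroup.mem_zpowers β)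
  have hβγ1 : β * γ ≠ 1 := by
    intro h
    apply hγβ
    have := hsq' β hβ
    exact (mul_left_cancel (h.trans this.symm))
  -- coordinates
  have ht2 := (hsq β hβ).1
  have hs2 := (hsq β hβ).2
  have ht1 : β.1 ≠ 1 := fun h => hβ1 (hsnd β hβ h)
  have hs1 : β.2 ≠ 1 := fun h => hβ1 (hfst β hβ h)
  have hu2 := (hsq γ hγ).1
  have hw2 := (hsq γ hγ).2
  have hu1 : γ.1 ≠ 1 := fun h => hγ1 (hsnd γ hγ h)
  have hw1 : γ.2 ≠ 1 := fun h => hγ1 (hfst γ hγ h)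
  have hut : γ.1 ≠ β.1 := by
    intro h
    apply hβγ1
    apply hsnd _ (mul_mem hβ hγ)
    rw [Prod.fst_mul, h, ← pow_two, ht2]
  have hws : γ.2 ≠ β.2 := by
    intro h
    apply hβγ1
    apply hfst _ (mul_mem hβ hγ)
    rw [Prod.snd_mul, h, ← pow_two, hs2]
  obtain ⟨⟨a, ha1, ha3, haQ⟩, ⟨b, hb1, hb3, hbQ⟩⟩ := exists_in_sylow3 Q
  obtain ⟨a', ha', ha'3, ha'1, hconj1⟩ := pick a β.1 γ.1 ha3 ha1 ht2 ht1 hu2 hu1 hut
  obtain ⟨b', hb', hb'3, hb'1, hconj2⟩ := pick b β.2 γ.2 hb3 hb1 hs2 hs1 hw2 hw1 hws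
  have ha'Q : ((a', 1) : A4 × A4) ∈ (Q : Subgroup _) := by
    rcases ha' with rfl | rfl
    · exact haQ
    · have := inv_mem haQ
      simpa using this
  have hb'Q : ((1, b') : A4 × A4) ∈ (Q : Subgroup _) := by
    rcases hb' with rfl | rfl
    · exact hbQ
    · have := inv_mem hbQ
      simpa using this
  set c : A4 × A4 := (a', b') with hc
  have hcQ : c ∈ (Q : Subgroup _) := by
    have := mul_mem ha'Q hb'Q
    simpa [hc] using this
  have hc3 : c ^ 3 = 1 := Prod.ext ha'3 hb'3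
  have hc1 : c ≠ 1 := fun h => ha'1 (congrArg Prod.fst h)
  -- conjugation action on β, γ, βγ
  have hcβ : c * β * c⁻¹ = γ := Prod.ext hconj1 hconj2
  have hcγ : c * γ * c⁻¹ = β * γ := by
    apply Prod.ext
    · show a' * γ.1 * a'⁻¹ = β.1 * γ.1
      rw [← hconj1]
      exact f_conj a' β.1 ha'3 ha'1 ht2 ht1
    · show b' * γ.2 * b'⁻¹ = β.2 * γ.2
      rw [← hconj2]
      exact f_conj b' β.2 hb'3 hb'1 hs2 hs1
  have hcβγ : c * (β * γ) * c⁻¹ = β := by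
    have : c * (β * γ) * c⁻¹ = (c * β * c⁻¹) * (c * γ * c⁻¹) := conj_mul c β γ
    rw [this, hcβ, hcγ]
    have h3 := hsq' γ hγ
    have h4 : β * γ = γ * β := by
      have h5 := hsq' (β * γ) (mul_mem hβ hγ)
      have h6 := hsq' β hβ
      calc β * γ = (γ * γ) * (β * γ) * (β * β) := by rw [h3, h6, one_mul, mul_one]
        _ = γ * (γ * β) * (γ * β) * β := by group
        _ = γ * ((γ * β) * (γ * β)) * β := by group
        _ = γ * β := by
          have h7 : (γ * β) * (γ * β) = 1 := hsq' (γ * β) (mul_mem hγ hβ)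
          rw [h7, mul_one]
    rw [h4, ← mul_assoc, h3, one_mul]
  -- B = {1, β, γ, βγ}
  have hS : ((({1, β, γ, β * γ} : Finset (A4 × A4)) : Set (A4 × A4))) = (B : Set (A4 × A4)) := by
    apply Set.eq_of_subset_of_ncard_le
    · intro x hx
      simp only [Finset.coe_insert, Finset.coe_singleton, Set.mem_insert_iff,
        Set.mem_singleton_iff] at hx
      rcases hx with rfl | rfl | rfl | rfl
      exacts [one_mem _, hβ, hγ, mul_mem hβ hγ]
    · rw [Set.ncard_coe_finset]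
      have h_a : γ ∉ ({β * γ} : Finset (A4 × A4)) := by
        simp only [Finset.mem_singleton]
        intro h
        exact hβ1 (mul_right_cancel (b := γ) (by rw [one_mul]; exact h)).symm
      have h_b : β ∉ ({γ, β * γ} : Finset (A4 × A4)) := by
        simp only [Finset.mem_insert, Finset.mem_singleton, not_or]
        refine ⟨fun h => hγβ h.symm, ?_⟩
        intro h
        exact hγ1 (mul_left_cancel (a := β) (by rw [mul_one]; exact h)).symm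
      have h_c : (1 : A4 × A4) ∉ ({β, γ, β * γ} : Finset (A4 × A4)) := by
        simp only [Finset.mem_insert, Finset.mem_singleton, not_or]
        exact ⟨fun h => hβ1 h.symm, fun h => hγ1 h.symm, fun h => hβγ1 h.symm⟩
      have hcard : ({1, β, γ, β * γ} : Finset (A4 × A4)).card = 4 := by
        rw [Finset.card_insert_of_notMem h_c, Finset.card_insert_of_notMem h_b,
          Finset.card_insert_of_notMem h_a, Finset.card_singleton]
      rw [hcard]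
      have : (B : Set (A4 × A4)).ncard = 4 := by
        rw [← Nat.card_coe_set_eq]; exact hB4
      rw [this]
    · exact Set.toFinite _
  have hfw : ∀ x ∈ B, c * x * c⁻¹ ∈ B := by
    intro x hx
    have hx' : x ∈ (({1, β, γ, β * γ} : Finset (A4 × A4)) : Set (A4 × A4)) := by
      rw [hS]; exact hx
    simp only [Finset.coe_insert, Finset.coe_singleton, Set.mem_insert_iff,
      Set.mem_singleton_iff] at hx'
    rcases hx' with rfl | rfl | rfl | rfl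
    · simp
    · rw [hcβ]; exact hγ
    · rw [hcγ]; exact mul_mem hβ hγ
    · rw [hcβγ]; exact hβ
  have hcN : c ∈ Subgroup.normalizer (B : Set (A4 × A4)) := by
    rw [Subgroup.mem_set_normalizer_iff]
    intro x
    constructor
    · exact hfw x
    · intro hx
      have h5 := hfw _ (hfw _ hx)
      have h6 : c * (c * (c * x * c⁻¹) * c⁻¹) * c⁻¹ = c ^ 3 * x * (c ^ 3)⁻¹ := conj3 c x
      rw [h6, hc3] at h5
      simpa using h5
  refine ⟨Subgroup.zpowers c, Subgroup.zpowers_le.mpr hcQ, ?_, ?_, ?_, Subgroup.zpowers_le.mpr hcN⟩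
  · rw [Nat.card_zpowers]
    exact orderOf_eq_prime hc3 hc1
  · intro heq
    have : c ∈ (Q : Subgroup (A4 × A4)) ⊓ Subgroup.prod ⊤ ⊥ := by
      rw [← heq]; exact Subgroup.mem_zpowers c
    have h7 := (Subgroup.mem_prod.mp (Subgroup.mem_inf.mp this).2).2
    rw [Subgroup.mem_bot] at h7
    exact hb'1 h7
  · intro heq
    have : c ∈ (Q : Subgroup (A4 × A4)) ⊓ Subgroup.prod ⊥ ⊤ := by
      rw [← heq]; exact Subgroup.mem_zpowers c
    have h7 := (Subgroup.mem_prod.mp (Subgroup.mem_inf.mp this).2).1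
    rw [Subgroup.mem_bot] at h7
    exact ha'1 h7

end Cfsg.Agent.S4406
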