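import Mathlib
import Cfsg.Statements.S4408
import Cfsg.Agent.Lib.Helper3.TD4
import Cfsg.Agent.Lib.Helper8.Fitting
import Cfsg.Agent.S0044

set_option autoImplicit false
open Cfsg

namespace Cfsg.Agent.S4408

open scoped Pointwise

variable {S : Type*} [Group S]

theorem zpowers_invol {a : S} (ha : a ^ 2 = 1) {u : S} (hu : u ∈ Subgroup.zpowers a) :
    u = 1 ∨ u = a := by
  obtain ⟨k, hk⟩ := hu
  have hk' : a ^ k = u := hk
  rw [← hk']
  rcases Int.emod_two_eq_zero_or_one k with h | h
  · left
    have : k = 2 * (k / 2) := by omega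
    rw [this, zpow_mul, zpow_ofNat, ha, one_zpow]
  · right
    have : k = 2 * (k / 2) + 1 := by omega
    rw [this, zpow_add, zpow_mul, zpow_ofNat, ha, one_zpow, one_mul, zpow_one]

/-- the chain lemma: commuting involutions `a i`, with `a j ∈ K i` exactly for `j ≠ i` -/
theorem chain {ι : Type*} [DecidableEq ι] (a : ι → S) (K : ι → Subgroup S)
    (h1 : ∀ i j, a i * a j = a j * a i) (h2 : ∀ i, a i ^ 2 = 1)
    (h3 : ∀ i j, i ≠ j → a j ∈ K i) (h4 : ∀ i, a i ∉ K i) (T : Finset ι) :
    (⨆ i ∈ T, Subgroup.zpowers (a i)) ⊓ (⨅ i ∈ T, K i) = ⊥ := by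
  induction T using Finset.induction_on with
  | empty => simp
  | insert j T' hj ih =>
    rw [Finset.iSup_insert, Finset.iInf_insert, eq_bot_iff]
    intro x hx
    rw [Subgroup.mem_inf] at hx
    obtain ⟨hx1, hx2⟩ := hx
    rw [Subgroup.mem_inf] at hx2
    set M := ⨆ i ∈ T', Subgroup.zpowers (a i) with hM
    have hMcent : M ≤ Subgroup.centralizer ({a j} : Set S) := by
      rw [hM]
      apply iSup₂_le
      intro i _
      rw [Subgroup.zpowers_le, Subgroup.mem_centralizer_singleton_iff]
      exact h1 i j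
    have hMK : M ≤ K j := by
      rw [hM]
      apply iSup₂_le
      intro i hi
      rw [Subgroup.zpowers_le]
      apply h3 j i
      rintro rfl
      exact hj hi
    have haj : a j ∈ Subgroup.centralizer (M : Set S) := by
      rw [Subgroup.mem_centralizer_iff]
      intro m hm
      have := hMcent hm
      rw [Subgroup.mem_centralizer_singleton_iff] at this
      exact this
    have hnorm : Subgroup.zpowers (a j) ≤ Subgroup.normalizer (M : Set S) := by
      rw [Subgroup.zpowers_le]
      exact Subgroup.centralizer_le_normalizer _ haj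
    have hset := Subgroup.coe_mul_of_left_le_normalizer_right (Subgroup.zpowers (a j)) M hnorm
    have hx1' : x ∈ ((Subgroup.zpowers (a j) ⊔ M : Subgroup S) : Set S) := hx1
    rw [hset] at hx1'
    obtain ⟨u, hu, y, hy, hxy⟩ := hx1'
    have hxy' : u * y = x := hxy
    have huK : u ∈ K j := by
      have h5 : u = x * y⁻¹ := by rw [← hxy']; group
      rw [h5]
      exact (K j).mul_mem hx2.1 ((K j).inv_mem (hMK hy))
    rcases zpowers_invol (h2 j) hu with h6 | h6
    · rw [h6, one_mul] at hxy'
      have : y ∈ M ⊓ ⨅ i ∈ T', K i := by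
        rw [Subgroup.mem_inf]
        refine ⟨hy, ?_⟩
        rw [hxy']
        exact hx2.2
      rw [ih] at this
      rw [← hxy']
      exact this
    · rw [h6] at huK
      exact absurd huK (h4 j)

theorem mem_normalizer_of_invol {a : S} (ha : a ^ 2 = 1) {H : Subgroup S}
    (h : ∀ z ∈ H, a * z * a⁻¹ ∈ H) : a ∈ Subgroup.normalizer (H : Set S) := by
  rw [Subgroup.mem_normalizer_iff]
  intro z
  refine ⟨h z, fun hz => ?_⟩
  have h1 := h _ hz
  have haa : a * a = 1 := by rw [← pow_two, ha]
  have ainv : a⁻¹ = a := inv_eq_of_mul_eq_one_left haa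
  have e : a * (a * z * a⁻¹) * a⁻¹ = z := by
    rw [ainv]
    calc a * (a * z * a) * a = (a * a) * z * (a * a) := by group
      _ = z := by rw [haa, one_mul, mul_one]
  rwa [e] at h1

theorem conj_zpow {a b c : S} (h : a * b * a⁻¹ = c) (k : ℤ) : a * b ^ k * a⁻¹ = c ^ k := by
  rw [← h, ← MulAut.conj_apply, ← MulAut.conj_apply, map_zpow]

/-- Let S be a finite solvable group whose Fitting subgroup F(S) has odd order, and let I be an elementary abelian 2-subgroup of S of order 2ⁿ with n ≥ 1. Then F(S) contains subgroups A₁, …, Aₙ of prime order, each normalized by I, pairwise commuting and generating a subgroup A of order |A₁|⋯|Aₙ| (their internal direct product), such that no non-identity element of I centralizes A. -/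
theorem result {S : Type*} [Group S] [Finite S]
    [Group.IsSolvable S] (hF : Odd (Nat.card ↥(Cfsg.fittingSubgroup S)))
    (I : Subgroup S) (hI : Cfsg.IsElementaryAbelian 2 I) (n : ℕ) (hn : 1 ≤ n) (hIn : Nat.card ↥I = 2 ^ n) :
    ∃ f : Fin n → Subgroup S, (∀ i, (Nat.card ↥(f i)).Prime) ∧ (∀ i, f i ≤ Cfsg.fittingSubgroup S) ∧
      (∀ i, I ≤ Subgroup.normalizer ((f i) : Set S)) ∧ (∀ i j, i ≠ j → ∀ a ∈ f i, ∀ b ∈ f j, a * b = b * a) ∧
      Nat.card ↥(⨆ i, f i) = ∏ i, Nat.card ↥(f i) ∧ I ⊓ Subgroup.centralizer ((⨆ i, f i : Subgroup S) : Set S) = ⊥ := by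
  classical
  set F := Cfsg.fittingSubgroup S with hFdef
  have hFnil : Group.IsNilpotent F := (Cfsg.Agent.Lib.Helper8.fittingSubgroup_normal_nilpotent S).2
  have hIF : I ≤ Subgroup.normalizer (F : Set S) := by
    rw [Subgroup.normalizer_eq_top]; exact le_top
  -- `I` acts faithfully on `F`
  have hfaith : I ⊓ Subgroup.centralizer (F : Set S) = ⊥ := by
    rw [eq_bot_iff]
    intro x hx
    rw [Subgroup.mem_inf] at hx
    have hxF : x ∈ F := Cfsg.Agent.S0044.result hx.2
    -- the order of `x` divides both `2` and `|F|`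
    have h1 : x ^ 2 = 1 := hI.2 x hx.1
    have h2 : orderOf x ∣ 2 := orderOf_dvd_of_pow_eq_one h1
    have h3 : orderOf x ∣ Nat.card F := by
      have := orderOf_dvd_natCard (⟨x, hxF⟩ : F)
      rwa [Subgroup.orderOf_mk] at this
    have h4 : orderOf x ∣ Nat.gcd 2 (Nat.card F) := Nat.dvd_gcd h2 h3
    have h5 : Nat.gcd 2 (Nat.card F) = 1 := Nat.coprime_two_left.mpr hF
    rw [h5, Nat.dvd_one, orderOf_eq_one_iff] at h4
    rw [Subgroup.mem_bot]
    exact h4
  obtain ⟨a, x, hax, hcomm, hsup⟩ :=
    Cfsg.Agent.Lib.Helper3.TD.main_nilpotent n I F hI hIn hFnil hF hIF hfaith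
  -- prime-order powers
  have hxord : ∀ i, orderOf (x i) ≠ 1 := fun i h => (hax i).2.2.1 (orderOf_eq_one_iff.mp h)
  have hxpos : ∀ i, orderOf (x i) ≠ 0 := fun i => (orderOf_pos (x i)).ne'
  let q : Fin n → ℕ := fun i => (orderOf (x i)).minFac
  have hq : ∀ i, (q i).Prime := fun i => Nat.minFac_prime (hxord i)
  have hqdvd : ∀ i, q i ∣ orderOf (x i) := fun i => Nat.minFac_dvd _
  let b : Fin n → S := fun i => x i ^ (orderOf (x i) / q i)
  have hbord : ∀ i, orderOf (b i) = q i := fun i => orderOf_pow_orderOf_div (hxpos i) (hqdvd i)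
  have hbF : ∀ i, b i ∈ F := fun i => F.pow_mem (hax i).2.1 _
  have hqodd : ∀ i, Odd (q i) := by
    intro i
    have h1 : q i ∣ Nat.card F := by
      have h2 := orderOf_dvd_natCard (⟨b i, hbF i⟩ : F)
      rw [Subgroup.orderOf_mk, hbord] at h2
      exact h2
    exact Odd.of_dvd_nat hF h1
  have hbinv : ∀ i, a i * b i * (a i)⁻¹ = (b i)⁻¹ := by
    intro i
    have := conj_zpow (hax i).2.2.2 ((orderOf (x i) / q i : ℕ) : ℤ)
    rw [zpow_natCast, zpow_natCast, inv_pow] at this
    exact this
  have hbcomm : ∀ i j, i ≠ j → a i * b j = b j * a i := by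
    intro i j hij
    exact ((Commute.pow_right (show Commute (a i) (x j) from (hcomm i j hij).1) _)).eq
  have hbb : ∀ i j, i ≠ j → Commute (b i) (b j) := by
    intro i j hij
    exact Commute.pow_pow (show Commute (x i) (x j) from (hcomm i j hij).2) _ _
  have ha2 : ∀ i, a i ^ 2 = 1 := fun i => hI.2 _ (hax i).1
  have haa : ∀ i j, a i * a j = a j * a i := by
    intro i j
    have := hI.1.is_comm.comm (⟨a i, (hax i).1⟩ : I) ⟨a j, (hax j).1⟩
    exact congrArg Subtype.val this
  have hbne : ∀ i, b i ≠ (b i)⁻¹ := by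
    intro i h
    have h1 : b i * b i = 1 := by
      nth_rewrite 2 [h]; exact mul_inv_cancel _
    have h2 : orderOf (b i) ∣ 2 := orderOf_dvd_of_pow_eq_one (by rw [pow_two]; exact h1)
    rw [hbord] at h2
    have h3 := (Nat.prime_dvd_prime_iff_eq (hq i) Nat.prime_two).mp h2
    have := hqodd i
    rw [h3] at this
    exact absurd this (by decide)
  -- the subgroups
  refine ⟨fun i => Subgroup.zpowers (b i), ?_, ?_, ?_, ?_, ?_, ?_⟩
  · intro i
    show (Nat.card (Subgroup.zpowers (b i))).Prime
    rw [Nat.card_zpowers, hbord]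
    exact hq i
  · intro i
    show Subgroup.zpowers (b i) ≤ F
    rw [Subgroup.zpowers_le]
    exact hbF i
  · intro i
    show I ≤ Subgroup.normalizer (Subgroup.zpowers (b i) : Set S)
    rw [← hsup]
    apply iSup_le
    intro j
    rw [Subgroup.zpowers_le]
    apply mem_normalizer_of_invol (ha2 j)
    rintro _ ⟨k, rfl⟩
    by_cases hji : j = i
    · subst hji
      show a j * b j ^ k * (a j)⁻¹ ∈ Subgroup.zpowers (b j)
      rw [conj_zpow (hbinv j) k]
      exact Subgroup.zpow_mem_zpowers _ k |> fun h => by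
        rw [inv_zpow]; exact (Subgroup.zpowers (b j)).inv_mem h
    · show a j * b i ^ k * (a j)⁻¹ ∈ Subgroup.zpowers (b i)
      have h1 : a j * b i * (a j)⁻¹ = b i := by rw [hbcomm j i hji]; group
      rw [conj_zpow h1 k]
      exact Subgroup.zpow_mem_zpowers _ k
  · intro i j hij u hu v hv
    obtain ⟨k, rfl⟩ := hu
    obtain ⟨l, rfl⟩ := hv
    exact (Commute.zpow_zpow (hbb i j hij) k l).eq
  · -- the order of the product
    have hc : Pairwise fun i j : Fin n => ∀ u v : S, u ∈ Subgroup.zpowers (b i) →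
        v ∈ Subgroup.zpowers (b j) → Commute u v := by
      intro i j hij u v hu hv
      obtain ⟨k, rfl⟩ := hu
      obtain ⟨l, rfl⟩ := hv
      exact Commute.zpow_zpow (hbb i j hij) k l
    have hind : iSupIndep (fun i => Subgroup.zpowers (b i)) := by
      intro i
      rw [disjoint_iff, eq_bot_iff]
      intro z hz
      rw [Subgroup.mem_inf] at hz
      obtain ⟨hz1, hz2⟩ := hz
      have h1 : (⨆ j, ⨆ (_ : j ≠ i), Subgroup.zpowers (b j)) ≤
          Subgroup.centralizer ({a i} : Set S) := by
        apply iSup₂_le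
        intro j hji
        rw [Subgroup.zpowers_le, Subgroup.mem_centralizer_singleton_iff]
        exact (hbcomm i j (Ne.symm hji)).symm
      have h2 := h1 hz2
      rw [Subgroup.mem_centralizer_singleton_iff] at h2
      obtain ⟨k, rfl⟩ := hz1
      have h3 : a i * b i ^ k * (a i)⁻¹ = (b i ^ k)⁻¹ := by
        rw [conj_zpow (hbinv i) k, inv_zpow]
      have h4 : a i * b i ^ k * (a i)⁻¹ = b i ^ k := by
        rw [← h2]; group
      have h5 : b i ^ k * b i ^ k = 1 := by
        have : b i ^ k = (b i ^ k)⁻¹ := h4.symm.trans h3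
        nth_rewrite 2 [this]; exact mul_inv_cancel _
      -- an element of odd order with trivial square is trivial
      have h6 : orderOf (b i ^ k) ∣ 2 := orderOf_dvd_of_pow_eq_one (by rw [pow_two]; exact h5)
      have h7 : orderOf (b i ^ k) ∣ q i := by
        rw [← hbord i]
        exact orderOf_dvd_of_pow_eq_one (by
          rw [← zpow_natCast, ← zpow_mul, mul_comm, zpow_mul, zpow_natCast, pow_orderOf_eq_one,
            one_zpow])
      have h8 : orderOf (b i ^ k) ∣ Nat.gcd 2 (q i) := Nat.dvd_gcd h6 h7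
      rw [Nat.coprime_two_left.mpr (hqodd i), Nat.dvd_one, orderOf_eq_one_iff] at h8
      rw [Subgroup.mem_bot]
      exact h8
    have hinj := Subgroup.injective_noncommPiCoprod_of_iSupIndep (hcomm := hc) hind
    have hrange := Subgroup.noncommPiCoprod_range (hcomm := hc)
    show Nat.card ↥(⨆ i, Subgroup.zpowers (b i)) = ∏ i, Nat.card ↥(Subgroup.zpowers (b i))
    rw [← hrange, ← Nat.card_pi]
    exact (Nat.card_congr (MonoidHom.ofInjective hinj).toEquiv).symm
  · -- faithfulness
    show I ⊓ Subgroup.centralizer ((⨆ i, Subgroup.zpowers (b i) : Subgroup S) : Set S) = ⊥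
    have hch := chain a (fun i => Subgroup.centralizer ({b i} : Set S)) haa ha2
      (fun i j hij => by
        rw [Subgroup.mem_centralizer_singleton_iff]
        exact hbcomm j i (Ne.symm hij))
      (fun i h => by
        rw [Subgroup.mem_centralizer_singleton_iff] at h
        apply hbne i
        rw [← hbinv i, h]; group)
      Finset.univ
    rw [eq_bot_iff, ← hch]
    apply le_inf
    · rw [← hsup]
      intro z hz
      rw [Subgroup.mem_inf] at hz
      have := hz.1
      simpa using this
    · intro z hz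
      rw [Subgroup.mem_inf] at hz
      simp only [Finset.mem_univ, iInf_pos]
      rw [Subgroup.mem_iInf]
      intro i
      rw [Subgroup.mem_centralizer_singleton_iff]
      have h1 := hz.2
      rw [Subgroup.mem_centralizer_iff] at h1
      have h2 : b i ∈ ((⨆ i, Subgroup.zpowers (b i) : Subgroup S) : Set S) :=
        (le_iSup (fun i => Subgroup.zpowers (b i)) i) (Subgroup.mem_zpowers (b i))
      exact (h1 _ h2).symm

end Cfsg.Agent.S4408
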