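import Cfsg.Statements.S4409
import Cfsg.Agent.Lib.Helper8.SmTwoDefs
import Cfsg.Agent.Lib.Helper8.SmTwoB
import Cfsg.Agent.Lib.Helper8.SmTwoC
import Cfsg.Agent.Lib.Helper8.SmTwoD3
import Cfsg.Agent.Lib.Helper8.SmTwoSM
import Cfsg.Agent.Lib.Helper8.SmTwoP3c
import Cfsg.Agent.Lib.Helper8.SmTwoP3a
import Cfsg.Agent.Lib.Helper4.SmTwoP3b
import Cfsg.Agent.Lib.Helper2.SmTwoPT
import Cfsg.Agent.Lib.Helper7.SmTwoPU
import Cfsg.Agent.Lib.Helper6.SmTwoP2a
import Cfsg.Agent.Lib.Helper6.SmTwoPB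

set_option autoImplicit false
open Cfsg

namespace Cfsg.Agent.S4409

open Cfsg.Agent.Lib.Helper8.SmTwo in
/-- Let S be a finite solvable group with O_{2'}(S) = 1 that contains a non-cyclic abelian subgroup of order 8, while no proper subgroup of S of 2-power index contains one. Then a Sylow 2-subgroup X of S is normal in S, and one of the following holds: X is abelian; X is extraspecial of order at least 32; X has a generalized quaternion subgroup X₀ of index 2 with X = X₀·C_X(X₀); or X is special with centre of order 4. -/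
theorem result {S : Type*} [Group S] [Finite S]
    [Group.IsSolvable S] (hO : Cfsg.pPrimeCore 2 S = ⊥)
    (h8 : ∃ A : Subgroup S, IsMulCommutative ↥A ∧ ¬ IsCyclic ↥A ∧ Nat.card ↥A = 8)
    (hmin : ∀ R : Subgroup S, R ≠ ⊤ → (∃ k : ℕ, R.index = 2 ^ k) →
      ¬ ∃ A : Subgroup S, A ≤ R ∧ IsMulCommutative ↥A ∧ ¬ IsCyclic ↥A ∧ Nat.card ↥A = 8)
    (X : Sylow 2 S) :
    (X : Subgroup S).Normal ∧
      (IsMulCommutative ↥X ∨
        (Cfsg.IsExtraspecial 2 ↥X ∧ 32 ≤ Nat.card ↥X) ∨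
        (∃ (X₀ : Subgroup S) (k : ℕ), X₀ ≤ (X : Subgroup S) ∧ X₀.relIndex (X : Subgroup S) = 2 ∧
          Nonempty (↥X₀ ≃* QuaternionGroup (2 ^ (k + 1))) ∧ X₀ ⊔ ((X : Subgroup S) ⊓ Subgroup.centralizer (X₀ : Set S)) = (X : Subgroup S)) ∨
        (Cfsg.IsSpecial 2 ↥X ∧ Nat.card ↥(Subgroup.center ↥X) = 4)) := by
  have hp2 : Fact (Nat.Prime 2) := ⟨Nat.prime_two⟩
  have h8' : ∃ A : Subgroup S, Bad A := h8
  have hmin' : ∀ R : Subgroup S, R ≠ ⊤ → (∃ k : ℕ, R.index = 2 ^ k) → Cfsg.Agent.Lib.Helper8.SmTwo.Small R := by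
    intro R hR hk A hA hB
    exact hmin R hR hk ⟨A, hA, hB⟩
  have hXn : (X : Subgroup S).Normal := p2_sylow_two_normal_of (fun Y A => sm Y A) (fun W T => v4_aut_two W T)
      (fun O T => small_of_na8_self_centralizing O T) hO h8' hmin' X
  refine ⟨hXn, ?_⟩
  obtain ⟨H, hodd, hfaith, hMIN⟩ := exists_hall_compl hO hmin' X hXn
  have hX2 : IsPGroup 2 (X : Subgroup S) := X.isPGroup'
  have hHX : H ≤ Subgroup.normalizer ((X : Subgroup S) : Set S) := by
    rw [Subgroup.normalizer_eq_top]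
    exact le_top
  have hbadX : ¬ Cfsg.Agent.Lib.Helper8.SmTwo.Small (X : Subgroup S) := by
    obtain ⟨A, hA⟩ := h8'
    intro hs
    apply hs A ?_ hA
    have hA2 : IsPGroup 2 A := IsPGroup.of_card (n := 3) (by rw [hA.2.2]; norm_num)
    obtain ⟨Q, hAQ⟩ := hA2.exists_le_sylow
    obtain ⟨g, hg⟩ := MulAction.exists_smul_eq S X Q
    have hQX : Q = X := by rw [← hg, Sylow.smul_eq_of_normal]
    rw [← hQX]
    exact hAQ
  have h3 : Sec3 (X : Subgroup S) H := ⟨hX2, hodd, hHX, hfaith, hbadX, hMIN⟩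
  have hspec2 : SpecialData (X : Subgroup S) 2 →
      (Cfsg.IsExtraspecial 2 ↥X ∧ 32 ≤ Nat.card ↥X) := by
    intro hsp
    have h1 := isSpecial_of_specialData (X : Subgroup S) hX2 2 hsp
    exact ⟨⟨h1.1, h1.2⟩, card_ge_of_specialData_two (X : Subgroup S) hX2 hsp hbadX⟩
  by_cases heq : ⁅(X : Subgroup S), H⁆ = (X : Subgroup S)
  · by_cases hex : ∃ Y : Subgroup S, Y ≤ (X : Subgroup S) ∧ Y ≠ (X : Subgroup S) ∧
        H ≤ Subgroup.normalizer (Y : Set S) ∧ ¬ Y ≤ phi2 (X : Subgroup S)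
    · obtain ⟨Y, hY1, hY2, hY3, hY4⟩ := hex
      rcases sec3_b (X : Subgroup S) H h3 heq Y hY1 hY2 hY3 hY4 with hab | hsp
      · left; exact isMulCommutative_of_isAb _ hab
      · right; left; exact hspec2 hsp
    · push Not at hex
      rcases sec3_c (X : Subgroup S) H h3 heq hex with hab | hsp | hsp
      · left; exact isMulCommutative_of_isAb _ hab
      · right; left; exact hspec2 hsp
      · right; right; right
        exact isSpecial_of_specialData (X : Subgroup S) hX2 4 hsp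
  · rcases sec3_a (X : Subgroup S) H h3 heq with hab | ⟨X₀, h1, h2, h4, h5⟩
    · left; exact isMulCommutative_of_isAb _ hab
    · right; right; left
      exact ⟨X₀, 0, h1, h2, h4, h5⟩

end Cfsg.Agent.S4409
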