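import Cfsg.Statements.S4410
import Mathlib
import Cfsg.Agent.Lib.Helper7.Trv4
-- import your own Cfsg.Agent.* helpers here

set_option autoImplicit false
open Cfsg

namespace Cfsg.Agent.S4410

/-- Let V be a finite-dimensional vector space over the field with two elements and S a solvable group of linear automorphisms of V with O₂(S) = 1. If P ∈ S has order 4 and (P − 1)³ = 0 on V, then the image of (P − 1)² has at least 4 elements; equivalently, in the decomposition of V into indecomposable modules for the cyclic group generated by P, at least two summands have dimension 3. -/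
theorem result
    {V : Type*} [AddCommGroup V] [Module (ZMod 2) V] [Finite V]
    (S : Subgroup (V ≃ₗ[ZMod 2] V)) (hS : Group.IsSolvable ↥S) (hO2 : Cfsg.pCore 2 ↥S = ⊥)
    (P : V ≃ₗ[ZMod 2] V) (hPS : P ∈ S) (hP4 : orderOf P = 4)
    (hcub : ((P : V →ₗ[ZMod 2] V) - LinearMap.id) ^ 3 = 0) :
    4 ≤ Nat.card ↥(LinearMap.range (((P : V →ₗ[ZMod 2] V) - LinearMap.id) ^ 2)) := by
  classical
  by_contra hlt
  push Not at hlt
  set φ : V →ₗ[ZMod 2] V := ((P : V →ₗ[ZMod 2] V) - LinearMap.id) ^ 2 with hφ
  have hφv : ∀ v, φ v = P (P v) + v := by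
    intro v
    rw [hφ, pow_two, Module.End.mul_apply]
    simp only [LinearMap.sub_apply, LinearEquiv.coe_coe, LinearMap.id_apply, map_sub]
    rw [ZModModule.sub_eq_add, ZModModule.sub_eq_add, ZModModule.sub_eq_add]
    have := ZModModule.add_self (P v)
    calc P (P v) + P v + (P v + v) = P (P v) + (P v + P v) + v := by abel
      _ = P (P v) + v := by rw [this, add_zero]
  set R := LinearMap.range φ with hR
  haveI : Module.Finite (ZMod 2) R := Module.Finite.of_finite
  have hcard : Nat.card R = 2 ^ Module.finrank (ZMod 2) R := by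
    have := Module.natCard_eq_pow_finrank (K := ZMod 2) (V := R)
    rw [this]
    simp
  have hd : Module.finrank (ZMod 2) R ≤ 1 := by
    by_contra hcon
    push Not at hcon
    have : 2 ^ 2 ≤ 2 ^ Module.finrank (ZMod 2) R := Nat.pow_le_pow_right (by norm_num) hcon
    rw [← hcard] at this
    omega
  obtain ⟨u, hu⟩ := finrank_le_one_iff.mp hd
  have ht : ∀ v, P (P v) = v ∨ P (P v) = v + (u : V) := by
    intro v
    obtain ⟨c, hc⟩ := hu ⟨φ v, LinearMap.mem_range_self φ v⟩
    have hc' : c • (u : V) = φ v := congrArg Subtype.val hc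
    rw [hφv] at hc'
    have hc01 : c = 0 ∨ c = 1 := by
      fin_cases c
      · left; rfl
      · right; rfl
    rcases hc01 with rfl | rfl
    · left
      rw [zero_smul] at hc'
      exact Cfsg.Agent.Lib.Helper7.Trv.eq_of_add_eq_zero hc'.symm
    · right
      rw [one_smul] at hc'
      rw [hc']
      simp only [add_comm, add_left_comm, add_assoc, Cfsg.Agent.Lib.Helper7.Trv.c2,
        Cfsg.Agent.Lib.Helper7.Trv.c2', add_zero, zero_add]
  have hP4' : P ^ 4 = 1 := by rw [← hP4]; exact pow_orderOf_eq_one P
  have hP2 : P * P ≠ 1 := by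
    intro h
    have : orderOf P ∣ 2 := orderOf_dvd_of_pow_eq_one (by rw [pow_two]; exact h)
    rw [hP4] at this
    omega
  exact Cfsg.Agent.Lib.Helper7.Trv.no_transvection_square S hS hO2 P hPS hP4' hP2 (u : V) ht

end Cfsg.Agent.S4410
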