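import Cfsg.Statements.S5432
import Cfsg.Agent.Lib.Helper9.OutEx5
import Cfsg.Agent.Lib.Lead.Extra7
import Cfsg.Agent.Lib.Lead.Extra9

set_option autoImplicit false
open Cfsg

namespace Cfsg.Agent.S5432

/-- Let E be an extraspecial 2-group of order 2^(2n+1), n ≥ 1. If E contains an elementary abelian subgroup of order 2^(n+1) (plus type), then its outer automorphism group is isomorphic to the full isometry group of the hyperbolic quadratic form in dimension 2n over the field with two elements; otherwise (minus type) it is isomorphic to the full isometry group of the elliptic quadratic form in dimension 2n over that field. -/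
theorem result {E : Type*} [Group E] [Finite E] (hE : Cfsg.IsExtraspecial 2 E) (n : ℕ) (hn : 1 ≤ n) (hcard : Nat.card E = 2 ^ (2 * n + 1)) : ((∃ A : Subgroup E, Cfsg.IsElementaryAbelian 2 A ∧ Nat.card ↥A = 2 ^ (n + 1)) → Nonempty (Cfsg.Out E ≃* Cfsg.isometryGroup (ZMod 2) (Cfsg.quadFormPlus n (ZMod 2)))) ∧ ((¬ ∃ A : Subgroup E, Cfsg.IsElementaryAbelian 2 A ∧ Nat.card ↥A = 2 ^ (n + 1)) → Nonempty (Cfsg.Out E ≃* Cfsg.isometryGroup (ZMod 2) (Cfsg.quadFormMinus (n - 1) (ZMod 2) 1 1))) := by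
  classical
  obtain ⟨-, hle1, hnle, hcase⟩ := Cfsg.Agent.Lib.Lead.Extra.rank_facts hE n hcard
  have hpow2 : (2 : ℕ) ^ n < 2 ^ (n + 1) := Nat.pow_lt_pow_right (by norm_num) (by omega)
  have hpos : 0 < (2 : ℕ) ^ n := by positivity
  have hle2 : (2 : ℕ) ^ n ≤ 2 ^ (2 * n) := Nat.pow_le_pow_right (by norm_num) (by omega)
  constructor
  · rintro ⟨A, hA, hAc⟩
    -- E has plus type
    have hinvE : Cfsg.Agent.Lib.Lead.Extra.inv2 E = 2 ^ (2 * n) + 2 ^ n := by
      rcases hcase with ⟨h1, -⟩ | ⟨-, h2⟩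
      · exact h1
      · exfalso
        have := h2 A hA.1 hA.2
        omega
    -- the model has plus type
    have hM := Cfsg.Agent.Lib.Lead.Extra.MG.isExtraspecial (n := n) (ε := 0) hn
    obtain ⟨-, -, -, hcaseM⟩ := Cfsg.Agent.Lib.Lead.Extra.rank_facts hM n
      Cfsg.Agent.Lib.Lead.Extra.MG.card_eq
    have hinvM : Cfsg.Agent.Lib.Lead.Extra.inv2 (Cfsg.Agent.Lib.Lead.Extra.MG n 0) =
        2 ^ (2 * n) + 2 ^ n := by
      rcases hcaseM with ⟨h1, -⟩ | ⟨-, h2⟩
      · exact h1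
      · exfalso
        have := h2 (Cfsg.Agent.Lib.Lead.Extra.MG.plusA n)
          Cfsg.Agent.Lib.Lead.Extra.MG.plusA_elementary.1
          Cfsg.Agent.Lib.Lead.Extra.MG.plusA_elementary.2
        rw [Cfsg.Agent.Lib.Lead.Extra.MG.card_plusA] at this
        omega
    obtain ⟨e⟩ := Cfsg.Agent.Lib.Lead.Extra.main_iso hE hM
      (by rw [hcard, Cfsg.Agent.Lib.Lead.Extra.MG.card_eq]) (by rw [hinvE, hinvM])
    exact ⟨((Cfsg.Agent.H9Out.outCongr e).trans (Cfsg.Agent.H9Out.outModelEquiv n 0)).trans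
      (Cfsg.Agent.H9Out.oqEquiv (Cfsg.Agent.H9Out.cP n) _
        (fun x => Cfsg.Agent.H9Out.quadFormPlus_cP x))⟩
  · intro hno
    obtain ⟨m, rfl⟩ : ∃ m, n = m + 1 := ⟨n - 1, by omega⟩
    have hinvE : Cfsg.Agent.Lib.Lead.Extra.inv2 E = 2 ^ (2 * (m + 1)) - 2 ^ (m + 1) := by
      rcases hcase with ⟨-, h2⟩ | ⟨h1, -⟩
      · exfalso
        apply h2
        intro A hc h2'
        by_contra hlt
        push Not at hlt
        have hdvd : Nat.card A ∣ 2 ^ (2 * (m + 1) + 1) := by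
          rw [← hcard]; exact Subgroup.card_subgroup_dvd_card A
        obtain ⟨j, -, hj⟩ := (Nat.dvd_prime_pow Nat.prime_two).mp hdvd
        have hj1 : m + 1 < j := by
          rw [hj] at hlt
          exact (Nat.pow_lt_pow_iff_right (by norm_num)).mp hlt
        have hj2 := hle1 A hc h2'
        rw [hj] at hj2
        have hj3 : j ≤ m + 1 + 1 := (Nat.pow_le_pow_iff_right (by norm_num)).mp hj2
        have hj4 : j = m + 1 + 1 := by omega
        exact hno ⟨A, ⟨hc, h2'⟩, by rw [hj, hj4]⟩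
      · exact h1
    have hM := Cfsg.Agent.Lib.Lead.Extra.MG.isExtraspecial (n := m + 1) (ε := 1) hn
    obtain ⟨e⟩ := Cfsg.Agent.Lib.Lead.Extra.main_iso hE hM
      (by rw [hcard, Cfsg.Agent.Lib.Lead.Extra.MG.card_eq])
      (by rw [hinvE, Cfsg.Agent.Lib.Lead.Extra.MG.inv2_minus])
    have hm : m + 1 - 1 = m := by omega
    rw [hm]
    exact ⟨((Cfsg.Agent.H9Out.outCongr e).trans (Cfsg.Agent.H9Out.outModelEquiv (m + 1) 1)).trans
      (Cfsg.Agent.H9Out.oqEquiv (Cfsg.Agent.H9Out.cM m) _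
        (fun x => Cfsg.Agent.H9Out.quadFormMinus_cM x))⟩

end Cfsg.Agent.S5432
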