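import Cfsg.Statements.S4413
import Mathlib
import Cfsg.Agent.S5432
import Cfsg.Agent.Lib.Helper2.OMinus4

set_option autoImplicit false
open Cfsg

namespace Cfsg.Agent.S4413

/-- Let P be an extraspecial 2-group of order 32 with no elementary abelian subgroup of order 8 (the central product of a dihedral and a quaternion group of order 8). Then the inner automorphism group of P has order 16 and the outer automorphism group Aut(P)/Inn(P) is isomorphic to the symmetric group of degree 5; in particular Aut(P) has order 1920. -/
theorem result {P : Type*} [Group P] [Finite P]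
    (hex : Cfsg.IsExtraspecial 2 P) (h32 : Nat.card P = 32)
    (hminus : ∀ A : Subgroup P, Cfsg.IsElementaryAbelian 2 A → Nat.card ↥A ≤ 4)
    [(MulAut.conj : P →* MulAut P).range.Normal] :
    Nat.card ↥(MulAut.conj : P →* MulAut P).range = 16 ∧ Nat.card (MulAut P) = 1920 ∧
      Nonempty ((MulAut P ⧸ (MulAut.conj : P →* MulAut P).range) ≃* Equiv.Perm (Fin 5)) := by
  classical
  have hno : ¬ ∃ A : Subgroup P, Cfsg.IsElementaryAbelian 2 A ∧ Nat.card ↥A = 2 ^ (2 + 1) := by
    rintro ⟨A, hA, hc⟩
    have := hminus A hA
    norm_num at hc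
    omega
  obtain ⟨e1⟩ := (Cfsg.Agent.S5432.result hex 2 (by norm_num) (by rw [h32]; norm_num)).2 hno
  have e2 : Cfsg.Out P ≃* Equiv.Perm (Fin 5) := e1.trans Cfsg.Agent.Lib.Helper2.OMinus.isoPerm
  have hker : (MulAut.conj : P →* MulAut P).ker = Subgroup.center P := by
    ext g
    rw [MonoidHom.mem_ker, Subgroup.mem_center_iff]
    constructor
    · intro h x
      have := congrArg (fun φ : MulAut P => φ x) h
      simp only [MulAut.conj_apply, MulAut.one_apply] at this
      exact (mul_inv_eq_iff_eq_mul.1 this).symm
    · intro h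
      ext x
      simp only [MulAut.conj_apply, MulAut.one_apply]
      exact mul_inv_eq_iff_eq_mul.2 (h x).symm
  have hinn : Nat.card ↥(MulAut.conj : P →* MulAut P).range = 16 := by
    have h1 := Subgroup.index_ker (MulAut.conj : P →* MulAut P)
    rw [hker] at h1
    have h2 := Subgroup.card_mul_index (Subgroup.center P)
    rw [hex.2, h32] at h2
    omega
  have hout : Nat.card (MulAut P ⧸ (MulAut.conj : P →* MulAut P).range) = 120 := by
    rw [Nat.card_congr e2.toEquiv, Nat.card_eq_fintype_card, Fintype.card_perm, Fintype.card_fin]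
    rfl
  refine ⟨hinn, ?_, ⟨e2⟩⟩
  rw [Subgroup.card_eq_card_quotient_mul_card_subgroup (MulAut.conj : P →* MulAut P).range, hout,
    hinn]

end Cfsg.Agent.S4413
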