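-- Statement S4414 (row 4414): Thompson-type lemma on fixed points of a Sylow 2-subgroup.
-- Proof: weight-orbit argument over the algebraic closure of `𝔽₂`
-- (see `Cfsg/Agent/Lib/Helper7/WtOrbA.lean` … `WtOrbF.lean`).
import Cfsg.Statements.S4414
import Cfsg.Agent.Lib.Helper7.WtOrbF

set_option autoImplicit false
open Cfsg

namespace Cfsg.Agent.S4414

open Subgroup Cfsg.Agent.Lib.Helper7.WtOrb

/-- Let S be a finite solvable group whose order is divisible only by the primes 2, p, q (p, q distinct odd primes), with a Sylow system S₂, S_p, S_q (pairwise permutable Sylow subgroups) such that: S_p is a minimal normal subgroup of S of order p or p²; S_q has order q and [S_p, S_q] = S_p; and O₂(S) = 1. Let E be an irreducible module for S over the field with two elements on which S_p acts faithfully, and E₀ the subspace of fixed points of S₂. Then either E₀ has at least 8 elements, or E₀ has exactly 4 elements and S_q does not leave E₀ invariant. -/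
theorem result {S : Type*} [Group S] [Finite S]
    [Group.IsSolvable S] (p q : ℕ) (hp : p.Prime) (hq : q.Prime) (hp2 : p ≠ 2) (hq2 : q ≠ 2) (hpq : p ≠ q)
    (hπ : ∀ r : ℕ, r.Prime → r ∣ Nat.card S → r = 2 ∨ r = p ∨ r = q)
    (S₂ : Sylow 2 S) (Sp : Sylow p S) (Sq : Sylow q S)
    (h2q : Nat.card ↥((S₂ : Subgroup S) ⊔ (Sq : Subgroup S)) = Nat.card ↥S₂ * Nat.card ↥Sq)
    (h2p : Nat.card ↥((S₂ : Subgroup S) ⊔ (Sp : Subgroup S)) = Nat.card ↥S₂ * Nat.card ↥Sp)
    (hpq' : Nat.card ↥((Sp : Subgroup S) ⊔ (Sq : Subgroup S)) = Nat.card ↥Sp * Nat.card ↥Sq)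
    (hSpN : (Sp : Subgroup S).Normal) (hSpmin : ∀ N : Subgroup S, N.Normal → N ≤ (Sp : Subgroup S) → N = ⊥ ∨ N = (Sp : Subgroup S))
    (hSpcard : Nat.card ↥Sp = p ∨ Nat.card ↥Sp = p ^ 2)
    (hSq : Nat.card ↥Sq = q) (hcomm : ⁅(Sp : Subgroup S), (Sq : Subgroup S)⁆ = (Sp : Subgroup S))
    (hO2 : Cfsg.pCore 2 S = ⊥)
    {E : Type*} [AddCommGroup E] [Module (ZMod 2) E] [Finite E] (ρ : Representation (ZMod 2) S E) (hE : Nontrivial E)
    (hirr : ∀ N : Submodule (ZMod 2) E, (∀ s : S, ∀ m ∈ N, ρ s m ∈ N) → N = ⊥ ∨ N = ⊤)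
    (hfaith : ∀ x ∈ (Sp : Subgroup S), ρ x = 1 → x = 1) :
    8 ≤ Nat.card {v : E // ∀ s ∈ (S₂ : Subgroup S), ρ s v = v} ∨
      (Nat.card {v : E // ∀ s ∈ (S₂ : Subgroup S), ρ s v = v} = 4 ∧
        ∃ x ∈ (Sq : Subgroup S), ∃ v : E, (∀ s ∈ (S₂ : Subgroup S), ρ s v = v) ∧ ¬ ∀ s ∈ (S₂ : Subgroup S), ρ s (ρ x v) = ρ x v) := by
  classical
  haveI : Fact p.Prime := ⟨hp⟩
  haveI : Fact q.Prime := ⟨hq⟩
  haveI := hSpN
  have hSpcard' : Nat.card (Sp : Subgroup S) = p ∨ Nat.card (Sp : Subgroup S) = p ^ 2 := hSpcard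
  have hSq' : Nat.card (Sq : Subgroup S) = q := hSq
  -- `V = S_p` is abelian
  have hab : ∀ a ∈ (Sp : Subgroup S), ∀ b ∈ (Sp : Subgroup S), a * b = b * a := by
    intro a ha b hb
    have hc : ∀ u w : (Sp : Subgroup S), u * w = w * u := by
      rcases hSpcard' with h | h
      · haveI : IsCyclic (Sp : Subgroup S) := isCyclic_of_prime_card h
        exact fun u w => (IsCyclic.isMulCommutative (α := (Sp : Subgroup S))).is_comm.comm u w
      · exact IsPGroup.commutative_of_card_eq_prime_sq h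
    exact congrArg Subtype.val (hc ⟨a, ha⟩ ⟨b, hb⟩)
  have hVodd : Odd (Nat.card (Sp : Subgroup S)) := by
    have hpodd : Odd p := hp.odd_of_ne_two hp2
    rcases hSpcard' with h | h
    · rw [h]; exact hpodd
    · rw [h]; exact hpodd.pow
  have hVne : (Sp : Subgroup S) ≠ ⊥ := by
    intro hbot
    have h1 : Nat.card (Sp : Subgroup S) = 1 := by rw [hbot]; simp
    rcases hSpcard' with h | h
    · rw [h] at h1; exact hp.one_lt.ne' h1
    · rw [h] at h1
      have := hp.one_lt
      nlinarith
  -- `V` has no nonzero fixed vectors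
  have hVfix : ∀ v : E, (∀ y ∈ (Sp : Subgroup S), ρ y v = v) → v = 0 := by
    let N : Submodule (ZMod 2) E :=
      { carrier := {v | ∀ y ∈ (Sp : Subgroup S), ρ y v = v}
        add_mem' := fun {u w} hu hw y hy => by rw [map_add, hu y hy, hw y hy]
        zero_mem' := fun y _ => map_zero _
        smul_mem' := fun c w hw y hy => by rw [map_smul, hw y hy] }
    have hNinv : ∀ s : S, ∀ m ∈ N, ρ s m ∈ N := by
      intro s m hm y hy
      have h1 : s⁻¹ * y * s ∈ (Sp : Subgroup S) := by
        have := hSpN.conj_mem y hy s⁻¹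
        simpa using this
      have h2 : y * s = s * (s⁻¹ * y * s) := by group
      rw [← Module.End.mul_apply, ← map_mul, h2, map_mul, Module.End.mul_apply, hm _ h1]
    rcases hirr N hNinv with h | h
    · intro v hv
      have hvN : v ∈ N := hv
      rw [h] at hvN
      exact (Submodule.mem_bot _).mp hvN
    · exfalso
      apply hVne
      rw [eq_bot_iff]
      intro y hy
      rw [Subgroup.mem_bot]
      apply hfaith y hy
      ext v
      have hvN : v ∈ N := by rw [h]; trivial
      exact hvN y hy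
  have hT2 : IsPGroup 2 (S₂ : Subgroup S) := S₂.isPGroup'
  -- a generator of `S_q`
  have hQne : ∃ x ∈ (Sq : Subgroup S), x ≠ 1 := by
    by_contra hcon
    push Not at hcon
    have hbot : (Sq : Subgroup S) = ⊥ := by
      rw [eq_bot_iff]
      intro x hx
      exact Subgroup.mem_bot.mpr (hcon x hx)
    have h1 : Nat.card (Sq : Subgroup S) = 1 := by rw [hbot]; simp
    rw [hSq'] at h1
    exact hq.one_lt.ne' h1
  obtain ⟨x, hxQ, hx1⟩ := hQne
  have hzx : zpowers x = (Sq : Subgroup S) := by
    have h1 : zpowers (⟨x, hxQ⟩ : (Sq : Subgroup S)) = ⊤ :=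
      zpowers_eq_top_of_prime_card hSq' (by intro h; exact hx1 (congrArg Subtype.val h))
    have h2 := congrArg (Subgroup.map (Sq : Subgroup S).subtype) h1
    rw [MonoidHom.map_zpowers, ← MonoidHom.range_eq_map, Subgroup.range_subtype] at h2
    simpa using h2
  have hxq : x ^ q = 1 := by
    have h1 : (⟨x, hxQ⟩ : (Sq : Subgroup S)) ^ q = 1 := by
      have h0 : (⟨x, hxQ⟩ : (Sq : Subgroup S)) ^ Nat.card (Sq : Subgroup S) = 1 := pow_card_eq_one'
      rwa [hSq'] at h0
    exact congrArg Subtype.val h1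
  have hcomm' : ⁅(Sp : Subgroup S), zpowers x⁆ = (Sp : Subgroup S) := by rw [hzx]; exact hcomm
  -- the fixed submodule
  let F : Submodule (ZMod 2) E :=
    { carrier := {v | ∀ s ∈ (S₂ : Subgroup S), ρ s v = v}
      add_mem' := fun {u w} hu hw y hy => by rw [map_add, hu y hy, hw y hy]
      zero_mem' := fun y _ => map_zero _
      smul_mem' := fun c w hw y hy => by rw [map_smul, hw y hy] }
  have hcardF : Nat.card {v : E // ∀ s ∈ (S₂ : Subgroup S), ρ s v = v} = Nat.card F := rfl
  haveI : Module.Finite (ZMod 2) E := Module.Finite.of_finite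
  have hpow : Nat.card F = 2 ^ Module.finrank (ZMod 2) F := by
    rw [Module.natCard_eq_pow_finrank (K := ZMod 2) (V := F)]
    simp
  rcases Nat.lt_or_ge (Module.finrank (ZMod 2) F) 2 with hlt | hge
  · exfalso
    have hline : ∃ e : E, ∀ v ∈ F, v = 0 ∨ v = e := by
      rcases Nat.lt_or_ge (Module.finrank (ZMod 2) F) 1 with hlt1 | hge1
      · have hd : Module.finrank (ZMod 2) F = 0 := by omega
        refine ⟨0, fun v hv => Or.inl ?_⟩
        have hbot : F = ⊥ := Submodule.finrank_eq_zero.mp hd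
        rw [hbot] at hv
        exact (Submodule.mem_bot _).mp hv
      · have hd : Module.finrank (ZMod 2) F = 1 := by omega
        obtain ⟨⟨e, he⟩, he0, hspan⟩ := finrank_eq_one_iff'.mp hd
        refine ⟨e, fun v hv => ?_⟩
        obtain ⟨c, hc⟩ := hspan ⟨v, hv⟩
        have hc' : c • e = v := congrArg Subtype.val hc
        have h01 : ∀ c : ZMod 2, c = 0 ∨ c = 1 := by decide
        rcases h01 c with rfl | rfl
        · left
          rw [← hc']
          simp
        · right
          rw [← hc']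
          simp
    obtain ⟨e, he⟩ := hline
    exact F2_core_A ρ (Sp : Subgroup S) hab hVodd hVfix (S₂ : Subgroup S) hT2 q hq2 x hxq hcomm' e
      (fun v hv => he v hv)
  · rcases Nat.lt_or_ge 2 (Module.finrank (ZMod 2) F) with hgt | hle
    · left
      rw [hcardF, hpow]
      calc 8 = 2 ^ 3 := by norm_num
        _ ≤ 2 ^ Module.finrank (ZMod 2) F := Nat.pow_le_pow_right (by norm_num) hgt
    · right
      have hd : Module.finrank (ZMod 2) F = 2 := le_antisymm hle hge
      refine ⟨by rw [hcardF, hpow, hd]; norm_num, ?_⟩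
      by_contra hcon
      push Not at hcon
      let bF := Module.finBasisOfFinrankEq (ZMod 2) F hd
      have hle4 : ∀ v, (∀ t ∈ (S₂ : Subgroup S), ρ t v = v) →
          v = 0 ∨ v = (bF 0 : E) ∨ v = (bF 1 : E) ∨ v = (bF 0 : E) + (bF 1 : E) := by
        intro v hv
        have h1 := bF.sum_repr ⟨v, hv⟩
        rw [Fin.sum_univ_two] at h1
        have h2 := congrArg Subtype.val h1
        simp only [Submodule.coe_add, Submodule.coe_smul] at h2
        generalize bF.repr ⟨v, hv⟩ 0 = c₀ at h2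
        generalize bF.repr ⟨v, hv⟩ 1 = c₁ at h2
        have h01 : ∀ c : ZMod 2, c = 0 ∨ c = 1 := by decide
        rcases h01 c₀ with rfl | rfl <;> rcases h01 c₁ with rfl | rfl
        · left; rw [← h2]; simp
        · right; right; left; rw [← h2]; simp
        · right; left; rw [← h2]; simp
        · right; right; right; rw [← h2]; simp
      exact F2_core_B ρ (Sp : Subgroup S) hab hVodd hVfix (S₂ : Subgroup S) hT2 q hq2 x hxq hcomm'
        (bF 0 : E) (bF 1 : E) hle4 (fun v hv => hcon x hxQ v hv)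

end Cfsg.Agent.S4414
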