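import Cfsg.Statements.S4417
import Cfsg.Agent.Lib.Helper5.WrH9

set_option autoImplicit false
open Cfsg

namespace Cfsg.Agent.S4417

/-- Let F be a field with q elements, p a prime not dividing q, and e the multiplicative order of q modulo p; assume e ≤ n. Then every p-subgroup of GL_n(F) has derived length at most ⌊log₂(n/e)⌋ + 1: that term of its derived series is trivial (n/e is the integer quotient). -/
theorem result {F : Type*} [Field F] [Fintype F] (q : ℕ) (hF : Fintype.card F = q) (p : ℕ) [Fact p.Prime] (hpq : ¬ p ∣ q) (n e : ℕ) (he : e = orderOf (q : ZMod p)) (hen : e ≤ n) (P : Subgroup (GL (Fin n) F)) (hP : IsPGroup p P) : derivedSeries ↥P (Nat.log 2 (n / e) + 1) = ⊥ := by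
  classical
  subst hF
  have hpr : p.Prime := Fact.out
  rw [Cfsg.Agent.Lib.Helper5.WrP.derivedSeries_eq_bot_iff]
  obtain ⟨S, hS⟩ := hP.exists_le_sylow
  have hmono := Cfsg.Agent.Lib.Helper5.WrP.dser_mono hS (Nat.log 2 (n / e) + 1)
  suffices h : Cfsg.Agent.Lib.Helper5.WrP.dser (S : Subgroup (GL (Fin n) F))
      (Nat.log 2 (n / e) + 1) = ⊥ by
    rw [h, le_bot_iff] at hmono
    exact hmono
  rcases hpr.eq_two_or_odd' with h2 | hodd
  · subst h2
    have hq : Odd (Fintype.card F) := by
      rw [← Nat.not_even_iff_odd, even_iff_two_dvd]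
      exact hpq
    have hone : ((Fintype.card F : ℕ) : ZMod 2) = 1 := by
      rw [(ZMod.natCast_eq_one_iff_odd).2 hq]
    rw [hone, orderOf_one] at he
    subst he
    rw [Nat.div_one]
    exact Cfsg.Agent.Lib.Helper5.WrH.sylow2_gl_dser hq n hen S
  · subst he
    have h1 := (Cfsg.Agent.Lib.Helper5.WrG.sylow_gl_dser hodd hpq n hen S).1
    have h2 : Nat.log p (n / orderOf ((Fintype.card F : ℕ) : ZMod p)) + 1 ≤
        Nat.log 2 (n / orderOf ((Fintype.card F : ℕ) : ZMod p)) + 1 := by
      apply Nat.succ_le_succ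
      exact Nat.log_anti_left (by norm_num) hpr.two_le
    have h3 := Cfsg.Agent.Lib.Helper5.WrH.dser_anti (S : Subgroup (GL (Fin n) F)) h2
    rw [h1, le_bot_iff] at h3
    exact h3

end Cfsg.Agent.S4417
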