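import Cfsg.Statements.S4419
import Mathlib
import Cfsg.Agent.Lib.Lead.MetaAut
import Cfsg.Agent.Lib.Lead.FrobNPC5
import Cfsg.Agent.Lib.Lead.FrobConj3
import Cfsg.Agent.Lib.Lead.Core
import Cfsg.Agent.Lib.Helper6.PPrimeCore

set_option autoImplicit false
open Cfsg

namespace Cfsg.Agent.S4419

/-- Let p be a prime and G a finite group whose Sylow p-subgroups are metacyclic (a cyclic normal subgroup with cyclic quotient). Then G has a normal p-complement if and only if the order of G/O_{p′,p}(G) is coprime to p² − 1. -/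
theorem result {G : Type*} [Group G] [Finite G] (p : ℕ) [Fact p.Prime] (S : Sylow p G) (hS : Cfsg.IsMetacyclic ↥(S : Subgroup G)) : Cfsg.HasNormalPComplement p G ↔ Nat.Coprime (Nat.card (G ⧸ Cfsg.pPrimePCore p G)) (p ^ 2 - 1) := by
  classical
  have hp : p.Prime := Fact.out
  set K := Cfsg.pPrimeCore p G with hKdef
  haveI hKn : K.Normal := by rw [hKdef]; infer_instance
  have hKcop : (Nat.card K).Coprime p := Cfsg.Agent.Lib.Helper6.pPrimeCore_coprime p
  set L := Cfsg.pPrimePCore p G with hLdef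
  have hLmem : ∀ x : G, x ∈ L ↔ (QuotientGroup.mk' K x) ∈ Cfsg.pCore p (G ⧸ K) := fun x => Iff.rfl
  haveI hLn : L.Normal := by
    rw [hLdef]
    unfold Cfsg.pPrimePCore
    haveI : (Cfsg.pCore p (G ⧸ Cfsg.pPrimeCore p G)).Normal := Cfsg.Agent.Lib.Lead.pCore_normal p
    exact Subgroup.Normal.comap inferInstance _
  constructor
  · -- a normal p-complement gives L = ⊤
    rintro ⟨P, N, hN, hc⟩
    have hNcop : (Nat.card N).Coprime p := by
      have h1 := hc.card_mul_card
      have hcop := Cfsg.Agent.Lib.Lead.card_coprime_of_isComplement' P N hc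
      exact hcop
    have hNK : N ≤ K := Cfsg.Agent.Lib.Helper6.le_pPrimeCore hN hNcop
    have hGK : IsPGroup p (G ⧸ K) := by
      have h1 : Nat.card (G ⧸ K) ∣ Nat.card (P : Subgroup G) := by
        rw [← Subgroup.index_eq_card]
        have h2 : K.index ∣ N.index := Subgroup.index_dvd_of_le hNK
        have h3 : N.index = Nat.card (P : Subgroup G) := by
          have h4 := hc.card_mul_card
          rw [← N.card_mul_index] at h4
          exact (Nat.eq_of_mul_eq_mul_left Nat.card_pos h4).symm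
        rwa [h3] at h2
      obtain ⟨n, hn⟩ := IsPGroup.iff_card.mp P.2
      rw [hn] at h1
      obtain ⟨k, -, hk⟩ := (Nat.dvd_prime_pow hp).mp h1
      exact IsPGroup.of_card hk
    have hLtop : L = ⊤ := by
      rw [eq_top_iff]
      intro x _
      rw [hLmem]
      have : (⊤ : Subgroup (G ⧸ K)) ≤ Cfsg.pCore p (G ⧸ K) :=
        Cfsg.Agent.Lib.Lead.le_pCore inferInstance (hGK.to_subgroup ⊤)
      exact this (Subgroup.mem_top _)
    rw [← Subgroup.index_eq_card, hLtop, Subgroup.index_top]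
    exact Nat.coprime_one_left _
  · intro hcop
    rw [Cfsg.Agent.Lib.Lead.hasNormalPComplement_iff_plocalCentral]
    intro D hD g hg hgcop
    -- D is metacyclic
    obtain ⟨h, hh⟩ := hD.exists_le_sylow
    obtain ⟨c, hc⟩ := MulAction.exists_smul_eq G h S
    have hDm : Cfsg.IsMetacyclic ↥D := by
      have e1 : ↥(h : Subgroup G) ≃* ↥(S : Subgroup G) := by
        have e := Sylow.equivSMul h c
        rw [hc] at e
        exact e
      have hm1 := Cfsg.Agent.Lib.Lead.MetaAut.isMetacyclic_of_mulEquiv e1.symm hS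
      have hm2 := Cfsg.Agent.Lib.Helper7.Meta.isMetacyclic_subgroup hm1
        (D.subgroupOf (h : Subgroup G))
      exact Cfsg.Agent.Lib.Lead.MetaAut.isMetacyclic_of_mulEquiv
        (Subgroup.subgroupOfEquivOfLe hh) hm2
    haveI : Finite ↥D := inferInstance
    -- the automorphism induced by g
    set N := Subgroup.normalizer (D : Set G) with hNdef
    set φ := Cfsg.Agent.Lib.Lead.conjAutHom D N le_rfl with hφ
    set σ := φ ⟨g, hg⟩ with hσdef
    suffices hσ1 : σ = 1 by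
      rw [Subgroup.mem_centralizer_iff]
      intro d hd
      have h1 : ((σ ⟨d, hd⟩ : D) : G) = g * d * g⁻¹ :=
        Cfsg.Agent.Lib.Lead.conjAutHom_apply D N le_rfl ⟨g, hg⟩ ⟨d, hd⟩
      rw [hσ1] at h1
      have h2 : d = g * d * g⁻¹ := h1
      calc d * g = g * d * g⁻¹ * g := by rw [← h2]
        _ = g * d := by group
    by_contra hσne
    have hm1 : orderOf σ ≠ 1 := fun h => hσne (orderOf_eq_one_iff.mp h)
    obtain ⟨r, hr, hrm⟩ := Nat.exists_prime_and_dvd hm1
    haveI : Fact r.Prime := ⟨hr⟩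
    have hσg : orderOf σ ∣ orderOf g := by
      have : orderOf σ ∣ orderOf (⟨g, hg⟩ : N) := orderOf_map_dvd φ _
      rwa [Subgroup.orderOf_mk] at this
    have hrp : r ≠ p := by
      rintro rfl
      have h1 : r ∣ Nat.gcd (orderOf g) r := Nat.dvd_gcd (hrm.trans hσg) dvd_rfl
      rw [hgcop] at h1
      exact hr.one_lt.ne' (Nat.dvd_one.mp h1)
    -- the r-part of g
    have hg0 : orderOf g ≠ 0 := (orderOf_pos g).ne'
    obtain ⟨e, s, hs, hes⟩ := Nat.exists_eq_pow_mul_and_not_dvd hg0 r hr.one_lt.ne'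
    set g₂ := g ^ s with hg₂def
    have hg₂N : g₂ ∈ N := Subgroup.pow_mem _ hg s
    have hg₂pow : g₂ ^ (r ^ e) = 1 := by
      rw [hg₂def, ← pow_mul, mul_comm, ← hes]; exact pow_orderOf_eq_one g
    have hσ₂ : φ ⟨g₂, hg₂N⟩ = σ ^ s := by
      rw [hσdef, ← map_pow]; rfl
    have hσ₂ne : φ ⟨g₂, hg₂N⟩ ≠ 1 := by
      rw [hσ₂]
      intro h
      have h1 : orderOf σ ∣ s := orderOf_dvd_of_pow_eq_one h
      exact hs (hrm.trans h1)
    have hσ₂pow : (φ ⟨g₂, hg₂N⟩) ^ (r ^ e) = 1 := by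
      rw [← map_pow]
      have : (⟨g₂, hg₂N⟩ : N) ^ (r ^ e) = 1 := Subtype.ext (by simpa using hg₂pow)
      rw [this, map_one]
    apply hσ₂ne
    by_cases hrL : r ∣ Nat.card (G ⧸ L)
    · -- r does not divide p² - 1
      have hr2 : ¬ r ∣ p ^ 2 - 1 := by
        intro h
        have h1 : r ∣ Nat.gcd (Nat.card (G ⧸ L)) (p ^ 2 - 1) := Nat.dvd_gcd hrL h
        rw [hcop] at h1
        exact hr.one_lt.ne' (Nat.dvd_one.mp h1)
      exact Cfsg.Agent.Lib.Lead.MetaAut.aut_eq_one_of_metacyclic hD hDm hr2 hrp _ e hσ₂pow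
    · -- g₂ lies in L, then in K, then centralizes D
      have hg₂L : g₂ ∈ L := by
        rw [← QuotientGroup.eq_one_iff]
        have h1 : orderOf (g₂ : G ⧸ L) ∣ r ^ e := by
          apply orderOf_dvd_of_pow_eq_one
          rw [← QuotientGroup.mk_pow, hg₂pow]; rfl
        have h2 : orderOf (g₂ : G ⧸ L) ∣ Nat.card (G ⧸ L) := orderOf_dvd_natCard _
        have h3 : (r ^ e).Coprime (Nat.card (G ⧸ L)) :=
          Nat.Coprime.pow_left e ((Nat.Prime.coprime_iff_not_dvd hr).mpr hrL)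
        have h4 : orderOf (g₂ : G ⧸ L) = 1 := Nat.eq_one_of_dvd_coprimes h3 h1 h2
        exact orderOf_eq_one_iff.mp h4
      have hg₂K : g₂ ∈ K := by
        rw [← QuotientGroup.eq_one_iff]
        have hmem : (g₂ : G ⧸ K) ∈ Cfsg.pCore p (G ⧸ K) := (hLmem g₂).mp hg₂L
        obtain ⟨k, hk⟩ := (Cfsg.Agent.Lib.Lead.pCore_isPGroup (G := G ⧸ K) p) ⟨_, hmem⟩
        have hk' : (g₂ : G ⧸ K) ^ (p ^ k) = 1 := by
          have := congrArg Subtype.val hk
          simpa using this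
        have h1 : orderOf (g₂ : G ⧸ K) ∣ p ^ k := orderOf_dvd_of_pow_eq_one hk'
        have h2 : orderOf (g₂ : G ⧸ K) ∣ r ^ e := by
          apply orderOf_dvd_of_pow_eq_one
          rw [← QuotientGroup.mk_pow, hg₂pow]; rfl
        have h3 : (p ^ k).Coprime (r ^ e) :=
          Nat.Coprime.pow k e ((Nat.coprime_primes hp hr).mpr (Ne.symm hrp))
        exact orderOf_eq_one_iff.mp (Nat.eq_one_of_dvd_coprimes h3 h1 h2)
      ext d
      have h1 : ((φ ⟨g₂, hg₂N⟩ d : D) : G) = g₂ * d * g₂⁻¹ :=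
        Cfsg.Agent.Lib.Lead.conjAutHom_apply D N le_rfl ⟨g₂, hg₂N⟩ d
      rw [h1]
      show g₂ * d * g₂⁻¹ = d
      have h2 : g₂ * d * g₂⁻¹ * (d : G)⁻¹ ∈ K ⊓ D := by
        refine ⟨?_, ?_⟩
        · have : g₂ * d * g₂⁻¹ * (d : G)⁻¹ = g₂ * ((d : G) * g₂⁻¹ * (d : G)⁻¹) := by group
          rw [this]
          exact K.mul_mem hg₂K (hKn.conj_mem _ (K.inv_mem hg₂K) _)
        · exact D.mul_mem ((Subgroup.mem_normalizer_iff.mp hg₂N d).mp d.2) (D.inv_mem d.2)
      have h3 : K ⊓ D = ⊥ := by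
        rw [inf_comm]
        exact Cfsg.Agent.Lib.Helper6.isPGroup_inf_coprime_eq_bot hKcop hD
      rw [h3, Subgroup.mem_bot] at h2
      calc g₂ * d * g₂⁻¹ = g₂ * d * g₂⁻¹ * (d : G)⁻¹ * d := by group
        _ = d := by rw [h2, one_mul]

end Cfsg.Agent.S4419
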