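import Cfsg.Statements.S4420

set_option autoImplicit false

open Cfsg

namespace Cfsg.Agent.S4420

section

variable {H : Type*} [Group H]

theorem inv_eq_self_of_sq {x : H} (hx : x ^ 2 = 1) : x⁻¹ = x := by
  rw [pow_two] at hx
  exact inv_eq_of_mul_eq_one_right hx

theorem sq_eq_one_of_inv_eq {a : H} (h : a = a⁻¹) : a ^ 2 = 1 := by
  rw [pow_two]
  nth_rewrite 2 [h]
  exact mul_inv_cancel a

/-- elements outside `A` invert `A` -/
theorem inverts (A : Subgroup H) (hD : ∀ x : H, x ∉ A → x ^ 2 = 1) {x : H} (hx : x ∉ A)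
    {a : H} (ha : a ∈ A) : x * a * x⁻¹ = a⁻¹ := by
  have hxa : x * a ∉ A := by
    intro h
    apply hx
    have : x = (x * a) * a⁻¹ := by group
    rw [this]
    exact A.mul_mem h (A.inv_mem ha)
  have h1 := hD _ hxa
  have h2 := inv_eq_self_of_sq (hD x hx)
  rw [pow_two] at h1
  rw [h2]
  -- x a x a = 1
  have : x * a * x = a⁻¹ := by
    have h3 : x * a * x * a = 1 := by rw [← h1]; group
    exact eq_inv_of_mul_eq_one_left h3
  exact this

end

theorem result {H : Type*} [Group H] [Finite H] (A : Subgroup H) (hA : A ≠ ⊤) (hD : ∀ x : H, x ∉ A → x ^ 2 = 1) :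
    ∃ B : Subgroup H, B.Normal ∧ IsMulCommutative ↥B ∧ B.index = 2 ∧
      (∀ x : H, x ∉ B → x ^ 2 = 1 ∧ ∀ b ∈ B, x * b * x⁻¹ = b⁻¹) ∧
      (¬ (IsMulCommutative H ∧ ∀ x : H, x ^ 2 = 1) →
        ∀ B' : Subgroup H, B'.Normal → IsMulCommutative ↥B' → B'.index = 2 →
          (∀ x : H, x ∉ B' → x ^ 2 = 1 ∧ ∀ b ∈ B', x * b * x⁻¹ = b⁻¹) → B' = B) := by
  obtain ⟨x₀, hx₀⟩ : ∃ x₀ : H, x₀ ∉ A := by
    by_contra hcon
    push Not at hcon
    exact hA (eq_top_iff.mpr fun x _ => hcon x)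
  have hinv := fun {x : H} (hx : x ∉ A) {a : H} (ha : a ∈ A) => inverts A hD hx ha
  -- A is abelian
  have hAcomm : ∀ a ∈ A, ∀ b ∈ A, a * b = b * a := by
    intro a ha b hb
    have h1 := hinv hx₀ (A.mul_mem ha hb)
    have h2 := hinv hx₀ ha
    have h3 := hinv hx₀ hb
    have h4 : x₀ * (a * b) * x₀⁻¹ = (x₀ * a * x₀⁻¹) * (x₀ * b * x₀⁻¹) := by group
    rw [h4, h2, h3, mul_inv_rev] at h1
    -- a⁻¹ b⁻¹ = b⁻¹ a⁻¹
    have h5 : (a⁻¹ * b⁻¹)⁻¹ = (b⁻¹ * a⁻¹)⁻¹ := by rw [h1]
    simpa using h5.symm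
  by_cases hexp : ∀ a ∈ A, a ^ 2 = 1
  · -- elementary abelian case
    have hall : ∀ h : H, h ^ 2 = 1 := by
      intro h
      by_cases hh : h ∈ A
      · exact hexp h hh
      · exact hD h hh
    have hcommH : ∀ a b : H, a * b = b * a := by
      intro a b
      have h1 := inv_eq_self_of_sq (hall a)
      have h2 := inv_eq_self_of_sq (hall b)
      have h3 := inv_eq_self_of_sq (hall (a * b))
      rw [mul_inv_rev, h1, h2] at h3
      exact h3.symm
    have hHcomm : IsMulCommutative H := ⟨⟨hcommH⟩⟩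
    have hpg : IsPGroup 2 H := by
      intro h
      exact ⟨1, by rw [pow_one]; exact hall h⟩
    haveI : Fact (Nat.Prime 2) := ⟨Nat.prime_two⟩
    obtain ⟨n, hn⟩ := IsPGroup.iff_card.mp hpg
    have hn0 : n ≠ 0 := by
      rintro rfl
      rw [pow_zero] at hn
      have : Subsingleton H := (Nat.card_eq_one_iff_unique.mp hn).1
      apply hx₀
      rw [Subsingleton.elim x₀ 1]
      exact A.one_mem
    obtain ⟨m, rfl⟩ := Nat.exists_eq_succ_of_ne_zero hn0
    obtain ⟨B, hB⟩ := Sylow.exists_subgroup_card_pow_prime 2 (n := m)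
      (show 2 ^ m ∣ Nat.card H by rw [hn]; exact pow_dvd_pow 2 (Nat.le_succ m))
    have hBidx : B.index = 2 := by
      have h1 := B.card_mul_index
      rw [hB, hn, pow_succ] at h1
      exact Nat.eq_of_mul_eq_mul_left (Nat.pos_of_ne_zero (by positivity)) h1
    refine ⟨B, ⟨fun b hb g => ?_⟩, ⟨⟨fun a b => Subtype.ext (hcommH a b)⟩⟩, hBidx, ?_, ?_⟩
    · have : g * b * g⁻¹ = b := by rw [hcommH g b]; group
      rw [this]; exact hb
    · intro x _
      refine ⟨hall x, fun b _ => ?_⟩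
      rw [inv_eq_self_of_sq (hall b), hcommH x b]; group
    · intro hcon
      exact absurd ⟨hHcomm, hall⟩ hcon
  · -- generalized dihedral case
    push Not at hexp
    obtain ⟨a₀, ha₀, ha₀sq⟩ := hexp
    have hprod : ∀ x y : H, x ∉ A → y ∉ A → x * y ∈ A := by
      intro x y hx hy
      by_contra hxy
      have h1 := hinv hxy ha₀
      have h2 := hinv hx ha₀
      have h3 := hinv hy ha₀
      have h4 : x * y * a₀ * (x * y)⁻¹ = x * (y * a₀ * y⁻¹) * x⁻¹ := by group
      rw [h4, h3] at h1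
      have h5 : x * a₀⁻¹ * x⁻¹ = (x * a₀ * x⁻¹)⁻¹ := by group
      rw [h5, h2, inv_inv] at h1
      exact ha₀sq (sq_eq_one_of_inv_eq h1)
    have hidx : A.index = 2 := by
      rw [Subgroup.index_eq_two_iff]
      refine ⟨x₀, fun b => ?_⟩
      by_cases hb : b ∈ A
      · right
        refine ⟨hb, fun h => hx₀ ?_⟩
        have : x₀ = b⁻¹ * (b * x₀) := by group
        rw [this]
        exact A.mul_mem (A.inv_mem hb) h
      · left
        exact ⟨hprod b x₀ hb hx₀, hb⟩
    have hAn : A.Normal := Subgroup.normal_of_index_eq_two hidx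
    refine ⟨A, hAn, ⟨⟨fun a b => Subtype.ext (hAcomm a a.2 b b.2)⟩⟩, hidx, ?_, ?_⟩
    · intro x hx
      exact ⟨hD x hx, fun b hb => hinv hx hb⟩
    · intro _ B' _ hB'comm _ hB'prop
      have hB'c : ∀ a ∈ B', ∀ b ∈ B', a * b = b * a := by
        intro a ha b hb
        have := congrArg Subtype.val (hB'comm.is_comm.comm ⟨a, ha⟩ ⟨b, hb⟩)
        simpa using this
      have ha₀B' : a₀ ∈ B' := by
        by_contra h
        exact ha₀sq (hB'prop a₀ h).1
      apply le_antisymm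
      · intro b hb
        by_contra hbA
        have h1 := hinv hbA ha₀
        have h2 : b * a₀ * b⁻¹ = a₀ := by rw [hB'c b hb a₀ ha₀B']; group
        rw [h2] at h1
        exact ha₀sq (sq_eq_one_of_inv_eq h1)
      · intro a ha
        by_contra haB'
        have h1 := (hB'prop a haB').2 a₀ ha₀B'
        have h2 : a * a₀ * a⁻¹ = a₀ := by rw [hAcomm a ha a₀ ha₀]; group
        rw [h2] at h1
        exact ha₀sq (sq_eq_one_of_inv_eq h1)

end Cfsg.Agent.S4420
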