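import Cfsg.Statements.S4421

set_option autoImplicit false
open Cfsg

namespace Cfsg.Agent.S4421

theorem mem_conj {G : Type*} [Group G] {A : Subgroup G} {g x : G} :
    x ∈ A.map (MulAut.conj g).toMonoidHom ↔ g⁻¹ * x * g ∈ A := by
  rw [Subgroup.mem_map]
  constructor
  · rintro ⟨a, ha, rfl⟩
    simpa [MulAut.conj_apply, mul_assoc] using ha
  · intro h
    refine ⟨g⁻¹ * x * g, h, ?_⟩
    simp [MulAut.conj_apply, mul_assoc]

/-- A factorization of a normalizer from two-step control of fusion. -/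
theorem result {G : Type*} [Group G] [Finite G] (A S H : Subgroup G)
    (hAS : A ≤ S) (hSH : S ≤ H)
    (h1 : ∀ g : G, A.map (MulAut.conj g).toMonoidHom ≤ S → ∃ s ∈ S, A.map (MulAut.conj g).toMonoidHom = A.map (MulAut.conj s).toMonoidHom)
    (h2 : ∀ g : G, S.map (MulAut.conj g).toMonoidHom ≤ H → ∃ y ∈ H, S.map (MulAut.conj g).toMonoidHom = S.map (MulAut.conj y).toMonoidHom)
    (h3 : ∀ x ∈ Subgroup.normalizer (A : Set G), S.map (MulAut.conj x).toMonoidHom ≤ H) :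
    ∀ x ∈ Subgroup.normalizer (A : Set G), ∃ y ∈ H ⊓ Subgroup.normalizer (A : Set G),
      ∃ z ∈ Subgroup.normalizer (S : Set G) ⊓ Subgroup.normalizer (A : Set G), x = y * z := by
  intro x hx
  obtain ⟨y₀, hy₀H, hy₀⟩ := h2 x (h3 x hx)
  have hxA : ∀ h, h ∈ A ↔ x * h * x⁻¹ ∈ A := Subgroup.mem_normalizer_iff.mp hx
  -- w = y₀⁻¹ x normalizes S
  have hw : y₀⁻¹ * x ∈ Subgroup.normalizer (S : Set G) := by
    rw [Subgroup.mem_normalizer_iff]
    intro h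
    have e1 : h ∈ S ↔ x * h * x⁻¹ ∈ S.map (MulAut.conj x).toMonoidHom := by
      rw [mem_conj]
      have : x⁻¹ * (x * h * x⁻¹) * x = h := by group
      rw [this]
    rw [e1, hy₀, mem_conj]
    have : y₀⁻¹ * (x * h * x⁻¹) * y₀ = y₀⁻¹ * x * h * (y₀⁻¹ * x)⁻¹ := by group
    rw [this]
  -- y₀⁻¹ A y₀ ≤ S
  have hle : A.map (MulAut.conj y₀⁻¹).toMonoidHom ≤ S := by
    intro z hz
    rw [mem_conj, inv_inv] at hz
    -- a = y₀ z y₀⁻¹ ∈ A
    have ha2 : x⁻¹ * (y₀ * z * y₀⁻¹) * x ∈ A := by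
      rw [hxA]
      have : x * (x⁻¹ * (y₀ * z * y₀⁻¹) * x) * x⁻¹ = y₀ * z * y₀⁻¹ := by group
      rw [this]; exact hz
    have ha3 : y₀ * z * y₀⁻¹ ∈ S.map (MulAut.conj x).toMonoidHom := by
      rw [mem_conj]; exact hAS ha2
    rw [hy₀, mem_conj] at ha3
    have : y₀⁻¹ * (y₀ * z * y₀⁻¹) * y₀ = z := by group
    rwa [this] at ha3
  obtain ⟨s, hsS, hs⟩ := h1 y₀⁻¹ hle
  have hyA : y₀ * s ∈ Subgroup.normalizer (A : Set G) := by
    rw [Subgroup.mem_normalizer_iff]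
    intro h
    have e1 : h ∈ A ↔ s * h * s⁻¹ ∈ A.map (MulAut.conj s).toMonoidHom := by
      rw [mem_conj]
      have : s⁻¹ * (s * h * s⁻¹) * s = h := by group
      rw [this]
    rw [e1, ← hs, mem_conj, inv_inv]
    have : y₀ * (s * h * s⁻¹) * y₀⁻¹ = y₀ * s * h * (y₀ * s)⁻¹ := by group
    rw [this]
  refine ⟨y₀ * s, ⟨H.mul_mem hy₀H (hSH hsS), hyA⟩, (y₀ * s)⁻¹ * x, ⟨?_, ?_⟩, by group⟩
  · have : (y₀ * s)⁻¹ * x = s⁻¹ * (y₀⁻¹ * x) := by group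
    rw [this]
    exact Subgroup.mul_mem _ (Subgroup.inv_mem _ (Subgroup.le_normalizer hsS)) hw
  · exact Subgroup.mul_mem _ (Subgroup.inv_mem _ hyA) hx

end Cfsg.Agent.S4421
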