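import Cfsg.Statements.S4422

set_option autoImplicit false
open Cfsg

namespace Cfsg.Agent.S4422

theorem list_prod_modEq_one (e : ℕ) : ∀ l : List ℕ, (∀ p ∈ l, p ≡ 1 [MOD e]) → l.prod ≡ 1 [MOD e] := by
  intro l
  induction l with
  | nil => intro _; simp [Nat.ModEq]
  | cons a t ih =>
    intro h
    rw [List.prod_cons]
    have h1 : a ≡ 1 [MOD e] := h a (List.mem_cons_self)
    have h2 : t.prod ≡ 1 [MOD e] := ih (fun p hp => h p (List.mem_cons_of_mem _ hp))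
    simpa using h1.mul h2

theorem prime_case (q e m : ℕ) (hq : 2 ≤ q) (he : 1 ≤ e)
    (hm : m ∣ q ^ e - 1) (hcop : ∀ i : ℕ, 1 ≤ i → i < e → Nat.Coprime m (q ^ i - 1))
    (p : ℕ) (hp : p.Prime) (hpm : p ∣ m) : p ≡ 1 [MOD e] := by
  haveI : Fact p.Prime := ⟨hp⟩
  have hqe : 1 ≤ q ^ e := Nat.one_le_pow _ _ (by omega)
  have hpow : ∀ i : ℕ, ((q : ZMod p)) ^ i = 1 ↔ p ∣ q ^ i - 1 := by
    intro i
    have hqi : 1 ≤ q ^ i := Nat.one_le_pow _ _ (by omega)
    rw [← ZMod.natCast_eq_zero_iff, Nat.cast_sub hqi, Nat.cast_pow, Nat.cast_one, sub_eq_zero]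
  have h1 : (q : ZMod p) ^ e = 1 := (hpow e).mpr (dvd_trans hpm hm)
  have hne : (q : ZMod p) ≠ 0 := by
    intro h0
    rw [h0, zero_pow (by omega)] at h1
    exact zero_ne_one h1
  have hd : orderOf (q : ZMod p) ∣ e := orderOf_dvd_of_pow_eq_one h1
  have hdpos : 0 < orderOf (q : ZMod p) := by
    apply orderOf_pos_iff.mpr
    exact isOfFinOrder_iff_pow_eq_one.mpr ⟨e, by omega, h1⟩
  have hde : orderOf (q : ZMod p) = e := by
    by_contra hne'
    have hlt : orderOf (q : ZMod p) < e :=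
      lt_of_le_of_ne (Nat.le_of_dvd (by omega) hd) hne'
    have h2 : p ∣ q ^ orderOf (q : ZMod p) - 1 := (hpow _).mp (pow_orderOf_eq_one _)
    have h3 := hcop _ hdpos hlt
    have h4 : p ∣ Nat.gcd m (q ^ orderOf (q : ZMod p) - 1) := Nat.dvd_gcd hpm h2
    rw [h3] at h4
    exact hp.one_lt.ne' (Nat.dvd_one.mp h4)
  have h5 : e ∣ p - 1 := hde ▸ ZMod.orderOf_dvd_card_sub_one hne
  have : 1 ≡ p [MOD e] := (Nat.modEq_iff_dvd' hp.one_lt.le).mpr h5
  exact this.symm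

/-- Primitive divisors of `q^e - 1` are congruent to 1 modulo `e`. -/
theorem result (q e m : ℕ) (hq : 2 ≤ q) (he : 1 ≤ e)
    (hm : m ∣ q ^ e - 1) (hcop : ∀ i : ℕ, 1 ≤ i → i < e → Nat.Coprime m (q ^ i - 1)) :
    m % e = 1 % e := by
  have hqe : 2 ≤ q ^ e := by
    calc 2 ≤ q := hq
      _ = q ^ 1 := (pow_one q).symm
      _ ≤ q ^ e := Nat.pow_le_pow_right (by omega) he
  have hm0 : m ≠ 0 := by
    rintro rfl
    rw [zero_dvd_iff] at hm
    omega
  have := list_prod_modEq_one e m.primeFactorsList (fun p hp =>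
    prime_case q e m hq he hm hcop p (Nat.prime_of_mem_primeFactorsList hp)
      (Nat.dvd_of_mem_primeFactorsList hp))
  rw [Nat.prod_primeFactorsList hm0] at this
  exact this

end Cfsg.Agent.S4422
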