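import Cfsg.Statements.S4423
import Cfsg.Agent.Lib.Helper3.PrimPart1

set_option autoImplicit false
open Cfsg

namespace Cfsg.Agent.S4423

open Cfsg.Agent.S3430 Cfsg.Agent.Lib.Helper3.PrimPart

/-- the running product of the numbers `q ^ i - 1`, `1 ≤ i ≤ k` -/
def prodQ (q : ℕ) : ℕ → ℕ
  | 0 => 1
  | (k + 1) => prodQ q k * (q ^ (k + 1) - 1)

theorem coprime_prodQ (q e m : ℕ) (h : ∀ i : ℕ, 1 ≤ i → i < e → Nat.Coprime m (q ^ i - 1)) :
    ∀ k : ℕ, k < e → Nat.Coprime m (prodQ q k) := by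
  intro k
  induction k with
  | zero => intro _; simp [prodQ]
  | succ k ih =>
    intro hk
    rw [prodQ]
    exact Nat.Coprime.mul_right (ih (by omega)) (h (k + 1) (by omega) hk)

theorem exc (q e A B : ℕ) (he : 1 ≤ e) (hN : q ^ e - 1 = A * B) (hA : A ∣ prodQ q (e - 1)) (hB : 0 < B)
    (m : ℕ) (hm : m ∣ q ^ e - 1) (hc : ∀ i : ℕ, 1 ≤ i → i < e → Nat.Coprime m (q ^ i - 1)) : m ≤ B := by
  have h1 : Nat.Coprime m (prodQ q (e - 1)) := coprime_prodQ q e m hc (e - 1) (by omega)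
  have h2 : Nat.Coprime m A := Nat.Coprime.coprime_dvd_right hA h1
  rw [hN] at hm
  exact Nat.le_of_dvd hB (Nat.Coprime.dvd_of_dvd_mul_left h2 hm)

/-- the first part, for every `q ≥ 2` -/
theorem part1 (q n : ℕ) (hq : 2 ≤ q) (hn3 : 3 ≤ n)
    (hL : (q, n) ∉ [(2, 6), (2, 4), (2, 10), (2, 12), (2, 18), (3, 4), (3, 6), (5, 6), (2, 3), (2, 8), (2, 20), (4, 3), (4, 6)]) :
    Goal' q n := by
  by_contra hgoal
  have hno : ∀ m : ℕ, m ∣ q ^ n - 1 → (∀ i : ℕ, 1 ≤ i → i < n → Nat.Coprime m (q ^ i - 1)) →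
      m < 3 * n + 1 := by
    intro m hm hc
    by_contra hge
    exact hgoal ⟨m, hm, hc, by omega⟩
  have hle := struct' q n hq hn3 hno
  have hlb := cA_lb (m := n) (x := q) (by omega) hq
  rcases Nat.lt_or_ge q 3 with hq2 | hq3
  · -- `q = 2`
    obtain rfl : q = 2 := by omega
    have hch := cheap n (by omega)
    have h5 : 2 ^ Nat.totient n < n ^ 2 * (2 * n + 1) ^ 2 := by
      calc 2 ^ Nat.totient n < cA n 2 ^ 2 := hch
        _ ≤ (n * (2 * n + 1)) ^ 2 := Nat.pow_le_pow_left hle 2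
        _ = n ^ 2 * (2 * n + 1) ^ 2 := by ring
    have hn91 := small_n' n h5
    rw [tot_eq] at h5
    have hmem := tabB n hn91 hn3 h5
    simp only [List.mem_cons, List.not_mem_nil, or_false] at hmem
    rcases hmem with rfl | rfl | rfl | rfl | rfl | rfl | rfl | rfl | rfl | rfl | rfl | rfl | rfl | rfl | rfl | rfl | rfl | rfl | rfl | rfl | rfl | rfl | rfl | rfl | rfl | rfl | rfl | rfl | rfl | rfl | rfl | rfl | rfl | rfl | rfl | rfl | rfl | rfl | rfl | rfl | rfl | rfl | rfl | rfl | rfl | rfl | rfl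
    · exact hL (by decide)
    · exact hL (by decide)
    · exact hgoal w_2_5
    · exact hL (by decide)
    · exact hgoal w_2_7
    · exact hL (by decide)
    · exact hgoal w_2_9
    · exact hL (by decide)
    · exact hgoal w_2_11
    · exact hL (by decide)
    · exact hgoal w_2_13
    · exact hgoal w_2_14
    · exact hgoal w_2_15
    · exact hgoal w_2_16
    · exact hgoal w_2_17
    · exact hL (by decide)
    · exact hgoal w_2_19
    · exact hL (by decide)
    · exact hgoal w_2_21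
    · exact hgoal w_2_22
    · exact hgoal w_2_24
    · exact hgoal w_2_25
    · exact hgoal w_2_26
    · exact hgoal w_2_27
    · exact hgoal w_2_28
    · exact hgoal w_2_30
    · exact hgoal w_2_32
    · exact hgoal w_2_33
    · exact hgoal w_2_34
    · exact hgoal w_2_36
    · exact hgoal w_2_38
    · exact hgoal w_2_40
    · exact hgoal w_2_42
    · exact hgoal w_2_44
    · exact hgoal w_2_46
    · exact hgoal w_2_48
    · exact hgoal w_2_50
    · exact hgoal w_2_52
    · exact hgoal w_2_54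
    · exact hgoal w_2_56
    · exact hgoal w_2_60
    · exact hgoal w_2_66
    · exact hgoal w_2_70
    · exact hgoal w_2_72
    · exact hgoal w_2_78
    · exact hgoal w_2_84
    · exact hgoal w_2_90
  · -- `q ≥ 3`
    have h5 : 2 ^ Nat.totient n < n * (2 * n + 1) := by
      calc 2 ^ Nat.totient n ≤ (q - 1) ^ Nat.totient n := Nat.pow_le_pow_left (by omega) _
        _ < cA n q := hlb
        _ ≤ n * (2 * n + 1) := hle
    have h6 : 2 ^ Nat.totient n < n ^ 2 * (2 * n + 1) ^ 2 := by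
      have : n * (2 * n + 1) ≤ (n * (2 * n + 1)) ^ 2 := Nat.le_self_pow (by norm_num) _
      calc 2 ^ Nat.totient n < n * (2 * n + 1) := h5
        _ ≤ (n * (2 * n + 1)) ^ 2 := this
        _ = n ^ 2 * (2 * n + 1) ^ 2 := by ring
    have hn91 := small_n' n h6
    have h7 : (q - 1) ^ Nat.totient n < n * (2 * n + 1) := lt_of_lt_of_le hlb hle
    rw [tot_eq] at h5 h7
    have hmem := tabC n hn91 hn3 h5
    have hn30 : n ≤ 30 := by
      simp only [List.mem_cons, List.not_mem_nil, or_false] at hmem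
      omega
    have hq44 : q < 44 := by
      by_contra hge
      have htot : 2 ≤ tot n := by
        rw [← tot_eq]
        have h8 := Nat.totient_even (show 2 < n by omega)
        have h9 := Nat.totient_pos.2 (show 0 < n by omega)
        rcases h8 with ⟨r, hr⟩
        omega
      have h8 : (q - 1) ^ 2 ≤ (q - 1) ^ tot n := Nat.pow_le_pow_right (by omega) htot
      have h9 : 43 ^ 2 ≤ (q - 1) ^ 2 := Nat.pow_le_pow_left (by omega) 2
      have h10 : n * (2 * n + 1) ≤ 30 * 61 := Nat.mul_le_mul hn30 (by omega)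
      omega
    have hmem2 := tabD n hmem q hq44 hq3 h7
    simp only [List.mem_cons, List.not_mem_nil, or_false, Prod.mk.injEq] at hmem2
    rcases hmem2 with ⟨rfl, rfl⟩ | ⟨rfl, rfl⟩ | ⟨rfl, rfl⟩ | ⟨rfl, rfl⟩ | ⟨rfl, rfl⟩ | ⟨rfl, rfl⟩ | ⟨rfl, rfl⟩ | ⟨rfl, rfl⟩ | ⟨rfl, rfl⟩ | ⟨rfl, rfl⟩ | ⟨rfl, rfl⟩ | ⟨rfl, rfl⟩ | ⟨rfl, rfl⟩ | ⟨rfl, rfl⟩ | ⟨rfl, rfl⟩ | ⟨rfl, rfl⟩ | ⟨rfl, rfl⟩ | ⟨rfl, rfl⟩ | ⟨rfl, rfl⟩ | ⟨rfl, rfl⟩ | ⟨rfl, rfl⟩ | ⟨rfl, rfl⟩ | ⟨rfl, rfl⟩ | ⟨rfl, rfl⟩ | ⟨rfl, rfl⟩ | ⟨rfl, rfl⟩ | ⟨rfl, rfl⟩ | ⟨rfl, rfl⟩ | ⟨rfl, rfl⟩ | ⟨rfl, rfl⟩ | ⟨rfl, rfl⟩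
    · exact hgoal w_3_3
    · exact hL (by decide)
    · exact hgoal w_5_3
    · exact hL (by decide)
    · exact hgoal w_4_4
    · exact hgoal w_5_4
    · exact hgoal w_6_4
    · exact hgoal w_3_5
    · exact hL (by decide)
    · exact hL (by decide)
    · exact hL (by decide)
    · exact hgoal w_6_6
    · exact hgoal w_7_6
    · exact hgoal w_8_6
    · exact hgoal w_9_6
    · exact hgoal w_3_7
    · exact hgoal w_3_8
    · exact hgoal w_4_8
    · exact hgoal w_3_9
    · exact hgoal w_3_10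
    · exact hgoal w_4_10
    · exact hgoal w_3_12
    · exact hgoal w_4_12
    · exact hgoal w_5_12
    · exact hgoal w_3_14
    · exact hgoal w_3_15
    · exact hgoal w_3_16
    · exact hgoal w_3_18
    · exact hgoal w_3_20
    · exact hgoal w_3_24
    · exact hgoal w_3_30

/-- Size of the primitive part of `q^e - 1`. For a prime power `q` and `e ≥ 3`, call a divisor of `q^e - 1` primitive when it is coprime to `q^i - 1` for every `1 ≤ i < e`; the primitive part is the largest primitive divisor. Apart from thirteen exceptional pairs, the primitive part is at least `3e + 1`: there is a primitive divisor `m ≥ 3e + 1` unless `(q, e)` is `(2, 6)` (where every primitive divisor is 1), one of `(2,4), (2,10), (2,12), (2,18), (3,4), (3,6), (5,6)` (where the primitive part is exactly `e + 1`), or one of `(2,3), (2,8), (2,20), (4,3), (4,6)` (where it is exactly `2e + 1`). The statement asserts the existence of a primitive divisor `m ≥ 3e + 1` outside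 the thirteen pairs, and that every primitive divisor is at most `2e + 1` for the thirteen pairs. -/
theorem result (q e : ℕ) (hq : IsPrimePow q) (he : 3 ≤ e) :
    ((q, e) ∉ [(2, 6), (2, 4), (2, 10), (2, 12), (2, 18), (3, 4), (3, 6), (5, 6), (2, 3), (2, 8), (2, 20), (4, 3), (4, 6)] →
      ∃ m : ℕ, m ∣ q ^ e - 1 ∧ (∀ i : ℕ, 1 ≤ i → i < e → Nat.Coprime m (q ^ i - 1)) ∧ 3 * e + 1 ≤ m) ∧
    ((q, e) ∈ [(2, 6), (2, 4), (2, 10), (2, 12), (2, 18), (3, 4), (3, 6), (5, 6), (2, 3), (2, 8), (2, 20), (4, 3), (4, 6)] →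
      ∀ m : ℕ, m ∣ q ^ e - 1 → (∀ i : ℕ, 1 ≤ i → i < e → Nat.Coprime m (q ^ i - 1)) → m ≤ 2 * e + 1) := by
  refine ⟨fun hL => part1 q e hq.two_le he hL, ?_⟩
  intro hmem m hm hc
  simp only [List.mem_cons, List.not_mem_nil, or_false, Prod.mk.injEq] at hmem
  rcases hmem with ⟨rfl, rfl⟩ | ⟨rfl, rfl⟩ | ⟨rfl, rfl⟩ | ⟨rfl, rfl⟩ | ⟨rfl, rfl⟩ | ⟨rfl, rfl⟩ | ⟨rfl, rfl⟩ | ⟨rfl, rfl⟩ | ⟨rfl, rfl⟩ | ⟨rfl, rfl⟩ | ⟨rfl, rfl⟩ | ⟨rfl, rfl⟩ | ⟨rfl, rfl⟩
  · exact le_trans (exc 2 6 63 1 (by norm_num) (by norm_num) (by decide +kernel) (by norm_num) m hm hc) (by norm_num)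
  · exact le_trans (exc 2 4 3 5 (by norm_num) (by norm_num) (by decide +kernel) (by norm_num) m hm hc) (by norm_num)
  · exact le_trans (exc 2 10 93 11 (by norm_num) (by norm_num) (by decide +kernel) (by norm_num) m hm hc) (by norm_num)
  · exact le_trans (exc 2 12 315 13 (by norm_num) (by norm_num) (by decide +kernel) (by norm_num) m hm hc) (by norm_num)
  · exact le_trans (exc 2 18 13797 19 (by norm_num) (by norm_num) (by decide +kernel) (by norm_num) m hm hc) (by norm_num)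
  · exact le_trans (exc 3 4 16 5 (by norm_num) (by norm_num) (by decide +kernel) (by norm_num) m hm hc) (by norm_num)
  · exact le_trans (exc 3 6 104 7 (by norm_num) (by norm_num) (by decide +kernel) (by norm_num) m hm hc) (by norm_num)
  · exact le_trans (exc 5 6 2232 7 (by norm_num) (by norm_num) (by decide +kernel) (by norm_num) m hm hc) (by norm_num)
  · exact le_trans (exc 2 3 1 7 (by norm_num) (by norm_num) (by decide +kernel) (by norm_num) m hm hc) (by norm_num)
  · exact le_trans (exc 2 8 15 17 (by norm_num) (by norm_num) (by decide +kernel) (by norm_num) m hm hc) (by norm_num)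
  · exact le_trans (exc 2 20 25575 41 (by norm_num) (by norm_num) (by decide +kernel) (by norm_num) m hm hc) (by norm_num)
  · exact le_trans (exc 4 3 9 7 (by norm_num) (by norm_num) (by decide +kernel) (by norm_num) m hm hc) (by norm_num)
  · exact le_trans (exc 4 6 315 13 (by norm_num) (by norm_num) (by decide +kernel) (by norm_num) m hm hc) (by norm_num)

end Cfsg.Agent.S4423
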