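import Mathlib
import Cfsg.Statements.S4424
import Cfsg.Agent.Lib.Helper8.TildeBlock

set_option autoImplicit false
open Cfsg

namespace Cfsg.Agent.S4424

open scoped ComplexConjugate
open Cfsg.Agent.Lib.Helper1 Cfsg.Agent.Lib.Helper4 Cfsg.Agent.Lib.Helper8

/-- Let χ be an irreducible character of the finite group G lying in the p-block B (relative to a maximal ideal M of the algebraic integers containing p), and let p^a be the p-part of the order of G. Then the class function that equals p^a · χ on the p-regular elements and vanishes on the p-singular elements is an integer combination of the irreducible characters in B: there are integers a_ψ, zero for ψ outside B, with that function equal to Σ a_ψ ψ. -/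
theorem result {G : Type*} [Group G] [Finite G] (p : ℕ) [Fact p.Prime] (M : Ideal Cfsg.AlgInt) (hM : Cfsg.IsPModular p M) (B : Set (Cfsg.IrrCharacter G)) (hB : Cfsg.IsPBlock M B) (χ : Cfsg.IrrCharacter G) (hχ : χ ∈ B) : ∃ a : Cfsg.IrrCharacter G → ℤ, (∀ ψ, ψ ∉ B → a ψ = 0) ∧ (fun x : G => if p ∣ orderOf x then (0 : ℂ) else ((p ^ (Nat.card G).factorization p : ℕ) : ℂ) * (χ : G → ℂ) x) = fun x => ∑ᶠ ψ : Cfsg.IrrCharacter G, (a ψ : ℂ) * (ψ : G → ℂ) x := by
  classical
  have : Fintype G := Fintype.ofFinite G
  have : Fintype (IrrCharacter G) := Fintype.ofFinite _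
  have hMp := isPModular_isPrime hM
  have hint : ∀ ψ : IrrCharacter G, ∃ n : ℤ, classInner (tilde p (χ : G → ℂ)) (ψ : G → ℂ) = n :=
    fun ψ => exists_int_classInner_tilde (isCharacter_of_irr χ.2) (isCharacter_of_irr ψ.2)
  choose a ha using hint
  have hBeq := eq_blockOf_of_mem hMp hB hχ
  refine ⟨a, ?_, ?_⟩
  · intro ψ hψ
    have h1 : ¬ SameBlock M (χ : G → ℂ) (ψ : G → ℂ) := by
      intro h
      apply hψ
      rw [hBeq]
      exact h
    have h2 := classInner_tilde_eq_zero (p := p) hM h1
    rw [ha ψ] at h2
    exact_mod_cast h2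
  · have hgc : IsGeneralizedCharacter G (tilde p (χ : G → ℂ)) :=
      isGenChar_pRegScale p (isCharacter_of_irr χ.2) _ dvd_rfl
    have h3 := genChar_expansion hgc a ha
    change tilde p (χ : G → ℂ) = _
    rw [h3]
    funext x
    rw [finsum_eq_sum_of_fintype, Finset.sum_apply]
    rfl

end Cfsg.Agent.S4424
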