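import Cfsg.Statements.S4427
import Cfsg.Agent.Lib.Helper8.PIdem2
import Cfsg.Agent.Lib.Helper8.TildeBlock
import Cfsg.Agent.Lib.Helper5.IdemPL
import Cfsg.Agent.Lib.Helper5.FrobH
import Cfsg.Agent.Lib.Helper6.FrobM
import Cfsg.Agent.Lib.Helper2.FrobS
import Cfsg.Agent.Lib.Helper1.CharFound3

set_option autoImplicit false
open Cfsg

namespace Cfsg.Agent.S4427

open Cfsg.Agent.Lib.Helper8.PIdem in
theorem glue {G : Type*} [Group G] [Fintype G] [Fintype (IrrCharacter G)] (p : ℕ) [Fact p.Prime]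
    (a n : ℕ) (hG : Nat.card G = p ^ a * n)
    (hcount : Nat.card {g : G // ¬ p ∣ orderOf g} = n) (Q R : Subgroup G)
    (hQR : Nat.card Q * Nat.card R = n) (hcop : (Nat.card Q).Coprime (Nat.card R))
    (hQ : ¬ p ∣ Nat.card Q) (hR : ¬ p ∣ Nat.card R) :
    ∃ N : Subgroup G, N.Normal ∧ Nat.card N = n := by
  classical
  obtain ⟨M, hM⟩ := Cfsg.Agent.Lib.Helper8.exists_isPModular p
  obtain ⟨f, c, hff, hf, hloc, haug⟩ := exists_idem hM Q R hQ hR
  have key : ∀ ξ : IrrCharacter G, ∃ m u v : ℕ,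
      (m : ℂ) = ∑ w : G, f.coeff w * (ξ : G → ℂ) w ∧
      (u : ℂ) = (Nat.card Q : ℂ)⁻¹ * ∑ y : Q, (ξ : G → ℂ) y ∧
      (v : ℂ) = (Nat.card R : ℂ)⁻¹ * ∑ z : R, (ξ : G → ℂ) z ∧
      m ≤ u ∧ m ≤ v ∧ (m : ℝ) ≤ ((ξ : G → ℂ) 1).re := by
    intro ξ
    obtain ⟨n, ρ, -, hχ⟩ := ξ.2
    obtain ⟨m, u, v, hm, hu, hv, h1, h2, h3⟩ := exists_ranks ρ Q R f c hff hf
    refine ⟨m, u, v, ?_, ?_, ?_, h1, h2, ?_⟩
    · rw [hm, hχ]
    · rw [hu, hχ]
    · rw [hv, hχ]
    · have h1 : (ξ : G → ℂ) 1 = (n : ℂ) := by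
        rw [← hχ, Representation.char_one, Module.finrank_fin_fun]
      rw [h1]
      simp only [Complex.natCast_re]
      exact_mod_cast h3
  choose m u v hm hu hv hmu hmv hmd using key
  refine Cfsg.Agent.Lib.Helper6.FrobM.frobenius_of_L p (Fact.out) a n hG hcount Q R hQR hcop m u v ?_ ?_
    hmu hmv hmd ?_ ?_
  · intro ξ; convert hu ξ
  · intro ξ; convert hv ξ
  · intro ξ hξ
    have h := hm ξ
    rw [hξ] at h
    simp only [mul_one] at h
    rw [← aug_apply, haug] at h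
    exact_mod_cast h
  · intro g hg
    refine Cfsg.Agent.Lib.Helper5.FrobH.hvan_of_PL (fun w => f.coeff w) m hm g ?_
    refine Cfsg.Agent.Lib.Helper5.IdemPL.sum_conj_eq_zero_of_idem hM (fun w => f.coeff w) hloc ?_ g hg
    intro w
    have h : (f * f).coeff w = f.coeff w := by rw [hff]
    rw [MonoidAlgebra.coeff_mul_apply_left, Finsupp.sum_fintype] at h
    · exact h
    · intro i; simp

/-- Let G be a finite group of order p^a · q^b · r^c with p, q, r distinct primes, and suppose that G has exactly q^b · r^c elements of order not divisible by p. Then G has a normal p-complement: a normal subgroup of order q^b · r^c. -/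
theorem result {G : Type*} [Group G] [Finite G] (p q r a b c : ℕ) (hp : p.Prime) (hq : q.Prime) (hr : r.Prime) (hpq : p ≠ q) (hpr : p ≠ r) (hqr : q ≠ r) (hG : Nat.card G = p ^ a * q ^ b * r ^ c) (hcount : Nat.card {g : G // ¬ p ∣ orderOf g} = q ^ b * r ^ c) : ∃ N : Subgroup G, N.Normal ∧ Nat.card N = q ^ b * r ^ c := by
  classical
  have : Fintype G := Fintype.ofFinite G
  have : Fintype (IrrCharacter G) := Fintype.ofFinite _
  have : Fact p.Prime := ⟨hp⟩
  obtain ⟨Q, R, hQR, hcop, hQ, hR⟩ :=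
    Cfsg.Agent.Lib.Helper2.FrobS.exists_QR p q r a b c hp hq hr hpq hpr hqr hG
  exact glue p a (q ^ b * r ^ c) (by rw [hG, mul_assoc]) hcount Q R hQR hcop hQ hR

end Cfsg.Agent.S4427
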