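import Mathlib
import Cfsg.Statements.S4446
import Cfsg.Agent.Lib.Helper8.GL11
import Cfsg.Agent.Lib.Helper8.GL12

set_option autoImplicit false
open Cfsg

namespace Cfsg.Agent.S4446

open scoped ComplexConjugate
open Cfsg.Agent.Lib.Helper1 Cfsg.Agent.Lib.Helper4 Cfsg.Agent.Lib.Helper8

/-- Let the finite group Γ be generated by a normal subgroup G and a cyclic subgroup S of coprime orders, C = G ⊓ C(S), and let χ be an S-invariant irreducible character of G with canonical extension χ̂ to Γ (the extension whose determinantal order is coprime to the order of S). Then there are exactly one irreducible character β of C and one sign ε such that χ̂(c s) = ε β(c) for every c ∈ C and every generator s of S; this β is a constituent of the restriction of χ to C; distinct S-invariant χ give distinct β; and every irreducible character of C arises in this way. -/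
theorem result {Γ : Type*} [Group Γ] [Fintype Γ] (G S : Subgroup Γ) [Fintype G] (hnorm : ∀ s ∈ S, ∀ g ∈ G, s * g * s⁻¹ ∈ G) (hcop : (Nat.card G).Coprime (Nat.card S)) (htop : G ⊔ S = ⊤) (hcyc : IsCyclic S) (C : Subgroup Γ) [Fintype C] (hC : C = G ⊓ Subgroup.centralizer (S : Set Γ)) (hCG : C ≤ G) : (∀ (χ : Cfsg.IrrCharacter G) (χh : Cfsg.IrrCharacter Γ), (∀ s ∈ S, ∀ g g' : G, (g' : Γ) = s * g * s⁻¹ → (χ : G → ℂ) g' = (χ : G → ℂ) g) → (∀ g : G, (χh : Γ → ℂ) g = (χ : G → ℂ) g) → (Cfsg.detOrder (χh : Γ → ℂ)).Coprime (Nat.card S) → (∃! βε : Cfsg.IrrCharacter C × ℤ, (βε.2 = 1 ∨ βε.2 = -1) ∧ ∀ c : C, ∀ s : Γ, Subgroup.zpowers s = S → (χh : Γ → ℂ) ((c : Γ) * s) = (βε.2 : ℂ) * (βε.1 : C → ℂ) c) ∧ ∀ β : Cfsg.IrrCharacter C, ∀ ε : ℤ, (ε = 1 ∨ ε = -1) → (∀ c : C, ∀ s : Γ, Subgroup.zpowers s = S → (χh : Γ → ℂ) ((c : Γ) * s) = (ε : ℂ) * (β : C → ℂ) c) → Cfsg.classInner (fun c : C => (χ : G → ℂ) ⟨c, hCG c.2⟩) (β : C → ℂ) ≠ 0)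 ∧ (∀ (χ χ' : Cfsg.IrrCharacter G) (χh χh' : Cfsg.IrrCharacter Γ), (∀ s ∈ S, ∀ g g' : G, (g' : Γ) = s * g * s⁻¹ → (χ : G → ℂ) g' = (χ : G → ℂ) g) → (∀ s ∈ S, ∀ g g' : G, (g' : Γ) = s * g * s⁻¹ → (χ' : G → ℂ) g' = (χ' : G → ℂ) g) → (∀ g : G, (χh : Γ → ℂ) g = (χ : G → ℂ) g) → (∀ g : G, (χh' : Γ → ℂ) g = (χ' : G → ℂ) g) → (Cfsg.detOrder (χh : Γ → ℂ)).Coprime (Nat.card S) → (Cfsg.detOrder (χh' : Γ → ℂ)).Coprime (Nat.card S) → ∀ β : Cfsg.IrrCharacter C, ∀ ε ε' : ℤ, (ε = 1 ∨ ε = -1) → (ε' = 1 ∨ ε' = -1) → (∀ c : C, ∀ s : Γ, Subgroup.zpowers s = S → (χh : Γ → ℂ) ((c : Γ) * s) = (ε : ℂ) * (β : C → ℂ) c) → (∀ c : C, ∀ s : Γ, Subgroup.zpowers s = S → (χh' : Γ → ℂ) ((c : Γ) * s) = (ε' : ℂ) * (β : C → ℂ) c) → χ = χ') ∧ (∀ β : Cfsg.IrrCharacter C, ∃ (χ : Cfsg.IrrCharacter G) (χh : Cfsg.IrrCharacter Γ) (ε : ℤ), (∀ s ∈ S, ∀ g g' : G, (g' : Γ) = s * g * s⁻¹ → (χ : G → ℂ) g' = (χ : G → ℂ) g) ∧ (∀ g : G, (χh : Γ → ℂ) g = (χ : G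 → ℂ) g) ∧ (Cfsg.detOrder (χh : Γ → ℂ)).Coprime (Nat.card S) ∧ (ε = 1 ∨ ε = -1) ∧ ∀ c : C, ∀ s : Γ, Subgroup.zpowers s = S → (χh : Γ → ℂ) ((c : Γ) * s) = (ε : ℂ) * (β : C → ℂ) c) := by
  classical
  haveI hGn : G.Normal := normal_of_normalizes hnorm htop
  obtain ⟨s₀, hZ, hsetup⟩ := exists_gen_setup hcyc hcop htop
  have hord : orderOf s₀ = Nat.card S := by rw [← Nat.card_zpowers, hZ]
  have hCs : C = fixC G s₀ := hC.trans (inf_centralizer_eq_fixC hZ)
  have hZ' : ∀ s : Γ, Subgroup.zpowers s = S ↔ Subgroup.zpowers s = Subgroup.zpowers s₀ := by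
    intro s; rw [hZ]
  have hpm : ∀ ε : ℤ, (ε = 1 ∨ ε = -1) → (ε : ℂ) ≠ 0 := by
    intro ε hε
    rcases hε with h1 | h1 <;> rw [h1] <;> norm_num
  refine ⟨?_, ?_, ?_⟩
  · intro χ χh hinv hext hdet
    have hres : IsIrrCharacter G (fun g : G => (χh : Γ → ℂ) g) := by
      have : (fun g : G => (χh : Γ → ℂ) g) = (χ : G → ℂ) := funext hext
      rw [this]; exact χ.2
    rw [← hord] at hdet
    obtain ⟨β, ε, hε, hval, hmult, hne, -⟩ := cyc_package hsetup C hCs χh.2 hres hdet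
    have hrestr : (fun c : C => (χ : G → ℂ) ⟨c, hCG c.2⟩) = fun c : C => (χh : Γ → ℂ) (c : Γ) := by
      funext c
      exact (hext ⟨c, hCG c.2⟩).symm
    constructor
    · refine ⟨(β, ε), ⟨hε, fun c s hs => hval c s ((hZ' s).1 hs)⟩, ?_⟩
      rintro ⟨β', ε'⟩ ⟨hε', hval'⟩
      simp only at hε' hval'
      have hfun : ∀ c : C, (ε' : ℂ) * (β' : C → ℂ) c = (ε : ℂ) * (β : C → ℂ) c := by
        intro c
        rw [← hval' c s₀ hZ, ← hval c s₀ rfl]
      have hεε : ε' = ε := by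
        obtain ⟨d, hd0, hd⟩ := irr_apply_one_pos β.2
        obtain ⟨d', hd0', hd'⟩ := irr_apply_one_pos β'.2
        have h1 := hfun 1
        rw [hd, hd'] at h1
        have h2 : ε' * (d' : ℤ) = ε * (d : ℤ) := by exact_mod_cast h1
        rcases hε with h3 | h3 <;> rcases hε' with h4 | h4 <;> rw [h3, h4] at h2 ⊢ <;>
          first | rfl | (exfalso; omega)
      rw [hεε] at hfun
      have hββ : β' = β := by
        apply Subtype.ext
        funext c
        exact mul_left_cancel₀ (hpm ε hε) (hfun c)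
      rw [hεε, hββ]
    · intro β' ε' hε' hval'
      rw [hrestr]
      have h1 : classInner (fun c : C => (χh : Γ → ℂ) ((c : Γ) * s₀)) (β' : C → ℂ) ≠ 0 := by
        have : (fun c : C => (χh : Γ → ℂ) ((c : Γ) * s₀)) = (ε' : ℂ) • (β' : C → ℂ) := by
          funext c
          rw [hval' c s₀ hZ]
          rfl
        rw [this, classInner_smul_left, classInner_irr_self β'.2, mul_one]
        exact hpm ε' hε'
      rw [hmult β'] at h1
      have h2 : β' = β := by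
        by_contra hne'
        rw [if_neg hne'] at h1
        exact h1 rfl
      rw [h2]
      exact hne
  · intro χ χ' χh χh' hinv hinv' hext hext' hdet hdet' β ε ε' hε hε' hval hval'
    have hres : IsIrrCharacter G (fun g : G => (χh : Γ → ℂ) g) := by
      have : (fun g : G => (χh : Γ → ℂ) g) = (χ : G → ℂ) := funext hext
      rw [this]; exact χ.2
    have hres' : IsIrrCharacter G (fun g : G => (χh' : Γ → ℂ) g) := by
      have : (fun g : G => (χh' : Γ → ℂ) g) = (χ' : G → ℂ) := funext hext'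
      rw [this]; exact χ'.2
    have h1 := cyc_inj_package hsetup C hCs χh.2 χh'.2 hres hres' β.2 (hpm ε hε) (hpm ε' hε')
      (fun c => hval c s₀ hZ) (fun c => hval' c s₀ hZ)
    apply Subtype.ext
    funext g
    rw [← hext g, ← hext' g]
    exact congrFun h1 g
  · intro β
    obtain ⟨χh, hχh, hres, hdet, hne⟩ := cyc_surj_package hsetup C hCs β
    obtain ⟨β', ε, hε, hval, hmult, -, -⟩ := cyc_package hsetup C hCs hχh hres hdet
    have h2 : β = β' := by
      by_contra hne'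
      rw [hmult β, if_neg hne'] at hne
      exact hne rfl
    rw [hord] at hdet
    refine ⟨⟨fun g : G => χh g, hres⟩, ⟨χh, hχh⟩, ε, ?_, fun _ => rfl, hdet, hε, ?_⟩
    · intro s hs g g' hg
      show χh g' = χh g
      rw [hg]
      exact isClassFunction_irr hχh _ _
    · intro c s hs
      rw [h2]
      exact hval c s ((hZ' s).1 hs)

end Cfsg.Agent.S4446
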