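import Cfsg.Statements.S4451
import Mathlib
import Cfsg.Agent.Lib.Helper8.FX4
import Cfsg.Agent.Lib.Helper8.GL12
import Cfsg.Agent.Lib.Helper8.Deflation

set_option autoImplicit false
open Cfsg

namespace Cfsg.Agent.S4451

/-- Let the finite group Γ be generated by a normal subgroup G and a cyclic subgroup S of coprime orders such that every non-identity element of S has the same centraliser C = G ⊓ C(S) in G. Let χ be an S-invariant irreducible character of G, χ̂ its canonical extension to Γ (determinantal order coprime to the order of S), and β the irreducible character of C with χ̂(c s) = ε₀ β(c) for c ∈ C and generators s of S (ε₀ = ±1). Then there are a sign ε = ±1, which may differ from ε₀, and a linear character μ of S with μ² = 1, such that: (a) χ̂(c x) = ε β(c) μ(x) for all c ∈ C and all x ∈ S other than 1; (b) the restriction of χ to C equals |S|·ϑ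 + ε β for some character ϑ of C or ϑ = 0; (c) |S| divides χ(1) − ε β(1). -/
theorem result {Γ : Type*} [Group Γ] [Fintype Γ] (G S : Subgroup Γ) [Fintype G] (hnorm : ∀ s ∈ S, ∀ g ∈ G, s * g * s⁻¹ ∈ G) (hcop : (Nat.card G).Coprime (Nat.card S)) (htop : G ⊔ S = ⊤) (hcyc : IsCyclic S) (C : Subgroup Γ) [Fintype C] (hC : C = G ⊓ Subgroup.centralizer (S : Set Γ)) (hCG : C ≤ G) (hfpf : ∀ x ∈ S, x ≠ 1 → G ⊓ Subgroup.centralizer ({x} : Set Γ) = C) (χ : Cfsg.IrrCharacter G) (hinv : (∀ s ∈ S, ∀ g g' : G, (g' : Γ) = s * g * s⁻¹ → (χ : G → ℂ) g' = (χ : G → ℂ) g)) (χh : Cfsg.IrrCharacter Γ) (hext : (∀ g : G, (χh : Γ → ℂ) g = (χ : G → ℂ) g)) (hdet : (Cfsg.detOrder (χh : Γ → ℂ)).Coprime (Nat.card S)) (β : Cfsg.IrrCharacter C) (ε₀ : ℤ) (hε₀ : ε₀ = 1 ∨ ε₀ = -1) (hβ : ∀ c : C, ∀ s : Γ, Subgroup.zpowers s = S → (χh : Γ → ℂ) ((c : Γ) * s) = (ε₀ : ℂ) * (β : C → ℂ) c) : ∃ ε : ℤ,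 (ε = 1 ∨ ε = -1) ∧ (∃ μ : S → ℂ, Cfsg.IsCharacter S μ ∧ μ 1 = 1 ∧ (∀ x : S, μ x * μ x = 1) ∧ ∀ c : C, ∀ x : S, x ≠ 1 → (χh : Γ → ℂ) ((c : Γ) * x) = (ε : ℂ) * (β : C → ℂ) c * μ x) ∧ (∃ ϑ : C → ℂ, Cfsg.IsCharacter C ϑ ∧ (fun c : C => (χ : G → ℂ) ⟨c, hCG c.2⟩) = fun c => (Nat.card S : ℂ) * ϑ c + (ε : ℂ) * (β : C → ℂ) c) ∧ (Nat.card S : ℤ) ∣ (Cfsg.charDegree (χ : G → ℂ) : ℤ) - ε * (Cfsg.charDegree (β : C → ℂ) : ℤ) := by
  classical
  haveI hGn : G.Normal := Cfsg.Agent.Lib.Helper8.normal_of_normalizes hnorm htop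
  obtain ⟨s₀, hZ, hsetup⟩ := Cfsg.Agent.Lib.Helper8.exists_gen_setup hcyc hcop htop
  subst hZ
  have hCs : C = Cfsg.Agent.Lib.Helper8.fixC G s₀ :=
    hC.trans (Cfsg.Agent.Lib.Helper8.inf_centralizer_eq_fixC rfl)
  subst hCs
  have hord : Nat.card (Subgroup.zpowers s₀) = orderOf s₀ := Nat.card_zpowers s₀
  rw [hord] at hdet
  have hres : IsIrrCharacter G (fun g : G => (χh : Γ → ℂ) g) := by
    have : (fun g : G => (χh : Γ → ℂ) g) = (χ : G → ℂ) := funext hext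
    rw [this]
    exact χ.2
  obtain ⟨ε, hε, hμ, ⟨ϑ, hϑ, hϑeq⟩⟩ := Cfsg.Agent.Lib.Helper8.FX.uniform_fixed_points
    hsetup.cop (fun y hy hy1 => hfpf y hy hy1)
    (Cfsg.Agent.Lib.Helper4.isCharacter_of_irr χh.2) hres hdet β ε₀ hε₀
    (fun c => hβ c s₀ rfl)
  have hϑeq' : (fun c : Cfsg.Agent.Lib.Helper8.fixC G s₀ => (χ : G → ℂ) ⟨c, hCG c.2⟩)
      = fun c => (Nat.card (Subgroup.zpowers s₀) : ℂ) * ϑ c
        + (ε : ℂ) * (β : Cfsg.Agent.Lib.Helper8.fixC G s₀ → ℂ) c := by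
    funext c
    have h1 := congrFun hϑeq c
    rw [hord]
    rw [← h1]
    exact (hext ⟨c, hCG c.2⟩).symm
  refine ⟨ε, hε, hμ, ⟨ϑ, hϑ, hϑeq'⟩, ?_⟩
  -- the divisibility
  obtain ⟨hχ1, -⟩ := Cfsg.Agent.Lib.Helper8.irr_apply_one_eq_charDegree χ.2
  obtain ⟨hβ1, -⟩ := Cfsg.Agent.Lib.Helper8.irr_apply_one_eq_charDegree β.2
  obtain ⟨n, hn⟩ := Cfsg.Agent.Lib.Helper4.isCharacter_apply_one hϑ
  have h1 := congrFun hϑeq' 1
  have e1 : (⟨((1 : Cfsg.Agent.Lib.Helper8.fixC G s₀) : Γ), hCG (1 : Cfsg.Agent.Lib.Helper8.fixC G s₀).2⟩ : G) = 1 := rfl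
  rw [e1, hχ1, hβ1, hn] at h1
  refine ⟨(n : ℤ), ?_⟩
  have h2 : ((Cfsg.charDegree (χ : G → ℂ) : ℤ) : ℂ)
      = (((Nat.card (Subgroup.zpowers s₀) : ℤ) * (n : ℤ)
        + ε * (Cfsg.charDegree (β : Cfsg.Agent.Lib.Helper8.fixC G s₀ → ℂ) : ℤ) : ℤ) : ℂ) := by
    push_cast
    exact h1
  have h3 := Int.cast_injective h2
  rw [h3]
  ring

end Cfsg.Agent.S4451
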