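import Cfsg.Statements.S4454
import Mathlib
import Cfsg.Agent.Lib.Helper8.FZ1
import Cfsg.Agent.Lib.Helper8.FZ2
import Cfsg.Agent.Lib.Helper8.FZ3
import Cfsg.Agent.Lib.Helper8.FZ4
import Cfsg.Agent.Lib.Helper1.CharFound7

set_option autoImplicit false
open Cfsg

namespace Cfsg.Agent.S4454

open Cfsg.Agent.Lib.Helper1 Cfsg.Agent.Lib.Helper4 Cfsg.Agent.Lib.Helper8.FZ ComplexConjugate

/-- Let N ≤ G be normal subgroups of the finite group Γ with Γ/G cyclic and Γ/N a Frobenius group with kernel G/N: G ≠ Γ, N ≠ G, and no element of Γ outside G fixes a non-identity coset of N in G under conjugation. Let ϑ be an irreducible character of N invariant under conjugation by Γ and suppose ϑ is fully ramified in G: the character of G induced from ϑ equals e·χ for an irreducible character χ of G and a natural number e. Then the index of G in Γ divides e − 1 or e + 1. -/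
theorem result {Γ : Type*} [Group Γ] [Fintype Γ] (G N : Subgroup Γ) [hG : G.Normal] [hN : N.Normal] [Fintype G] [Fintype N] (hNG : N ≤ G) (hGlt : G ≠ ⊤) (hNlt : N ≠ G) (hcyc : IsCyclic (Γ ⧸ G)) (hfrob : ∀ x : Γ, x ∉ G → ∀ g : Γ, g ∈ G → x * g * x⁻¹ * g⁻¹ ∈ N → g ∈ N) (θ : Cfsg.IrrCharacter N) (hinv : ∀ (x : Γ) (n : N), (θ : N → ℂ) ⟨x * n * x⁻¹, hN.conj_mem n n.2 x⟩ = (θ : N → ℂ) n) (χ : Cfsg.IrrCharacter G) (e : ℕ) (hram : Cfsg.indFun (N.subgroupOf G) (fun n : N.subgroupOf G => (θ : N → ℂ) ⟨(n : G), n.2⟩) = fun g => (e : ℂ) * (χ : G → ℂ) g) : (G.index : ℤ) ∣ (e : ℤ) - 1 ∨ (G.index : ℤ) ∣ (e : ℤ) + 1 := by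
  classical
  have hχcf : IsClassFunction G (χ : G → ℂ) := isClassFunction_irr χ.2
  have hθK : IsIrrCharacter (N.subgroupOf G)
      (fun n : N.subgroupOf G => (θ : N → ℂ) ⟨(n : G), n.2⟩) :=
    isIrrCharacter_comp_mulEquiv θ.2 (Subgroup.subgroupOfEquivOfLe hNG)
  have hθKinv : ∀ (g : G) (n : N.subgroupOf G),
      (fun n : N.subgroupOf G => (θ : N → ℂ) ⟨(n : G), n.2⟩)
        ⟨g * n * g⁻¹, (inferInstance : (N.subgroupOf G).Normal).conj_mem n n.2 g⟩
      = (fun n : N.subgroupOf G => (θ : N → ℂ) ⟨(n : G), n.2⟩) n :=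
    fun g n => hinv (g : Γ) ⟨n, n.2⟩
  obtain ⟨d, hdpos, hd⟩ := irr_apply_one_pos θ.2
  have hd0 : (d : ℂ) ≠ 0 := Nat.cast_ne_zero.2 hdpos.ne'
  have hχ1 := irr_apply_one_pos χ.2
  obtain ⟨dχ, hdχpos, hdχ⟩ := hχ1
  have he0 : e ≠ 0 := by
    rintro rfl
    have h1 := congrFun hram 1
    rw [Cfsg.Agent.Lib.Helper4.PF6.indFun_one_index] at h1
    simp only [Nat.cast_zero, zero_mul] at h1
    have h2 : (θ : N → ℂ) ⟨((1 : N.subgroupOf G) : G), (1 : N.subgroupOf G).2⟩ = d := by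
      rw [← hd]
      rfl
    rw [h2] at h1
    rcases mul_eq_zero.1 h1 with h | h
    · exact Subgroup.index_ne_zero_of_finite (Nat.cast_eq_zero.1 h)
    · exact hd0 h
  have he0' : (e : ℂ) ≠ 0 := Nat.cast_ne_zero.2 he0
  have hinner : classInner (fun n : N.subgroupOf G => (χ : G → ℂ) n)
      (fun n : N.subgroupOf G => (θ : N → ℂ) ⟨(n : G), n.2⟩) = e := by
    rw [← classInner_conj_symm, ← Cfsg.Agent.S0146.result (N.subgroupOf G) _ _ hχcf, hram]
    have : (fun g : G => (e : ℂ) * (χ : G → ℂ) g) = (e : ℂ) • (χ : G → ℂ) := rfl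
    rw [this, classInner_smul_left, classInner_irr_self χ.2]
    simp
  have hχN : ∀ n : N.subgroupOf G, (χ : G → ℂ) n = e * (θ : N → ℂ) ⟨(n : G), n.2⟩ := by
    intro n
    have := restrict_of_invariant (N.subgroupOf G) _ hθK hθKinv (χ : G → ℂ) χ.2
      (by rw [hinner]; exact he0') n
    rw [hinner] at this
    exact this
  have hχinv : ∀ (x : Γ) (g : G),
      (χ : G → ℂ) ⟨x * g * x⁻¹, hG.conj_mem g g.2 x⟩ = (χ : G → ℂ) g := by
    intro x g
    have h1 := indFun_conj_invariant G (N.subgroupOf G)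
      (fun n : N.subgroupOf G => (θ : N → ℂ) ⟨(n : G), n.2⟩) x ?_ g
    · rw [hram] at h1
      exact mul_left_cancel₀ he0' h1
    · intro z
      by_cases hz : z ∈ N.subgroupOf G
      · have hz' : (⟨x * z * x⁻¹, hG.conj_mem z z.2 x⟩ : G) ∈ N.subgroupOf G := by
          rw [Subgroup.mem_subgroupOf]
          exact hN.conj_mem _ hz x
        rw [extendByZero_of_mem _ _ hz, extendByZero_of_mem _ _ hz']
        exact hinv x ⟨z, hz⟩
      · have hz' : (⟨x * z * x⁻¹, hG.conj_mem z z.2 x⟩ : G) ∉ N.subgroupOf G := by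
          intro h
          apply hz
          rw [Subgroup.mem_subgroupOf] at h ⊢
          have := hN.conj_mem _ h x⁻¹
          simpa [mul_assoc] using this
        rw [extendByZero_of_notMem _ _ hz, extendByZero_of_notMem _ _ hz']
  obtain ⟨χh, hχh, hχhG⟩ := Cfsg.Agent.S0886.result G hcyc (χ : G → ℂ) χ.2 hχinv
  have hχhGirr : IsIrrCharacter G (fun g : G => χh g) := by
    have : (fun g : G => χh g) = (χ : G → ℂ) := funext hχhG
    rw [this]
    exact χ.2
  obtain ⟨H, hNH, hHG, hidx, hHcyc⟩ := exists_complement G N hNG hGlt hcyc hfrob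
  haveI : Fintype H := Fintype.ofFinite H
  haveI : Fintype (N.subgroupOf H) := Fintype.ofFinite _
  have hθ' : IsIrrCharacter (N.subgroupOf H)
      (fun n : N.subgroupOf H => (θ : N → ℂ) ⟨(n : H), n.2⟩) :=
    isIrrCharacter_comp_mulEquiv θ.2 (Subgroup.subgroupOfEquivOfLe hNH)
  have hθ'inv : ∀ (g : H) (n : N.subgroupOf H),
      (fun n : N.subgroupOf H => (θ : N → ℂ) ⟨(n : H), n.2⟩)
        ⟨g * n * g⁻¹, (inferInstance : (N.subgroupOf H).Normal).conj_mem n n.2 g⟩
      = (fun n : N.subgroupOf H => (θ : N → ℂ) ⟨(n : H), n.2⟩) n :=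
    fun g n => hinv (g : Γ) ⟨n, n.2⟩
  have hχhN : ∀ n : N, χh n = e * (θ : N → ℂ) n := by
    intro n
    have h1 := hχhG ⟨(n : Γ), hNG n.2⟩
    have h2 := hχN ⟨⟨(n : Γ), hNG n.2⟩, n.2⟩
    rw [← h2, ← h1]
  have hΨ : IsCharacter H (fun h : H => χh h) :=
    Cfsg.Agent.S0148.isCharacter_restrict H (isCharacter_of_irr hχh)
  have hΨN : ∀ n : N.subgroupOf H, (fun h : H => χh h) n
      = e * (fun n : N.subgroupOf H => (θ : N → ℂ) ⟨(n : H), n.2⟩) n :=
    fun n => hχhN ⟨(n : H), n.2⟩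
  obtain ⟨T, b, hTcard, hbsum, hnorm⟩ := cyclic_decomp (N.subgroupOf H) hHcyc _ hθ' hθ'inv
    _ hΨ e hΨN
  -- the norm of the restriction
  have hcN0 : (Nat.card N : ℂ) ≠ 0 := Nat.cast_ne_zero.2 Nat.card_pos.ne'
  have hθnorm : ∑ n : N, (θ : N → ℂ) n * conj ((θ : N → ℂ) n) = (Nat.card N : ℂ) := by
    have := classInner_irr_self θ.2
    rw [classInner_def] at this
    field_simp at this
    exact this
  have hsums := sum_of_coset_sums N H hNH (fun y => χh y * conj (χh y))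
    ((e : ℂ) ^ 2 * Nat.card N) (Nat.card N) ?_ ?_
  rotate_left
  · intro h hh
    have h1 := Equiv.sum_comp (Equiv.mulLeft (⟨(h : Γ), hh⟩ : N))
      (fun n : N => χh n * conj (χh n))
    simp only [Equiv.coe_mulLeft, Subgroup.coe_mul] at h1
    rw [h1, ← hθnorm, Finset.mul_sum]
    refine Finset.sum_congr rfl fun n _ => ?_
    rw [hχhN n, map_mul, Complex.conj_natCast]
    ring
  · intro h hh
    have hhG : (h : Γ) ∉ G := fun hc => hh (hHG _ h.2 hc)
    exact sum_normSq_coset_N G N hNG hfrob hχh hχhGirr hhG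
  have hcard : Nat.card H = Nat.card N * G.index := by
    rw [← hidx]
    have h1 := (N.subgroupOf H).card_mul_index
    rw [Nat.card_congr (Subgroup.subgroupOfEquivOfLe hNH).toEquiv] at h1
    exact h1.symm
  have hm2 : 2 ≤ G.index := by
    have h0 : G.index ≠ 0 := Subgroup.index_ne_zero_of_finite
    have h1 : G.index ≠ 1 := fun h => hGlt (Subgroup.index_eq_one.1 h)
    omega
  have hm0 : (G.index : ℂ) ≠ 0 := Nat.cast_ne_zero.2 (by omega)
  have hfinal : (G.index : ℂ) * ∑ ψ ∈ T, ((b ψ : ℂ)) ^ 2 + 1 = (e : ℂ) ^ 2 + G.index := by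
    rw [← hnorm, classInner_def, hcard]
    have hS : ∑ h : H, χh h * conj (χh h)
        = (Nat.card N : ℂ) * ((e : ℂ) ^ 2 + G.index - 1) := by
      apply mul_left_cancel₀ hcN0
      rw [hsums, hcard]
      push_cast
      ring
    rw [hS]
    push_cast
    field_simp
    ring
  have hfinalN : G.index * ∑ ψ ∈ T, (b ψ) ^ 2 + 1 = e ^ 2 + G.index := by
    exact_mod_cast hfinal
  exact arith T b G.index e hm2 (hTcard.trans hidx) hbsum hfinalN

end Cfsg.Agent.S4454
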