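import Cfsg.Statements.S4459
import Mathlib
import Cfsg.Agent.Lib.Helper4.TD13
-- import your own Cfsg.Agent.* helpers here

set_option autoImplicit false
open Cfsg

namespace Cfsg.Agent.S4459

/-- Let G be a non-abelian finite group and p a prime. Then the irreducible character degrees of G are exactly 1 and p if and only if either G has an abelian normal subgroup of index p or the centre of G has index p³. -/
theorem result {G : Type*} [Group G] [Finite G] (hG : ∃ a b : G, a * b ≠ b * a) (p : ℕ) (hp : p.Prime) : ((∀ χ : Cfsg.IrrCharacter G, Cfsg.charDegree (χ : G → ℂ) = 1 ∨ Cfsg.charDegree (χ : G → ℂ) = p) ∧ ∃ χ : Cfsg.IrrCharacter G, Cfsg.charDegree (χ : G → ℂ) = p) ↔ ((∃ A : Subgroup G, A.Normal ∧ (∀ a ∈ A, ∀ b ∈ A, a * b = b * a) ∧ A.index = p) ∨ (Subgroup.center G).index = p ^ 3) := by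
  constructor
  · rintro ⟨hcd, χ, hχ⟩
    have h2 : Cfsg.Agent.Lib.Helper4.TD.H2 G p := Cfsg.Agent.Lib.Helper4.TD.H2.of_charDegree hcd
    have hex : ∃ χ : G → ℂ, Cfsg.IsIrrCharacter G χ ∧ χ 1 = (p : ℂ) := by
      refine ⟨χ, χ.2, ?_⟩
      obtain ⟨h1, -⟩ := Cfsg.Agent.Lib.Helper8.irr_apply_one_eq_charDegree χ.2
      rw [h1, hχ]
    exact Cfsg.Agent.Lib.Helper4.TD.degrees_one_p_forward p hp h2 hex hG
  · intro h
    have h2 : Cfsg.Agent.Lib.Helper4.TD.H2 G p := by
      rcases h with ⟨A, hAn, hAab, hidx⟩ | h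
      · haveI := hAn
        exact Cfsg.Agent.Lib.Helper4.TD.degrees_of_abelian_index p hp A hAab hidx
      · exact Cfsg.Agent.Lib.Helper4.TD.degrees_of_center_index p hp h
    constructor
    · intro χ
      obtain ⟨h1, -⟩ := Cfsg.Agent.Lib.Helper8.irr_apply_one_eq_charDegree χ.2
      rcases h2 χ χ.2 with h3 | h3
      · left
        rw [h1] at h3
        exact_mod_cast h3
      · right
        rw [h1] at h3
        exact_mod_cast h3
    · obtain ⟨a, b, hab⟩ := hG
      obtain ⟨χ, hχ, hχ1⟩ := Cfsg.Agent.Lib.Helper4.TD.exists_nonlinear (G := G)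
        (fun h => hab (h a b))
      refine ⟨⟨χ, hχ⟩, ?_⟩
      obtain ⟨h1, -⟩ := Cfsg.Agent.Lib.Helper8.irr_apply_one_eq_charDegree hχ
      rcases h2 χ hχ with h3 | h3
      · exact absurd h3 hχ1
      · rw [h1] at h3
        exact_mod_cast h3

end Cfsg.Agent.S4459
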