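import Mathlib
import Cfsg.Statements.S4466
import Cfsg.Agent.Lib.Helper8.PD3
-- import your own Cfsg.Agent.* helpers here

set_option autoImplicit false
open Cfsg

namespace Cfsg.Agent.S4466

/-- If every irreducible character of the finite group G of degree greater than one has prime degree, then G is solvable. -/
theorem result {G : Type*} [Group G] [Finite G] (h : ∀ χ : Cfsg.IrrCharacter G, Cfsg.charDegree (χ : G → ℂ) ≠ 1 → (Cfsg.charDegree (χ : G → ℂ)).Prime) : Group.IsSolvable G := by
  apply Cfsg.Agent.Lib.Helper8.PD.PD.solvable (Nat.card G) G rfl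
  intro χ hχ d hd
  obtain ⟨hc, -⟩ := Cfsg.Agent.Lib.Helper8.irr_apply_one_eq_charDegree hχ
  have hdc : Cfsg.charDegree χ = d := by
    rw [hd] at hc
    exact_mod_cast hc.symm
  by_cases h1 : d = 1
  · exact Or.inl h1
  · right
    have := h ⟨χ, hχ⟩ (by rw [hdc]; exact h1)
    rwa [hdc] at this

end Cfsg.Agent.S4466
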