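import Cfsg.Statements.S4473
import Mathlib
import Cfsg.Agent.Lib.Helper8.PL3
import Cfsg.Agent.Lib.Helper8.PL4

set_option autoImplicit false
open Cfsg

namespace Cfsg.Agent.S4473

/-- Let the finite group G have a faithful irreducible character χ of degree 2 that is primitive: χ is not induced from a character of any proper subgroup. Then the centre of G has index 12, 24 or 60. -/
theorem result {G : Type*} [Group G] [Fintype G] (χ : Cfsg.IrrCharacter G) (hfaith : ∀ g : G, (χ : G → ℂ) g = (χ : G → ℂ) 1 → g = 1) (h2 : Cfsg.charDegree (χ : G → ℂ) = 2) (hprim : ∀ H : Subgroup G, H ≠ ⊤ → ∀ θ : H → ℂ, Cfsg.IsCharacter H θ → (χ : G → ℂ) ≠ Cfsg.indFun H θ) : (Subgroup.center G).index = 12 ∨ (Subgroup.center G).index = 24 ∨ (Subgroup.center G).index = 60 := by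
  classical
  open Cfsg.Agent.Lib.Helper8.PL Module in
  obtain ⟨n, ρ, hirr, hρ⟩ := χ.2
  haveI := hirr
  have hχ1 : (χ : G → ℂ) 1 = (n : ℂ) := by
    rw [← hρ, Representation.char_one, Module.finrank_fin_fun]
  have hn : n = 2 := by
    unfold Cfsg.charDegree at h2
    rw [hχ1] at h2
    simpa using h2
  subst hn
  have hfin : finrank ℂ (Fin 2 → ℂ) = 2 := Module.finrank_fin_fun ℂ
  have hinj : Function.Injective ρ := by
    intro a b hab
    have h1 : ρ (a * b⁻¹) = 1 := by
      rw [map_mul, hab, ← map_mul, mul_inv_cancel, map_one]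
    have h2' : (χ : G → ℂ) (a * b⁻¹) = (χ : G → ℂ) 1 := by
      have h3 : ρ (a * b⁻¹) = ρ 1 := by rw [h1, map_one]
      rw [← hρ]
      unfold Representation.character
      rw [h3]
    have := hfaith _ h2'
    exact mul_inv_eq_one.1 this
  have hZ : ∀ g : G, g ∈ Subgroup.center G ↔ IsScal ρ g := mem_center_iff_isScal ρ hinj
  have hX : Finite (Pole ρ) := finite_pole ρ hfin
  haveI : Fintype (MulAction.orbitRel.Quotient G (Pole ρ)) := Fintype.ofFinite _
  have hB := burnside_poles ρ hfin
  have hcZ : Nat.card {g : G // IsScal ρ g} = Nat.card (Subgroup.center G) :=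
    Nat.card_congr (Equiv.subtypeEquivRight (fun g => (hZ g).symm))
  rw [hcZ] at hB
  set Z := Subgroup.center G with hZdef
  have hZle : ∀ ω : MulAction.orbitRel.Quotient G (Pole ρ), Z ≤ MulAction.stabilizer G ω.out := by
    intro ω g hg
    rw [mem_stabilizer_iff]
    exact isScal_map ρ ((hZ g).1 hg) _
  have hxe : ∀ ω : MulAction.orbitRel.Quotient G (Pole ρ),
      Z.relIndex (MulAction.stabilizer G ω.out) * (MulAction.stabilizer G ω.out).index = Z.index :=
    fun ω => Subgroup.relIndex_mul_index (hZle ω)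
  have he : ∀ ω : MulAction.orbitRel.Quotient G (Pole ρ),
      2 ≤ Z.relIndex (MulAction.stabilizer G ω.out) := by
    intro ω
    have h0 : Z.relIndex (MulAction.stabilizer G ω.out) ≠ 0 :=
      Subgroup.index_ne_zero_of_finite (H := Z.subgroupOf (MulAction.stabilizer G ω.out))
    have h1 : Z.relIndex (MulAction.stabilizer G ω.out) ≠ 1 := by
      intro h1
      rw [Subgroup.relIndex_eq_one] at h1
      obtain ⟨g₀, hg₀, hfix⟩ := (ω.out).2.2
      have : g₀ ∈ MulAction.stabilizer G ω.out := (mem_stabilizer_iff ρ g₀ _).2 hfix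
      exact hg₀ ((hZ g₀).1 (h1 this))
    omega
  have hN : 2 ≤ Z.index := by
    have h0 : Z.index ≠ 0 := Subgroup.index_ne_zero_of_finite
    have h1 : Z.index ≠ 1 := by
      intro h1
      rw [Subgroup.index_eq_one] at h1
      obtain ⟨g, hg⟩ := exists_not_isScal ρ hfin
      exact hg ((hZ g).1 (h1 ▸ Subgroup.mem_top g))
    omega
  have hGZ : Nat.card G = Nat.card Z * Z.index := (Subgroup.card_mul_index Z).symm
  have hZpos : 0 < Nat.card Z := Nat.card_pos
  have hsum : ∑ ω : MulAction.orbitRel.Quotient G (Pole ρ), (MulAction.stabilizer G ω.out).index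
      + 2 * (Z.index - 1) = Fintype.card (MulAction.orbitRel.Quotient G (Pole ρ)) * Z.index := by
    apply Nat.eq_of_mul_eq_mul_left hZpos
    rw [hGZ] at hB
    have h3 : 2 * (Nat.card Z * Z.index - Nat.card Z) = Nat.card Z * (2 * (Z.index - 1)) := by
      rw [← Nat.mul_sub_one]; ring
    rw [h3] at hB
    rw [mul_add, hB]
    ring
  rcases arith Z.index hN _ _ hxe he hsum with ⟨ω, h1⟩ | ⟨ω, h2'⟩ | h
  · exfalso
    rw [Subgroup.index_eq_one] at h1
    refine no_invariant_line ρ hfin (ω.out).1 (ω.out).2.1 (fun g => ?_)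
    exact (mem_stabilizer_iff ρ g _).1 (h1 ▸ Subgroup.mem_top g)
  · exfalso
    obtain ⟨θ, hθ, hind⟩ := character_eq_indFun ρ hfin (MulAction.stabilizer G ω.out) h2'
      (ω.out).1 (ω.out).2.1 (fun g => mem_stabilizer_iff ρ g _)
    have hne : MulAction.stabilizer G ω.out ≠ ⊤ := by
      intro h
      rw [h, Subgroup.index_top] at h2'
      omega
    exact hprim _ hne θ hθ (hρ ▸ hind)
  · exact h

end Cfsg.Agent.S4473
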