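import Mathlib
import Cfsg.Statements.S4476
import Cfsg.Agent.S4475
import Cfsg.Agent.Lib.Helper8.ClassAlgebra2
import Cfsg.Agent.Lib.Helper8.TwoClass

set_option autoImplicit false
open Cfsg
open scoped ComplexConjugate
open Matrix Cfsg.Agent.Lib.Helper4 Cfsg.Agent.Lib.Helper1 Cfsg.Agent.Lib.Helper8

namespace Cfsg.Agent.S4476

open Cfsg.Agent.S4475

section

variable {G : Type*} [Group G] [Fintype G] {n : ℕ}

/-- Frobenius–Schur dichotomy: either the indicator vanishes, or the character is real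
and the indicator is `±1`. -/
theorem fs_dichotomy (ρ : Representation ℂ G (Fin n → ℂ)) (hirr : ρ.IsIrreducible) :
    (∑ s : G, ρ.character (s * s) = 0) ∨
      ((∀ g : G, (ρ.character g).im = 0) ∧
        (∑ s : G, ρ.character (s * s) = (Nat.card G : ℂ) ∨
          ∑ s : G, ρ.character (s * s) = -(Nat.card G : ℂ))) := by
  have := hirr
  have hne : (Nat.card G : ℂ) ≠ 0 := by
    exact_mod_cast Nat.card_pos.ne'
  by_cases hall : ∀ i j, avgForm ρ (Matrix.single i j 1) = 0
  · left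
    rw [← sum_avgForm_swap ρ]
    apply Finset.sum_eq_zero
    intro i _
    apply Finset.sum_eq_zero
    intro j _
    rw [hall i j]
    rfl
  · right
    push Not at hall
    obtain ⟨i₀, j₀, h₀⟩ := hall
    obtain ⟨M₀, hM₀def⟩ : ∃ M₀, M₀ = avgForm ρ (Matrix.single i₀ j₀ 1) := ⟨_, rfl⟩
    have hM₀ne : M₀ ≠ 0 := by rw [hM₀def]; exact h₀
    have hM₀inv : ∀ g : G, (repMat ρ g)ᵀ * M₀ * repMat ρ g = M₀ := by
      intro g; rw [hM₀def]; exact avgForm_invariant ρ _ g
    have hM₀unit : IsUnit M₀ := isUnit_of_invariant ρ M₀ hM₀ne hM₀inv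
    have hdet : IsUnit M₀.det := (Matrix.isUnit_iff_isUnit_det M₀).mp hM₀unit
    have hreal : ∀ g : G, (ρ.character g).im = 0 := by
      intro g
      have h1 := invariant_comm ρ M₀ hM₀inv g
      have h2 : repMat ρ g = M₀⁻¹ * (repMat ρ g⁻¹)ᵀ * M₀ := by
        rw [Matrix.mul_assoc, ← h1, ← Matrix.mul_assoc, Matrix.nonsing_inv_mul M₀ hdet,
          Matrix.one_mul]
      have h3 : ρ.character g = ρ.character g⁻¹ := by
        rw [character_eq_trace_repMat, character_eq_trace_repMat, h2, Matrix.trace_mul_cycle,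
          Matrix.mul_nonsing_inv M₀ hdet, Matrix.one_mul, Matrix.trace_transpose]
      rw [character_inv] at h3
      exact Complex.conj_eq_iff_im.mp h3.symm
    refine ⟨hreal, ?_⟩
    have h4 := (Cfsg.Agent.S4475.result n ρ hirr hreal).2 M₀ hM₀inv
    obtain ⟨ν, hν⟩ : ∃ ν, ν = (Nat.card G : ℂ)⁻¹ * ∑ s : G, ρ.character (s * s) := ⟨_, rfl⟩
    rw [← hν] at h4
    have h5 : M₀ = (ν * ν) • M₀ := by
      calc M₀ = (M₀ᵀ)ᵀ := (Matrix.transpose_transpose M₀).symm
        _ = (ν • M₀)ᵀ := by rw [← h4]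
        _ = ν • M₀ᵀ := Matrix.transpose_smul _ _
        _ = ν • (ν • M₀) := by rw [← h4]
        _ = (ν * ν) • M₀ := by rw [smul_smul]
    have h6 : ν * ν = 1 := by
      by_contra hcon
      apply hM₀ne
      have h7 : (1 - ν * ν) • M₀ = 0 := by
        rw [sub_smul, one_smul, ← h5, sub_self]
      rcases smul_eq_zero.mp h7 with h8 | h8
      · exfalso; apply hcon; linear_combination -h8
      · exact h8
    have h7 : (ν - 1) * (ν + 1) = 0 := by linear_combination h6
    have hsum : ∑ s : G, ρ.character (s * s) = (Nat.card G : ℂ) * ν := by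
      rw [hν]; field_simp
    rcases mul_eq_zero.mp h7 with h8 | h8
    · left
      rw [hsum]; linear_combination (Nat.card G : ℂ) * h8
    · right
      rw [hsum]; linear_combination (Nat.card G : ℂ) * h8

theorem exists_indicator (χ : Cfsg.IrrCharacter G) :
    ∃ e : ℤ, (e = 0 ∨ e = 1 ∨ e = -1) ∧
      ∑ s : G, (χ : G → ℂ) (s * s) = (e : ℂ) * (Nat.card G : ℂ) ∧
      (e ≠ 0 → ∀ g : G, ((χ : G → ℂ) g).im = 0) := by
  obtain ⟨n, ρ, hirr, hρ⟩ := χ.2
  rcases fs_dichotomy ρ hirr with h | ⟨hreal, h | h⟩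
  · refine ⟨0, Or.inl rfl, ?_, fun h0 => absurd rfl h0⟩
    rw [← hρ, h]; simp
  · refine ⟨1, Or.inr (Or.inl rfl), ?_, fun _ => ?_⟩
    · rw [← hρ, h]; simp
    · rw [← hρ]; exact hreal
  · refine ⟨-1, Or.inr (Or.inr rfl), ?_, fun _ => ?_⟩
    · rw [← hρ, h]; simp
    · rw [← hρ]; exact hreal

omit [Fintype G] in
theorem apply_one_eq_charDegree [Finite G] (χ : Cfsg.IrrCharacter G) :
    (χ : G → ℂ) 1 = (Cfsg.charDegree (χ : G → ℂ) : ℂ) ∧ 0 < Cfsg.charDegree (χ : G → ℂ) := by
  obtain ⟨m, hm, h1⟩ := irr_apply_one_pos χ.2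
  have : Cfsg.charDegree (χ : G → ℂ) = m := by
    unfold Cfsg.charDegree
    rw [h1]
    simp
  rw [this]
  exact ⟨h1, hm⟩

theorem sum_irr_indicator [Fintype (Cfsg.IrrCharacter G)] [DecidableEq G] :
    ∑ χ : Cfsg.IrrCharacter G, (χ : G → ℂ) 1 * ∑ s : G, (χ : G → ℂ) (s * s)
      = (Fintype.card G : ℂ) * ((Finset.univ.filter (fun s : G => s * s = 1)).card : ℂ) := by
  simp only [Finset.mul_sum]
  rw [Finset.sum_comm]
  simp only [sum_irr_one_mul]
  rw [← Finset.sum_filter, Finset.sum_const, nsmul_eq_mul, mul_comm]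

theorem card_sq_eq_one [DecidablePred fun s : G => s * s = 1] :
    (Finset.univ.filter (fun s : G => s * s = 1)).card
      = 1 + Nat.card {x : G // orderOf x = 2} := by
  classical
  have : Fact (Nat.Prime 2) := ⟨Nat.prime_two⟩
  rw [Nat.card_eq_fintype_card, Fintype.card_subtype]
  have h1 : Finset.univ.filter (fun s : G => s * s = 1)
      = insert 1 (Finset.univ.filter (fun s : G => orderOf s = 2)) := by
    ext s
    simp only [Finset.mem_filter, Finset.mem_univ, true_and, Finset.mem_insert]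
    rw [orderOf_eq_prime_iff (p := 2), sq]
    constructor
    · intro h
      by_cases hs : s = 1
      · exact Or.inl hs
      · exact Or.inr ⟨h, hs⟩
    · rintro (rfl | ⟨h, -⟩)
      · simp
      · exact h
  rw [h1, Finset.card_insert_of_notMem, add_comm]
  simp

theorem sum_card_centralizer [Fintype (Cfsg.IrrCharacter G)] [DecidableEq G] :
    ∑ x : G, Nat.card (Subgroup.centralizer ({x} : Set G))
      = Fintype.card G * Fintype.card (Cfsg.IrrCharacter G) := by
  classical
  have h := card_commutator_pairs (G := G) 1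
  have h1 : ∑ χ : Cfsg.IrrCharacter G, (χ : G → ℂ) 1 / (χ : G → ℂ) 1
      = (Fintype.card (Cfsg.IrrCharacter G) : ℂ) := by
    rw [Finset.sum_congr rfl (fun χ _ => div_self (irr_apply_one_ne_zero χ.2))]
    simp
  rw [h1] at h
  have h2 : Fintype.card {xy : G × G // xy.1 * xy.2 * xy.1⁻¹ * xy.2⁻¹ = 1}
      = ∑ x : G, Nat.card (Subgroup.centralizer ({x} : Set G)) := by
    rw [Fintype.card_subtype, Finset.card_filter, Fintype.sum_prod_type]
    apply Finset.sum_congr rfl
    intro x _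
    rw [Nat.card_eq_fintype_card, Fintype.card_subtype, Finset.card_filter]
    apply Finset.sum_congr rfl
    intro y _
    have hiff : (x * y * x⁻¹ * y⁻¹ = 1) ↔ y ∈ Subgroup.centralizer ({x} : Set G) := by
      rw [Subgroup.mem_centralizer_singleton_iff]
      constructor
      · intro h
        have : x * y = y * x := by
          calc x * y = (x * y * x⁻¹ * y⁻¹) * (y * x) := by group
            _ = y * x := by rw [h, one_mul]
        exact this.symm
      · intro h
        calc x * y * x⁻¹ * y⁻¹ = (y * x) * x⁻¹ * y⁻¹ := by rw [h]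
          _ = 1 := by group
    simp only [hiff]
  rw [h2] at h
  exact_mod_cast h

end

theorem result {G : Type*} [Group G] [Fintype G] (heven : Even (Nat.card G)) (t : ℕ) (ht : Nat.card {x : G // orderOf x = 2} = t) : (∃ x : G, x ≠ 1 ∧ ((Subgroup.centralizer ({x} : Set G)).index : ℚ) ≤ (((Nat.card G : ℚ) - 1) / t) ^ 2) ∧ ∃ χ : Cfsg.IrrCharacter G, (χ : G → ℂ) ≠ (fun _ => 1) ∧ (∀ g : G, ((χ : G → ℂ) g).im = 0) ∧ (Cfsg.charDegree (χ : G → ℂ) : ℚ) ≤ ((Nat.card G : ℚ) - 1) / t := by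
  classical
  let _ : Fintype (Cfsg.IrrCharacter G) := Fintype.ofFinite _
  obtain ⟨g, hg⟩ : ∃ g : ℕ, g = Fintype.card G := ⟨_, rfl⟩
  have hcard : Nat.card G = g := by rw [Nat.card_eq_fintype_card, hg]
  have hgpos : 0 < g := by rw [hg]; exact Fintype.card_pos
  have hg2 : 2 ≤ g := by
    rw [hcard] at heven
    obtain ⟨m, hm⟩ := heven
    omega
  -- `t ≥ 1` by Cauchy
  have ht1 : 1 ≤ t := by
    have h2 : 2 ∣ Fintype.card G := by
      rw [← hg, ← hcard]; exact heven.two_dvd
    have : Fact (Nat.Prime 2) := ⟨Nat.prime_two⟩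
    obtain ⟨x, hx⟩ := exists_prime_orderOf_dvd_card 2 h2
    rw [← ht]
    have : Nonempty {x : G // orderOf x = 2} := ⟨⟨x, hx⟩⟩
    exact Nat.card_pos
  choose e he1 he2 he3 using exists_indicator (G := G)
  obtain ⟨d, hddef⟩ : ∃ d : Cfsg.IrrCharacter G → ℕ,
      d = fun χ : Cfsg.IrrCharacter G => Cfsg.charDegree (χ : G → ℂ) := ⟨_, rfl⟩
  have hd : ∀ χ : Cfsg.IrrCharacter G, (χ : G → ℂ) 1 = (d χ : ℂ) := by
    intro χ; rw [hddef]; exact (apply_one_eq_charDegree χ).1
  have hdpos : ∀ χ : Cfsg.IrrCharacter G, 0 < d χ := by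
    intro χ; rw [hddef]; exact (apply_one_eq_charDegree χ).2
  have hgC : (g : ℂ) ≠ 0 := by exact_mod_cast hgpos.ne'
  -- F1
  have F1 : ∑ χ : Cfsg.IrrCharacter G, (d χ : ℤ) ^ 2 = g := by
    have h := sum_irr_one_mul (G := G) 1
    rw [if_pos rfl, ← hg] at h
    simp only [hd] at h
    have h' : ((∑ χ : Cfsg.IrrCharacter G, (d χ : ℤ) ^ 2 : ℤ) : ℂ) = ((g : ℤ) : ℂ) := by
      push_cast
      rw [← h]
      apply Finset.sum_congr rfl
      intro χ _
      ring
    exact_mod_cast h'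
  -- F2
  have F2 : ∑ χ : Cfsg.IrrCharacter G, (d χ : ℤ) * e χ = 1 + t := by
    have h := sum_irr_indicator (G := G)
    rw [card_sq_eq_one, ht, ← hg] at h
    simp only [hd, he2, hcard] at h
    have h' : ((∑ χ : Cfsg.IrrCharacter G, (d χ : ℤ) * e χ : ℤ) : ℂ) = (((1 + t : ℕ) : ℤ) : ℂ) := by
      push_cast
      apply mul_left_cancel₀ hgC
      rw [Finset.mul_sum]
      push_cast at h
      rw [← h]
      apply Finset.sum_congr rfl
      intro χ _
      ring
    exact_mod_cast h'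
  -- the trivial character
  obtain ⟨χ₀, hχ₀⟩ : ∃ χ₀ : Cfsg.IrrCharacter G, χ₀ = trivIrr G := ⟨_, rfl⟩
  have hχ₀app : ∀ x : G, (χ₀ : G → ℂ) x = 1 := by
    intro x; rw [hχ₀]; exact trivIrr_apply x
  have hd₀ : d χ₀ = 1 := by
    have := hd χ₀
    rw [hχ₀app] at this
    exact_mod_cast this.symm
  have he₀ : e χ₀ = 1 := by
    have := he2 χ₀
    simp only [hχ₀app, hcard] at this
    rw [Finset.sum_const, Finset.card_univ, ← hg, nsmul_eq_mul, mul_one] at this
    have h' : ((e χ₀ : ℤ) : ℂ) = ((1 : ℤ) : ℂ) := by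
      push_cast
      apply mul_right_cancel₀ hgC
      rw [← this, one_mul]
    exact_mod_cast h'
  have S1 : ∑ χ ∈ Finset.univ.erase χ₀, (d χ : ℤ) ^ 2 = g - 1 := by
    rw [← Finset.add_sum_erase Finset.univ _ (Finset.mem_univ χ₀), hd₀] at F1
    push_cast at F1
    linarith
  have S2 : ∑ χ ∈ Finset.univ.erase χ₀, (d χ : ℤ) * e χ = t := by
    rw [← Finset.add_sum_erase Finset.univ _ (Finset.mem_univ χ₀), hd₀, he₀] at F2
    push_cast at F2
    linarith
  have htZ : (0 : ℤ) < t := by exact_mod_cast ht1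
  have hgZ : (2 : ℤ) ≤ g := by exact_mod_cast hg2
  have htQ : (0 : ℚ) < t := by exact_mod_cast ht1
  constructor
  · -- part (a)
    by_contra hcon
    push Not at hcon
    obtain ⟨k, hk⟩ : ∃ k : ℕ, k = Fintype.card (Cfsg.IrrCharacter G) := ⟨_, rfl⟩
    -- Cauchy–Schwarz
    have hle : (t : ℤ) ≤ ∑ χ ∈ Finset.univ.erase χ₀, (d χ : ℤ) := by
      rw [← S2]
      apply Finset.sum_le_sum
      intro χ _
      have hdχ : (0 : ℤ) ≤ d χ := by positivity
      rcases he1 χ with h | h | h <;> rw [h] <;> linarith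
    have hCS : (t : ℤ) ^ 2 ≤ ((k : ℤ) - 1) * ((g : ℤ) - 1) := by
      have h1 := sq_sum_le_card_mul_sum_sq (s := Finset.univ.erase χ₀)
        (f := fun χ : Cfsg.IrrCharacter G => (d χ : ℤ))
      rw [S1, Finset.card_erase_of_mem (Finset.mem_univ χ₀), Finset.card_univ, ← hk] at h1
      have hk1 : 1 ≤ k := by
        rw [hk]; exact Fintype.card_pos_iff.mpr ⟨χ₀⟩
      have h2 : (t : ℤ) ^ 2 ≤ (∑ χ ∈ Finset.univ.erase χ₀, (d χ : ℤ)) ^ 2 := by
        apply pow_le_pow_left₀ htZ.le hle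
      have h3 : ((k - 1 : ℕ) : ℤ) = (k : ℤ) - 1 := by
        rw [Nat.cast_sub hk1]; simp
      rw [h3] at h1
      linarith
    -- centralizers
    have hE := sum_card_centralizer (G := G)
    rw [← hg, ← hk] at hE
    have hc1 : Nat.card (Subgroup.centralizer ({1} : Set G)) = g := by
      have : Subgroup.centralizer ({1} : Set G) = ⊤ := by
        ext y
        simp [Subgroup.mem_centralizer_singleton_iff]
      rw [this, Subgroup.card_top, hcard]
    have hE' : ∑ x ∈ Finset.univ.erase (1 : G),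
        (Nat.card (Subgroup.centralizer ({x} : Set G)) : ℤ) = (g : ℤ) * k - g := by
      have hEZ : ∑ x : G, (Nat.card (Subgroup.centralizer ({x} : Set G)) : ℤ) = (g : ℤ) * k := by
        exact_mod_cast hE
      rw [← Finset.add_sum_erase Finset.univ _ (Finset.mem_univ (1 : G)), hc1] at hEZ
      linarith
    have hterm : ∀ x ∈ Finset.univ.erase (1 : G),
        (Nat.card (Subgroup.centralizer ({x} : Set G)) : ℤ) * ((g : ℤ) - 1) ^ 2
          < (g : ℤ) * (t : ℤ) ^ 2 := by
      intro x hx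
      have hx1 : x ≠ 1 := Finset.ne_of_mem_erase hx
      have h1 := hcon x hx1
      have hci : Nat.card (Subgroup.centralizer ({x} : Set G))
          * (Subgroup.centralizer ({x} : Set G)).index = g := by
        rw [Subgroup.card_mul_index, hcard]
      have hcpos : 0 < Nat.card (Subgroup.centralizer ({x} : Set G)) := Nat.card_pos
      have h2 : ((g : ℚ) - 1) ^ 2 < ((Subgroup.centralizer ({x} : Set G)).index : ℚ) * (t : ℚ) ^ 2 := by
        rw [hcard, div_pow, div_lt_iff₀ (by positivity)] at h1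
        exact h1
      have h3 : ((g : ℤ) - 1) ^ 2 < ((Subgroup.centralizer ({x} : Set G)).index : ℤ) * (t : ℤ) ^ 2 := by
        exact_mod_cast h2
      have hcposZ : (0 : ℤ) < (Nat.card (Subgroup.centralizer ({x} : Set G)) : ℤ) := by
        exact_mod_cast hcpos
      have hciZ : (Nat.card (Subgroup.centralizer ({x} : Set G)) : ℤ)
          * ((Subgroup.centralizer ({x} : Set G)).index : ℤ) = g := by
        exact_mod_cast hci
      calc (Nat.card (Subgroup.centralizer ({x} : Set G)) : ℤ) * ((g : ℤ) - 1) ^ 2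
          < (Nat.card (Subgroup.centralizer ({x} : Set G)) : ℤ)
            * (((Subgroup.centralizer ({x} : Set G)).index : ℤ) * (t : ℤ) ^ 2) :=
            mul_lt_mul_of_pos_left h3 hcposZ
        _ = (g : ℤ) * (t : ℤ) ^ 2 := by rw [← mul_assoc, hciZ]
    have hne : (Finset.univ.erase (1 : G)).Nonempty := by
      rw [← Finset.card_pos, Finset.card_erase_of_mem (Finset.mem_univ _), Finset.card_univ, ← hg]
      omega
    have hsum := Finset.sum_lt_sum_of_nonempty hne hterm
    rw [← Finset.sum_mul, hE', Finset.sum_const, Finset.card_erase_of_mem (Finset.mem_univ _),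
      Finset.card_univ, ← hg, nsmul_eq_mul] at hsum
    have h4 : ((g - 1 : ℕ) : ℤ) = (g : ℤ) - 1 := by
      rw [Nat.cast_sub hgpos]; simp
    rw [h4] at hsum
    have hg1 : (0 : ℤ) < (g : ℤ) - 1 := by linarith
    have hg0 : (0 : ℤ) < (g : ℤ) := by linarith
    have h5 : ((g : ℤ) - 1) * ((g : ℤ) * (t : ℤ) ^ 2)
        ≤ ((g : ℤ) - 1) * ((g : ℤ) * (((k : ℤ) - 1) * ((g : ℤ) - 1))) := by
      apply mul_le_mul_of_nonneg_left _ hg1.le
      apply mul_le_mul_of_nonneg_left hCS hg0.le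
    nlinarith [hsum, h5]
  · -- part (b)
    by_contra hcon
    push Not at hcon
    have hbig : ∀ χ ∈ Finset.univ.erase χ₀, e χ ≠ 0 → (g : ℤ) ≤ (d χ : ℤ) * t := by
      intro χ hχ heχ
      have hχne : χ ≠ χ₀ := Finset.ne_of_mem_erase hχ
      have h1 : (χ : G → ℂ) ≠ fun _ => 1 := by
        intro h
        apply hχne
        apply Subtype.ext
        rw [h]
        funext x
        exact (hχ₀app x).symm
      have h2 := hcon χ h1 (he3 χ heχ)
      rw [hcard, div_lt_iff₀ htQ] at h2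
      have h3 : ((g : ℚ) - 1) < (d χ : ℚ) * (t : ℚ) := by
        rw [hddef]; exact h2
      have h4 : ((g : ℤ) - 1) < (d χ : ℤ) * (t : ℤ) := by exact_mod_cast h3
      linarith
    have hterm : ∀ χ ∈ Finset.univ.erase χ₀,
        (d χ : ℤ) * e χ * g ≤ (d χ : ℤ) ^ 2 * t := by
      intro χ hχ
      have hdχ : (0 : ℤ) < d χ := by exact_mod_cast hdpos χ
      have hg0 : (0 : ℤ) < (g : ℤ) := by linarith
      rcases he1 χ with h | h | h
      · rw [h]; simp; positivity
      · have := hbig χ hχ (by rw [h]; norm_num)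
        rw [h]
        nlinarith
      · rw [h]
        have h1 : (0 : ℤ) ≤ (d χ : ℤ) ^ 2 * t := by positivity
        nlinarith
    have hsum := Finset.sum_le_sum hterm
    rw [← Finset.sum_mul, ← Finset.sum_mul, S1, S2] at hsum
    nlinarith

end Cfsg.Agent.S4476

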