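import Mathlib
import Cfsg.Statements.S4477
import Cfsg.Agent.Lib.Helper7.FSCount2
import Cfsg.Agent.S0158
import Cfsg.Agent.S0159
import Cfsg.Agent.S0185
import Cfsg.Agent.S4058

set_option autoImplicit false
open Cfsg

namespace Cfsg.Agent.S4477

open Cfsg.Agent.Lib.Helper7.FSCount Cfsg.Agent.Lib.Lead
open scoped commutatorElement

theorem cast_add_cast_eq_zero {a b : ℤ} (ha : a = 0 ∨ a = 1 ∨ a = -1)
    (hb : b = 0 ∨ b = 1 ∨ b = -1) (h : b = 0 ↔ a = 0) :
    ((a : ℤ) : ZMod 2) + ((b : ℤ) : ZMod 2) = 0 := by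
  rcases ha with rfl | rfl | rfl <;> rcases hb with rfl | rfl | rfl
  · simp
  · simp at h
  · simp at h
  · simp at h
  · push_cast; decide
  · push_cast; decide
  · simp at h
  · push_cast; decide
  · push_cast; decide

/-- If the Frattini quotient has order four and the derived subgroup is not the Frattini subgroup,
the number of solutions of `s * s = 1` is divisible by four. -/
theorem four_dvd {G : Type*} [Group G] [Finite G] (hG : IsPGroup 2 G)
    (h4 : Nat.card (G ⧸ frattini G) = 4) (hne : commutator G ≠ frattini G) :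
    4 ∣ Nat.card {s : G // s * s = 1} := by
  classical
  have hfinG : Fintype G := Fintype.ofFinite G
  have hfinI : Fintype (IrrCharacter G) := Fintype.ofFinite _
  haveI : Fact (Nat.Prime 2) := ⟨Nat.prime_two⟩
  have hsq : ∀ g : G, g * g ∈ frattini G := fun g => by
    rw [← pow_two]
    exact pow_mem_frattini_of_isPGroup hG g
  have hcomm : ∀ a b : G ⧸ frattini G, a * b = b * a := by
    intro a b
    induction a using QuotientGroup.induction_on with
    | H x =>
      induction b using QuotientGroup.induction_on with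
      | H y =>
        rw [← QuotientGroup.mk_mul, ← QuotientGroup.mk_mul, eq_comm, QuotientGroup.eq]
        apply commutator_le_frattini_of_isPGroup hG
        rw [commutator_def]
        have h1 := Subgroup.commutator_mem_commutator (Subgroup.mem_top x⁻¹)
          (Subgroup.mem_top y⁻¹) (G := G)
        have h2 : (y * x)⁻¹ * (x * y) = ⁅x⁻¹, y⁻¹⁆ := by
          rw [commutatorElement_def]
          group
        rw [h2]
        exact h1
  have hΛ : Nat.card ((G ⧸ frattini G) →* ℂˣ) = 2 ^ 2 :=
    (card_hom_of_comm hcomm).trans (h4.trans (by norm_num))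
  obtain ⟨n, hn⟩ := hG.exists_card_eq
  -- degrees and indicators
  have hdeg : ∀ χ : IrrCharacter G, ∃ d : ℕ, χ.1 1 = d ∧ d ∣ Nat.card G :=
    fun χ => Cfsg.Agent.S0185.irr_degree_dvd χ.2
  choose deg hdeg1 hdeg2 using hdeg
  have hν : ∀ χ : IrrCharacter G, ∃ v : ℤ,
      (Nat.card G : ℂ)⁻¹ * ∑ s : G, χ.1 (s * s) = v ∧ (v = 0 ∨ v = 1 ∨ v = -1) ∧
      (v = 0 ↔ ∃ s : G, (χ.1 s).im ≠ 0) := by
    intro χ
    obtain ⟨m, ρ, hirr, hρ⟩ := χ.2
    haveI := hirr
    have h1 := Cfsg.Agent.S0158.result ρ
    rw [hρ] at h1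
    obtain ⟨h1, h2⟩ := h1
    rcases h1 with h1 | h1 | h1
    · exact ⟨0, by rw [h1]; simp, Or.inl rfl, fun _ => h2.mp h1, fun _ => rfl⟩
    · refine ⟨1, by rw [h1]; simp, Or.inr (Or.inl rfl), fun h => absurd h one_ne_zero, fun h => ?_⟩
      have h3 := h2.mpr h
      rw [h1] at h3
      norm_num at h3
    · refine ⟨-1, by rw [h1]; simp, Or.inr (Or.inr rfl), fun h => absurd h (by norm_num),
        fun h => ?_⟩
      have h3 := h2.mpr h
      rw [h1] at h3
      norm_num at h3
  choose ν hν1 hν2 hν3 using hν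
  have hcount := Cfsg.Agent.S0159.result (G := G)
  rw [finsum_eq_sum_of_fintype] at hcount
  have hZ : ((Nat.card {s : G // s * s = 1} : ℕ) : ℤ) = ∑ χ : IrrCharacter G, ν χ * (deg χ : ℤ) := by
    have h1 : (((Nat.card {s : G // s * s = 1} : ℕ) : ℤ) : ℂ)
        = ((∑ χ : IrrCharacter G, ν χ * (deg χ : ℤ) : ℤ) : ℂ) := by
      push_cast
      rw [hcount]
      refine Finset.sum_congr rfl fun χ _ => ?_
      rw [hν1, hdeg1]
    exact_mod_cast h1
  -- invariance of degree and indicator under twisting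
  have hdegT : ∀ (f : G →* ℂˣ) (χ : IrrCharacter G), deg (twistHom f χ) = deg χ := by
    intro f χ
    have h4 : ((deg (twistHom f χ) : ℕ) : ℂ) = ((deg χ : ℕ) : ℂ) := by
      rw [← hdeg1, ← hdeg1, twistHom_apply_one]
    exact_mod_cast h4
  have hνT : ∀ (l : (G ⧸ frattini G) →* ℂˣ) (χ : IrrCharacter G),
      ν (twist (frattini G) l χ) = ν χ := by
    intro l χ
    have h2 : ((ν (twist (frattini G) l χ) : ℤ) : ℂ) = ((ν χ : ℤ) : ℂ) := by
      rw [← hν1, ← hν1, twist_sum_sq (frattini G) hsq]
    exact_mod_cast h2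
  -- the linear character of order four
  obtain ⟨μ, hμ4, g₀, hμ2⟩ := exists_hom_order_four hG hne
  have hμΦ := sq_eq_one_of_mem_frattini μ hμ4
  let l₀ : (G ⧸ frattini G) →* ℂˣ := QuotientGroup.lift (frattini G) (μ ^ 2) (fun g hg => by
    rw [MonoidHom.mem_ker, MonoidHom.pow_apply]
    exact hμΦ g hg)
  have hl₀ : ∀ g : G, l₀ (g : G ⧸ frattini G) = μ g ^ 2 := by
    intro g
    show QuotientGroup.lift (frattini G) (μ ^ 2) _ (g : G ⧸ frattini G) = _
    rw [QuotientGroup.lift_mk, MonoidHom.pow_apply]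
  -- the fully invariant characters of degree two
  let P : IrrCharacter G → Prop := fun χ =>
    deg χ = 2 ∧ ∀ l : (G ⧸ frattini G) →* ℂˣ, twist (frattini G) l χ = χ
  -- facts about `μ` twisting on `P`
  have hpt : ∀ χ : IrrCharacter G, P χ → ∀ g : G,
      ((μ g : ℂˣ) : ℂ) ^ 2 * χ.1 g = χ.1 g := by
    intro χ hP g
    have h1 := congrFun (congrArg Subtype.val (hP.2 l₀)) g
    rw [twist_apply, hl₀] at h1
    have h2 : ((μ g ^ 2 : ℂˣ) : ℂ) = ((μ g : ℂˣ) : ℂ) ^ 2 := Units.val_pow_eq_pow_val _ _
    rw [← h2]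
    exact h1
  have hσσ : ∀ χ : IrrCharacter G, P χ → twistHom μ (twistHom μ χ) = χ := by
    intro χ hP
    apply Subtype.ext
    funext g
    rw [twistHom_apply, twistHom_apply, ← mul_assoc, ← pow_two]
    exact hpt χ hP g
  have hσP : ∀ χ : IrrCharacter G, P χ → P (twistHom μ χ) := by
    intro χ hP
    refine ⟨(hdegT μ χ).trans hP.1, fun l => ?_⟩
    rw [twist_eq_twistHom, twistHom_comm, ← twist_eq_twistHom, hP.2 l]
  have hσne : ∀ χ : IrrCharacter G, P χ → twistHom μ χ ≠ χ := by
    intro χ hP heq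
    let ι' : ((G ⧸ frattini G) →* ℂˣ) → (G →* ℂˣ) := fun l =>
      l.comp (QuotientGroup.mk' (frattini G))
    have hι' : Function.Injective ι' := by
      intro l l' hll
      apply MonoidHom.ext
      intro x
      obtain ⟨g, rfl⟩ := QuotientGroup.mk_surjective x
      exact congrFun (congrArg DFunLike.coe hll) g
    have hμnot : μ ∉ Set.range ι' := by
      rintro ⟨l, hl⟩
      apply hμ2
      rw [← hl]
      show (l ((g₀ : G ⧸ frattini G))) ^ 2 = 1
      rw [← map_pow, ← QuotientGroup.mk_pow,
        (QuotientGroup.eq_one_iff _).mpr (pow_mem_frattini_of_isPGroup hG g₀), map_one]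
    have hS : ∀ f ∈ insert μ (Set.range ι'), twistHom f χ = χ := by
      intro f hf
      rcases hf with rfl | ⟨l, rfl⟩
      · exact heq
      · exact hP.2 l
    have hle := card_le_of_twistHom_eq χ (deg χ) (hdeg1 χ) _ hS
    rw [hP.1, Nat.card_coe_set_eq, Set.ncard_insert_of_notMem hμnot (Set.toFinite _),
      ← Nat.card_coe_set_eq, Nat.card_range_of_injective hι', hΛ] at hle
    omega
  have hσν0 : ∀ χ : IrrCharacter G, P χ → ν (twistHom μ χ) = 0 → ν χ = 0 := by
    intro χ hP h0
    obtain ⟨s, hs⟩ := (hν3 _).mp h0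
    rw [hν3]
    refine ⟨s, ?_⟩
    rw [twistHom_apply] at hs
    have h1 := hpt χ hP s
    by_cases hχs : χ.1 s = 0
    · rw [hχs] at hs
      simp at hs
    · have h2 : ((μ s : ℂˣ) : ℂ) ^ 2 = 1 := by
        have h3 : (((μ s : ℂˣ) : ℂ) ^ 2 - 1) * χ.1 s = 0 := by
          rw [sub_mul, h1, one_mul, sub_self]
        rcases mul_eq_zero.mp h3 with h4 | h4
        · linear_combination h4
        · exact absurd h4 hχs
      have h5 : ((μ s : ℂˣ) : ℂ) = 1 ∨ ((μ s : ℂˣ) : ℂ) = -1 := by
        have h6 : (((μ s : ℂˣ) : ℂ) - 1) * (((μ s : ℂˣ) : ℂ) + 1) = 0 := by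
          linear_combination h2
        rcases mul_eq_zero.mp h6 with h7 | h7
        · left; linear_combination h7
        · right; linear_combination h7
      rcases h5 with h5 | h5
      · rw [h5, one_mul] at hs
        exact hs
      · rw [h5] at hs
        intro h6
        apply hs
        simp [h6]
  have hσν : ∀ χ : IrrCharacter G, P χ → (ν (twistHom μ χ) = 0 ↔ ν χ = 0) := by
    intro χ hP
    refine ⟨hσν0 χ hP, fun h0 => ?_⟩
    apply hσν0 (twistHom μ χ) (hσP χ hP)
    rw [hσσ χ hP]
    exact h0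
  -- split the sum
  have hsplit : ∑ χ : IrrCharacter G, ν χ * (deg χ : ℤ)
      = (∑ χ : IrrCharacter G, if P χ then 0 else ν χ * (deg χ : ℤ))
        + 2 * ∑ χ ∈ Finset.univ.filter P, ν χ := by
    rw [Finset.mul_sum, Finset.sum_filter, ← Finset.sum_add_distrib]
    refine Finset.sum_congr rfl fun χ _ => ?_
    by_cases hP : P χ
    · rw [if_pos hP, if_pos hP, hP.1]
      push_cast
      ring
    · rw [if_neg hP, if_neg hP, add_zero]
  -- first part
  have hpart1 : (4 : ℤ) ∣ ∑ χ : IrrCharacter G, if P χ then 0 else ν χ * (deg χ : ℤ) := by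
    letI : MulAction ((G ⧸ frattini G) →* ℂˣ) (IrrCharacter G) := twistAction (frattini G)
    apply dvd_sum_of_orbit (Λ := (G ⧸ frattini G) →* ℂˣ)
    · intro l χ
      change (if P (twist (frattini G) l χ) then 0
        else ν (twist (frattini G) l χ) * (deg (twist (frattini G) l χ) : ℤ))
        = if P χ then 0 else ν χ * (deg χ : ℤ)
      have hdl : deg (twist (frattini G) l χ) = deg χ := by
        rw [twist_eq_twistHom]
        exact hdegT _ χ
      have hPl : P (twist (frattini G) l χ) ↔ P χ := by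
        constructor
        · intro hP
          refine ⟨hdl ▸ hP.1, fun l' => ?_⟩
          apply Subtype.ext
          funext g
          have h1 := congrFun (congrArg Subtype.val (hP.2 l')) g
          rw [twist_apply, twist_apply] at h1
          rw [twist_apply]
          have hu : ((l (g : G ⧸ frattini G) : ℂˣ) : ℂ) ≠ 0 := Units.ne_zero _
          apply mul_left_cancel₀ hu
          linear_combination h1
        · intro hP
          rw [hP.2 l]
          exact hP
      by_cases hP : P χ
      · rw [if_pos hP, if_pos (hPl.mpr hP)]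
      · rw [if_neg hP, if_neg (fun h => hP (hPl.mp h)), hνT, hdl]
    · intro χ
      by_cases hP : P χ
      · rw [if_pos hP, mul_zero]
        exact dvd_zero _
      rw [if_neg hP]
      have hos : Nat.card (MulAction.orbit ((G ⧸ frattini G) →* ℂˣ) χ)
          * Nat.card (MulAction.stabilizer ((G ⧸ frattini G) →* ℂˣ) χ) = 2 ^ 2 := by
        rw [← hΛ, ← Subgroup.card_mul_index
          (MulAction.stabilizer ((G ⧸ frattini G) →* ℂˣ) χ), MulAction.index_stabilizer,
          mul_comm, Nat.card_coe_set_eq]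
      have hsdvd : Nat.card (MulAction.stabilizer ((G ⧸ frattini G) →* ℂˣ) χ) ∣ 2 ^ 2 :=
        Dvd.intro_left _ hos
      obtain ⟨s, hsD, hs⟩ := (Nat.dvd_prime_pow Nat.prime_two).mp hsdvd
      have hdd : deg χ ∣ 2 ^ n := hn ▸ hdeg2 χ
      obtain ⟨e, hen, he⟩ := (Nat.dvd_prime_pow Nat.prime_two).mp hdd
      have hle : Nat.card (MulAction.stabilizer ((G ⧸ frattini G) →* ℂˣ) χ) ≤ deg χ ^ 2 := by
        apply card_le_of_twist_eq (frattini G) χ (deg χ) (hdeg1 χ)
          (MulAction.stabilizer ((G ⧸ frattini G) →* ℂˣ) χ : Set ((G ⧸ frattini G) →* ℂˣ))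
        intro f hf
        exact hf
      have hle' := hle
      rw [hs, he, ← pow_mul] at hle'
      have hse : s ≤ e * 2 := (Nat.pow_le_pow_iff_right (by norm_num)).mp hle'
      have hs1 : e = 1 → s ≤ 1 := by
        intro he1
        by_contra hcon
        have hs2 : s = 2 := by omega
        apply hP
        refine ⟨by rw [he, he1, pow_one], fun l => ?_⟩
        have htop : MulAction.stabilizer ((G ⧸ frattini G) →* ℂˣ) χ = ⊤ := by
          apply Subgroup.eq_top_of_card_eq
          rw [hs, hs2, hΛ]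
        have hl : l ∈ MulAction.stabilizer ((G ⧸ frattini G) →* ℂˣ) χ := by
          rw [htop]
          exact Subgroup.mem_top l
        exact hl
      have horb : Nat.card (MulAction.orbit ((G ⧸ frattini G) →* ℂˣ) χ) = 2 ^ (2 - s) := by
        rw [hs] at hos
        have h5 : 2 ^ 2 = 2 ^ (2 - s) * 2 ^ s := by
          rw [← pow_add, Nat.sub_add_cancel hsD]
        rw [h5] at hos
        exact Nat.eq_of_mul_eq_mul_right (by positivity) hos
      rw [horb, he]
      have h6 : 2 ≤ (2 - s) + e := by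
        rcases Nat.lt_or_ge e 1 with h | h
        · have : s = 0 := by omega
          omega
        · rcases Nat.eq_or_lt_of_le h with h | h
          · have := hs1 h.symm
            omega
          · omega
      have h7 : ((2 ^ 2 : ℕ) : ℤ) ∣ ((2 ^ (2 - s) : ℕ) : ℤ) * ((2 ^ e : ℕ) : ℤ) := by
        rw [← Nat.cast_mul, ← pow_add]
        exact Int.natCast_dvd_natCast.mpr (pow_dvd_pow 2 h6)
      have h8 : ((2 ^ (2 - s) : ℕ) : ℤ) * (ν χ * ((2 ^ e : ℕ) : ℤ))
          = (((2 ^ (2 - s) : ℕ) : ℤ) * ((2 ^ e : ℕ) : ℤ)) * ν χ := by ring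
      rw [h8]
      have h9 : (4 : ℤ) = ((2 ^ 2 : ℕ) : ℤ) := by norm_num
      rw [h9]
      exact Dvd.dvd.mul_right h7 _
  -- second part
  have hpart2 : (2 : ℤ) ∣ ∑ χ ∈ Finset.univ.filter P, ν χ := by
    have h1 : ∑ χ ∈ Finset.univ.filter P, ((ν χ : ℤ) : ZMod 2) = 0 := by
      apply Finset.sum_involution (fun χ _ => twistHom μ χ)
      · intro χ hχ
        have hP : P χ := (Finset.mem_filter.mp hχ).2
        exact cast_add_cast_eq_zero (hν2 χ) (hν2 (twistHom μ χ)) (hσν χ hP)
      · intro χ hχ _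
        exact hσne χ (Finset.mem_filter.mp hχ).2
      · intro χ hχ
        exact Finset.mem_filter.mpr ⟨Finset.mem_univ _, hσP χ (Finset.mem_filter.mp hχ).2⟩
      · intro χ hχ
        exact hσσ χ (Finset.mem_filter.mp hχ).2
    rw [← Int.cast_sum] at h1
    exact (ZMod.intCast_zmod_eq_zero_iff_dvd _ 2).mp h1
  have hgoal : ((4 : ℕ) : ℤ) ∣ ((Nat.card {s : G // s * s = 1} : ℕ) : ℤ) := by
    rw [hZ, hsplit]
    apply dvd_add hpart1
    obtain ⟨c, hc⟩ := hpart2
    rw [hc]
    exact ⟨c, by push_cast; ring⟩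
  exact Int.natCast_dvd_natCast.mp hgoal

/-- Let G be a finite 2-group whose number of involutions is congruent to 1 modulo 4. Then G is cyclic or its commutator subgroup has index 4. -/
theorem result {G : Type*} [Group G] [Finite G] (hG : IsPGroup 2 G) (ht : Nat.card {x : G // orderOf x = 2} % 4 = 1) : IsCyclic G ∨ (commutator G).index = 4 := by
  classical
  haveI : Fact (Nat.Prime 2) := ⟨Nat.prime_two⟩
  have hfinG : Fintype G := Fintype.ofFinite G
  -- the count of solutions of `s * s = 1`
  have hT : Nat.card {s : G // s * s = 1} = Nat.card {x : G // orderOf x = 2} + 1 := by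
    rw [Nat.card_eq_fintype_card, Nat.card_eq_fintype_card, Fintype.card_subtype,
      Fintype.card_subtype]
    have h1 : Finset.univ.filter (fun s : G => s * s = 1)
        = insert 1 (Finset.univ.filter (fun x : G => orderOf x = 2)) := by
      ext s
      simp only [Finset.mem_filter, Finset.mem_univ, true_and, Finset.mem_insert]
      rw [orderOf_eq_prime_iff, pow_two]
      constructor
      · intro h
        by_cases hs : s = 1
        · exact Or.inl hs
        · exact Or.inr ⟨h, hs⟩
      · rintro (rfl | ⟨h, -⟩)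
        · simp
        · exact h
    rw [h1, Finset.card_insert_of_notMem]
    simp
  have hT2 : Nat.card {s : G // s * s = 1} % 4 = 2 := by
    rw [hT]
    omega
  have hcard2 : Nat.card {x : G // x ^ 2 = 1} = Nat.card {s : G // s * s = 1} :=
    Nat.card_congr (Equiv.subtypeEquivRight fun x => by rw [pow_two])
  -- the Frattini quotient
  obtain ⟨n, hn⟩ := hG.exists_card_eq
  have hdvdQ : (frattini G).index ∣ 2 ^ n := by
    rw [← hn]
    exact Subgroup.index_dvd_card _
  obtain ⟨D, hDn, hD⟩ := (Nat.dvd_prime_pow Nat.prime_two).mp hdvdQ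
  have hD2 : D ≤ 2 := by
    by_contra hcon
    push Not at hcon
    have h1 : 2 ^ (2 * 1 + 1) ≤ Nat.card (G ⧸ frattini G) := by
      rw [← Subgroup.index_eq_card, hD]
      exact Nat.pow_le_pow_right (by norm_num) (by omega)
    have h2 := Cfsg.Agent.S4058.result hG 1 h1
    rw [hcard2] at h2
    have h3 : (4 : ℕ) ∣ Nat.card {s : G // s * s = 1} := by
      simpa using h2
    omega
  rcases Nat.lt_or_ge D 2 with hlt | hge
  · left
    exact isCyclic_of_index_frattini hG D hD (by omega)
  · right
    have hD2' : D = 2 := le_antisymm hD2 hge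
    by_cases hne : commutator G = frattini G
    · rw [hne, hD, hD2']
      norm_num
    · exfalso
      have h4 : Nat.card (G ⧸ frattini G) = 4 := by
        rw [← Subgroup.index_eq_card, hD, hD2']
        norm_num
      have := four_dvd hG h4 hne
      omega

end Cfsg.Agent.S4477
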