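import Mathlib
import Cfsg.Statements.S4480
import Cfsg.Agent.Lib.Helper8.KF13
import Cfsg.Agent.Lib.Helper8.KF14

set_option autoImplicit false
open Cfsg

namespace Cfsg.Agent.S4480

open scoped ComplexConjugate
open Cfsg.Agent.Lib.Helper1 Cfsg.Agent.Lib.Helper4 Cfsg.Agent.Lib.Helper8

/-- Same setting as the Klein-four order formula: G of order 4·g₀ (g₀ odd) with no normal 2-complement, P a Sylow 2-subgroup, J an involution of P, M over 2, principal 2-block {1, χ₁, χ₂, χ₃} with χ_i(J) = ε_i = ±1. Suppose ε₁ε₂ε₃ = −1 and ε₃ = −1, and put q = x₃ = χ₃(1). Then there is a natural number m with 4·c(J) = m·c(P)·(q + 1), and the order of G equals (m³·c(P)/4)·(q³ − q)/2, that is 8·#G = m³·c(P)·(q³ − q). -/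
theorem result {G : Type*} [Group G] [Finite G] (M : Ideal Cfsg.AlgInt) (hM : Cfsg.IsPModular 2 M) (g₀ : ℕ) (hg₀ : Odd g₀) (hG : Nat.card G = 4 * g₀) (hnc : ¬ ∃ N : Subgroup G, N.Normal ∧ Nat.card N = g₀) (P : Sylow 2 G) (J : G) (hJ : J ∈ (P : Subgroup G)) (hJ2 : orderOf J = 2) (χ₁ χ₂ χ₃ : Cfsg.IrrCharacter G) (ε₁ ε₂ ε₃ : ℤ) (hB : Cfsg.principalBlock M G = {χ : Cfsg.IrrCharacter G | (χ : G → ℂ) = (fun _ => 1) ∨ χ = χ₁ ∨ χ = χ₂ ∨ χ = χ₃}) (hdist : (χ₁ : G → ℂ) ≠ (fun _ => 1) ∧ (χ₂ : G → ℂ) ≠ (fun _ => 1) ∧ (χ₃ : G → ℂ) ≠ (fun _ => 1) ∧ χ₁ ≠ χ₂ ∧ χ₁ ≠ χ₃ ∧ χ₂ ≠ χ₃) (hε : (ε₁ = 1 ∨ ε₁ = -1) ∧ (ε₂ = 1 ∨ ε₂ = -1) ∧ (ε₃ = 1 ∨ ε₃ = -1)) (hval : (χ₁ : G → ℂ) J = ε₁ ∧ (χ₂ : G → ℂ) J = ε₂ ∧ (χ₃ : G → ℂ) J = ε₃) (hprod : ε₁ * ε₂ * ε₃ = -1) (hε₃ : ε₃ = -1) : ∃ m : ℕ, 4 * Nat.card (Subgroup.centralizer ({J} : Set G)) = m * Nat.card (Subgroup.centralizer ((P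 : Subgroup G) : Set G)) * (Cfsg.charDegree (χ₃ : G → ℂ) + 1) ∧ 8 * Nat.card G = m ^ 3 * Nat.card (Subgroup.centralizer ((P : Subgroup G) : Set G)) * (Cfsg.charDegree (χ₃ : G → ℂ) ^ 3 - Cfsg.charDegree (χ₃ : G → ℂ)) := by
  haveI : Fact (Nat.Prime 2) := ⟨Nat.prime_two⟩
  obtain ⟨hP, hN⟩ := kf_of_no_complement g₀ hg₀ hG hnc P
  have hone := kf_one_class P hP hN
  have hmain := kf_order_formula hM P hP hone hJ hJ2 χ₁ χ₂ χ₃ ε₁ ε₂ ε₃ hB hdist hε hval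
  have hΨ := kf_psi hM P hP hone hJ2 χ₁ χ₂ χ₃ ε₁ ε₂ ε₃ hB hdist hε hval 1
  rw [orderOf_one, if_neg (by norm_num), (irr_apply_one_eq_charDegree χ₁.2).1,
    (irr_apply_one_eq_charDegree χ₂.2).1, (irr_apply_one_eq_charDegree χ₃.2).1] at hΨ
  have hx₁pos := (irr_apply_one_eq_charDegree χ₁.2).2
  have hx₂pos := (irr_apply_one_eq_charDegree χ₂.2).2
  have hx₃pos := (irr_apply_one_eq_charDegree χ₃.2).2
  have h6 : (1 : ℤ) + ε₁ * (Cfsg.charDegree (χ₁ : G → ℂ) : ℤ) +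
      ε₂ * (Cfsg.charDegree (χ₂ : G → ℂ) : ℤ) + ε₃ * (Cfsg.charDegree (χ₃ : G → ℂ) : ℤ) = 0 := by
    exact_mod_cast hΨ
  subst hε₃
  have he : ε₁ = 1 ∧ ε₂ = 1 := by
    rcases hε.1 with h1 | h1 <;> rcases hε.2.1 with h2 | h2
    · exact ⟨h1, h2⟩
    · rw [h1, h2] at hprod; norm_num at hprod
    · rw [h1, h2] at hprod; norm_num at hprod
    · rw [h1, h2] at h6
      exfalso
      omega
  obtain ⟨rfl, rfl⟩ := he
  have hx12 := kf_degree_eq hM P hP hone hJ2 χ₁ χ₂ χ₃ hB hdist hval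
  set x := Cfsg.charDegree (χ₁ : G → ℂ) with hxdef
  rw [← hx12] at h6 hmain
  have hq : Cfsg.charDegree (χ₃ : G → ℂ) = 2 * x + 1 := by omega
  rw [hq] at hmain ⊢
  have hle : Subgroup.centralizer ((P : Subgroup G) : Set G) ≤ Subgroup.centralizer ({J} : Set G) :=
    Subgroup.centralizer_le (Set.singleton_subset_iff.2 hJ)
  obtain ⟨t, ht⟩ := Subgroup.card_dvd_of_le hle
  obtain ⟨n, hn⟩ := Subgroup.card_subgroup_dvd_card (Subgroup.centralizer ({J} : Set G))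
  set a := Nat.card (Subgroup.centralizer ((P : Subgroup G) : Set G)) with hadef
  have ha : 0 < a := Nat.card_pos
  have htpos : 0 < t := by
    rcases Nat.eq_zero_or_pos t with h | h
    · exfalso
      rw [h, mul_zero] at ht
      exact Nat.card_pos.ne' ht
    · exact h
  rw [ht] at hmain hn ⊢
  rw [hn, mul_comm (a * t) n] at hmain ⊢
  apply kf_arith a t n x ha htpos hx₁pos
  zify
  push_cast at hmain ⊢
  linear_combination hmain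

end Cfsg.Agent.S4480
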