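import Mathlib
import Cfsg.Statements.S4483
import Cfsg.Agent.Lib.Helper8.GS3
import Cfsg.Agent.Lib.Helper8.BF7

set_option autoImplicit false
open Cfsg

namespace Cfsg.Agent.S4483

open scoped ComplexConjugate
open Cfsg.Agent.Lib.Helper1 Cfsg.Agent.Lib.Helper4 Cfsg.Agent.Lib.Helper8

/-- Let G be a finite group of order 2^n·g₀ with g₀ odd, and M a maximal ideal of the algebraic integers containing 2. Every real-valued irreducible character of G of odd degree lies in the principal 2-block; consequently G has at most 2^(2n) real-valued irreducible characters of odd degree. -/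
theorem result {G : Type*} [Group G] [Finite G] (M : Ideal Cfsg.AlgInt) (hM : Cfsg.IsPModular 2 M) : (∀ χ : Cfsg.IrrCharacter G, (∀ g : G, ((χ : G → ℂ) g).im = 0) → Odd (Cfsg.charDegree (χ : G → ℂ)) → χ ∈ Cfsg.principalBlock M G) ∧ Nat.card {χ : Cfsg.IrrCharacter G // (∀ g : G, ((χ : G → ℂ) g).im = 0) ∧ Odd (Cfsg.charDegree (χ : G → ℂ))} ≤ 2 ^ (2 * (Nat.card G).factorization 2) := by
  classical
  haveI : Fintype G := Fintype.ofFinite G
  haveI : Fact (Nat.Prime 2) := ⟨Nat.prime_two⟩
  have hMp := isPModular_isPrime hM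
  have key : ∀ χ : Cfsg.IrrCharacter G, (∀ g : G, ((χ : G → ℂ) g).im = 0) →
      Odd (Cfsg.charDegree (χ : G → ℂ)) → χ ∈ Cfsg.principalBlock M G := by
    intro χ hreal hodd
    have hN : 1 ≤ Nat.card G := Nat.card_pos
    have hk : (Nat.card G - 1).Coprime (Nat.card G) := by
      have h1 : Nat.card G = 1 + (Nat.card G - 1) := by omega
      rw [h1, Nat.add_sub_cancel_left, Nat.coprime_add_self_right]
      exact Nat.coprime_one_right _
    have hpow : ∀ g : G, g ^ (Nat.card G - 1) = g⁻¹ := by
      intro g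
      apply eq_inv_of_mul_eq_one_left
      rw [← pow_succ, Nat.sub_add_cancel hN, pow_card_eq_one']
    have hχfix : powFn (Nat.card G - 1) (χ : G → ℂ) = (χ : G → ℂ) := by
      funext g
      rw [powFn_apply, hpow, isCharacter_inv (isCharacter_of_irr χ.2)]
      exact Complex.conj_eq_iff_im.2 (hreal g)
    have hB : Cfsg.IsPBlock M (Cfsg.blockOf M (χ : G → ℂ)) := ⟨χ, rfl⟩
    have hχB : χ ∈ Cfsg.blockOf M (χ : G → ℂ) := sameBlock_refl hMp.ne_top _
    obtain ⟨l, hl, h1, h2⟩ := exists_pow_inverse hk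
    have hdef : Cfsg.blockDefect 2 (Cfsg.blockOf M (χ : G → ℂ)) = (Nat.card G).factorization 2 := by
      obtain ⟨h3, h4⟩ := block_valuations (p := 2) hχB
      have h5 : (Cfsg.charDegree (χ : G → ℂ)).factorization 2 = 0 := by
        apply Nat.factorization_eq_zero_of_not_dvd
        rw [← even_iff_two_dvd, Nat.not_even_iff_odd]
        exact hodd
      have h6 : Cfsg.blockHeight 2 (Cfsg.blockOf M (χ : G → ℂ)) (χ : G → ℂ) = 0 := by
        unfold Cfsg.blockHeight
        rw [h5, Nat.zero_sub]
      omega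
    have h7 := stable_full_defect_principal hM (Nat.card G - 1) hk (fun g _ => hpow g) hB hdef (by
      intro ψ hψ
      have h8 : Cfsg.SameBlock M (powFn (Nat.card G - 1) (χ : G → ℂ))
          (powFn (Nat.card G - 1) (ψ : G → ℂ)) := sameBlock_powFn h1 hψ
      rw [hχfix] at h8
      exact h8)
    rw [← h7]
    exact hχB
  refine ⟨key, ?_⟩
  have hinj : Function.Injective (fun x : {χ : Cfsg.IrrCharacter G //
      (∀ g : G, ((χ : G → ℂ) g).im = 0) ∧ Odd (Cfsg.charDegree (χ : G → ℂ))} =>
      (⟨x.1, key x.1 x.2.1 x.2.2⟩ : Cfsg.principalBlock M G)) := by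
    intro x y h
    apply Subtype.ext
    exact congrArg (fun z : Cfsg.principalBlock M G => (z : Cfsg.IrrCharacter G)) h
  have h1 := Nat.card_le_card_of_injective _ hinj
  have h2 := four_mul_card_block_le hM (isPBlock_principalBlock (M := M) (G := G))
  obtain ⟨-, h3⟩ := block_valuations (p := 2) (trivIrr_mem_principalBlock (G := G) hMp.ne_top)
  have h4 : 2 ^ (2 * Cfsg.blockDefect 2 (Cfsg.principalBlock M G)) ≤
      2 ^ (2 * (Nat.card G).factorization 2) :=
    Nat.pow_le_pow_right (by norm_num) (by omega)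
  have h5 : 1 ≤ 2 ^ (2 * (Nat.card G).factorization 2) := Nat.one_le_two_pow
  have h6 : Nat.card (Cfsg.principalBlock M G) ≤ 2 ^ (2 * (Nat.card G).factorization 2) := by
    rcases Nat.eq_zero_or_pos ((Nat.card G).factorization 2) with h0 | h0
    · rw [h0, Nat.mul_zero, pow_zero] at h4 ⊢
      omega
    · have h7 : 4 ≤ 2 ^ (2 * (Nat.card G).factorization 2) := by
        calc 4 = 2 ^ 2 := by norm_num
          _ ≤ 2 ^ (2 * (Nat.card G).factorization 2) := Nat.pow_le_pow_right (by norm_num) (by omega)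
      omega
  exact h1.trans h6

end Cfsg.Agent.S4483
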