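import Cfsg.Statements.S4486
import Cfsg.Agent.Lib.Helper4.BLn

set_option autoImplicit false
set_option linter.style.haveILetI false
open Cfsg

namespace Cfsg.Agent.S4486

open Cfsg.Agent.Lib.Helper1 Cfsg.Agent.Lib.Helper4 Cfsg.Agent.Lib.Helper8 Cfsg.Agent.Lib.Helper4.BL
open scoped ComplexConjugate

/-- an irreducible character which is constant on a normal subgroup `⊤` is trivial -/
theorem eq_one_of_const {G : Type*} [Group G] [Finite G] {ξ : G → ℂ} (hξ : IsIrrCharacter G ξ)
    (hconst : ∀ g, ξ g = ξ 1) : ξ = fun _ => 1 := by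
  classical
  haveI : Fintype G := Fintype.ofFinite G
  have h1irr : IsIrrCharacter G (fun _ => (1 : ℂ)) := Cfsg.Agent.S0161.isIrrCharacter_one
  by_contra hne
  have h0 := classInner_irr_ne hξ h1irr hne
  rw [classInner_def] at h0
  have h2 : ∑ g : G, ξ g * conj ((fun _ => (1 : ℂ)) g) = (Nat.card G : ℂ) * ξ 1 := by
    simp_rw [hconst]
    simp [Nat.card_eq_fintype_card]
  rw [h2, ← mul_assoc, inv_mul_cancel₀ (Nat.cast_ne_zero.2 Nat.card_pos.ne'), one_mul] at h0
  exact irr_apply_one_ne_zero hξ h0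

/-- Let G be a finite group and p a prime dividing its order such that every non-identity element of a Sylow p-subgroup P has the same centralizer as P; let p^n be the order of P. If G has a non-principal irreducible character χ of degree x with x² < p^n − 1, then either G has a proper normal subgroup containing P, or G has a normal subgroup of index p^n and x = 1. -/
theorem result {G : Type*} [Group G] [Finite G] (p : ℕ) (hp : p.Prime) (hpG : p ∣ Nat.card G) (P : Sylow p G) (hstar : ∀ x ∈ (P : Subgroup G), x ≠ 1 → Subgroup.centralizer ({x} : Set G) = Subgroup.centralizer ((P : Subgroup G) : Set G)) (n : ℕ) (hn : Nat.card P = p ^ n) (χ : Cfsg.IrrCharacter G) (h1 : (χ : G → ℂ) ≠ fun _ => 1) (hdeg : Cfsg.charDegree (χ : G → ℂ) ^ 2 + 1 < p ^ n) : (∃ K : Subgroup G, K.Normal ∧ K ≠ ⊤ ∧ (P : Subgroup G) ≤ K) ∨ ((∃ N : Subgroup G, N.Normal ∧ N.index = p ^ n) ∧ Cfsg.charDegree (χ : G → ℂ) = 1) := by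
  classical
  haveI : Fact p.Prime := ⟨hp⟩
  haveI : Fintype G := Fintype.ofFinite G
  by_cases hK : ∃ K : Subgroup G, K.Normal ∧ K ≠ ⊤ ∧ (P : Subgroup G) ≤ K
  · exact Or.inl hK
  right
  have htop : ∀ M : Subgroup G, M.Normal → (P : Subgroup G) ≤ M → M = ⊤ := by
    intro M hM hPM
    by_contra hne
    exact hK ⟨M, hM, hne, hPM⟩
  have hst : BL.Star P := hstar
  set S : Setup G := mkSetup hst with hS
  have hSq : S.q = Nat.card (P : Subgroup G) := rfl
  have hn' : Nat.card (P : Subgroup G) = p ^ n := hn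
  -- characters trivial on P are trivial
  have hdag : ∀ ξ : G → ℂ, IsIrrCharacter G ξ → (∀ x : S.P, ξ x = ξ 1) → ξ = fun _ => 1 := by
    intro ξ hξ hx
    obtain ⟨L, hLn, hL⟩ := exists_kernel_irr hξ
    have hPL : (P : Subgroup G) ≤ L := fun x hxP => (hL x).2 (hx ⟨x, hxP⟩)
    have hLtop := htop L hLn hPL
    exact eq_one_of_const hξ (fun g => (hL g).1 (by rw [hLtop]; trivial))
  have hχ : IsIrrCharacter G (χ : G → ℂ) := χ.2
  obtain ⟨d, hd0, hd⟩ := irr_apply_one_pos hχ
  have hcd : Cfsg.charDegree (χ : G → ℂ) = d := by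
    rw [Cfsg.charDegree, hd]
    simp
  rw [hcd, sq] at hdeg
  have hnotP : ∃ x : S.P, (χ : G → ℂ) x ≠ (χ : G → ℂ) 1 := by
    by_contra hno
    push Not at hno
    exact h1 (hdag _ hχ hno)
  have hd1 : d = 1 := by
    by_contra hne
    have hd2 : 2 ≤ d := by omega
    have hq' : d * d + 1 < S.q := by
      rw [hSq, hn']
      exact hdeg
    exact Setup.kp hdag hχ hd hd2 hq' hnotP
  refine ⟨?_, by rw [hcd, hd1]⟩
  -- the normalizer of P is its centralizer
  have hNC : nrm P ≤ cent P := by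
    intro g hg
    by_contra hgC
    apply hnotP.elim
    intro x hx
    apply hx
    obtain ⟨φ, hφ⟩ := exists_hom_of_isIrrCharacter hχ (by rw [hd, hd1]; simp)
    obtain ⟨y, hy, hyx⟩ := comm_surj hst hg hgC x.2
    rw [hφ]
    show ((φ (x : G) : ℂˣ) : ℂ) = ((φ 1 : ℂˣ) : ℂ)
    rw [← hyx]
    simp only [map_mul, map_inv, map_one]
    have : (φ y)⁻¹ * (φ g * φ y * (φ g)⁻¹) = 1 := by
      rw [mul_comm (φ g) (φ y), mul_assoc, mul_inv_cancel, mul_one, inv_mul_cancel]
    rw [this]
  haveI : (P : Subgroup G).FiniteIndex := inferInstance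
  have hcomp := MonoidHom.ker_transferSylow_isComplement' P hNC
  refine ⟨(MonoidHom.transferSylow P hNC).ker, inferInstance, ?_⟩
  rw [hcomp.symm.index_eq_card]
  exact hn

end Cfsg.Agent.S4486
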