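import Cfsg.Statements.S4488
import Mathlib
import Cfsg.Agent.Lib.Helper8.SB2

set_option autoImplicit false
open Cfsg
open Cfsg.Agent.Lib.Helper1 Cfsg.Agent.Lib.Helper4 Cfsg.Agent.Lib.Helper8 Cfsg.Agent.Lib.Helper8.SB

namespace Cfsg.Agent.S4488

/-- Let the finite group G have a faithful p-rational character χ of degree n (all values of χ lie in the field generated over ℚ by a root of unity of order prime to p), and let p^a be the order of a Sylow p-subgroup of G. Then a ≤ Σ_{i ≥ 0} ⌊n / ((p − 1)·p^i)⌋ (a finite sum; the terms vanish once (p − 1)p^i > n). -/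
theorem result {G : Type*} [Group G] [Finite G] (p : ℕ) (hp : p.Prime) (χ : G → ℂ) (hχ : Cfsg.IsCharacter G χ) (hfaith : ∀ g : G, χ g = χ 1 → g = 1) (hrat : (∃ r : ℕ, 0 < r ∧ ¬ p ∣ r ∧ ∀ g : G, χ g ∈ IntermediateField.adjoin ℚ ({Complex.exp (2 * Real.pi * Complex.I / r)} : Set ℂ))) (n : ℕ) (hn : Cfsg.charDegree χ = n) : (Nat.card G).factorization p ≤ ∑ i ∈ Finset.range (n + 1), n / ((p - 1) * p ^ i) := by
  classical
  haveI : Fact p.Prime := ⟨hp⟩
  obtain ⟨r, hr0, hpr, hrat⟩ := hrat
  -- the degree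
  have hχ1 : χ 1 = n := by
    obtain ⟨n', hn'⟩ := isCharacter_apply_one hχ
    have : Cfsg.charDegree χ = n' := by
      unfold Cfsg.charDegree
      rw [hn']
      simp
    rw [hn', ← hn, this]
  obtain ⟨P⟩ : Nonempty (Sylow p G) := inferInstance
  haveI : Fintype ↥(P : Subgroup G) := Fintype.ofFinite _
  set χP : ↥(P : Subgroup G) → ℂ := fun x => χ x with hχP
  have hχPc : Cfsg.IsCharacter ↥(P : Subgroup G) χP :=
    isCharacter_comp_hom hχ (P : Subgroup G).subtype
  have hχP1 : χP 1 = n := hχ1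
  have hfaithP : ∀ g : ↥(P : Subgroup G), χP g = χP 1 → g = 1 := by
    intro g hg
    apply Subtype.ext
    exact hfaith g hg
  have hstab : ∀ (x : ↥(P : Subgroup G)) (u : ℕ), Nat.Coprime u p → χP (x ^ u) = χP x := by
    intro x u hu
    obtain ⟨k, hk⟩ := P.isPGroup' x
    have hk' : (x : G) ^ (p ^ k) = 1 := by
      have := congrArg Subtype.val hk
      simpa using this
    have := char_pow_eq_of_rational hp hχ hr0 hpr hrat hk' hu
    show χ ((x ^ u : ↥(P : Subgroup G)) : G) = χ x
    rw [Subgroup.coe_pow]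
    exact this
  have hval := fun (x : ↥(P : Subgroup G)) (hx : x ≠ 1) =>
    value_form P.isPGroup' hχPc hχP1 hfaithP hstab hx
  -- the polynomial
  set M := n / (p - 1) with hM
  set Q : Polynomial ℤ := ∏ t ∈ Finset.range M,
    (Polynomial.X - Polynomial.C ((n : ℤ) - (p : ℤ) * ((t + 1 : ℕ) : ℤ))) with hQ
  have haeval : ∀ c : ℂ, Polynomial.aeval c Q
      = ∏ t ∈ Finset.range M, (c - ((n : ℂ) - (p : ℂ) * ((t + 1 : ℕ) : ℂ))) := by
    intro c
    rw [hQ, map_prod]
    refine Finset.prod_congr rfl fun t _ => ?_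
    simp
  have hzero : ∀ x : ↥(P : Subgroup G), x ≠ 1 → Polynomial.aeval (χP x) Q = 0 := by
    intro x hx
    obtain ⟨t, ht1, htn, hχt⟩ := hval x hx
    rw [haeval]
    apply Finset.prod_eq_zero (i := t - 1)
    · rw [Finset.mem_range]
      have h2 : t ≤ M := by
        rw [hM, Nat.le_div_iff_mul_le (by have := hp.two_le; omega)]
        rw [mul_comm]
        exact htn
      omega
    · rw [hχt, Nat.sub_add_cancel ht1]
      ring
  have hone : Polynomial.aeval (χP 1) Q = ((p ^ M * M.factorial : ℕ) : ℂ) := by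
    rw [haeval, hχP1]
    have h1 : ∀ t ∈ Finset.range M, ((n : ℂ) - ((n : ℂ) - (p : ℂ) * ((t + 1 : ℕ) : ℂ)))
        = (p : ℂ) * ((t + 1 : ℕ) : ℂ) := by
      intro t _
      ring
    rw [Finset.prod_congr rfl h1, Finset.prod_mul_distrib, Finset.prod_const, Finset.card_range,
      ← Finset.prod_range_add_one_eq_factorial]
    push_cast
    rfl
  obtain ⟨z, hz⟩ := sum_aeval_dvd hχPc Q
  rw [Finset.sum_eq_single (1 : ↥(P : Subgroup G)) (fun x _ hx => hzero x hx)
    (fun h => absurd (Finset.mem_univ _) h), hone, Sylow.card_eq_multiplicity] at hz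
  have hz' : ((p ^ M * M.factorial : ℕ) : ℤ) = ((p ^ (Nat.card G).factorization p : ℕ) : ℤ) * z := by
    have : (((p ^ M * M.factorial : ℕ) : ℤ) : ℂ)
        = ((((p ^ (Nat.card G).factorization p : ℕ) : ℤ) * z : ℤ) : ℂ) := by
      push_cast
      push_cast at hz
      exact hz
    exact_mod_cast this
  have hdvd : p ^ (Nat.card G).factorization p ∣ p ^ M * M.factorial := by
    have : ((p ^ (Nat.card G).factorization p : ℕ) : ℤ) ∣ ((p ^ M * M.factorial : ℕ) : ℤ) :=
      Dvd.intro z hz'.symm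
    exact Int.natCast_dvd_natCast.1 this
  have hne : p ^ M * M.factorial ≠ 0 :=
    Nat.mul_ne_zero (pow_ne_zero _ hp.pos.ne') (Nat.factorial_ne_zero _)
  have hle := (hp.pow_dvd_iff_le_factorization hne).1 hdvd
  rw [Nat.factorization_mul (pow_ne_zero _ hp.pos.ne') (Nat.factorial_ne_zero _),
    Finsupp.add_apply, hp.factorization_pow, Finsupp.single_eq_same] at hle
  have hfact : M.factorial.factorization p = padicValNat p M.factorial :=
    Nat.factorization_def _ hp
  rw [hfact] at hle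
  have hlog : Nat.log p M < n + 1 := by
    have h1 : Nat.log p M ≤ M := Nat.log_le_self p M
    have h2 : M ≤ n := Nat.div_le_self n (p - 1)
    omega
  rw [padicValNat_factorial hlog] at hle
  refine hle.trans (le_of_eq ?_)
  have h3 : ∀ i ∈ Finset.range (n + 1), n / ((p - 1) * p ^ i) = M / p ^ i := by
    intro i _
    rw [hM, Nat.div_div_eq_div_mul]
  rw [Finset.sum_congr rfl h3, Finset.range_eq_Ico,
    Finset.sum_eq_sum_Ico_succ_bot (Nat.succ_pos n), pow_zero, Nat.div_one]

end Cfsg.Agent.S4488
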