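import Mathlib
import Cfsg.Statements.S4492
import Cfsg.Agent.Lib.Helper8.FO4
import Cfsg.Agent.Lib.Helper8.PairFull

set_option autoImplicit false
open Cfsg

namespace Cfsg.Agent.S4492

open scoped ComplexConjugate
open Cfsg.Agent.Lib.Helper1 Cfsg.Agent.Lib.Helper4 Cfsg.Agent.Lib.Helper8

/-- Let G be a finite p-solvable group, N = O_{p'}(G) its largest normal subgroup of order prime to p, and θ an irreducible character of N invariant under conjugation by G; fix a maximal ideal M of the algebraic integers containing p. Then the irreducible characters of G lying over θ (those whose restriction to N contains θ) form a single p-block of G, and the defect groups of that block are exactly the Sylow p-subgroups of G. -/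
theorem result {G : Type*} [Group G] [Fintype G] (p : ℕ) [Fact p.Prime] (M : Ideal Cfsg.AlgInt) (hM : Cfsg.IsPModular p M) (hsolv : Cfsg.IsPSolvable p G) (N : Subgroup G) [hN : N.Normal] [Fintype N] (hNdef : N = Cfsg.pPrimeCore p G) (θ : Cfsg.IrrCharacter N) (hinv : ∀ (g : G) (n : N), (θ : N → ℂ) ⟨g * n * g⁻¹, hN.conj_mem n n.2 g⟩ = (θ : N → ℂ) n) : ∃ B : Set (Cfsg.IrrCharacter G), Cfsg.IsPBlock M B ∧ (∀ χ : Cfsg.IrrCharacter G, χ ∈ B ↔ Cfsg.classInner (fun n : N => (χ : G → ℂ) n) (θ : N → ℂ) ≠ 0) ∧ (∀ P : Sylow p G, Cfsg.IsDefectGroup p M B (P : Subgroup G)) ∧ ∀ D : Subgroup G, Cfsg.IsDefectGroup p M B D → ∃ P : Sylow p G, D = (P : Subgroup G) := by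
  classical
  have hMp := isPModular_isPrime hM
  have hp : p.Prime := Fact.out
  have hc := isPConstrained_of_isPSolvable hsolv
  have hpN : ¬ p ∣ Nat.card N := by
    have := Cfsg.Agent.Lib.Helper6.pPrimeCore_coprime (G := G) p
    rw [← hNdef] at this
    exact (Nat.Prime.coprime_iff_not_dvd hp).1 this.symm
  obtain ⟨χ₁, hχ₁, hχ₁p⟩ := exists_over_pPrime_degree N hpN θ hinv
  have hB : Cfsg.IsPBlock M (Cfsg.blockOf M (χ₁ : G → ℂ)) := ⟨χ₁, rfl⟩
  have hfull := blockDefect_of_pPrime_degree (B := Cfsg.blockOf M (χ₁ : G → ℂ))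
    (sameBlock_refl hMp.ne_top _) hχ₁p
  refine ⟨Cfsg.blockOf M (χ₁ : G → ℂ), hB, ?_, ?_, ?_⟩
  · intro χ
    constructor
    · intro h
      exact constituent_of_sameBlock N hM hpN h hχ₁
    · intro h
      exact fong_sameBlock hM hc N hNdef θ hinv χ₁ χ hχ₁ h
  · obtain ⟨D, hD⟩ := exists_isDefectGroup (p := p) hMp hB
    obtain ⟨P₀, hP₀⟩ := exists_sylow_of_full_defect hM hB hfull hD
    intro P
    obtain ⟨g, hg⟩ := MulAction.exists_smul_eq G P₀ P
    have h1 := isDefectGroup_map_conj hD g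
    rw [hP₀] at h1
    rw [← hg]
    exact h1
  · intro D hD
    exact exists_sylow_of_full_defect hM hB hfull hD

end Cfsg.Agent.S4492
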