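import Cfsg.Statements.S4495
import Mathlib
import Cfsg.Agent.Lib.Helper4.SC4
-- import your own Cfsg.Agent.* helpers here

set_option autoImplicit false
open Cfsg

namespace Cfsg.Agent.S4495

/-- Let the finite group G contain an element x of prime order p with C_G(x) = ⟨x⟩, and let t be the number of conjugacy classes of elements of order p. If t ≠ p − 1 then the commutator subgroup has index at most (p − 1)/t; if t = p − 1 it has index exactly p. -/
theorem result {G : Type*} [Group G] [Finite G] (p : ℕ) (hp : p.Prime) (x : G) (hx : orderOf x = p) (hC : Subgroup.centralizer ({x} : Set G) = Subgroup.zpowers x) (t : ℕ) (ht : Nat.card {C : ConjClasses G // ∃ g ∈ C.carrier, orderOf g = p} = t) : (t ≠ p - 1 → (commutator G).index * t ≤ p - 1) ∧ (t = p - 1 → (commutator G).index = p) := by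
  haveI : Fact p.Prime := ⟨hp⟩
  have hte := Cfsg.Agent.Lib.Helper4.SC.card_classes_mul hx hC
  rw [ht] at hte
  have hp2 := hp.two_le
  constructor
  · intro hne
    have he : (Subgroup.zpowers x).relIndex
        (Subgroup.normalizer ((Subgroup.zpowers x : Subgroup G) : Set G)) ≠ 1 := by
      intro h
      rw [h, mul_one] at hte
      exact hne hte
    have hPle := Cfsg.Agent.Lib.Helper4.SC.zpowers_le_commutator hx hC he
    have hdvd := Cfsg.Agent.Lib.Helper4.SC.index_dvd_relIndex hx hC (commutator G) hPle
    have hepos : 0 < (Subgroup.zpowers x).relIndex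
        (Subgroup.normalizer ((Subgroup.zpowers x : Subgroup G) : Set G)) := by
      rcases Nat.eq_zero_or_pos ((Subgroup.zpowers x).relIndex
        (Subgroup.normalizer ((Subgroup.zpowers x : Subgroup G) : Set G))) with h | h
      · rw [h, mul_zero] at hte
        omega
      · exact h
    have hle := Nat.le_of_dvd hepos hdvd
    calc (commutator G).index * t ≤ (Subgroup.zpowers x).relIndex
          (Subgroup.normalizer ((Subgroup.zpowers x : Subgroup G) : Set G)) * t :=
          Nat.mul_le_mul_right t hle
      _ = p - 1 := by rw [mul_comm]; exact hte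
  · intro heq
    have he : (Subgroup.zpowers x).relIndex
        (Subgroup.normalizer ((Subgroup.zpowers x : Subgroup G) : Set G)) = 1 := by
      rw [← heq] at hte
      have ht0 : 0 < t := by omega
      have : t * (Subgroup.zpowers x).relIndex
        (Subgroup.normalizer ((Subgroup.zpowers x : Subgroup G) : Set G)) = t * 1 := by
        rw [hte, mul_one]
      exact Nat.eq_of_mul_eq_mul_left ht0 this
    exact (Cfsg.Agent.Lib.Helper4.SC.commutator_of_relIndex_eq_one hx hC he).1

end Cfsg.Agent.S4495
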