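import Mathlib
import Cfsg.Statements.S4496

set_option autoImplicit false

open Cfsg

namespace Cfsg.Agent.S4496

section

variable {G : Type*} [Group G] [Finite G] {p : ℕ} [Fact p.Prime] {x : G}

theorem mem_centralizer_singleton {a b : G} :
    a ∈ Subgroup.centralizer ({b} : Set G) ↔ b * a = a * b := by
  rw [Subgroup.mem_centralizer_iff]
  constructor
  · intro h; exact h b rfl
  · intro h y hy
    rw [Set.mem_singleton_iff] at hy
    subst hy; exact h

/-- `⟨x⟩` is a Sylow `p`-subgroup. -/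
theorem exists_sylow_eq (hx : orderOf x = p)
    (hC : Subgroup.centralizer ({x} : Set G) = Subgroup.zpowers x) :
    ∃ Q : Sylow p G, (Q : Subgroup G) = Subgroup.zpowers x := by
  have hp : p.Prime := Fact.out
  have hPp : IsPGroup p (Subgroup.zpowers x) := by
    apply IsPGroup.of_card (n := 1)
    rw [Nat.card_zpowers, hx, pow_one]
  obtain ⟨Q, hQ⟩ := hPp.exists_le_sylow
  refine ⟨Q, le_antisymm ?_ hQ⟩
  have hxQ : x ∈ (Q : Subgroup G) := hQ (Subgroup.mem_zpowers x)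
  have hnt : Nontrivial (Q : Subgroup G) := by
    refine ⟨⟨⟨x, hxQ⟩, 1, ?_⟩⟩
    intro h
    have h1 : x = 1 := congrArg Subtype.val h
    rw [h1, orderOf_one] at hx
    exact hp.one_lt.ne hx
  have hcn := IsPGroup.center_nontrivial Q.isPGroup'
  obtain ⟨⟨z, hz⟩, hz1⟩ := exists_ne (1 : Subgroup.center (Q : Subgroup G))
  have hz1' : (z : G) ≠ 1 := by
    intro h
    apply hz1
    apply Subtype.ext
    apply Subtype.ext
    exact h
  -- z commutes with x, so z ∈ ⟨x⟩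
  have hzx : (z : G) ∈ Subgroup.zpowers x := by
    rw [← hC, mem_centralizer_singleton]
    have := (Subgroup.mem_center_iff.mp hz) ⟨x, hxQ⟩
    exact congrArg Subtype.val this
  -- ⟨z⟩ = ⟨x⟩
  have hzz : Subgroup.zpowers (z : G) = Subgroup.zpowers x := by
    apply Subgroup.eq_of_le_of_card_ge (Subgroup.zpowers_le.mpr hzx)
    rw [Nat.card_zpowers, Nat.card_zpowers, hx]
    have h1 : orderOf (z : G) ∣ orderOf x := orderOf_dvd_of_mem_zpowers hzx
    rw [hx] at h1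
    rcases (Nat.dvd_prime hp).mp h1 with h2 | h2
    · exact absurd (orderOf_eq_one_iff.mp h2) hz1'
    · exact h2.ge
  -- every element of Q commutes with x
  intro q hq
  rw [← hC, mem_centralizer_singleton]
  have hxz : x ∈ Subgroup.zpowers (z : G) := by rw [hzz]; exact Subgroup.mem_zpowers x
  obtain ⟨k, hk⟩ := Subgroup.mem_zpowers_iff.mp hxz
  have hzq : (z : G) * q = q * z := by
    have := (Subgroup.mem_center_iff.mp hz) ⟨q, hq⟩
    exact (congrArg Subtype.val this).symm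
  rw [← hk]
  exact ((Commute.zpow_left (show Commute (z : G) q from hzq) k)).eq

/-- conjugation action of `P` on a coset of `S` whose image commutes with the image of `P` -/
def cosetAction (S : Subgroup G) [S.Normal] (P : Subgroup G) (g : G)
    (hcomm : ∀ y ∈ P, (y : G ⧸ S) * (g : G ⧸ S) = (g : G ⧸ S) * (y : G ⧸ S)) :
    MulAction P {t : G // (t : G ⧸ S) = (g : G ⧸ S)} where
  smul y t := ⟨(y : G) * t.1 * (y : G)⁻¹, by
    rw [QuotientGroup.mk_mul, QuotientGroup.mk_mul, t.2, hcomm y y.2, QuotientGroup.mk_inv,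
      mul_inv_cancel_right]⟩
  one_smul t := Subtype.ext (by
    show ((1 : P) : G) * t.1 * ((1 : P) : G)⁻¹ = t.1
    simp)
  mul_smul y z t := Subtype.ext (by
    show ((y * z : P) : G) * t.1 * ((y * z : P) : G)⁻¹ =
      (y : G) * ((z : G) * t.1 * (z : G)⁻¹) * (y : G)⁻¹
    simp [mul_assoc])

/-- a coset has as many elements as the subgroup -/
def cosetEquiv (S : Subgroup G) [S.Normal] (g : G) :
    {t : G // (t : G ⧸ S) = (g : G ⧸ S)} ≃ S where
  toFun t := ⟨g⁻¹ * t.1, by rw [← QuotientGroup.eq]; exact t.2.symm⟩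
  invFun s := ⟨g * s.1, by
    rw [QuotientGroup.mk_mul, (QuotientGroup.eq_one_iff s.1).mpr s.2, mul_one]⟩
  left_inv t := Subtype.ext (by simp)
  right_inv s := Subtype.ext (by simp)

theorem inf_eq_bot (hx : orderOf x = p) (S : Subgroup G) (hpS : ¬ p ∣ Nat.card S) :
    Subgroup.zpowers x ⊓ S = ⊥ := by
  have hp : p.Prime := Fact.out
  apply disjoint_iff.mp
  apply Subgroup.disjoint_of_coprime_natCard
  rw [Nat.card_zpowers, hx]
  exact (Nat.Prime.coprime_iff_not_dvd hp).mpr hpS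

theorem isPGroup_zpowers (hx : orderOf x = p) : IsPGroup p (Subgroup.zpowers x) := by
  apply IsPGroup.of_card (n := 1)
  rw [Nat.card_zpowers, hx, pow_one]

theorem comm_of_mem_zpowers (S : Subgroup G) [S.Normal] (g : G)
    (hcomm : (x : G ⧸ S) * (g : G ⧸ S) = (g : G ⧸ S) * (x : G ⧸ S)) :
    ∀ y ∈ Subgroup.zpowers x, (y : G ⧸ S) * (g : G ⧸ S) = (g : G ⧸ S) * (y : G ⧸ S) := by
  intro y hy
  obtain ⟨k, rfl⟩ := Subgroup.mem_zpowers_iff.mp hy
  rw [QuotientGroup.mk_zpow]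
  exact (Commute.zpow_left (show Commute (x : G ⧸ S) (g : G ⧸ S) from hcomm) k).eq

/-- the fixed points of the coset action lie in `⟨x⟩` -/
theorem fixed_mem (hC : Subgroup.centralizer ({x} : Set G) = Subgroup.zpowers x)
    (S : Subgroup G) [S.Normal] (g : G)
    (hcomm : ∀ y ∈ Subgroup.zpowers x, (y : G ⧸ S) * (g : G ⧸ S) = (g : G ⧸ S) * (y : G ⧸ S))
    (t : {t : G // (t : G ⧸ S) = (g : G ⧸ S)})
    (ht : t ∈ @MulAction.fixedPoints (Subgroup.zpowers x) _ _ (cosetAction S _ g hcomm)) :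
    t.1 ∈ Subgroup.zpowers x := by
  letI := cosetAction S _ g hcomm
  have h1 : (⟨x, Subgroup.mem_zpowers x⟩ : Subgroup.zpowers x) • t = t := ht _
  have h2 : x * t.1 * x⁻¹ = t.1 := congrArg Subtype.val h1
  rw [← hC, mem_centralizer_singleton]
  calc x * t.1 = (x * t.1 * x⁻¹) * x := by group
    _ = t.1 * x := by rw [h2]

theorem exists_fixed (hx : orderOf x = p)
    (hC : Subgroup.centralizer ({x} : Set G) = Subgroup.zpowers x)
    (S : Subgroup G) [S.Normal] (hpS : ¬ p ∣ Nat.card S) (g : G)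
    (hcomm : (x : G ⧸ S) * (g : G ⧸ S) = (g : G ⧸ S) * (x : G ⧸ S)) :
    ∃ t ∈ Subgroup.zpowers x, (t : G ⧸ S) = (g : G ⧸ S) := by
  have hc := comm_of_mem_zpowers S g hcomm
  letI := cosetAction S _ g hc
  have hmod := (isPGroup_zpowers hx).card_modEq_card_fixedPoints {t : G // (t : G ⧸ S) = (g : G ⧸ S)}
  rw [Nat.card_congr (cosetEquiv S g)] at hmod
  have hne : Nat.card (MulAction.fixedPoints (Subgroup.zpowers x) {t : G // (t : G ⧸ S) = (g : G ⧸ S)}) ≠ 0 := by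
    intro h0
    rw [h0] at hmod
    exact hpS (Nat.modEq_zero_iff_dvd.mp hmod)
  have hnonempty : Nonempty (MulAction.fixedPoints (Subgroup.zpowers x) {t : G // (t : G ⧸ S) = (g : G ⧸ S)}) := by
    by_contra hemp
    rw [not_nonempty_iff] at hemp
    exact hne Nat.card_of_isEmpty
  obtain ⟨⟨t, ht⟩⟩ := hnonempty
  exact ⟨t.1, fixed_mem hC S g hc t ht, t.2⟩

theorem card_mod (hx : orderOf x = p)
    (hC : Subgroup.centralizer ({x} : Set G) = Subgroup.zpowers x)
    (S : Subgroup G) [S.Normal] (hpS : ¬ p ∣ Nat.card S) : Nat.card S % p = 1 := by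
  have hp : p.Prime := Fact.out
  have hcomm : (x : G ⧸ S) * ((1 : G) : G ⧸ S) = ((1 : G) : G ⧸ S) * (x : G ⧸ S) := by
    rw [QuotientGroup.mk_one, mul_one, one_mul]
  have hc := comm_of_mem_zpowers S 1 hcomm
  letI := cosetAction S _ 1 hc
  have hmod := (isPGroup_zpowers hx).card_modEq_card_fixedPoints {t : G // (t : G ⧸ S) = ((1 : G) : G ⧸ S)}
  rw [Nat.card_congr (cosetEquiv S 1)] at hmod
  have hone : Nat.card (MulAction.fixedPoints (Subgroup.zpowers x) {t : G // (t : G ⧸ S) = ((1 : G) : G ⧸ S)}) = 1 := by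
    rw [Nat.card_eq_one_iff_unique]
    constructor
    · constructor
      rintro ⟨t, ht⟩ ⟨t', ht'⟩
      have h1 := fixed_mem hC S 1 hc t ht
      have h1' := fixed_mem hC S 1 hc t' ht'
      have h2 : t.1 ∈ S := by
        rw [← QuotientGroup.eq_one_iff, t.2, QuotientGroup.mk_one]
      have h2' : t'.1 ∈ S := by
        rw [← QuotientGroup.eq_one_iff, t'.2, QuotientGroup.mk_one]
      have h3 : t.1 ∈ Subgroup.zpowers x ⊓ S := ⟨h1, h2⟩
      have h3' : t'.1 ∈ Subgroup.zpowers x ⊓ S := ⟨h1', h2'⟩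
      rw [inf_eq_bot hx S hpS, Subgroup.mem_bot] at h3 h3'
      apply Subtype.ext
      apply Subtype.ext
      rw [h3, h3']
    · refine ⟨⟨⟨1, rfl⟩, ?_⟩⟩
      intro y
      apply Subtype.ext
      show (y : G) * 1 * (y : G)⁻¹ = 1
      simp
  rw [hone] at hmod
  rw [hmod]
  exact Nat.mod_eq_of_lt hp.one_lt

theorem sylow_card (hx : orderOf x = p)
    (hC : Subgroup.centralizer ({x} : Set G) = Subgroup.zpowers x) (Q : Sylow p G) :
    Nat.card (Q : Subgroup G) = p := by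
  obtain ⟨Q₀, hQ₀⟩ := exists_sylow_eq hx hC
  have h1 : Nat.card (Q₀ : Subgroup G) = p := by rw [hQ₀, Nat.card_zpowers, hx]
  have h2 := Sylow.card_eq_multiplicity Q
  have h3 := Sylow.card_eq_multiplicity Q₀
  have h4 : Nat.card (Q : Subgroup G) = Nat.card (Q₀ : Subgroup G) := h2.trans h3.symm
  rw [h4, h1]

theorem card_subgroups_eq (hx : orderOf x = p)
    (hC : Subgroup.centralizer ({x} : Set G) = Subgroup.zpowers x) :
    Nat.card {H : Subgroup G // Nat.card H = p} = Nat.card (Sylow p G) := by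
  symm
  apply Nat.card_congr
  apply Equiv.ofBijective (fun Q : Sylow p G => (⟨(Q : Subgroup G), sylow_card hx hC Q⟩ :
    {H : Subgroup G // Nat.card H = p}))
  constructor
  · intro Q Q' h
    apply Sylow.ext
    exact congrArg Subtype.val h
  · rintro ⟨H, hH⟩
    have hHp : IsPGroup p H := IsPGroup.of_card (n := 1) (by rw [hH, pow_one])
    obtain ⟨Q, hQ⟩ := hHp.exists_le_sylow
    refine ⟨Q, ?_⟩
    apply Subtype.ext
    show (Q : Subgroup G) = H
    symm
    apply Subgroup.eq_of_le_of_card_ge hQ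
    rw [sylow_card hx hC Q, hH]

theorem inf_normalizer_eq_bot (hx : orderOf x = p)
    (hC : Subgroup.centralizer ({x} : Set G) = Subgroup.zpowers x)
    (S : Subgroup G) [hS : S.Normal] (hpS : ¬ p ∣ Nat.card S) :
    S ⊓ Subgroup.normalizer ((Subgroup.zpowers x : Subgroup G) : Set G) = ⊥ := by
  rw [eq_bot_iff]
  intro s hs
  obtain ⟨hsS, hsN⟩ := Subgroup.mem_inf.mp hs
  rw [Subgroup.mem_bot]
  have h1 : s * x * s⁻¹ ∈ Subgroup.zpowers x :=
    (Subgroup.mem_normalizer_iff.mp hsN x).mp (Subgroup.mem_zpowers x)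
  have h2 : s * x * s⁻¹ * x⁻¹ ∈ Subgroup.zpowers x ⊓ S := by
    refine Subgroup.mem_inf.mpr ⟨Subgroup.mul_mem _ h1 (Subgroup.inv_mem _ (Subgroup.mem_zpowers x)), ?_⟩
    have e : s * x * s⁻¹ * x⁻¹ = s * (x * s⁻¹ * x⁻¹) := by group
    rw [e]
    exact S.mul_mem hsS (hS.conj_mem _ (S.inv_mem hsS) x)
  rw [inf_eq_bot hx S hpS, Subgroup.mem_bot] at h2
  have h3 : s ∈ Subgroup.zpowers x := by
    rw [← hC, mem_centralizer_singleton]
    calc x * s = (s * x * s⁻¹ * x⁻¹)⁻¹ * (s * x) := by group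
      _ = s * x := by rw [h2]; group
  have h4 : s ∈ Subgroup.zpowers x ⊓ S := Subgroup.mem_inf.mpr ⟨h3, hsS⟩
  rw [inf_eq_bot hx S hpS, Subgroup.mem_bot] at h4
  exact h4

theorem card_dvd_index_normalizer (hx : orderOf x = p)
    (hC : Subgroup.centralizer ({x} : Set G) = Subgroup.zpowers x)
    (S : Subgroup G) [hS : S.Normal] (hpS : ¬ p ∣ Nat.card S) :
    Nat.card S ∣ (Subgroup.normalizer ((Subgroup.zpowers x : Subgroup G) : Set G)).index := by
  obtain ⟨N, hN⟩ : ∃ N : Subgroup G, N = Subgroup.normalizer ((Subgroup.zpowers x : Subgroup G) : Set G) :=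
    ⟨_, rfl⟩
  rw [← hN]
  have hinj : Function.Injective ((QuotientGroup.mk' S).comp N.subtype) := by
    rw [injective_iff_map_eq_one]
    intro n hn
    have h1 : (n : G) ∈ S := by
      rw [← QuotientGroup.eq_one_iff]
      exact hn
    have h2 : (n : G) ∈ S ⊓ Subgroup.normalizer ((Subgroup.zpowers x : Subgroup G) : Set G) := by
      refine Subgroup.mem_inf.mpr ⟨h1, ?_⟩
      rw [← hN]; exact n.2
    rw [inf_normalizer_eq_bot hx hC S hpS, Subgroup.mem_bot] at h2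
    exact Subtype.ext h2
  have h1 : Nat.card N ∣ S.index := by
    rw [Subgroup.index_eq_card]
    exact Subgroup.card_dvd_of_injective _ hinj
  obtain ⟨m, hm⟩ := h1
  have h2 := Subgroup.index_mul_card S
  have h3 := Subgroup.index_mul_card N
  have hpos : 0 < Nat.card N := Nat.card_pos
  refine ⟨m, ?_⟩
  have : Nat.card N * N.index = Nat.card N * (Nat.card S * m) := by
    calc Nat.card N * N.index = Nat.card G := by rw [mul_comm, h3]
      _ = S.index * Nat.card S := h2.symm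
      _ = Nat.card N * (Nat.card S * m) := by rw [hm]; ring
  exact Nat.eq_of_mul_eq_mul_left hpos this

/-- part (a) -/
theorem commutator_le (hx : orderOf x = p)
    (hC : Subgroup.centralizer ({x} : Set G) = Subgroup.zpowers x)
    (S : Subgroup G) [hS : S.Normal] (hpS : p ∣ Nat.card S) : commutator G ≤ S := by
  obtain ⟨Q₀, hQ₀⟩ := exists_sylow_eq hx hC
  -- `x ∈ S`
  obtain ⟨y, hy⟩ := exists_prime_orderOf_dvd_card' (G := S) p hpS
  have hy' : orderOf (y : G) = p := by rw [Subgroup.orderOf_coe, hy]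
  have hYp : IsPGroup p (Subgroup.zpowers (y : G)) := isPGroup_zpowers hy'
  obtain ⟨Q, hQ⟩ := hYp.exists_le_sylow
  have hYQ : Subgroup.zpowers (y : G) = (Q : Subgroup G) := by
    apply Subgroup.eq_of_le_of_card_ge hQ
    rw [sylow_card hx hC Q, Nat.card_zpowers, hy']
  obtain ⟨g, hg⟩ := MulAction.exists_smul_eq G Q₀ Q
  have hxS : x ∈ S := by
    have h1 : g * x * g⁻¹ ∈ (Q : Subgroup G) := by
      rw [← hg, Sylow.coe_subgroup_smul, Subgroup.mem_pointwise_smul_iff_inv_smul_mem, hQ₀]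
      simp only [MulAut.smul_def, MulAut.conj_inv_apply]
      have e : g⁻¹ * (g * x * g⁻¹) * g = x := by group
      rw [e]; exact Subgroup.mem_zpowers x
    rw [← hYQ] at h1
    have h2 : g * x * g⁻¹ ∈ S := (Subgroup.zpowers_le.mpr y.2) h1
    have h3 := hS.conj_mem _ h2 g⁻¹
    have e : g⁻¹ * (g * x * g⁻¹) * g⁻¹⁻¹ = x := by group
    rw [e] at h3; exact h3
  have hPS : Subgroup.zpowers x ≤ S := Subgroup.zpowers_le.mpr hxS
  have hQ₀S : (Q₀ : Subgroup G) ≤ S := by rw [hQ₀]; exact hPS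
  have hfr := Sylow.normalizer_sup_eq_top' Q₀ hQ₀S
  have hset : (Q₀ : Set G) = ((Subgroup.zpowers x : Subgroup G) : Set G) := by rw [← hQ₀]; rfl
  rw [hset] at hfr
  -- elements of the normalizer commute modulo S
  have hNcomm : ∀ n₁ ∈ Subgroup.normalizer ((Subgroup.zpowers x : Subgroup G) : Set G),
      ∀ n₂ ∈ Subgroup.normalizer ((Subgroup.zpowers x : Subgroup G) : Set G),
      ((n₁ : G) : G ⧸ S) * (n₂ : G ⧸ S) = (n₂ : G ⧸ S) * (n₁ : G ⧸ S) := by
    intro n₁ hn₁ n₂ hn₂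
    have hk : ∀ n ∈ Subgroup.normalizer ((Subgroup.zpowers x : Subgroup G) : Set G),
        ∃ k : ℤ, n * x * n⁻¹ = x ^ k := by
      intro n hn
      have := (Subgroup.mem_normalizer_iff.mp hn x).mp (Subgroup.mem_zpowers x)
      obtain ⟨k, hk⟩ := Subgroup.mem_zpowers_iff.mp this
      exact ⟨k, hk.symm⟩
    obtain ⟨k₁, hk₁⟩ := hk n₁ hn₁
    obtain ⟨k₂, hk₂⟩ := hk n₂ hn₂
    have e1 : (n₁ * n₂) * x * (n₁ * n₂)⁻¹ = x ^ (k₁ * k₂) := by
      calc (n₁ * n₂) * x * (n₁ * n₂)⁻¹ = n₁ * (n₂ * x * n₂⁻¹) * n₁⁻¹ := by group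
        _ = n₁ * x ^ k₂ * n₁⁻¹ := by rw [hk₂]
        _ = (n₁ * x * n₁⁻¹) ^ k₂ := (conj_zpow).symm
        _ = x ^ (k₁ * k₂) := by rw [hk₁, zpow_mul]
    have e2 : (n₂ * n₁) * x * (n₂ * n₁)⁻¹ = x ^ (k₁ * k₂) := by
      calc (n₂ * n₁) * x * (n₂ * n₁)⁻¹ = n₂ * (n₁ * x * n₁⁻¹) * n₂⁻¹ := by group
        _ = n₂ * x ^ k₁ * n₂⁻¹ := by rw [hk₁]
        _ = (n₂ * x * n₂⁻¹) ^ k₁ := (conj_zpow).symm
        _ = x ^ (k₁ * k₂) := by rw [hk₂, mul_comm k₁ k₂, zpow_mul]
    have h3 : (n₂ * n₁)⁻¹ * (n₁ * n₂) ∈ Subgroup.zpowers x := by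
      rw [← hC, mem_centralizer_singleton]
      have h4 : (n₁ * n₂) * x * (n₁ * n₂)⁻¹ = (n₂ * n₁) * x * (n₂ * n₁)⁻¹ := by rw [e1, e2]
      calc x * ((n₂ * n₁)⁻¹ * (n₁ * n₂))
          = (n₂ * n₁)⁻¹ * ((n₂ * n₁) * x * (n₂ * n₁)⁻¹) * (n₁ * n₂) := by group
        _ = (n₂ * n₁)⁻¹ * ((n₁ * n₂) * x * (n₁ * n₂)⁻¹) * (n₁ * n₂) := by rw [h4]
        _ = (n₂ * n₁)⁻¹ * (n₁ * n₂) * x := by group
    rw [← QuotientGroup.mk_mul, ← QuotientGroup.mk_mul]
    exact (QuotientGroup.eq.mpr (hPS h3)).symm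
  have hcomm : ∀ a b : G, ((a : G) : G ⧸ S) * (b : G ⧸ S) = (b : G ⧸ S) * (a : G ⧸ S) := by
    intro a b
    have ha : a ∈ Subgroup.normalizer ((Subgroup.zpowers x : Subgroup G) : Set G) ⊔ S := by
      rw [hfr]; trivial
    have hb : b ∈ Subgroup.normalizer ((Subgroup.zpowers x : Subgroup G) : Set G) ⊔ S := by
      rw [hfr]; trivial
    obtain ⟨n₁, hn₁, s₁, hs₁, rfl⟩ := Subgroup.mem_sup_of_normal_right.mp ha
    obtain ⟨n₂, hn₂, s₂, hs₂, rfl⟩ := Subgroup.mem_sup_of_normal_right.mp hb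
    have e1 : ((n₁ * s₁ : G) : G ⧸ S) = (n₁ : G ⧸ S) := by
      rw [QuotientGroup.mk_mul, (QuotientGroup.eq_one_iff s₁).mpr hs₁, mul_one]
    have e2 : ((n₂ * s₂ : G) : G ⧸ S) = (n₂ : G ⧸ S) := by
      rw [QuotientGroup.mk_mul, (QuotientGroup.eq_one_iff s₂).mpr hs₂, mul_one]
    rw [e1, e2]
    exact hNcomm n₁ hn₁ n₂ hn₂
  rw [commutator_def, Subgroup.commutator_le]
  intro a _ b _
  rw [← QuotientGroup.eq_one_iff, commutatorElement_def, QuotientGroup.mk_mul, QuotientGroup.mk_mul,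
    QuotientGroup.mk_mul, QuotientGroup.mk_inv, QuotientGroup.mk_inv, hcomm a b]
  group

end

theorem result {G : Type*} [Group G] [Finite G] (p : ℕ) (hp : p.Prime) (x : G) (hx : orderOf x = p) (hC : Subgroup.centralizer ({x} : Set G) = Subgroup.zpowers x) (S : Subgroup G) [S.Normal] : (p ∣ Nat.card S → commutator G ≤ S) ∧ (¬ p ∣ Nat.card S → Nat.card S ∣ Nat.card {H : Subgroup G // Nat.card H = p} ∧ Nat.card S % p = 1 ∧ orderOf (QuotientGroup.mk x : G ⧸ S) = p ∧ Subgroup.centralizer ({(QuotientGroup.mk x : G ⧸ S)} : Set (G ⧸ S)) = Subgroup.zpowers (QuotientGroup.mk x : G ⧸ S)) := by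
  have hpF : Fact p.Prime := ⟨hp⟩
  refine ⟨fun hpS => commutator_le hx hC S hpS, fun hpS => ⟨?_, card_mod hx hC S hpS, ?_, ?_⟩⟩
  · rw [card_subgroups_eq hx hC]
    obtain ⟨Q₀, hQ₀⟩ := exists_sylow_eq hx hC
    have hset : (Q₀ : Set G) = ((Subgroup.zpowers x : Subgroup G) : Set G) := by rw [← hQ₀]; rfl
    rw [Sylow.card_eq_index_normalizer Q₀, hset]
    exact card_dvd_index_normalizer hx hC S hpS
  · apply orderOf_eq_prime
    · rw [← QuotientGroup.mk_pow, ← hx, pow_orderOf_eq_one]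
      rfl
    · intro h1
      have h2 : x ∈ S := (QuotientGroup.eq_one_iff x).mp h1
      have h3 : x ∈ Subgroup.zpowers x ⊓ S := Subgroup.mem_inf.mpr ⟨Subgroup.mem_zpowers x, h2⟩
      rw [inf_eq_bot hx S hpS, Subgroup.mem_bot] at h3
      rw [h3, orderOf_one] at hx
      exact hp.one_lt.ne hx
  · ext q
    obtain ⟨g, rfl⟩ := QuotientGroup.mk_surjective q
    rw [mem_centralizer_singleton]
    constructor
    · intro hcomm
      obtain ⟨t, ht, htg⟩ := exists_fixed hx hC S hpS g hcomm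
      obtain ⟨k, rfl⟩ := Subgroup.mem_zpowers_iff.mp ht
      rw [← htg, QuotientGroup.mk_zpow]
      exact Subgroup.zpow_mem _ (Subgroup.mem_zpowers _) k
    · intro hq
      obtain ⟨k, hk⟩ := Subgroup.mem_zpowers_iff.mp hq
      rw [← hk]
      exact ((Commute.refl (x : G ⧸ S)).zpow_right k).eq

end Cfsg.Agent.S4496
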