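import Cfsg.Statements.S4497
import Mathlib
import Cfsg.Agent.Lib.Helper4.SC6
-- import your own Cfsg.Agent.* helpers here

set_option autoImplicit false
open Cfsg

namespace Cfsg.Agent.S4497

/-- Let the finite group G contain an element x of prime order p with C_G(x) = ⟨x⟩, let t be the number of conjugacy classes of elements of order p, and let S* = O_{p′}(G) be the largest normal subgroup of order prime to p. Then S* ≤ G′; if t ≠ p − 1 the quotient G′/S* is simple (in particular non-trivial); if t = p − 1 then G′ = S*. -/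
theorem result {G : Type*} [Group G] [Finite G] (p : ℕ) (hp : p.Prime) (x : G) (hx : orderOf x = p) (hC : Subgroup.centralizer ({x} : Set G) = Subgroup.zpowers x) (t : ℕ) (ht : Nat.card {C : ConjClasses G // ∃ g ∈ C.carrier, orderOf g = p} = t) : Cfsg.pPrimeCore p G ≤ commutator G ∧ (t ≠ p - 1 → ∀ h : ((Cfsg.pPrimeCore p G).subgroupOf (commutator G)).Normal, IsSimpleGroup (↥(commutator G) ⧸ (Cfsg.pPrimeCore p G).subgroupOf (commutator G))) ∧ (t = p - 1 → commutator G = Cfsg.pPrimeCore p G) := by
  haveI : Fact p.Prime := ⟨hp⟩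
  have hte := Cfsg.Agent.Lib.Helper4.SC.card_classes_mul hx hC
  rw [ht] at hte
  have hp2 := hp.two_le
  have hle := Cfsg.Agent.Lib.Helper4.SC.pPrimeCore_le_commutator hx hC
  refine ⟨hle, ?_, ?_⟩
  · intro hne h
    have he : (Subgroup.zpowers x).relIndex
        (Subgroup.normalizer ((Subgroup.zpowers x : Subgroup G) : Set G)) ≠ 1 := by
      intro h1
      rw [h1, mul_one] at hte
      exact hne hte
    exact Cfsg.Agent.Lib.Helper4.SC.isSimpleGroup_quotient hx hC he
  · intro heq
    have he : (Subgroup.zpowers x).relIndex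
        (Subgroup.normalizer ((Subgroup.zpowers x : Subgroup G) : Set G)) = 1 := by
      rw [← heq] at hte
      have ht0 : 0 < t := by omega
      have : t * (Subgroup.zpowers x).relIndex
        (Subgroup.normalizer ((Subgroup.zpowers x : Subgroup G) : Set G)) = t * 1 := by
        rw [hte, mul_one]
      exact Nat.eq_of_mul_eq_mul_left ht0 this
    obtain ⟨-, -, hcop, -⟩ := Cfsg.Agent.Lib.Helper4.SC.commutator_of_relIndex_eq_one hx hC he
    exact le_antisymm (Cfsg.Agent.Lib.Helper6.le_pPrimeCore inferInstance hcop) hle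

end Cfsg.Agent.S4497
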