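import Mathlib
import Cfsg.Statements.S4498
import Cfsg.Agent.Lib.Helper8.GM3
import Cfsg.Agent.Lib.Helper8.BlockDefect
import Cfsg.Agent.Lib.Helper8.TwoClass

set_option autoImplicit false
open Cfsg

namespace Cfsg.Agent.S4498

open scoped ComplexConjugate
open Cfsg.Agent.Lib.Helper1 Cfsg.Agent.Lib.Helper4 Cfsg.Agent.Lib.Helper8

/-- Let p and q be distinct primes dividing the order of the finite group G, and suppose G has no element of order p·q. Fix maximal ideals M_p over p and M_q over q of the algebraic integers. Then the principal p-block and the principal q-block of G have a non-principal irreducible character in common. -/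
theorem result {G : Type*} [Group G] [Finite G] (p q : ℕ) [Fact p.Prime] [Fact q.Prime] (hpq : p ≠ q) (hp : p ∣ Nat.card G) (hq : q ∣ Nat.card G) (hno : ∀ g : G, orderOf g ≠ p * q) (Mp Mq : Ideal Cfsg.AlgInt) (hMp : Cfsg.IsPModular p Mp) (hMq : Cfsg.IsPModular q Mq) : ∃ χ : Cfsg.IrrCharacter G, (χ : G → ℂ) ≠ (fun _ => 1) ∧ χ ∈ Cfsg.principalBlock Mp G ∧ χ ∈ Cfsg.principalBlock Mq G := by
  classical
  haveI : Fintype G := Fintype.ofFinite G
  have hMpp := isPModular_isPrime hMp
  have hMqp := isPModular_isPrime hMq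
  by_contra hcon
  push Not at hcon
  obtain ⟨y, hy⟩ := exists_prime_orderOf_dvd_card' p hp
  have hyp : p ∣ orderOf y := by rw [hy]
  obtain ⟨ω, hω⟩ := exists_algInt_sum_inter_eq hMp hMq hpq hno
    (⟨trivIrr G, rfl⟩ : IsPBlock Mp (blockOf Mp (trivIrr G : G → ℂ)))
    (⟨trivIrr G, rfl⟩ : IsPBlock Mq (blockOf Mq (trivIrr G : G → ℂ))) y hyp
  have htriv : (trivIrr G : G → ℂ) = fun _ => 1 := by
    funext g
    exact trivIrr_apply g
  have hset : blockOf Mp (trivIrr G : G → ℂ) ∩ blockOf Mq (trivIrr G : G → ℂ) = {trivIrr G} := by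
    ext χ
    constructor
    · rintro ⟨h1, h2⟩
      by_contra hne
      have hne' : (χ : G → ℂ) ≠ (fun _ => 1) := by
        intro h
        apply hne
        apply Subtype.ext
        rw [h, htriv]
      refine hcon χ hne' ?_ ?_
      · unfold principalBlock
        rw [← htriv]
        exact h1
      · unfold principalBlock
        rw [← htriv]
        exact h2
    · intro h
      rw [Set.mem_singleton_iff] at h
      rw [h]
      exact ⟨sameBlock_refl hMpp.ne_top _, sameBlock_refl hMqp.ne_top _⟩
  rw [hset, finsum_mem_singleton] at hω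
  have hdeg : (charDegree (trivIrr G : G → ℂ) : ℂ) = 1 := by
    rw [← (irr_apply_one_eq_charDegree (trivIrr G).2).1, trivIrr_apply]
  rw [hdeg, trivIrr_apply, one_mul] at hω
  -- q is a unit
  have hb : (Nat.card G).factorization q ≠ 0 := by
    have hq' : q.Prime := Fact.out
    have := (hq'.dvd_iff_one_le_factorization Nat.card_pos.ne').1 hq
    omega
  obtain ⟨b', hb'⟩ := Nat.exists_eq_succ_of_ne_zero hb
  rw [hb', pow_succ] at hω
  have hunit : (q : Cfsg.AlgInt) * ((q : Cfsg.AlgInt) ^ b' * ω) = 1 := by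
    apply Subtype.ext
    push_cast
    rw [hω]
    ring
  have h1 : (1 : Cfsg.AlgInt) ∈ Mq := by
    rw [← hunit]
    exact Mq.mul_mem_right _ hMq.2.2
  exact hMqp.ne_top ((Ideal.eq_top_iff_one Mq).2 h1)

end Cfsg.Agent.S4498
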