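import Mathlib
import Cfsg.Statements.S4499
import Cfsg.Agent.Lib.Helper8.BF10

set_option autoImplicit false
open Cfsg

namespace Cfsg.Agent.S4499

open scoped ComplexConjugate
open Cfsg.Agent.Lib.Helper1 Cfsg.Agent.Lib.Helper4 Cfsg.Agent.Lib.Helper8

/-- Let G be a finite group whose order has p-part p^a (a ≥ 1), and fix a maximal ideal M of the algebraic integers containing p. If the degree of one irreducible character of a p-block B is divisible by p^(a−1), then the degree of every irreducible character in B is divisible by p^(a−1) (so B has defect at most 1). -/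
theorem result {G : Type*} [Group G] [Finite G] (p : ℕ) [Fact p.Prime] (M : Ideal Cfsg.AlgInt) (hM : Cfsg.IsPModular p M) (hpa : p ∣ Nat.card G) (B : Set (Cfsg.IrrCharacter G)) (hB : Cfsg.IsPBlock M B) (χ : Cfsg.IrrCharacter G) (hχ : χ ∈ B) (hdiv : p ^ ((Nat.card G).factorization p - 1) ∣ Cfsg.charDegree (χ : G → ℂ)) (ψ : Cfsg.IrrCharacter G) (hψ : ψ ∈ B) : p ^ ((Nat.card G).factorization p - 1) ∣ Cfsg.charDegree (ψ : G → ℂ) := by
  classical
  haveI : Fintype G := Fintype.ofFinite G
  have hp : p.Prime := Fact.out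
  obtain ⟨h1, -⟩ := block_valuations (p := p) hχ
  obtain ⟨h2, -⟩ := block_valuations (p := p) hψ
  obtain ⟨-, hχpos⟩ := irr_apply_one_eq_charDegree χ.2
  obtain ⟨-, hψpos⟩ := irr_apply_one_eq_charDegree ψ.2
  have ha : 1 ≤ (Nat.card G).factorization p :=
    (hp.dvd_iff_one_le_factorization Nat.card_pos.ne').1 hpa
  have h3 : (Nat.card G).factorization p - 1 ≤ (Cfsg.charDegree (χ : G → ℂ)).factorization p :=
    (hp.pow_dvd_iff_le_factorization hχpos.ne').1 hdiv
  apply (hp.pow_dvd_iff_le_factorization hψpos.ne').2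
  by_cases hh : 0 < Cfsg.blockHeight p B (χ : G → ℂ)
  · have h4 := height_add_two_le hM hB hχ hh
    omega
  · omega

end Cfsg.Agent.S4499
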