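import Mathlib
import Cfsg.Statements.S4505
import Cfsg.Agent.Lib.Helper8.BlockCount

set_option autoImplicit false
open Cfsg

namespace Cfsg.Agent.S4505

open scoped ComplexConjugate
open Cfsg.Agent.Lib.Helper1 Cfsg.Agent.Lib.Helper4 Cfsg.Agent.Lib.Helper8

/-- Let G be a finite group, p a prime and M a maximal ideal of the algebraic integers containing p. For every σ, the number of p-blocks of defect exactly σ is at most the number of conjugacy classes of p-regular elements whose centralizer has order divisible by p^σ but not by p^(σ+1). -/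
theorem result {G : Type*} [Group G] [Finite G] (p : ℕ) [Fact p.Prime] (M : Ideal Cfsg.AlgInt) (hM : Cfsg.IsPModular p M) (σ : ℕ) : Nat.card {B : Set (Cfsg.IrrCharacter G) // Cfsg.IsPBlock M B ∧ Cfsg.blockDefect p B = σ} ≤ Nat.card {C : ConjClasses G // ∃ g : G, ConjClasses.mk g = C ∧ ¬ p ∣ orderOf g ∧ (Nat.card (Subgroup.centralizer ({g} : Set G))).factorization p = σ} := by
  classical
  have : Fintype G := Fintype.ofFinite G
  have hMp := isPModular_isPrime hM
  apply card_blocks_le_card_classes hMp (fun B => Cfsg.blockDefect p B = σ)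
    (fun C => ∃ g : G, ConjClasses.mk g = C ∧ ¬ p ∣ orderOf g ∧
      (Nat.card (Subgroup.centralizer ({g} : Set G))).factorization p = σ)
  intro B B' hB hBσ hB' hB'σ c hc χ' hχ'
  by_contra hcon
  have h1 : ¬ MemLocalIdeal M (Cfsg.blockCoeff B (Quotient.out c)) := fun h =>
    hcon (memLocalIdeal_mul_right hMp h (memLocalRing_centralChar hMp.ne_top χ'.2 _))
  have h2 : ¬ MemLocalIdeal M (Cfsg.centralChar (χ' : G → ℂ) (Quotient.out c)) := fun h =>
    hcon (memLocalIdeal_mul_left hMp (blockCoeff_memLocalRing hMp hB _) h)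
  apply hc
  refine ⟨Quotient.out c, Quotient.out_eq c, ?_, ?_⟩
  · intro hdvd
    apply h1
    rw [blockCoeff_eq_zero_of_dvd_orderOf hM hB hdvd]
    exact memLocalIdeal_zero hMp.ne_top
  · have h3 := factorization_le_of_not_memLocalIdeal_blockCoeff hM hB h1
    have h4 := le_factorization_of_not_memLocalIdeal_centralChar hM hB' ⟨χ', hχ', h2⟩
    rw [hBσ] at h3
    rw [hB'σ] at h4
    exact le_antisymm h3 h4

end Cfsg.Agent.S4505
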