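import Cfsg.Statements.S4509
import Mathlib
import Cfsg.Agent.Lib.Helper4.SC9
-- import your own Cfsg.Agent.* helpers here

set_option autoImplicit false
open Cfsg

namespace Cfsg.Agent.S4509

/-- Let the finite group G contain an element x of prime order p with C_G(x) = ⟨x⟩; let t be the number of conjugacy classes of elements of order p and 1 + n·p the number of subgroups of order p. Then G has a normal subgroup of order 1 + n·p if and only if either t = p − 1, or t < p − 1 and G″ ≠ G′. Moreover, if t = p − 1 then G′ has order 1 + n·p and G/G′ is cyclic of order p; and if t < p − 1 and G″ ≠ G′ then G″ has order 1 + n·p and G′ has order p·(1 + n·p). -/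
theorem result {G : Type*} [Group G] [Finite G] (p : ℕ) (hp : p.Prime) (x : G) (hx : orderOf x = p) (hC : Subgroup.centralizer ({x} : Set G) = Subgroup.zpowers x) (t : ℕ) (ht : Nat.card {C : ConjClasses G // ∃ g ∈ C.carrier, orderOf g = p} = t) (n : ℕ) (hn : Nat.card {H : Subgroup G // Nat.card H = p} = 1 + n * p) : ((∃ S : Subgroup G, S.Normal ∧ Nat.card S = 1 + n * p) ↔ (t = p - 1 ∨ (t < p - 1 ∧ derivedSeries G 2 ≠ derivedSeries G 1))) ∧ (t = p - 1 → Nat.card (commutator G) = 1 + n * p ∧ IsCyclic (G ⧸ commutator G) ∧ (commutator G).index = p) ∧ (t < p - 1 → derivedSeries G 2 ≠ derivedSeries G 1 → Nat.card (derivedSeries G 2) = 1 + n * p ∧ Nat.card (commutator G) = p * (1 + n * p)) := by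
  haveI : Fact p.Prime := ⟨hp⟩
  have hte := Cfsg.Agent.Lib.Helper4.SC.card_classes_mul hx hC
  rw [ht] at hte
  have hp2 := hp.two_le
  have hidx := Cfsg.Agent.Lib.Helper4.SC.card_subgroups_eq_index hx hC
  rw [hn] at hidx
  have ht0 : 0 < t := by
    rcases Nat.eq_zero_or_pos t with h | h
    · rw [h, zero_mul] at hte
      omega
    · exact h
  -- e = 1 iff t = p - 1
  have he_of : t = p - 1 → (Subgroup.zpowers x).relIndex
      (Subgroup.normalizer ((Subgroup.zpowers x : Subgroup G) : Set G)) = 1 := by
    intro heq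
    rw [← heq] at hte
    have : t * (Subgroup.zpowers x).relIndex
      (Subgroup.normalizer ((Subgroup.zpowers x : Subgroup G) : Set G)) = t * 1 := by
      rw [hte, mul_one]
    exact Nat.eq_of_mul_eq_mul_left ht0 this
  have hne_of : t ≠ p - 1 → (Subgroup.zpowers x).relIndex
      (Subgroup.normalizer ((Subgroup.zpowers x : Subgroup G) : Set G)) ≠ 1 := by
    intro hne h1
    rw [h1, mul_one] at hte
    exact hne hte
  have htle : t ≤ p - 1 := by
    rw [← hte]
    apply Nat.le_mul_of_pos_right
    rcases Nat.eq_zero_or_pos ((Subgroup.zpowers x).relIndex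
      (Subgroup.normalizer ((Subgroup.zpowers x : Subgroup G) : Set G))) with h | h
    · rw [h, mul_zero] at hte
      omega
    · exact h
  have part2 : t = p - 1 → Nat.card (commutator G) = 1 + n * p ∧ IsCyclic (G ⧸ commutator G) ∧
      (commutator G).index = p := by
    intro heq
    have he := he_of heq
    obtain ⟨h1, h2⟩ := Cfsg.Agent.Lib.Helper4.SC.card_commutator_of_relIndex_eq_one hx hC he
    refine ⟨by rw [h1, ← hidx], h2, ?_⟩
    exact (Cfsg.Agent.Lib.Helper4.SC.commutator_of_relIndex_eq_one hx hC he).1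
  have part3 : t < p - 1 → derivedSeries G 2 ≠ derivedSeries G 1 →
      Nat.card (derivedSeries G 2) = 1 + n * p ∧ Nat.card (commutator G) = p * (1 + n * p) := by
    intro hlt hne
    have he := hne_of hlt.ne
    obtain ⟨h1, h2⟩ := Cfsg.Agent.Lib.Helper4.SC.structure_of_derived_ne hx hC he hne
    exact ⟨by rw [h1, ← hidx], by rw [h2, ← hidx]⟩
  refine ⟨⟨?_, ?_⟩, part2, part3⟩
  · rintro ⟨S, hSn, hS⟩
    by_cases heq : t = p - 1
    · exact Or.inl heq
    · right
      refine ⟨lt_of_le_of_ne htle heq, ?_⟩
      haveI := hSn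
      exact Cfsg.Agent.Lib.Helper4.SC.derived_ne_of_normal hx hC (hne_of heq) S
        (by rw [hS, hidx])
  · rintro (heq | ⟨hlt, hne⟩)
    · exact ⟨commutator G, inferInstance, (part2 heq).1⟩
    · exact ⟨derivedSeries G 2, derivedSeries_normal G 2, (part3 hlt hne).1⟩

end Cfsg.Agent.S4509
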