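import Mathlib
import Cfsg.Statements.S4520
import Cfsg.Agent.Lib.Helper8.FO3
import Cfsg.Agent.Lib.Helper8.GS3
import Cfsg.Agent.Lib.Helper8.PBN1
import Cfsg.Agent.Lib.Helper8.KN2

set_option autoImplicit false
open Cfsg

namespace Cfsg.Agent.S4520

open scoped ComplexConjugate
open Cfsg.Agent.Lib.Helper1 Cfsg.Agent.Lib.Helper4 Cfsg.Agent.Lib.Helper8

/-- Let N be a normal subgroup of odd index in the finite group G, M a maximal ideal of the algebraic integers containing 2, and k coprime to the order of G with k ^ (2 ^ e) ≡ 1 modulo the order of G for some e and g ^ k = g⁻¹ for every element g of odd order. Let θ be an irreducible character of N and χ an irreducible character of G over θ, both unchanged by composing with g ↦ g ^ k. Then χ lies in the principal 2-block of G if and only if θ lies in the principal 2-block of N. -/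
theorem result {G : Type*} [Group G] [Fintype G] (M : Ideal Cfsg.AlgInt) (hM : Cfsg.IsPModular 2 M) (N : Subgroup G) [N.Normal] [Fintype N] (hidx : Odd N.index) (k e : ℕ) (hk : Nat.Coprime k (Nat.card G)) (hke : k ^ (2 ^ e) ≡ 1 [MOD Nat.card G]) (hk₂ : ∀ g : G, Odd (orderOf g) → g ^ k = g⁻¹) (θ : Cfsg.IrrCharacter N) (hθ : ∀ n : N, (θ : N → ℂ) (n ^ k) = (θ : N → ℂ) n) (χ : Cfsg.IrrCharacter G) (hχ : ∀ g : G, (χ : G → ℂ) (g ^ k) = (χ : G → ℂ) g) (hover : Cfsg.classInner (fun n : N => (χ : G → ℂ) n) (θ : N → ℂ) ≠ 0) : χ ∈ Cfsg.principalBlock M G ↔ θ ∈ Cfsg.principalBlock M N := by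
  classical
  haveI : Fact (Nat.Prime 2) := ⟨Nat.prime_two⟩
  have hMp := isPModular_isPrime hM
  constructor
  · intro h
    exact mem_principalBlock_of_constituent N hMp h hover
  · intro h
    have hB : Cfsg.IsPBlock M (Cfsg.blockOf M (χ : G → ℂ)) := ⟨χ, rfl⟩
    have hχB : χ ∈ Cfsg.blockOf M (χ : G → ℂ) := sameBlock_refl hMp.ne_top _
    have hcov : Covers N (Cfsg.blockOf M (χ : G → ℂ)) (Cfsg.principalBlock M N) :=
      ⟨χ, hχB, θ, h, hover⟩
    have hb : Cfsg.IsPBlock M (Cfsg.principalBlock M N) := isPBlock_principalBlock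
    obtain ⟨Qn, hQn⟩ := exists_isDefectGroup (p := 2) hMp hb
    obtain ⟨P, hP, hPN, -⟩ := knorr N hM hb hB hcov hQn
    have hfullN : Cfsg.blockDefect 2 (Cfsg.principalBlock M N) = (Nat.card N).factorization 2 := by
      apply blockDefect_of_pPrime_degree (trivIrr_mem_principalBlock hMp.ne_top)
      have h1 : Cfsg.charDegree (trivIrr N : N → ℂ) = 1 := by
        apply charDegree_of_apply_one
        rw [trivIrr_apply]
        simp
      rw [h1]
      norm_num
    have hQcard : Nat.card Qn = 2 ^ (Nat.card N).factorization 2 := by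
      rw [card_of_isDefectGroup hM hb hQn, hfullN]
    have hfact : (Nat.card N).factorization 2 = (Nat.card G).factorization 2 := by
      rw [← N.card_mul_index, Nat.factorization_mul Nat.card_pos.ne' (Subgroup.index_ne_zero_of_finite)]
      have hnd : ¬ 2 ∣ N.index := by
        intro h2
        exact (Nat.not_even_iff_odd.2 hidx) (even_iff_two_dvd.2 h2)
      rw [Finsupp.add_apply, Nat.factorization_eq_zero_of_not_dvd hnd, add_zero]
    have hPcard := card_of_isDefectGroup hM hB hP
    have hle : (Nat.card G).factorization 2 ≤ Cfsg.blockDefect 2 (Cfsg.blockOf M (χ : G → ℂ)) := by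
      have h1 : Qn.map N.subtype ≤ P := by rw [← hPN]; exact inf_le_left
      have h2 : Nat.card (Qn.map N.subtype) = Nat.card Qn :=
        (Nat.card_congr (Subgroup.equivMapOfInjective Qn N.subtype N.subtype_injective).toEquiv).symm
      have h3 := Subgroup.card_dvd_of_le h1
      rw [h2, hQcard, hPcard, hfact] at h3
      exact (Nat.pow_dvd_pow_iff_le_right (by norm_num)).1 h3
    have hge : Cfsg.blockDefect 2 (Cfsg.blockOf M (χ : G → ℂ)) ≤ (Nat.card G).factorization 2 :=
      Nat.sub_le _ _
    have hdef := le_antisymm hge hle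
    have hstab : ∀ χ' ∈ Cfsg.blockOf M (χ : G → ℂ), powIrr k hk χ' ∈ Cfsg.blockOf M (χ : G → ℂ) := by
      intro χ' hχ'
      have h1 : Cfsg.IsPBlock M (powIrr k hk '' Cfsg.blockOf M (χ : G → ℂ)) :=
        isPBlock_image_powIrr k hk hB
      have h2 : χ ∈ powIrr k hk '' Cfsg.blockOf M (χ : G → ℂ) :=
        ⟨χ, hχB, Subtype.ext (funext hχ)⟩
      have h3 : powIrr k hk '' Cfsg.blockOf M (χ : G → ℂ) = Cfsg.blockOf M (χ : G → ℂ) :=
        eq_blockOf_of_mem hMp h1 h2
      rw [← h3]
      exact ⟨χ', hχ', rfl⟩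
    have := stable_full_defect_principal hM k hk hk₂ hB hdef hstab
    rw [← this]
    exact hχB

end Cfsg.Agent.S4520
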