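import Cfsg.Statements.S4539
import Mathlib
import Cfsg.Agent.Lib.Helper8.MJ19

set_option autoImplicit false
open Cfsg

namespace Cfsg.Agent.S4539

/-- Let B be a p-block of the finite group G (relative to a maximal ideal M of the algebraic integers containing p) of defect d with defect group D. Let z be an element of D commuting with every element of D, and let b be a block of the centralizer C of z with defect group D that induces B (a major subsection (z, b)). If b has p-regular rank at most two, then B contains at most p ^ d irreducible characters. -/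
theorem result {G : Type*} [Group G] [Finite G] (p : ℕ) [Fact p.Prime] (M : Ideal Cfsg.AlgInt) (hM : Cfsg.IsPModular p M) (B : Set (Cfsg.IrrCharacter G)) (hB : Cfsg.IsPBlock M B) (D : Subgroup G) (hD : Cfsg.IsDefectGroup p M B D) (z : G) (hzD : z ∈ D) (hzc : ∀ d ∈ D, d * z = z * d) (b : Set (Cfsg.IrrCharacter ↥(Subgroup.centralizer ({z} : Set G)))) (hb : Cfsg.IsInducedBlock M (Subgroup.centralizer ({z} : Set G)) b B) (hbD : Cfsg.IsDefectGroup p M b (D.subgroupOf (Subgroup.centralizer ({z} : Set G)))) (hl : Cfsg.blockRank p b ≤ 2) : Nat.card B ≤ p ^ Cfsg.blockDefect p B := by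
  classical
  have : Fintype G := Fintype.ofFinite G
  have hp : p.Prime := Fact.out
  have hBb : Cfsg.IsPBlock M B := hb.2.1
  have hC : ∀ t, t ∈ Subgroup.centralizer ({z} : Set G) ↔ t * z = z * t := by
    intro t
    rw [Subgroup.mem_centralizer_singleton_iff]
  have hDC : D ≤ Subgroup.centralizer ({z} : Set G) := by
    intro d hd
    rw [hC]
    exact hzc d hd
  have hcardD := Cfsg.Agent.Lib.Helper8.card_of_isDefectGroup hM hB hD
  have hcardD' := Cfsg.Agent.Lib.Helper8.card_of_isDefectGroup hM hb.1 hbD
  have hcardeq : Nat.card (D.subgroupOf (Subgroup.centralizer ({z} : Set G))) = Nat.card D :=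
    Nat.card_congr (Subgroup.subgroupOfEquivOfLe hDC).toEquiv
  have hdef : Cfsg.blockDefect p b = Cfsg.blockDefect p B := by
    rw [hcardeq, hcardD] at hcardD'
    exact (Nat.pow_right_injective hp.two_le hcardD').symm
  obtain ⟨j, -, hj⟩ : ∃ j, j ≤ Cfsg.blockDefect p B ∧ orderOf z = p ^ j := by
    have h1 : orderOf z ∣ Nat.card D := by
      have := orderOf_dvd_natCard (⟨z, hzD⟩ : D)
      rwa [Subgroup.orderOf_mk] at this
    rw [hcardD] at h1
    exact (Nat.dvd_prime_pow hp).1 h1
  have hzpow : z ^ (p ^ j * p) = 1 := by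
    rw [pow_mul, ← hj, pow_orderOf_eq_one, one_pow]
  have ctx : Cfsg.Agent.Lib.Helper8.MJ.MajorCtx p M (Subgroup.centralizer ({z} : Set G)) z b B (p ^ j) :=
    { hM := hM
      hC := hC
      hq := pow_pos hp.pos j
      hz := hzpow
      hP := ⟨j + 1, (pow_succ p j).symm⟩
      hu := ⟨j, hj⟩
      hind := hb
      hdef := hdef }
  have := ctx.card_le hl
  rwa [hdef] at this

end Cfsg.Agent.S4539
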