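import Mathlib
import Cfsg.Statements.S4550
import Cfsg.Agent.Lib.Helper8.GP3
import Cfsg.Agent.Lib.Helper6.PRes

set_option autoImplicit false
open Cfsg

namespace Cfsg.Agent.S4550

open scoped ComplexConjugate
open Cfsg.Agent.Lib.Helper1 Cfsg.Agent.Lib.Helper4 Cfsg.Agent.Lib.Helper8

/-- Let G be a finite group of even order and M a maximal ideal of the algebraic integers containing 2. Let k be a natural number with g ^ k = g ^ 3 for every 2-element g and g ^ k = g for every element g of odd order (such k exist); an irreducible character χ is unchanged by g ↦ g ^ k exactly when it is fixed by the field automorphism that cubes the 2-power roots of unity and fixes the roots of unity of odd order. Then the number of members χ of the principal 2-block of odd degree with χ (g ^ k) = χ g for all g is even. -/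
theorem result {G : Type*} [Group G] [Finite G] (M : Ideal Cfsg.AlgInt) (hM : Cfsg.IsPModular 2 M) (hev : Even (Nat.card G)) (k : ℕ) (hk₁ : ∀ g : G, (∃ j : ℕ, orderOf g = 2 ^ j) → g ^ k = g ^ 3) (hk₂ : ∀ g : G, Odd (orderOf g) → g ^ k = g) : Even (Nat.card {χ : Cfsg.IrrCharacter G // χ ∈ Cfsg.principalBlock M G ∧ Odd (Cfsg.charDegree (χ : G → ℂ)) ∧ ∀ g : G, (χ : G → ℂ) (g ^ k) = (χ : G → ℂ) g}) := by
  classical
  have : Fact (Nat.Prime 2) := ⟨Nat.prime_two⟩
  set N := Nat.card G with hN
  -- 2-elements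
  have hA : ∀ (j : ℕ) (u : G), (∃ b : ℕ, orderOf u = 2 ^ b) → u ^ (k ^ j) = u ^ (3 ^ j) := by
    intro j
    induction j with
    | zero => intro u _; rw [pow_zero, pow_zero]
    | succ j ih =>
      intro u hu
      rw [pow_succ, pow_mul, ih u hu, pow_succ 3 j, pow_mul]
      apply hk₁
      obtain ⟨b, hb⟩ := hu
      have hd : orderOf (u ^ 3 ^ j) ∣ 2 ^ b := by
        rw [← hb]
        exact orderOf_pow_dvd _
      obtain ⟨b', -, hb'⟩ := (Nat.dvd_prime_pow Nat.prime_two).1 hd
      exact ⟨b', hb'⟩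
  have hB : ∀ (j : ℕ) (v : G), Odd (orderOf v) → v ^ (k ^ j) = v := by
    intro j
    induction j with
    | zero => intro v _; rw [pow_zero, pow_one]
    | succ j ih =>
      intro v hv
      rw [pow_succ, pow_mul, ih v hv, hk₂ v hv]
  have hC : ∀ u : G, (∃ b : ℕ, orderOf u = 2 ^ b) → u ^ (3 ^ (2 ^ N)) = u := by
    intro u ⟨b, hb⟩
    conv_rhs => rw [← pow_one u]
    rw [pow_eq_pow_iff_modEq, hb]
    rcases Nat.eq_zero_or_pos b with h0 | hpos
    · rw [h0, pow_zero]; exact Nat.modEq_one
    · have h1 : (3 : ℕ) ^ Nat.totient (2 ^ b) ≡ 1 [MOD 2 ^ b] :=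
        Nat.ModEq.pow_totient (Nat.Coprime.pow_right b (by norm_num))
      rw [Nat.totient_prime_pow Nat.prime_two hpos] at h1
      have hle : b - 1 ≤ N := by
        have h2 : b < 2 ^ b := Nat.lt_two_pow_self
        have h3 : orderOf u ≤ N := Nat.le_of_dvd Nat.card_pos (orderOf_dvd_natCard u)
        omega
      have h4 : (2 : ℕ) ^ N = 2 ^ (b - 1) * (2 - 1) * 2 ^ (N - (b - 1)) := by
        rw [Nat.mul_one, ← pow_add]
        congr 1
        omega
      rw [h4, pow_mul]
      have := h1.pow (2 ^ (N - (b - 1)))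
      rwa [one_pow] at this
  have hpow : ∀ g : G, g ^ (k ^ (2 ^ N)) = g := by
    intro g
    obtain ⟨u, v, hu, hv, huv, ⟨b, hub⟩, hvc⟩ :=
      Cfsg.Agent.Lib.Helper6.exists_pPart_decomp_zpowers 2 g
    have hcomm : Commute u v := by
      obtain ⟨a, rfl⟩ := hu
      obtain ⟨c, rfl⟩ := hv
      exact (Commute.refl g).zpow_zpow a c
    have hu2 : ∃ b : ℕ, orderOf u = 2 ^ b := by
      have hd : orderOf u ∣ 2 ^ b := orderOf_dvd_of_pow_eq_one hub
      obtain ⟨b', -, hb'⟩ := (Nat.dvd_prime_pow Nat.prime_two).1 hd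
      exact ⟨b', hb'⟩
    have hvo : Odd (orderOf v) := Nat.Coprime.odd_of_right hvc
    rw [huv, hcomm.mul_pow, hA _ u hu2, hC u hu2, hB _ v hvo]
  have hk : k.Coprime N := by
    apply Nat.coprime_of_dvd
    intro q hq hqk hqN
    have : Fact q.Prime := ⟨hq⟩
    obtain ⟨g, hg⟩ := exists_prime_orderOf_dvd_card' q hqN
    have h1 := hpow g
    have h2 : g ^ (k ^ (2 ^ N)) = 1 := by
      rw [← orderOf_dvd_iff_pow_eq_one, hg]
      exact dvd_pow hqk (pow_pos (by norm_num) N).ne'
    rw [h2] at h1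
    rw [← h1, orderOf_one] at hg
    exact hq.one_lt.ne hg
  exact even_card_fixed_odd_principal hM hev k N hk hpow

end Cfsg.Agent.S4550
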