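import Mathlib
import Cfsg.Statements.S4558
import Cfsg.Agent.Lib.Helper1.RepEigen

set_option autoImplicit false

open Cfsg

namespace Cfsg.Agent.S4558

open Polynomial

/-- A multiset of `p^j`-th roots of unity with zero sum has cardinality divisible by `p`. -/
theorem dvd_card_of_sum_eq_zero (p : ℕ) [Fact p.Prime] (j : ℕ) (m : Multiset ℂ)
    (hm : ∀ μ ∈ m, μ ^ (p ^ j) = 1) (hsum : m.sum = 0) : p ∣ Multiset.card m := by
  rcases Nat.eq_zero_or_pos j with hj | hj
  · subst hj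
    have h1 : ∀ μ ∈ m, μ = 1 := by
      intro μ hμ
      have := hm μ hμ
      simpa using this
    have h2 : m = Multiset.replicate (Multiset.card m) 1 := Multiset.eq_replicate.mpr ⟨rfl, h1⟩
    rw [h2, Multiset.sum_replicate] at hsum
    have h3 : ((Multiset.card m : ℕ) : ℂ) = 0 := by simpa using hsum
    have h4 : Multiset.card m = 0 := by exact_mod_cast h3
    rw [h4]; exact dvd_zero p
  · obtain ⟨k, rfl⟩ : ∃ k, j = k + 1 := ⟨j - 1, by omega⟩
    have hp : p.Prime := Fact.out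
    have hN0 : p ^ (k + 1) ≠ 0 := pow_ne_zero _ hp.ne_zero
    have hNe : NeZero (p ^ (k + 1)) := ⟨hN0⟩
    obtain ⟨ζ, hζ⟩ : ∃ ζ : ℂ, IsPrimitiveRoot ζ (p ^ (k + 1)) := ⟨_, Complex.isPrimitiveRoot_exp _ hN0⟩
    -- exponent function
    have hex : ∀ μ : ℂ, ∃ i : ℕ, μ ∈ m → ζ ^ i = μ := by
      intro μ
      by_cases hμ : μ ∈ m
      · obtain ⟨i, -, hi⟩ := hζ.eq_pow_of_pow_eq_one (hm μ hμ)
        exact ⟨i, fun _ => hi⟩
      · exact ⟨0, fun h => absurd h hμ⟩
    choose e he using hex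
    obtain ⟨B, hB⟩ : ∃ B : ℤ[X], B = (m.map (fun μ => (X : ℤ[X]) ^ e μ)).sum := ⟨_, rfl⟩
    have hBζ : aeval ζ B = 0 := by
      rw [hB, map_multiset_sum, Multiset.map_map, ← hsum]
      congr 1
      conv_rhs => rw [← Multiset.map_id m]
      apply Multiset.map_congr rfl
      intro μ hμ
      simp only [Function.comp_apply, map_pow, aeval_X, id]
      exact he μ hμ
    have hB1 : eval 1 B = (Multiset.card m : ℤ) := by
      rw [hB, ← coe_evalRingHom, map_multiset_sum, Multiset.map_map]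
      have : (m.map ((evalRingHom (1 : ℤ)) ∘ fun μ => (X : ℤ[X]) ^ e μ)) = m.map (fun _ => (1 : ℤ)) := by
        apply Multiset.map_congr rfl
        intro μ _
        simp
      rw [this, Multiset.map_const', Multiset.sum_replicate]
      simp
    have hdvd : cyclotomic (p ^ (k + 1)) ℤ ∣ B := by
      rw [cyclotomic_eq_minpoly hζ (Nat.pos_of_ne_zero hN0)]
      exact minpoly.isIntegrallyClosed_dvd (hζ.isIntegral (Nat.pos_of_ne_zero hN0)) hBζ
    obtain ⟨C, hC⟩ := hdvd
    have h5 : (Multiset.card m : ℤ) = (p : ℤ) * eval 1 C := by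
      rw [← hB1, hC, eval_mul, eval_one_cyclotomic_prime_pow]
    have h6 : (p : ℤ) ∣ (Multiset.card m : ℤ) := ⟨_, h5⟩
    exact_mod_cast h6

theorem result {G : Type*} [Group G] [Finite G] (p : ℕ) [Fact p.Prime] (χ : G → ℂ) (hχ : Cfsg.IsCharacter G χ) (g : G) (hg : ∃ j : ℕ, orderOf g = p ^ j) (h0 : χ g = 0) : p ∣ Cfsg.charDegree χ := by
  obtain ⟨n, ρ, rfl⟩ := hχ
  obtain ⟨j, hj⟩ := hg
  have hdeg : Cfsg.charDegree ρ.character = n := by
    unfold Cfsg.charDegree
    rw [Representation.char_one]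
    simp
  rw [hdeg]
  have hcard := Cfsg.Agent.Lib.Helper1.card_charpoly_roots ρ g
  have hn : Module.finrank ℂ (Fin n → ℂ) = n := by simp
  rw [hn] at hcard
  rw [← hcard]
  apply dvd_card_of_sum_eq_zero p j
  · intro μ hμ
    rw [← hj]
    exact Cfsg.Agent.Lib.Helper1.charpoly_roots_pow ρ g μ hμ
  · rw [← Cfsg.Agent.Lib.Helper1.character_eq_sum_roots]
    exact h0

end Cfsg.Agent.S4558
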