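import Cfsg.Statements.S4563
import Mathlib
import Cfsg.Agent.Lib.Helper8.FV9
import Cfsg.Agent.S0900
import Cfsg.Agent.S0146
import Cfsg.Agent.S0006
import Cfsg.Agent.Lib.Helper1.CharFound7

set_option autoImplicit false
open Cfsg

namespace Cfsg.Agent.S4563

open Cfsg.Agent.Lib.Helper1 Cfsg.Agent.Lib.Helper4 Cfsg.Agent.Lib.Helper8 Cfsg.Agent.Lib.Helper8.FV ComplexConjugate

/-- Let χ be an irreducible character of the finite group H that is fully ramified over the normal subgroup Z: the restriction of χ to Z is e times an irreducible character of Z with e ^ 2 equal to the index of Z. If K is a proper normal subgroup of H containing Z and χ is induced from a character of K, then H/K is solvable; in particular, if K is solvable then so is H. -/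
theorem result {H : Type*} [Group H] [Fintype H] (Z : Subgroup H) [Z.Normal] (χ : Cfsg.IrrCharacter H) (hfr : ∃ (θ : Cfsg.IrrCharacter ↥Z) (e : ℕ), e ^ 2 = Z.index ∧ ∀ z : ↥Z, (χ : H → ℂ) z = (e : ℂ) * (θ : ↥Z → ℂ) z) (K : Subgroup H) [K.Normal] [Fintype K] (hZK : Z ≤ K) (hK : K ≠ ⊤) (φ : ↥K → ℂ) (hφ : Cfsg.IsCharacter ↥K φ) (hind : Cfsg.indFun K φ = (χ : H → ℂ)) : Group.IsSolvable (H ⧸ K) ∧ (Group.IsSolvable ↥K → Group.IsSolvable H) := by
  classical
  haveI : Fintype Z := Fintype.ofFinite Z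
  obtain ⟨θ, e, he2, hχZ⟩ := hfr
  have hZn : Z.Normal := inferInstance
  have he0 : e ≠ 0 := by
    rintro rfl
    exact Subgroup.index_ne_zero_of_finite (H := Z) (by simpa using he2.symm)
  have hres : (fun n : Z => (χ : H → ℂ) n) = (e : ℂ) • (θ : Z → ℂ) := funext hχZ
  have hcon : classInner (fun n : Z => (χ : H → ℂ) n) (θ : Z → ℂ) ≠ 0 := by
    rw [hres, classInner_smul_left, classInner_irr_self θ.2]
    simpa using he0
  have h900 := Cfsg.Agent.S0900.result Z (χ : H → ℂ) χ.2 (θ : Z → ℂ) θ.2 hcon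
  obtain ⟨hvan, hθinv⟩ := h900.1.1 ⟨e, hres, he2⟩
  have h2 := h900.2.1 ⟨e, hres, he2⟩
  have huniq : ∀ χ' : H → ℂ, IsIrrCharacter H χ' →
      classInner (fun z : Z => χ' z) (θ : Z → ℂ) ≠ 0 → χ' = (χ : H → ℂ) := by
    intro χ' hχ' hne
    apply (h2 1 1).2 χ' hχ'
    rw [Cfsg.Agent.S0146.result Z (θ : Z → ℂ) χ' (isClassFunction_irr hχ'),
      ← classInner_conj_symm]
    exact (map_ne_zero _).2 hne
  have hχ1 : (χ : H → ℂ) 1 = e * (θ : Z → ℂ) 1 := hχZ 1
  have hsol : Group.IsSolvable (H ⧸ K) := by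
    apply Cfsg.Agent.S0006.result
    intro p hp
    haveI : Fact p.Prime := ⟨hp⟩
    obtain ⟨S₀⟩ : Nonempty (Sylow p H) := inferInstance
    obtain ⟨S, hS⟩ : ∃ S : Subgroup H, S = (S₀ : Subgroup H) ⊔ Z := ⟨_, rfl⟩
    obtain ⟨L, hL⟩ : ∃ L : Subgroup H, L = ((S₀ : Subgroup H) ⊓ K) ⊔ Z := ⟨_, rfl⟩
    have hZS : Z ≤ S := by rw [hS]; exact le_sup_right
    have hZL : Z ≤ L := by rw [hL]; exact le_sup_right
    have hLS : L ≤ S := by
      rw [hL, hS]; exact sup_le_sup_right inf_le_left Z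
    haveI : Fintype S := Fintype.ofFinite S
    haveI : Fintype L := Fintype.ofFinite L
    have hkey := hkey_of_induced Z K hZK χ.2 θ.2 hθinv huniq e he2 hres p S₀ S L hS hL
      hZS hZL hLS φ hφ hind
    obtain ⟨M, hKM, hprod, hint⟩ := complement_of_mult_one Z K hZK χ.2 θ.2 hθinv huniq e he2
      hχ1 p S₀ S L hS hL hZS hZL hLS hkey
    have hcomp := isComplement'_map K (S₀ : Subgroup H) M hKM hprod hint
    refine ⟨M.map (QuotientGroup.mk' K), ?_⟩
    rw [hcomp.symm.index_eq_card]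
    have h3 : ((S₀.mapSurjective (QuotientGroup.mk'_surjective K) : Sylow p (H ⧸ K)) :
        Subgroup (H ⧸ K)) = (S₀ : Subgroup H).map (QuotientGroup.mk' K) := rfl
    rw [← h3]
    exact Sylow.card_eq_multiplicity _
  refine ⟨hsol, fun hKsol => ?_⟩
  haveI := hKsol
  haveI := hsol
  refine Group.isSolvable_of_ker_le_range K.subtype (QuotientGroup.mk' K) ?_
  rw [QuotientGroup.ker_mk', Subgroup.range_subtype]

end Cfsg.Agent.S4563
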