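import Cfsg.Statements.S4564
import Mathlib
import Cfsg.Agent.Lib.Helper8.FV7
import Cfsg.Agent.S0900
import Cfsg.Agent.S0146
import Cfsg.Agent.Lib.Helper1.CharFound7

set_option autoImplicit false
open Cfsg

namespace Cfsg.Agent.S4564

open Cfsg.Agent.Lib.Helper1 Cfsg.Agent.Lib.Helper4 Cfsg.Agent.Lib.Helper8 Cfsg.Agent.Lib.Helper8.FV ComplexConjugate

/-- Let χ be an irreducible character of the finite group H that is fully ramified over the normal subgroup Z: the restriction of χ to Z is e times an irreducible character of Z with e ^ 2 equal to the index of Z. Let K be a normal subgroup of H containing Z and P a cyclic Sylow p-subgroup of H/K. Then P has a complement in H/K: a subgroup meeting P trivially whose product with P is the whole group. -/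
theorem result {H : Type*} [Group H] [Finite H] (Z : Subgroup H) [Z.Normal] (χ : Cfsg.IrrCharacter H) (hfr : ∃ (θ : Cfsg.IrrCharacter ↥Z) (e : ℕ), e ^ 2 = Z.index ∧ ∀ z : ↥Z, (χ : H → ℂ) z = (e : ℂ) * (θ : ↥Z → ℂ) z) (K : Subgroup H) [K.Normal] (hZK : Z ≤ K) (p : ℕ) [Fact p.Prime] (P : Sylow p (H ⧸ K)) (hcyc : IsCyclic P) : ∃ M : Subgroup (H ⧸ K), M.IsComplement' (P : Subgroup (H ⧸ K)) := by
  classical
  haveI : Fintype H := Fintype.ofFinite H
  haveI : Fintype Z := Fintype.ofFinite Z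
  obtain ⟨θ, e, he2, hχZ⟩ := hfr
  have hZn : Z.Normal := inferInstance
  have he0 : e ≠ 0 := by
    rintro rfl
    exact Subgroup.index_ne_zero_of_finite (H := Z) (by simpa using he2.symm)
  have hres : (fun n : Z => (χ : H → ℂ) n) = (e : ℂ) • (θ : Z → ℂ) := funext hχZ
  have hcon : classInner (fun n : Z => (χ : H → ℂ) n) (θ : Z → ℂ) ≠ 0 := by
    rw [hres, classInner_smul_left, classInner_irr_self θ.2]
    simpa using he0
  have h900 := Cfsg.Agent.S0900.result Z (χ : H → ℂ) χ.2 (θ : Z → ℂ) θ.2 hcon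
  obtain ⟨hvan, hθinv⟩ := h900.1.1 ⟨e, hres, he2⟩
  have h2 := h900.2.1 ⟨e, hres, he2⟩
  have huniq : ∀ χ' : H → ℂ, IsIrrCharacter H χ' →
      classInner (fun z : Z => χ' z) (θ : Z → ℂ) ≠ 0 → χ' = (χ : H → ℂ) := by
    intro χ' hχ' hne
    apply (h2 1 1).2 χ' hχ'
    rw [Cfsg.Agent.S0146.result Z (θ : Z → ℂ) χ' (isClassFunction_irr hχ'),
      ← classInner_conj_symm]
    exact (map_ne_zero _).2 hne
  have hχ1 : (χ : H → ℂ) 1 = e * (θ : Z → ℂ) 1 := hχZ 1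
  obtain ⟨S₀, hS₀⟩ := Sylow.mapSurjective_surjective (QuotientGroup.mk'_surjective K) p P
  have hS₀P : (S₀ : Subgroup H).map (QuotientGroup.mk' K) = (P : Subgroup (H ⧸ K)) := by
    rw [← hS₀]; rfl
  obtain ⟨S, hS⟩ : ∃ S : Subgroup H, S = (S₀ : Subgroup H) ⊔ Z := ⟨_, rfl⟩
  obtain ⟨L, hL⟩ : ∃ L : Subgroup H, L = ((S₀ : Subgroup H) ⊓ K) ⊔ Z := ⟨_, rfl⟩
  have hZS : Z ≤ S := by rw [hS]; exact le_sup_right
  have hZL : Z ≤ L := by rw [hL]; exact le_sup_right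
  have hLS : L ≤ S := by
    rw [hL, hS]; exact sup_le_sup_right inf_le_left Z
  have hS₀S : (S₀ : Subgroup H) ≤ S := by rw [hS]; exact le_sup_left
  haveI : Fintype S := Fintype.ofFinite S
  haveI : Fintype L := Fintype.ofFinite L
  haveI : Fintype (Z.subgroupOf S) := Fintype.ofFinite _
  haveI : Fintype (L.subgroupOf S) := Fintype.ofFinite _
  haveI hLn : (L.subgroupOf S).Normal := normal_L_subgroupOf Z K hZK S₀ S L hS hL
  have hZL' : Z.subgroupOf S ≤ L.subgroupOf S := by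
    intro x hx
    rw [Subgroup.mem_subgroupOf] at hx ⊢
    exact hZL hx
  -- the quotient `S / L` is cyclic
  obtain ⟨c₀, hc₀⟩ := hcyc.exists_zpow_surjective
  have hc₀P : (c₀ : H ⧸ K) ∈ (S₀ : Subgroup H).map (QuotientGroup.mk' K) := by
    rw [hS₀P]; exact c₀.2
  obtain ⟨s₁, hs₁, hs₁c⟩ := hc₀P
  have hSLcyc : IsCyclic (↥S ⧸ L.subgroupOf S) := by
    refine ⟨⟨QuotientGroup.mk ⟨s₁, hS₀S hs₁⟩, ?_⟩⟩
    intro q
    obtain ⟨x, rfl⟩ := QuotientGroup.mk_surjective q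
    have hx' : (x : H) ∈ (((S₀ : Subgroup H) ⊔ Z : Subgroup H) : Set H) := by
      have hxS : ∀ y : H, y ∈ S → y ∈ (((S₀ : Subgroup H) ⊔ Z : Subgroup H) : Set H) := by
        intro y hy
        rw [hS] at hy
        exact hy
      exact hxS x x.2
    rw [Subgroup.mul_normal] at hx'
    obtain ⟨s, hs, z, hz, hsz⟩ := hx'
    have hmk : ((x : H) : H ⧸ K) = (s : H ⧸ K) := by
      rw [← hsz, QuotientGroup.mk_mul, (QuotientGroup.eq_one_iff z).2 (hZK hz), mul_one]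
    have hsP : (s : H ⧸ K) ∈ (P : Subgroup (H ⧸ K)) := by
      rw [← hS₀P]; exact ⟨s, hs, rfl⟩
    obtain ⟨i, hi⟩ := hc₀ ⟨(s : H ⧸ K), hsP⟩
    have hi' : (c₀ : H ⧸ K) ^ i = (s : H ⧸ K) := by
      have := congrArg Subtype.val hi
      simpa only [Subgroup.coe_zpow] using this
    refine ⟨i, ?_⟩
    simp only
    rw [← QuotientGroup.mk_zpow, QuotientGroup.eq, Subgroup.mem_subgroupOf]
    have hK' : (s₁ ^ i)⁻¹ * (x : H) ∈ K := by
      rw [← QuotientGroup.eq, QuotientGroup.mk_zpow]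
      show (QuotientGroup.mk' K s₁) ^ i = _
      rw [hs₁c, hi', hmk]
    have hS' : (s₁ ^ i)⁻¹ * (x : H) ∈ S :=
      S.mul_mem (S.inv_mem (S.zpow_mem (hS₀S hs₁) i)) x.2
    have := mem_L_of_mem Z K hZK S₀ S L hS hL hS' hK'
    simpa using this
  have hkey : ∀ ψ : S → ℂ, IsIrrCharacter S ψ →
      classInner (fun z : Z => ψ ⟨z, hZS z.2⟩) (θ : Z → ℂ) ≠ 0 →
      ∃ ξ : L → ℂ, IsIrrCharacter L ξ ∧
        classInner (fun z : Z => ξ ⟨z, hZL z.2⟩) (θ : Z → ℂ) ≠ 0 ∧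
        classInner (fun l : L => ψ ⟨l, hLS l.2⟩) ξ = 1 := by
    intro ψ hψ hψθ
    have hψθ' : classInner (fun z : Z.subgroupOf S => ψ z)
        (fun n : Z.subgroupOf S => (θ : Z → ℂ) ⟨(n : S), n.2⟩) ≠ 0 := by
      rw [← classInner_mulEquiv (Subgroup.subgroupOfEquivOfLe hZS)
        (fun z : Z => ψ ⟨z, hZS z.2⟩) (θ : Z → ℂ)] at hψθ
      exact hψθ
    obtain ⟨ξ', hξ'1, hξ'2⟩ := exists_over (Z.subgroupOf S) (L.subgroupOf S) hZL'
      (isCharacter_of_irr hψ) _ hψθ'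
    have hone := mult_one_of_cyclic (L.subgroupOf S) hSLcyc hψ ξ'.2 hξ'1
    exact hkey_transfer Z S L hZS hZL hLS hZL' (θ : Z → ℂ) ψ (ξ' : L.subgroupOf S → ℂ) ξ'.2
      hone hξ'2
  obtain ⟨M, hKM, hprod, hint⟩ := complement_of_mult_one Z K hZK χ.2 θ.2 hθinv huniq e he2 hχ1
    p S₀ S L hS hL hZS hZL hLS hkey
  refine ⟨M.map (QuotientGroup.mk' K), ?_⟩
  rw [← hS₀P]
  exact isComplement'_map K (S₀ : Subgroup H) M hKM hprod hint

end Cfsg.Agent.S4564
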