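import Cfsg.Statements.S4565
import Mathlib
import Cfsg.Agent.Lib.Helper8.FU2
import Cfsg.Agent.Lib.Helper8.FZ3
import Cfsg.Agent.S0900
import Cfsg.Agent.S0886
import Cfsg.Agent.Lib.Helper1.CharFound7

set_option autoImplicit false
open Cfsg

namespace Cfsg.Agent.S4565

open Cfsg.Agent.Lib.Helper1 Cfsg.Agent.Lib.Helper4 Cfsg.Agent.Lib.Helper8.FZ Cfsg.Agent.Lib.Helper8.FU ComplexConjugate

/-- Let χ be an irreducible character of the finite group H that is fully ramified over the normal subgroup Z: the restriction of χ to Z is e times an irreducible character of Z with e ^ 2 equal to the index of Z. If Z ≠ H, then H/Z has no cyclic subgroup that is its own centralizer. -/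
theorem result {H : Type*} [Group H] [Finite H] (Z : Subgroup H) [Z.Normal] (χ : Cfsg.IrrCharacter H) (hfr : ∃ (θ : Cfsg.IrrCharacter ↥Z) (e : ℕ), e ^ 2 = Z.index ∧ ∀ z : ↥Z, (χ : H → ℂ) z = (e : ℂ) * (θ : ↥Z → ℂ) z) (hZ : Z ≠ ⊤) (C : Subgroup (H ⧸ Z)) (hC : IsCyclic C) : Subgroup.centralizer (C : Set (H ⧸ Z)) ≠ C := by
  classical
  intro hcent
  haveI : Fintype H := Fintype.ofFinite H
  haveI : Fintype Z := Fintype.ofFinite Z
  obtain ⟨θ, e, he2, hχZ⟩ := hfr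
  have hZn : Z.Normal := inferInstance
  have he0 : e ≠ 0 := by
    rintro rfl
    exact Subgroup.index_ne_zero_of_finite (H := Z) (by simpa using he2.symm)
  have hres : (fun n : Z => (χ : H → ℂ) n) = (e : ℂ) • (θ : Z → ℂ) := funext hχZ
  have hcon : classInner (fun n : Z => (χ : H → ℂ) n) (θ : Z → ℂ) ≠ 0 := by
    rw [hres, classInner_smul_left, classInner_irr_self θ.2]
    simpa using he0
  have h900 := Cfsg.Agent.S0900.result Z (χ : H → ℂ) χ.2 (θ : Z → ℂ) θ.2 hcon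
  obtain ⟨hvan, hθinv⟩ := h900.1.1 ⟨e, hres, he2⟩
  have h2 := h900.2.1 ⟨e, hres, he2⟩
  have huniq : ∀ ψ : H → ℂ, IsIrrCharacter H ψ → classInner (indFun Z (θ : Z → ℂ)) ψ ≠ 0 →
      ψ = (χ : H → ℂ) := fun ψ hψ hne => (h2 1 1).2 ψ hψ hne
  obtain ⟨c₀, hc₀⟩ := hC.exists_zpow_surjective
  obtain ⟨a, ha⟩ := QuotientGroup.mk_surjective (c₀ : H ⧸ Z)
  have hCpow : ∀ q ∈ C, ∃ i : ℤ, q = (a : H ⧸ Z) ^ i := by
    intro q hq
    obtain ⟨i, hi⟩ := hc₀ ⟨q, hq⟩
    refine ⟨i, ?_⟩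
    have := congrArg Subtype.val hi
    simp only [Subgroup.coe_zpow] at this
    rw [ha, this]
  have haC : (a : H ⧸ Z) ∈ C := by rw [ha]; exact c₀.2
  set A : Subgroup H := Subgroup.comap (QuotientGroup.mk' Z) C with hA
  have hmemA : ∀ h : H, h ∈ A ↔ (h : H ⧸ Z) ∈ C := fun h => Iff.rfl
  have hZA : Z ≤ A := by
    intro z hz
    rw [hmemA, (QuotientGroup.eq_one_iff z).2 hz]
    exact C.one_mem
  have haA : a ∈ A := haC
  have hgen : ∀ h ∈ A, ∃ i : ℤ, (a ^ i)⁻¹ * h ∈ Z := by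
    intro h hh
    obtain ⟨i, hi⟩ := hCpow _ ((hmemA h).1 hh)
    refine ⟨i, ?_⟩
    rw [← QuotientGroup.mk_zpow, eq_comm, QuotientGroup.eq] at hi
    exact hi
  have haZ : a ∉ Z := by
    intro haZ
    apply hZ
    have hc1 : (a : H ⧸ Z) = 1 := (QuotientGroup.eq_one_iff a).2 haZ
    have hCbot : ∀ q ∈ C, q = 1 := by
      intro q hq
      obtain ⟨i, hi⟩ := hCpow q hq
      rw [hi, hc1, one_zpow]
    rw [eq_top_iff]
    intro h _
    have : (h : H ⧸ Z) ∈ Subgroup.centralizer (C : Set (H ⧸ Z)) := by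
      rw [Subgroup.mem_centralizer_iff]
      intro q hq
      rw [hCbot q hq]
      simp
    rw [hcent] at this
    exact (QuotientGroup.eq_one_iff h).1 (hCbot _ this)
  haveI : Fintype A := Fintype.ofFinite A
  haveI : Fintype (Z.subgroupOf A) := Fintype.ofFinite _
  have hθ' : IsIrrCharacter (Z.subgroupOf A)
      (fun n : Z.subgroupOf A => (θ : Z → ℂ) ⟨(n : A), n.2⟩) :=
    isIrrCharacter_comp_mulEquiv θ.2 (Subgroup.subgroupOfEquivOfLe hZA)
  have hθ'inv : ∀ (g : A) (n : Z.subgroupOf A),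
      (fun n : Z.subgroupOf A => (θ : Z → ℂ) ⟨(n : A), n.2⟩)
        ⟨g * n * g⁻¹, (inferInstance : (Z.subgroupOf A).Normal).conj_mem n n.2 g⟩
      = (fun n : Z.subgroupOf A => (θ : Z → ℂ) ⟨(n : A), n.2⟩) n :=
    fun g n => hθinv (g : H) ⟨n, n.2⟩
  have hAcyc : IsCyclic (↥A ⧸ Z.subgroupOf A) := by
    refine ⟨⟨QuotientGroup.mk ⟨a, haA⟩, ?_⟩⟩
    intro q
    obtain ⟨h, rfl⟩ := QuotientGroup.mk_surjective q
    obtain ⟨i, hi⟩ := hgen h h.2
    refine ⟨i, ?_⟩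
    simp only
    rw [← QuotientGroup.mk_zpow, QuotientGroup.eq, Subgroup.mem_subgroupOf]
    simpa using hi
  obtain ⟨θh, hθh, hθhN⟩ := Cfsg.Agent.S0886.result (Z.subgroupOf A) hAcyc _ hθ' hθ'inv
  have hext : ∀ z : Z, θh ⟨z, hZA z.2⟩ = (θ : Z → ℂ) z :=
    fun z => hθhN ⟨⟨z, hZA z.2⟩, z.2⟩
  have hzero : ∀ y : A, ((y : H) : H ⧸ Z) = (a : H ⧸ Z) → θh y = 0 := by
    intro y hy
    have hyZ : (y : H) ∉ Z := by
      intro hc
      apply haZ
      rw [← QuotientGroup.eq_one_iff, ← hy]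
      exact (QuotientGroup.eq_one_iff _).2 hc
    refine ext_vanish Z (χ : H → ℂ) (θ : Z → ℂ) hθinv huniq hvan A hZA θh hθh hext (y : H) y.2 hyZ
      ?_ ?_
    · intro x hx
      rw [hmemA, ← hcent, Subgroup.mem_centralizer_iff]
      intro q hq
      obtain ⟨i, hi⟩ := hCpow q hq
      have h1 : ((y : H) : H ⧸ Z) * (x : H ⧸ Z) = (x : H ⧸ Z) * ((y : H) : H ⧸ Z) := by
        have := (QuotientGroup.eq_one_iff _).2 hx
        simp only [QuotientGroup.mk_mul, QuotientGroup.mk_inv] at this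
        have h3 : ((y : H) : H ⧸ Z) * (((y : H) : H ⧸ Z)⁻¹ * ((x : H ⧸ Z) * ((y : H) : H ⧸ Z)
            * (x : H ⧸ Z)⁻¹)) * (x : H ⧸ Z) = ((y : H) : H ⧸ Z) * 1 * (x : H ⧸ Z) := by rw [this]
        rw [mul_one] at h3
        rw [← h3]
        group
      rw [hy] at h1
      rw [hi]
      exact ((Commute.zpow_left (show Commute (a : H ⧸ Z) (x : H ⧸ Z) from h1) i)).eq
    · intro x hx
      obtain ⟨i, hi⟩ := hCpow _ ((hmemA x).1 hx)
      rw [← QuotientGroup.eq_one_iff]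
      simp only [QuotientGroup.mk_mul, QuotientGroup.mk_inv]
      rw [hy, hi]
      group
  have hirrN : IsIrrCharacter (Z.subgroupOf A) (fun g : Z.subgroupOf A => θh g) := by
    have : (fun g : Z.subgroupOf A => θh g)
        = (fun n : Z.subgroupOf A => (θ : Z → ℂ) ⟨(n : A), n.2⟩) := funext hθhN
    rw [this]
    exact hθ'
  have hsum := sum_normSq_coset (Z.subgroupOf A) hθh hirrN (⟨a, haA⟩ : A)
  have hsum0 : ∑ g : Z.subgroupOf A, θh ((⟨a, haA⟩ : A) * g) * conj (θh ((⟨a, haA⟩ : A) * g)) = 0 := by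
    refine Finset.sum_eq_zero fun g _ => ?_
    have : θh ((⟨a, haA⟩ : A) * g) = 0 := by
      apply hzero
      simp only [Subgroup.coe_mul, QuotientGroup.mk_mul]
      have hg : (((g : A) : H) : H ⧸ Z) = 1 := (QuotientGroup.eq_one_iff _).2 g.2
      rw [hg, mul_one]
    rw [this, zero_mul]
  rw [hsum0] at hsum
  exact (Nat.cast_ne_zero.2 Nat.card_pos.ne') hsum.symm

end Cfsg.Agent.S4565
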