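import Mathlib
import Cfsg.Statements.S4566
import Cfsg.Agent.Lib.Helper1.LinearChar
import Cfsg.Agent.Lib.Helper1.CharInt

set_option autoImplicit false

open Cfsg

namespace Cfsg.Agent.S4566

open Cfsg.Agent.Lib.Helper1 Cfsg.Agent.Lib.Helper4

section

variable {G : Type*} [Group G] {V : Type*} [AddCommGroup V] [Module ℂ V]

/-- Schur: a central element acts as a scalar in an irreducible representation. -/
theorem central_scalar [FiniteDimensional ℂ V] (ρ : Representation ℂ G V) [ρ.IsIrreducible] (z : G)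
    (hz : z ∈ Subgroup.center G) : ∃ c : ℂ, ρ z = c • LinearMap.id := by
  have hcomm : ∀ h : G, ρ z ∘ₗ ρ h = ρ h ∘ₗ ρ z := by
    intro h
    rw [← Module.End.mul_eq_comp, ← Module.End.mul_eq_comp, ← map_mul, ← map_mul,
      Subgroup.mem_center_iff.mp hz h]
  obtain ⟨T, hT⟩ : ∃ T : Representation.IntertwiningMap ρ ρ, T.toLinearMap = ρ z :=
    ⟨{ toLinearMap := ρ z, isIntertwining' := hcomm }, rfl⟩
  obtain ⟨c, hc⟩ := (Representation.IsIrreducible.algebraMap_intertwiningMap_bijective_of_isAlgClosed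
    (ρ := ρ)).2 T
  refine ⟨c, ?_⟩
  have := congrArg Representation.IntertwiningMap.toLinearMap hc
  rw [Representation.IntertwiningMap.algebraMap_apply, hT] at this
  exact this.symm

theorem smul_id_inj [Nontrivial V] {a b : ℂ}
    (h : a • (LinearMap.id : V →ₗ[ℂ] V) = b • LinearMap.id) : a = b := by
  obtain ⟨v, hv⟩ := exists_ne (0 : V)
  have h1 := congrArg (fun f : V →ₗ[ℂ] V => f v) h
  simp only [LinearMap.smul_apply, LinearMap.id_apply] at h1
  have h2 : (a - b) • v = 0 := by rw [sub_smul, h1, sub_self]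
  rcases smul_eq_zero.mp h2 with h3 | h3
  · exact sub_eq_zero.mp h3
  · exact absurd h3 hv

end

theorem result {G : Type*} [Group G] [Fintype G] (N : Subgroup G) [Fintype N] (hN : N ≤ Subgroup.center G) (ψ : Cfsg.IrrCharacter ↥N) (hfaith : ∀ n : ↥N, (ψ : ↥N → ℂ) n = (ψ : ↥N → ℂ) 1 → n = 1) (χ : Cfsg.IrrCharacter G) (hover : Cfsg.classInner (fun n : ↥N => (χ : G → ℂ) n) (ψ : ↥N → ℂ) ≠ 0) (g x : G) (hcomm : x⁻¹ * g⁻¹ * x * g ∈ N) (hne : x⁻¹ * g⁻¹ * x * g ≠ 1) : (χ : G → ℂ) g = 0 := by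
  obtain ⟨χf, n, ρ, hρ, hχ⟩ := χ
  subst hχ
  have := hρ
  have hV : Nontrivial (Fin n → ℂ) := nontrivial_of_irreducible ρ
  have hscal : ∀ z : N, ∃ c : ℂ, ρ (z : G) = c • LinearMap.id := fun z => central_scalar ρ z (hN z.2)
  choose c hc using hscal
  have hc1 : c 1 = 1 := by
    have h1 := hc 1
    rw [Subgroup.coe_one, map_one] at h1
    have h2 : (1 : ℂ) • (LinearMap.id : (Fin n → ℂ) →ₗ[ℂ] (Fin n → ℂ)) = c 1 • LinearMap.id := by
      rw [one_smul, ← h1]; rfl
    exact (smul_id_inj h2).symm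
  have hcmul : ∀ z w : N, c (z * w) = c z * c w := by
    intro z w
    have h1 := hc (z * w)
    rw [Subgroup.coe_mul, map_mul, hc z, hc w] at h1
    apply smul_id_inj (V := Fin n → ℂ)
    rw [← h1]
    ext v i
    simp [mul_smul]
    ring
  -- the character on g * z
  have hgz : ∀ z : N, ρ.character (g * (z : G)) = c z * ρ.character g := by
    intro z
    unfold Representation.character
    rw [map_mul, hc z, mul_smul_comm, map_smul, smul_eq_mul]
    congr 2
  have hres : (fun z : N => ρ.character (z : G)) = (n : ℂ) • c := by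
    funext z
    unfold Representation.character
    rw [hc z, map_smul, LinearMap.trace_id]
    simp [mul_comm]
  -- the linear character c
  obtain ⟨cHom, hcHom⟩ : ∃ cHom : N →* ℂ, ∀ z, cHom z = c z :=
    ⟨{ toFun := c, map_one' := hc1, map_mul' := hcmul }, fun _ => rfl⟩
  have hcirr : Cfsg.IsIrrCharacter N c := by
    have := isIrrCharacter_of_hom cHom.toHomUnits
    have e : (fun z : N => ((cHom.toHomUnits z : ℂˣ) : ℂ)) = c := by
      funext z
      rw [MonoidHom.coe_toHomUnits, hcHom]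
    rw [e] at this
    exact this
  have hcψ : c = (ψ : N → ℂ) := by
    by_contra hne'
    apply hover
    show Cfsg.classInner (fun z : N => ρ.character (z : G)) (ψ : N → ℂ) = 0
    rw [hres, classInner_smul_left, classInner_irr_ne hcirr ψ.2 hne', mul_zero]
  -- the commutator
  obtain ⟨z₀, hz₀⟩ : ∃ z₀ : N, (z₀ : G) = x⁻¹ * g⁻¹ * x * g := ⟨⟨_, hcomm⟩, rfl⟩
  have hconj : ρ.character g = ρ.character (g * ((z₀⁻¹ : N) : G)) := by
    have hcf := isClassFunction_of_isCharacter (isCharacter_of_irr (⟨n, ρ, hρ, rfl⟩ : Cfsg.IsIrrCharacter G ρ.character))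
    have h1 := hcf g x⁻¹
    rw [← h1]
    congr 1
    rw [Subgroup.coe_inv, hz₀]
    group
  rw [hgz] at hconj
  by_contra hg0
  have h1 : c z₀⁻¹ = 1 := by
    have : (c z₀⁻¹ - 1) * ρ.character g = 0 := by
      rw [sub_mul, one_mul, ← hconj, sub_self]
    rcases mul_eq_zero.mp this with h | h
    · exact sub_eq_zero.mp h
    · exact absurd h hg0
  have h2 : z₀⁻¹ = 1 := by
    apply hfaith
    rw [← hcψ, h1, hc1]
  apply hne
  rw [← hz₀]
  have : z₀ = 1 := inv_eq_one.mp h2
  rw [this]; rfl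

end Cfsg.Agent.S4566
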