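import Mathlib
import Cfsg.Statements.S4567
import Cfsg.Agent.Lib.Helper1.CharCenter
import Cfsg.Agent.Lib.Helper1.LinearChar
import Cfsg.Agent.Lib.Helper1.ConjCount
import Cfsg.Agent.Lib.Helper1.CharFound8
import Cfsg.Agent.Lib.Helper8.ClassAlgebra2
import Cfsg.Agent.S0187

set_option autoImplicit false
open Cfsg
open scoped ComplexConjugate
open Cfsg.Agent.Lib.Helper4 Cfsg.Agent.Lib.Helper1 Cfsg.Agent.Lib.Helper8

namespace Cfsg.Agent.S4567

section Group

variable {G : Type*} [Group G] (N : Subgroup G) [N.Normal]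

/-- the commutator `x y x⁻¹ y⁻¹` -/
def comm (x y : G) : G := x * y * x⁻¹ * y⁻¹

/-- a special element -/
def Special (g : G) : Prop := ∀ x : G, x⁻¹ * g⁻¹ * x * g ∈ N → x * g = g * x

/-- the preimage of the centralizer of `ȳ` -/
def Dy (y : G) : Subgroup G :=
  (Subgroup.centralizer ({(y : G ⧸ N)} : Set (G ⧸ N))).comap (QuotientGroup.mk' N)

theorem mem_Dy_iff (x y : G) : x ∈ Dy N y ↔ comm x y ∈ N := by
  unfold Dy comm
  rw [Subgroup.mem_comap, Subgroup.mem_centralizer_singleton_iff, QuotientGroup.mk'_apply,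
    ← QuotientGroup.eq_one_iff]
  simp only [QuotientGroup.mk_mul, QuotientGroup.mk_inv]
  constructor
  · intro h
    rw [h]; group
  · intro h
    calc (x : G ⧸ N) * y = ((x : G ⧸ N) * y * (x : G ⧸ N)⁻¹ * (y : G ⧸ N)⁻¹) * (y * x) := by group
      _ = y * x := by rw [h, one_mul]

theorem mem_Dy_iff' (x y : G) : x ∈ Dy N y ↔ x⁻¹ * y⁻¹ * x * y ∈ N := by
  unfold Dy
  rw [Subgroup.mem_comap, Subgroup.mem_centralizer_singleton_iff, QuotientGroup.mk'_apply,
    ← QuotientGroup.eq_one_iff]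
  simp only [QuotientGroup.mk_mul, QuotientGroup.mk_inv]
  constructor
  · intro h
    calc (x : G ⧸ N)⁻¹ * (y : G ⧸ N)⁻¹ * x * y = (x : G ⧸ N)⁻¹ * (y : G ⧸ N)⁻¹ * (x * y) := by group
      _ = 1 := by rw [h]; group
  · intro h
    calc (x : G ⧸ N) * y = (y * x) * ((x : G ⧸ N)⁻¹ * (y : G ⧸ N)⁻¹ * x * y) := by group
      _ = y * x := by rw [h, mul_one]

variable {N}

theorem comm_mul (hN : N ≤ Subgroup.center G) {x x' y : G} (hx' : comm x' y ∈ N) :
    comm (x * x') y = comm x y * comm x' y := by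
  have hc := Subgroup.mem_center_iff.mp (hN hx')
  obtain ⟨c, hcdef⟩ : ∃ c, c = comm x' y := ⟨_, rfl⟩
  rw [← hcdef] at hc ⊢
  have h1 : comm (x * x') y = x * c * (y * x⁻¹ * y⁻¹) := by
    rw [hcdef]; unfold comm; group
  rw [h1, hc x]
  have h2 : c * x * (y * x⁻¹ * y⁻¹) = c * comm x y := by
    unfold comm; group
  rw [h2, hc (comm x y)]

/-- the commutator homomorphism -/
def phiY (hN : N ≤ Subgroup.center G) (y : G) : Dy N y →* N where
  toFun x := ⟨comm (x : G) y, (mem_Dy_iff N x y).mp x.2⟩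
  map_one' := by
    apply Subtype.ext
    simp [comm]
  map_mul' a b := by
    apply Subtype.ext
    have h := comm_mul hN (x := (a : G)) (mem_Dy_iff N b y |>.mp b.2)
    simp only [Subgroup.coe_mul]
    exact h

theorem special_iff (hN : N ≤ Subgroup.center G) (y : G) :
    Special N y ↔ ∀ x : Dy N y, phiY hN y x = 1 := by
  constructor
  · intro h x
    apply Subtype.ext
    have h1 := h x ((mem_Dy_iff' N x y).mp x.2)
    show comm (x : G) y = 1
    unfold comm
    rw [h1]; group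
  · intro h x hx
    have h1 := h ⟨x, (mem_Dy_iff' N x y).mpr hx⟩
    have h2 : comm x y = 1 := congrArg Subtype.val h1
    unfold comm at h2
    calc x * y = (x * y * x⁻¹ * y⁻¹) * (y * x) := by group
      _ = y * x := by rw [h2, one_mul]

theorem special_conj (g h : G) (hg : Special N g) : Special N (h * g * h⁻¹) := by
  intro x hx
  have h1 := hg (h⁻¹ * x * h) (by
    have := (inferInstance : N.Normal).conj_mem _ hx h⁻¹
    convert this using 1
    group)
  calc x * (h * g * h⁻¹) = h * ((h⁻¹ * x * h) * g) * h⁻¹ := by group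
    _ = h * (g * (h⁻¹ * x * h)) * h⁻¹ := by rw [h1]
    _ = h * g * h⁻¹ * x := by group

omit [N.Normal] in
theorem special_mul_of_mem (hN : N ≤ Subgroup.center G) (g n : G) (hn : n ∈ N)
    (hg : Special N g) : Special N (g * n) := by
  have hc := Subgroup.mem_center_iff.mp (hN hn)
  intro x hx
  have h1 := hg x (by
    have h2 : x⁻¹ * (g * n)⁻¹ * x * (g * n) = x⁻¹ * g⁻¹ * x * g := by
      calc x⁻¹ * (g * n)⁻¹ * x * (g * n) = x⁻¹ * n⁻¹ * g⁻¹ * x * g * n := by group
        _ = x⁻¹ * g⁻¹ * x * g * (n⁻¹ * n) := by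
            have hc' : ∀ z : G, z * n⁻¹ = n⁻¹ * z := by
              intro z
              have := hc z
              calc z * n⁻¹ = n⁻¹ * (n * z) * n⁻¹ := by group
                _ = n⁻¹ * (z * n) * n⁻¹ := by rw [this]
                _ = n⁻¹ * z := by group
            rw [mul_assoc x⁻¹ n⁻¹, ← hc' g⁻¹, mul_assoc (x⁻¹ * (g⁻¹ * n⁻¹)), mul_assoc x⁻¹,
              mul_assoc g⁻¹, ← hc' (x * g)]
            group
        _ = x⁻¹ * g⁻¹ * x * g := by group
    rw [h2] at hx
    exact hx)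
  calc x * (g * n) = (x * g) * n := by group
    _ = (g * x) * n := by rw [h1]
    _ = g * (x * n) := by group
    _ = g * (n * x) := by rw [hc x]
    _ = g * n * x := by group

end Group

section Count

variable {G : Type*} [Group G] [Fintype G] (N : Subgroup G) [N.Normal]

/-- an explicit bijection `(G ⧸ N) × N ≃ G` compatible with the quotient map -/
noncomputable def quotProdEquiv : (G ⧸ N) × N ≃ G where
  toFun qn := Quotient.out qn.1 * (qn.2 : G)
  invFun y := ((y : G ⧸ N), ⟨(Quotient.out (y : G ⧸ N))⁻¹ * y, by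
    rw [← QuotientGroup.eq]
    exact Quotient.out_eq' _⟩)
  left_inv := by
    rintro ⟨q, n⟩
    have h1 : ((Quotient.out q * (n : G) : G) : G ⧸ N) = q := by
      rw [QuotientGroup.mk_mul_of_mem _ n.2]
      exact Quotient.out_eq' q
    apply Prod.ext
    · exact h1
    · apply Subtype.ext
      simp only
      rw [h1]
      group
  right_inv := by
    intro y
    simp

theorem mk_quotProdEquiv (qn : (G ⧸ N) × N) : ((quotProdEquiv N qn : G) : G ⧸ N) = qn.1 := by
  unfold quotProdEquiv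
  simp only [Equiv.coe_fn_mk]
  rw [QuotientGroup.mk_mul_of_mem _ qn.2.2]
  exact Quotient.out_eq' qn.1

/-- summing a function of the coset over the group -/
theorem sum_comp_mk [Fintype (G ⧸ N)] [Fintype N] (F : G ⧸ N → ℂ) :
    ∑ y : G, F (y : G ⧸ N) = (Nat.card N : ℂ) * ∑ q : G ⧸ N, F q := by
  rw [← Equiv.sum_comp (quotProdEquiv N) (fun y : G => F (y : G ⧸ N)), Fintype.sum_prod_type]
  simp only [mk_quotProdEquiv]
  rw [Finset.mul_sum]
  refine Finset.sum_congr rfl fun q _ => ?_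
  rw [Finset.sum_const, Finset.card_univ, nsmul_eq_mul, Nat.card_eq_fintype_card]

/-- the order of the preimage of a centralizer in the quotient -/
theorem card_Dy (y : G) : Nat.card (Dy N y)
    = Nat.card N * Nat.card (Subgroup.centralizer ({(y : G ⧸ N)} : Set (G ⧸ N))) := by
  have h1 : (Dy N y).index = (Subgroup.centralizer ({(y : G ⧸ N)} : Set (G ⧸ N))).index :=
    Subgroup.index_comap_of_surjective _ (QuotientGroup.mk'_surjective N)
  have h2 := (Dy N y).card_mul_index
  have h3 := (Subgroup.centralizer ({(y : G ⧸ N)} : Set (G ⧸ N))).card_mul_index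
  have h4 := Subgroup.card_eq_card_quotient_mul_card_subgroup N
  have hpos : 0 < (Dy N y).index := Nat.pos_of_ne_zero Subgroup.FiniteIndex.index_ne_zero
  rw [h1] at h2 hpos
  apply Nat.eq_of_mul_eq_mul_right hpos
  rw [h2, h4, ← h3]
  ring

end Count

section Classes

variable {Q : Type*} [Group Q] [Fintype Q]

/-- counting conjugacy classes satisfying an invariant predicate -/
theorem sum_card_centralizer_of_invariant [DecidableEq Q] (P : Q → Prop) [DecidablePred P]
    (hP : ∀ q h : Q, P q → P (h * q * h⁻¹)) :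
    ∑ q : Q, (if P q then (Nat.card (Subgroup.centralizer ({q} : Set Q)) : ℂ) else 0)
      = (Nat.card Q : ℂ) * (Nat.card {C : ConjClasses Q // ∃ q : Q, ConjClasses.mk q = C ∧ P q} : ℂ) := by
  classical
  haveI : Fintype (ConjClasses Q) := Fintype.ofFinite _
  rw [← Finset.sum_fiberwise Finset.univ (ConjClasses.mk : Q → ConjClasses Q)]
  have hterm : ∀ C : ConjClasses Q,
      ∑ q ∈ Finset.univ.filter (fun q : Q => ConjClasses.mk q = C),
        (if P q then (Nat.card (Subgroup.centralizer ({q} : Set Q)) : ℂ) else 0)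
        = if (∃ q : Q, ConjClasses.mk q = C ∧ P q) then (Nat.card Q : ℂ) else 0 := by
    intro C
    obtain ⟨q₀, rfl⟩ := ConjClasses.exists_rep C
    have hconj : ∀ q : Q, ConjClasses.mk q = ConjClasses.mk q₀ → IsConj q₀ q := by
      intro q hq
      exact (ConjClasses.mk_eq_mk_iff_isConj.mp hq).symm
    have hPiff : ∀ q : Q, ConjClasses.mk q = ConjClasses.mk q₀ → (P q ↔ P q₀) := by
      intro q hq
      obtain ⟨c, hc⟩ := isConj_iff.mp (hconj q hq)
      constructor
      · intro h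
        have := hP q c⁻¹ h
        rw [← hc] at this
        convert this using 1
        group
      · intro h
        rw [← hc]
        exact hP q₀ c h
    by_cases hP0 : P q₀
    · rw [if_pos ⟨q₀, rfl, hP0⟩]
      have h1 : ∀ q ∈ Finset.univ.filter (fun q : Q => ConjClasses.mk q = ConjClasses.mk q₀),
          (if P q then (Nat.card (Subgroup.centralizer ({q} : Set Q)) : ℂ) else 0)
            = (Nat.card (Subgroup.centralizer ({q₀} : Set Q)) : ℂ) := by
        intro q hq
        rw [Finset.mem_filter] at hq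
        rw [if_pos ((hPiff q hq.2).mpr hP0), card_centralizer_eq_of_isConj (hconj q hq.2)]
      rw [Finset.sum_congr rfl h1, Finset.sum_const, nsmul_eq_mul]
      have h2 := card_isConj_mul_card_centralizer q₀
      have h3 : (Finset.univ.filter (fun q : Q => ConjClasses.mk q = ConjClasses.mk q₀)).card
          = Nat.card {v : Q // IsConj q₀ v} := by
        rw [Nat.card_eq_fintype_card, Fintype.card_subtype]
        congr 1
        ext q
        simp only [Finset.mem_filter, Finset.mem_univ, true_and]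
        rw [ConjClasses.mk_eq_mk_iff_isConj]
        exact ⟨fun h => h.symm, fun h => h.symm⟩
      rw [h3]
      exact_mod_cast h2
    · have hno : ¬ ∃ q : Q, ConjClasses.mk q = ConjClasses.mk q₀ ∧ P q := by
        rintro ⟨q, hq, hPq⟩
        exact hP0 ((hPiff q hq).mp hPq)
      rw [if_neg hno]
      apply Finset.sum_eq_zero
      intro q hq
      rw [Finset.mem_filter] at hq
      rw [if_neg (fun h => hP0 ((hPiff q hq.2).mp h))]
  rw [Finset.sum_congr rfl (fun C _ => hterm C), ← Finset.sum_filter, Finset.sum_const,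
    nsmul_eq_mul, mul_comm]
  congr 2
  rw [Nat.card_eq_fintype_card, Fintype.card_subtype]

end Classes

section Chars

variable {G : Type*} [Group G] [Fintype G] (N : Subgroup G) [N.Normal] [Fintype N]

/-- the central character of an irreducible character on a central subgroup -/
theorem exists_central_hom (hN : N ≤ Subgroup.center G) (χ : Cfsg.IrrCharacter G) :
    ∃ μ : N →* ℂˣ, ∀ n : N, (χ : G → ℂ) n = (χ : G → ℂ) 1 * (μ n : ℂ) := by
  obtain ⟨m, ρ, hirr, hρ⟩ := χ.2
  haveI := hirr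
  refine ⟨((centralHom ρ).comp (Subgroup.inclusion hN)).toHomUnits, ?_⟩
  intro n
  rw [MonoidHom.coe_toHomUnits, MonoidHom.comp_apply, centralHom_apply, ← hρ,
    Representation.char_one]
  have hne := finrank_ne_zero_of_irreducible ρ
  have : ((Subgroup.inclusion hN n : Subgroup.center G) : G) = (n : G) := rfl
  rw [this]
  field_simp

/-- the character sum over `x` for fixed `y` -/
theorem sum_theta_comm (hN : N ≤ Subgroup.center G) (θ : N →* ℂˣ)
    (hθ : ∀ a : N, θ a = 1 → a = 1) (y : G) [Fintype (Dy N y)]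
    [Decidable (Special N y)] :
    ∑ x : Dy N y, (((θ (phiY hN y x))⁻¹ : ℂˣ) : ℂ)
      = if Special N y then (Nat.card (Dy N y) : ℂ) else 0 := by
  classical
  let f : Dy N y →* ℂ := (Units.coeHom ℂ).comp ((θ.comp (phiY hN y))⁻¹)
  have hf : ∀ x : Dy N y, f x = (((θ (phiY hN y x))⁻¹ : ℂˣ) : ℂ) := fun x => rfl
  have h1 := sum_hom_units f
  simp only [hf] at h1
  rw [h1]
  have hiff : f = 1 ↔ Special N y := by
    rw [special_iff hN]
    constructor
    · intro h x
      have h2 := congrArg (fun g : Dy N y →* ℂ => g x) h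
      simp only [hf, MonoidHom.one_apply] at h2
      apply hθ
      have h3 : ((θ (phiY hN y x))⁻¹ : ℂˣ) = 1 := Units.ext h2
      exact inv_eq_one.mp h3
    · intro h
      ext x
      rw [hf, h x]
      simp
  by_cases hs : Special N y
  · rw [if_pos hs, if_pos (hiff.mpr hs), Nat.card_eq_fintype_card]
  · rw [if_neg hs, if_neg (fun h => hs (hiff.mp h))]
    simp

end Chars

theorem result {G : Type*} [Group G] [Fintype G] (N : Subgroup G) [N.Normal] [Fintype N] (hN : N ≤ Subgroup.center G) (ψ : Cfsg.IrrCharacter ↥N) (hfaith : ∀ n : ↥N, (ψ : ↥N → ℂ) n = (ψ : ↥N → ℂ) 1 → n = 1) : Nat.card {χ : Cfsg.IrrCharacter G // Cfsg.classInner (fun n : ↥N => (χ : G → ℂ) n) (ψ : ↥N → ℂ) ≠ 0} = Nat.card {C : ConjClasses (G ⧸ N) // ∃ g : G, ConjClasses.mk (g : G ⧸ N) = C ∧ ∀ x : G, x⁻¹ * g⁻¹ * x * g ∈ N → x * g = g * x} := by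
  classical
  haveI : Fintype (Cfsg.IrrCharacter G) := Fintype.ofFinite _
  haveI : Fintype (G ⧸ N) := Fintype.ofFinite _
  have hGne : (Fintype.card G : ℂ) ≠ 0 := Nat.cast_ne_zero.2 Fintype.card_pos.ne'
  have hNne : (Nat.card N : ℂ) ≠ 0 := Nat.cast_ne_zero.2 Nat.card_pos.ne'
  -- `ψ` is linear
  have hNcomm : ∀ a b : N, a * b = b * a := by
    intro a b
    apply Subtype.ext
    exact (Subgroup.mem_center_iff.mp (hN b.2) a)
  have hψ1 : (ψ : N → ℂ) 1 = 1 := (Cfsg.Agent.S0187.result.mp hNcomm) ψ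
  obtain ⟨θ, hθ⟩ := exists_hom_of_isIrrCharacter ψ.2 hψ1
  have hθinj : ∀ a : N, θ a = 1 → a = 1 := by
    intro a ha
    apply hfaith
    rw [hθ]
    simp [ha]
  have hconj : ∀ n : N, conj ((ψ : N → ℂ) n) = (((θ n)⁻¹ : ℂˣ) : ℂ) := by
    intro n
    rw [← isCharacter_inv (isCharacter_of_irr ψ.2) n, hθ]
    simp
  -- Step 1: inner products are `0` or `χ 1`
  have hinner : ∀ χ : Cfsg.IrrCharacter G,
      Cfsg.classInner (fun n : N => (χ : G → ℂ) n) (ψ : N → ℂ) = 0 ∨
      Cfsg.classInner (fun n : N => (χ : G → ℂ) n) (ψ : N → ℂ) = (χ : G → ℂ) 1 := by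
    intro χ
    obtain ⟨μ, hμ⟩ := exists_central_hom N hN χ
    have h1 : (fun n : N => (χ : G → ℂ) n) = (χ : G → ℂ) 1 • (fun n : N => (μ n : ℂ)) := by
      funext n
      simp [hμ n]
    rw [h1, classInner_smul_left, classInner_irr (isIrrCharacter_of_hom μ) ψ.2]
    split_ifs <;> simp
  have hL : (Nat.card {χ : Cfsg.IrrCharacter G //
        Cfsg.classInner (fun n : N => (χ : G → ℂ) n) (ψ : N → ℂ) ≠ 0} : ℂ)
      = ∑ χ : Cfsg.IrrCharacter G,
          Cfsg.classInner (fun n : N => (χ : G → ℂ) n) (ψ : N → ℂ) / (χ : G → ℂ) 1 := by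
    rw [Nat.card_eq_fintype_card, Fintype.card_subtype, Finset.card_filter]
    push_cast
    apply Finset.sum_congr rfl
    intro χ _
    have hne := irr_apply_one_ne_zero χ.2
    rcases hinner χ with h | h
    · rw [h]; simp
    · rw [h, div_self hne, if_pos hne]
  -- Step 2: rewrite the sum
  have hS2 : ∑ χ : Cfsg.IrrCharacter G,
        Cfsg.classInner (fun n : N => (χ : G → ℂ) n) (ψ : N → ℂ) / (χ : G → ℂ) 1
      = (Nat.card N : ℂ)⁻¹ * ∑ n : N, conj ((ψ : N → ℂ) n) *
          ∑ χ : Cfsg.IrrCharacter G, (χ : G → ℂ) n / (χ : G → ℂ) 1 := by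
    simp only [classInner_def]
    have : ∀ χ : Cfsg.IrrCharacter G,
        (Nat.card N : ℂ)⁻¹ * (∑ n : N, (χ : G → ℂ) n * conj ((ψ : N → ℂ) n)) / (χ : G → ℂ) 1
        = (Nat.card N : ℂ)⁻¹ * ∑ n : N, conj ((ψ : N → ℂ) n) * ((χ : G → ℂ) n / (χ : G → ℂ) 1) := by
      intro χ
      rw [mul_div_assoc, Finset.sum_div]
      congr 1
      refine Finset.sum_congr rfl fun n _ => ?_
      ring
    rw [Finset.sum_congr rfl (fun χ _ => this χ), ← Finset.mul_sum, Finset.sum_comm]
    congr 1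
    refine Finset.sum_congr rfl fun n _ => ?_
    rw [Finset.mul_sum]
  -- Step 3: commutator pairs
  have hpairs : ∀ z : G, ∑ χ : Cfsg.IrrCharacter G, (χ : G → ℂ) z / (χ : G → ℂ) 1
      = (Fintype.card G : ℂ)⁻¹ * ∑ y : G, ∑ x : G, (if comm x y = z then (1 : ℂ) else 0) := by
    intro z
    have h := card_commutator_pairs (G := G) z
    have h2 : (Fintype.card {xy : G × G // xy.1 * xy.2 * xy.1⁻¹ * xy.2⁻¹ = z} : ℂ)
        = ∑ y : G, ∑ x : G, (if comm x y = z then (1 : ℂ) else 0) := by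
      rw [Fintype.card_subtype, Finset.card_filter]
      push_cast
      rw [Fintype.sum_prod_type_right]
      rfl
    rw [← h2, h, ← mul_assoc, inv_mul_cancel₀ hGne, one_mul]
  -- the extension by zero of `conj ψ`
  obtain ⟨Ψ, hΨ⟩ : ∃ Ψ : G → ℂ, Ψ = fun g => if h : g ∈ N then conj ((ψ : N → ℂ) ⟨g, h⟩) else 0 :=
    ⟨_, rfl⟩
  have hΨmem : ∀ n : N, Ψ n = conj ((ψ : N → ℂ) n) := by
    intro n
    rw [hΨ]
    simp
  have hΨnot : ∀ g : G, g ∉ N → Ψ g = 0 := by
    intro g hg
    rw [hΨ]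
    simp [hg]
  have hext : ∀ A : G → ℂ, ∑ n : N, conj ((ψ : N → ℂ) n) * A n = ∑ g : G, Ψ g * A g := by
    intro A
    have h1 : ∑ g : G, Ψ g * A g = ∑ g ∈ Finset.univ.filter (fun g : G => g ∈ N), Ψ g * A g := by
      symm
      apply Finset.sum_subset (Finset.subset_univ _)
      intro g _ hg
      rw [Finset.mem_filter] at hg
      rw [hΨnot g (fun h => hg ⟨Finset.mem_univ _, h⟩), zero_mul]
    rw [h1, Finset.sum_subtype (Finset.univ.filter (fun g : G => g ∈ N)) (p := fun g => g ∈ N)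
      (fun g => by simp) (fun g => Ψ g * A g)]
    refine Finset.sum_congr rfl fun n _ => ?_
    rw [hΨmem]
  -- Step 4
  have hS4 : ∑ n : N, conj ((ψ : N → ℂ) n) *
        ∑ χ : Cfsg.IrrCharacter G, (χ : G → ℂ) n / (χ : G → ℂ) 1
      = (Fintype.card G : ℂ)⁻¹ * ∑ y : G, ∑ x : G, Ψ (comm x y) := by
    rw [hext (fun g => ∑ χ : Cfsg.IrrCharacter G, (χ : G → ℂ) g / (χ : G → ℂ) 1)]
    simp only [hpairs]
    have : ∀ g : G, Ψ g * ((Fintype.card G : ℂ)⁻¹ *
        ∑ y : G, ∑ x : G, (if comm x y = g then (1 : ℂ) else 0))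
        = (Fintype.card G : ℂ)⁻¹ * ∑ y : G, ∑ x : G, (if comm x y = g then Ψ g else 0) := by
      intro g
      rw [mul_left_comm, Finset.mul_sum]
      congr 1
      refine Finset.sum_congr rfl fun y _ => ?_
      rw [Finset.mul_sum]
      refine Finset.sum_congr rfl fun x _ => ?_
      split_ifs <;> simp
    rw [Finset.sum_congr rfl (fun g _ => this g), ← Finset.mul_sum]
    congr 1
    rw [Finset.sum_comm]
    refine Finset.sum_congr rfl fun y _ => ?_
    rw [Finset.sum_comm]
    refine Finset.sum_congr rfl fun x _ => ?_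
    rw [Finset.sum_ite_eq]
    simp
  -- Step 5
  have hS5 : ∀ y : G, ∑ x : G, Ψ (comm x y)
      = if Special N y then (Nat.card (Dy N y) : ℂ) else 0 := by
    intro y
    haveI : Fintype (Dy N y) := Fintype.ofFinite _
    rw [← sum_theta_comm N hN θ hθinj y]
    have h1 : ∑ x : G, Ψ (comm x y)
        = ∑ x ∈ Finset.univ.filter (fun x : G => x ∈ Dy N y), Ψ (comm x y) := by
      symm
      apply Finset.sum_subset (Finset.subset_univ _)
      intro x _ hx
      rw [Finset.mem_filter] at hx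
      apply hΨnot
      intro h
      exact hx ⟨Finset.mem_univ _, (mem_Dy_iff N x y).mpr h⟩
    rw [h1, Finset.sum_subtype (Finset.univ.filter (fun x : G => x ∈ Dy N y))
      (p := fun x => x ∈ Dy N y) (fun x => by simp) (fun x => Ψ (comm x y))]
    refine Finset.sum_congr rfl fun x _ => ?_
    have h2 : comm (x : G) y = ((phiY hN y x : N) : G) := rfl
    rw [h2, hΨmem, hconj]
  -- Step 6: pass to the quotient
  obtain ⟨SQ, hSQ⟩ : ∃ SQ : G ⧸ N → Prop, SQ = fun q => ∃ g : G, (g : G ⧸ N) = q ∧ Special N g :=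
    ⟨_, rfl⟩
  have hSQiff : ∀ y : G, Special N y ↔ SQ (y : G ⧸ N) := by
    intro y
    rw [hSQ]
    constructor
    · intro h
      exact ⟨y, rfl, h⟩
    · rintro ⟨g, hg, hgs⟩
      have h1 : g⁻¹ * y ∈ N := QuotientGroup.eq.mp hg
      have h2 : y = g * (g⁻¹ * y) := by group
      rw [h2]
      exact special_mul_of_mem hN g _ h1 hgs
  have hSQconj : ∀ q h : G ⧸ N, SQ q → SQ (h * q * h⁻¹) := by
    intro q h hq
    rw [hSQ] at hq ⊢
    obtain ⟨g, rfl, hg⟩ := hq
    obtain ⟨h', rfl⟩ := QuotientGroup.mk_surjective h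
    exact ⟨h' * g * h'⁻¹, by simp, special_conj g h' hg⟩
  have hS6 : ∑ y : G, (if Special N y then (Nat.card (Dy N y) : ℂ) else 0)
      = (Nat.card N : ℂ) * ((Nat.card N : ℂ) * ((Nat.card (G ⧸ N) : ℂ) *
          (Nat.card {C : ConjClasses (G ⧸ N) // ∃ q : G ⧸ N, ConjClasses.mk q = C ∧ SQ q} : ℂ))) := by
    have h1 : ∀ y : G, (if Special N y then (Nat.card (Dy N y) : ℂ) else 0)
        = (Nat.card N : ℂ) * (if SQ (y : G ⧸ N) then
            (Nat.card (Subgroup.centralizer ({(y : G ⧸ N)} : Set (G ⧸ N))) : ℂ) else 0) := by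
      intro y
      by_cases hs : Special N y
      · rw [if_pos hs, if_pos ((hSQiff y).mp hs), card_Dy]
        push_cast
        rfl
      · rw [if_neg hs, if_neg (fun h => hs ((hSQiff y).mpr h)), mul_zero]
    rw [Finset.sum_congr rfl (fun y _ => h1 y), ← Finset.mul_sum,
      sum_comp_mk N (fun q : G ⧸ N => if SQ q then
        (Nat.card (Subgroup.centralizer ({q} : Set (G ⧸ N))) : ℂ) else 0),
      sum_card_centralizer_of_invariant SQ hSQconj]
  -- assemble
  have hcardG : (Fintype.card G : ℂ) = (Nat.card (G ⧸ N) : ℂ) * (Nat.card N : ℂ) := by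
    have := Subgroup.card_eq_card_quotient_mul_card_subgroup N
    rw [Nat.card_eq_fintype_card] at this
    exact_mod_cast this
  have hQne : (Nat.card (G ⧸ N) : ℂ) ≠ 0 := Nat.cast_ne_zero.2 Nat.card_pos.ne'
  have hfinal : (Nat.card {χ : Cfsg.IrrCharacter G //
        Cfsg.classInner (fun n : N => (χ : G → ℂ) n) (ψ : N → ℂ) ≠ 0} : ℂ)
      = (Nat.card {C : ConjClasses (G ⧸ N) // ∃ q : G ⧸ N, ConjClasses.mk q = C ∧ SQ q} : ℂ) := by
    rw [hL, hS2, hS4, Finset.sum_congr rfl (fun y _ => hS5 y), hS6, hcardG]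
    field_simp
  have hfinal' := Nat.cast_injective hfinal
  rw [hfinal']
  apply Nat.card_congr
  apply Equiv.subtypeEquivRight
  intro C
  rw [hSQ]
  constructor
  · rintro ⟨q, hq, g, rfl, hg⟩
    exact ⟨g, hq, hg⟩
  · rintro ⟨g, hg, hgs⟩
    exact ⟨(g : G ⧸ N), hg, g, rfl, hgs⟩

end Cfsg.Agent.S4567

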