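import Mathlib
import Cfsg.Statements.S4574
import Cfsg.Agent.Lib.Helper8.GaloisAvg
import Cfsg.Agent.S0138

set_option autoImplicit false

open Cfsg

namespace Cfsg.Agent.S4574

open Cfsg.Agent.Lib.Helper8 Cfsg.Agent.Lib.Helper1 Cfsg.Agent.Lib.Helper4
open scoped ComplexConjugate

theorem result {G : Type*} [Group G] [Fintype G] [DecidableEq G] (χ : G → ℂ) (hχ : Cfsg.IsIrrCharacter G χ) : (Cfsg.charDegree χ ^ 2 - 1) * (Finset.univ.filter (fun g : G => ‖χ g‖ = (Cfsg.charDegree χ : ℝ))).card ≤ (Finset.univ.filter (fun g : G => χ g = 0)).card ∧ ((∀ g : G, ‖χ g‖ = 0 ∨ ‖χ g‖ = 1 ∨ ‖χ g‖ = (Cfsg.charDegree χ : ℝ)) → (Cfsg.charDegree χ ^ 2 - 1) * (Finset.univ.filter (fun g : G => ‖χ g‖ = (Cfsg.charDegree χ : ℝ))).card = (Finset.univ.filter (fun g : G => χ g = 0)).card) := by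
  classical
  have hchar : Cfsg.IsCharacter G χ := isCharacter_of_irr hχ
  obtain ⟨n, hn, hn1⟩ := irr_apply_one_pos hχ
  have hd : Cfsg.charDegree χ = n := by
    unfold Cfsg.charDegree
    rw [hn1]; simp
  rw [hd]
  obtain ⟨Zc, hZc⟩ : ∃ Zc, Zc = Finset.univ.filter (fun g : G => ‖χ g‖ = (n : ℝ)) := ⟨_, rfl⟩
  obtain ⟨Z0, hZ0⟩ : ∃ Z0, Z0 = Finset.univ.filter (fun g : G => χ g = 0) := ⟨_, rfl⟩
  rw [← hZc, ← hZ0]
  obtain ⟨S, hS⟩ : ∃ S, S = Finset.univ.filter (fun g : G => ¬ ‖χ g‖ = (n : ℝ)) := ⟨_, rfl⟩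
  -- `Zc` is closed under powers
  have hZpow : ∀ g ∈ Zc, ∀ k : ℕ, g ^ k ∈ Zc := by
    intro g hg k
    rw [hZc, Finset.mem_filter] at hg ⊢
    refine ⟨Finset.mem_univ _, ?_⟩
    obtain ⟨m, ρ, hρ, rfl⟩ := hχ
    have hmn : m = n := by
      have : (m : ℂ) = n := by
        rw [← hn1, Representation.char_one]; simp
      exact_mod_cast this
    subst hmn
    have h1 := hg.2
    have hfr : (Module.finrank ℂ (Fin m → ℂ) : ℝ) = m := by simp
    rw [← hfr, Cfsg.Agent.S0138.result ρ g] at h1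
    obtain ⟨ω, hω⟩ := h1
    rw [← hfr, Cfsg.Agent.S0138.result ρ (g ^ k)]
    refine ⟨ω ^ k, ?_⟩
    rw [map_pow, hω]
    ext v
    simp [smul_pow]
  -- the complement is closed under coprime powers
  have hclosed : ∀ g ∈ S, ∀ k : ℕ, k.Coprime (Nat.card G) → g ^ k ∈ S := by
    intro g hg k hk
    rw [hS, Finset.mem_filter] at hg ⊢
    refine ⟨Finset.mem_univ _, ?_⟩
    intro hgk
    apply hg.2
    have hgkZ : g ^ k ∈ Zc := by rw [hZc, Finset.mem_filter]; exact ⟨Finset.mem_univ _, hgk⟩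
    have hinj : Set.InjOn (fun g : G => g ^ k) (Zc : Set G) := by
      intro a _ b _ hab
      exact (powCoprime hk.symm).injective hab
    have hmaps : Set.MapsTo (fun g : G => g ^ k) (Zc : Set G) (Zc : Set G) :=
      fun g hg => hZpow g hg k
    have hsurj : Set.SurjOn (fun g : G => g ^ k) (Zc : Set G) (Zc : Set G) :=
      Finset.surjOn_of_injOn_of_card_le _ hmaps hinj le_rfl
    obtain ⟨z, hz, hzk⟩ := hsurj hgkZ
    have : z = g := (powCoprime hk.symm).injective hzk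
    rw [← this]
    have hz' : z ∈ Zc := hz
    rw [hZc, Finset.mem_filter] at hz'
    exact hz'.2
  have hgal := card_nonzero_le_sum_norm_sq hchar S hclosed
  -- total sum
  have htot : ∑ g : G, ‖χ g‖ ^ 2 = (Fintype.card G : ℝ) := by
    have h1 := classInner_irr_self hχ
    rw [classInner_def] at h1
    have hG : (Nat.card G : ℂ) ≠ 0 := Nat.cast_ne_zero.2 Nat.card_pos.ne'
    have h2 : ∑ g : G, χ g * conj (χ g) = (Nat.card G : ℂ) := by
      have := (inv_mul_eq_iff_eq_mul₀ hG).mp h1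
      rwa [mul_one] at this
    have h3 : ∀ g : G, χ g * conj (χ g) = ((‖χ g‖ ^ 2 : ℝ) : ℂ) := by
      intro g
      rw [Complex.mul_conj, Complex.normSq_eq_norm_sq]
    simp only [h3] at h2
    rw [← Complex.ofReal_sum, Nat.card_eq_fintype_card] at h2
    exact_mod_cast h2
  have hsplit : ∑ g ∈ Zc, ‖χ g‖ ^ 2 + ∑ g ∈ S, ‖χ g‖ ^ 2 = ∑ g : G, ‖χ g‖ ^ 2 := by
    rw [hZc, hS]
    exact Finset.sum_filter_add_sum_filter_not _ _ _
  have hZsum : ∑ g ∈ Zc, ‖χ g‖ ^ 2 = (Zc.card : ℝ) * (n : ℝ) ^ 2 := by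
    rw [Finset.sum_congr rfl (g := fun _ => (n : ℝ) ^ 2), Finset.sum_const, nsmul_eq_mul]
    intro g hg
    rw [hZc, Finset.mem_filter] at hg
    rw [hg.2]
  have hcard : Zc.card + S.card = Fintype.card G := by
    rw [hZc, hS, Finset.card_filter_add_card_filter_not, Finset.card_univ]
  -- zeros lie in `S`
  have hn0 : (n : ℝ) ≠ 0 := by exact_mod_cast hn.ne'
  have hZ0S : Z0 = S.filter (fun g => ¬ χ g ≠ 0) := by
    rw [hZ0, hS]
    ext g
    simp only [Finset.mem_filter, Finset.mem_univ, true_and, not_not]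
    constructor
    · intro h
      refine ⟨?_, h⟩
      rw [h, norm_zero]
      exact fun h' => hn0 h'.symm
    · exact fun h => h.2
  have hScount : (S.filter (fun g => χ g ≠ 0)).card + Z0.card = S.card := by
    rw [hZ0S]
    exact Finset.card_filter_add_card_filter_not _
  have hn1' : 1 ≤ n ^ 2 := Nat.one_le_pow _ _ hn
  have hreal : ((n ^ 2 - 1 : ℕ) : ℝ) = (n : ℝ) ^ 2 - 1 := by
    rw [Nat.cast_sub hn1']; push_cast; ring
  have hScast : ((S.filter (fun g => χ g ≠ 0)).card : ℝ) + (Z0.card : ℝ) = (S.card : ℝ) := by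
    exact_mod_cast hScount
  have hcardcast : (Zc.card : ℝ) + (S.card : ℝ) = (Fintype.card G : ℝ) := by
    exact_mod_cast hcard
  constructor
  · have : (((n ^ 2 - 1) * Zc.card : ℕ) : ℝ) ≤ (Z0.card : ℝ) := by
      push_cast
      rw [hreal]
      nlinarith
    exact_mod_cast this
  · intro hvals
    have hSsum : ∑ g ∈ S, ‖χ g‖ ^ 2 = ((S.filter (fun g => χ g ≠ 0)).card : ℝ) := by
      rw [Finset.card_filter, Nat.cast_sum]
      refine Finset.sum_congr rfl fun g hg => ?_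
      rw [hS, Finset.mem_filter] at hg
      rcases hvals g with h | h | h
      · have : χ g = 0 := norm_eq_zero.mp h
        rw [h]; simp [this]
      · have : χ g ≠ 0 := by
          intro h0; rw [h0, norm_zero] at h; exact zero_ne_one h
        rw [h]; simp [this]
      · exact absurd h hg.2
    have : (((n ^ 2 - 1) * Zc.card : ℕ) : ℝ) = (Z0.card : ℝ) := by
      push_cast
      rw [hreal]
      nlinarith
    exact_mod_cast this

end Cfsg.Agent.S4574
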