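import Mathlib
import Cfsg.Statements.S4580
import Cfsg.Agent.Lib.Helper8.GS4
import Cfsg.Agent.S0856
import Cfsg.Agent.S0146
import Cfsg.Agent.Lib.Helper1.CharFound8
import Cfsg.Agent.Lib.Helper8.BF7

set_option autoImplicit false
open Cfsg

namespace Cfsg.Agent.S4580

open scoped ComplexConjugate
open Cfsg.Agent.Lib.Helper1 Cfsg.Agent.Lib.Helper4 Cfsg.Agent.Lib.Helper8

/-- Let N be a normal subgroup of the finite group G, M a maximal ideal of the algebraic integers containing 2, and θ a real-valued irreducible character of N of odd degree that extends to G (some irreducible character of G restricts to θ). Then θ has an extension to G lying in the principal 2-block of G. -/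
theorem result {G : Type*} [Group G] [Finite G] (N : Subgroup G) [N.Normal] (M : Ideal Cfsg.AlgInt) (hM : Cfsg.IsPModular 2 M) (θ : Cfsg.IrrCharacter N) (hreal : ∀ n : N, ((θ : N → ℂ) n).im = 0) (hodd : Odd (Cfsg.charDegree (θ : N → ℂ))) (hext : ∃ η : Cfsg.IrrCharacter G, ∀ n : N, (η : G → ℂ) n = (θ : N → ℂ) n) :
    ∃ η : Cfsg.IrrCharacter G, (∀ n : N, (η : G → ℂ) n = (θ : N → ℂ) n) ∧ η ∈ Cfsg.principalBlock M G := by
  classical
  haveI : Fintype G := Fintype.ofFinite G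
  haveI : Fintype N := Fintype.ofFinite N
  haveI : Fact (Nat.Prime 2) := ⟨Nat.prime_two⟩
  have hNn : N.Normal := inferInstance
  have hMp := isPModular_isPrime hM
  obtain ⟨η, hη⟩ := hext
  have hηirr : IsIrrCharacter G (η : G → ℂ) := η.2
  have hθirr : IsIrrCharacter N (θ : N → ℂ) := θ.2
  have hcη : IsIrrCharacter G (fun g => conj ((η : G → ℂ) g)) := isIrrCharacter_conj hηirr
  have h1irr : IsIrrCharacter N (fun _ : N => (1:ℂ)) := by
    have := isIrrCharacter_of_hom (1 : N →* ℂˣ)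
    simpa using this
  have hθinv : ∀ (g : G) (n : N), (θ : N → ℂ) ⟨g * n * g⁻¹, hNn.conj_mem (n : G) n.2 g⟩
      = (θ : N → ℂ) n := by
    intro g n
    rw [← hη, ← hη]
    exact isClassFunction_irr hηirr _ _
  have hone : ((fun _ : N => (1:ℂ)) * (θ : N → ℂ)) = (θ : N → ℂ) := by
    funext n; simp
  have hprod : IsIrrCharacter N ((fun _ : N => (1:ℂ)) * (θ : N → ℂ)) := by
    rw [hone]; exact hθirr
  have hbij := Cfsg.Agent.S0856.result N (fun _ => 1) (θ : N → ℂ) h1irr hθirr (fun _ _ => rfl)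
    hθinv hprod (η : G → ℂ) hηirr hη
  have hmem : (fun g => conj ((η : G → ℂ) g)) ∈ {ψ : G → ℂ | IsIrrCharacter G ψ ∧
      classInner (indFun N ((fun _ : N => (1:ℂ)) * (θ : N → ℂ))) ψ ≠ 0} := by
    refine ⟨hcη, ?_⟩
    rw [hone, Cfsg.Agent.S0146.result N (θ : N → ℂ) _ (isClassFunction_irr hcη)]
    have h2 : (fun h : N => conj ((η : G → ℂ) h)) = (θ : N → ℂ) := by
      funext n
      rw [hη]
      exact Complex.conj_eq_iff_im.2 (hreal n)
    rw [h2, classInner_irr_self hθirr]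
    exact one_ne_zero
  obtain ⟨β, ⟨hβirr, hβN⟩, hβeq⟩ := hbij.surjOn hmem
  have hβeq' : ∀ g, β g * (η : G → ℂ) g = conj ((η : G → ℂ) g) := fun g => congrFun hβeq g
  obtain ⟨d, hd0, hd⟩ := irr_apply_one_pos hηirr
  have hβ1 : β 1 = 1 := by
    have h := hβeq' 1
    rw [hd, Complex.conj_natCast] at h
    have hd' : (d : ℂ) ≠ 0 := Nat.cast_ne_zero.2 hd0.ne'
    exact mul_right_cancel₀ hd' (by rw [h, one_mul])
  obtain ⟨φ, hφ⟩ := exists_hom_of_isIrrCharacter hβirr hβ1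
  have hφN : ∀ n : N, φ (n : G) = 1 := by
    rw [Cfsg.Agent.S0146.result N _ β (isClassFunction_irr hβirr)] at hβN
    have hres : IsIrrCharacter N (fun n : N => β n) := by
      rw [hφ]
      exact isIrrCharacter_of_hom (φ.comp N.subtype)
    have heq : (fun _ : N => (1:ℂ)) = (fun n : N => β n) := by
      by_contra hne
      exact hβN (classInner_irr_ne h1irr hres hne)
    intro n
    have h3 := congrFun heq n
    rw [hφ] at h3
    exact Units.ext h3.symm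
  -- the 2-part / odd part of |G|
  have hG0 : Nat.card G ≠ 0 := Nat.card_pos.ne'
  obtain ⟨j, hj⟩ : ∃ j, Nat.card G / 2 ^ (Nat.card G).factorization 2 = 2 * j + 1 := by
    have h4 := Nat.not_dvd_ordCompl Nat.prime_two hG0
    rw [← even_iff_two_dvd, Nat.not_even_iff_odd] at h4
    exact h4
  have hcard : 2 ^ (Nat.card G).factorization 2 * (2 * j + 1) = Nat.card G := by
    rw [← hj]
    exact Nat.ordProj_mul_ordCompl_eq_self _ _
  have hz1 : ∀ g, ((φ g : ℂˣ) : ℂ) * conj ((φ g : ℂˣ) : ℂ) = 1 := by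
    intro g
    rw [Complex.mul_conj, Complex.normSq_eq_norm_sq, norm_hom_apply]
    simp
  have hzc : ∀ g, ((φ g : ℂˣ) : ℂ) ^ Nat.card G = 1 := by
    intro g
    rw [← Units.val_pow_eq_pow_val, ← map_pow, pow_card_eq_one', map_one, Units.val_one]
  let ψ : G →* ℂˣ := φ ^ (j + 1)
  let ν : G →* ℂˣ := (φ ^ (2 * j + 1))⁻¹
  have h5 : ∀ g, ((ψ g : ℂˣ) : ℂ) = ((φ g : ℂˣ) : ℂ) ^ (j + 1) := by
    intro g
    show (((φ ^ (j+1)) g : ℂˣ) : ℂ) = _
    rw [MonoidHom.pow_apply, Units.val_pow_eq_pow_val]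
  have h6 : ∀ g, ((ν g : ℂˣ) : ℂ) = (((φ g : ℂˣ) : ℂ) ^ (2 * j + 1))⁻¹ := by
    intro g
    show ((((φ ^ (2*j+1))⁻¹) g : ℂˣ) : ℂ) = _
    rw [MonoidHom.inv_apply, MonoidHom.pow_apply, Units.val_inv_eq_inv_val,
      Units.val_pow_eq_pow_val]
  have hη'irr : IsIrrCharacter G (fun g => ((ψ g : ℂˣ) : ℂ) * (η : G → ℂ) g) :=
    isIrrCharacter_hom_mul ψ hηirr
  let η' : IrrCharacter G := ⟨_, hη'irr⟩
  have hη'ext : ∀ n : N, (η' : G → ℂ) n = (θ : N → ℂ) n := by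
    intro n
    show ((ψ (n : G) : ℂˣ) : ℂ) * (η : G → ℂ) n = _
    rw [h5, hφN, Units.val_one, one_pow, one_mul, hη]
  have hconj : ∀ g, conj ((η' : G → ℂ) g) = ((ν g : ℂˣ) : ℂ) * (η' : G → ℂ) g := by
    intro g
    show conj (((ψ g : ℂˣ) : ℂ) * (η : G → ℂ) g) =
      ((ν g : ℂˣ) : ℂ) * (((ψ g : ℂˣ) : ℂ) * (η : G → ℂ) g)
    rw [h5, h6, map_mul, map_pow, ← hβeq' g, hφ]
    have hz0 : ((φ g : ℂˣ) : ℂ) ≠ 0 := Units.ne_zero _
    have hcz : conj ((φ g : ℂˣ) : ℂ) = (((φ g : ℂˣ) : ℂ))⁻¹ :=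
      eq_inv_of_mul_eq_one_left (by rw [mul_comm]; exact hz1 g)
    rw [hcz, ← inv_pow]
    have hwz : ((((φ g : ℂˣ) : ℂ))⁻¹ * ((φ g : ℂˣ) : ℂ)) ^ j = 1 := by
      rw [inv_mul_cancel₀ hz0, one_pow]
    have hkey : (((φ g : ℂˣ) : ℂ))⁻¹ ^ (2 * j + 1) * ((φ g : ℂˣ) : ℂ) ^ (j + 1) =
        (((φ g : ℂˣ) : ℂ))⁻¹ ^ (j + 1) * ((φ g : ℂˣ) : ℂ) := by
      rw [show 2 * j + 1 = (j + 1) + j by ring, pow_add, pow_succ ((φ g : ℂˣ) : ℂ) j]
      calc (((φ g : ℂˣ) : ℂ))⁻¹ ^ (j + 1) * (((φ g : ℂˣ) : ℂ))⁻¹ ^ j *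
            (((φ g : ℂˣ) : ℂ) ^ j * ((φ g : ℂˣ) : ℂ))
          = (((φ g : ℂˣ) : ℂ))⁻¹ ^ (j + 1) * ((((φ g : ℂˣ) : ℂ))⁻¹ * ((φ g : ℂˣ) : ℂ)) ^ j *
            ((φ g : ℂˣ) : ℂ) := by rw [mul_pow]; ring
        _ = _ := by rw [hwz, mul_one]
    linear_combination (-(η : G → ℂ) g) * hkey
  refine ⟨η', hη'ext, ?_⟩
  have hN1 : 1 ≤ Nat.card G := Nat.card_pos
  have hk : (Nat.card G - 1).Coprime (Nat.card G) := by
    have h1 : Nat.card G = 1 + (Nat.card G - 1) := by omega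
    rw [h1, Nat.add_sub_cancel_left, Nat.coprime_add_self_right]
    exact Nat.coprime_one_right _
  have hpow : ∀ g : G, g ^ (Nat.card G - 1) = g⁻¹ := by
    intro g
    apply eq_inv_of_mul_eq_one_left
    rw [← pow_succ, Nat.sub_add_cancel hN1, pow_card_eq_one']
  have hB : IsPBlock M (blockOf M (η' : G → ℂ)) := ⟨η', rfl⟩
  have hχB : η' ∈ blockOf M (η' : G → ℂ) := sameBlock_refl hMp.ne_top _
  obtain ⟨l, hl, h1, h2⟩ := exists_pow_inverse hk
  have hdeg : charDegree (η' : G → ℂ) = charDegree (θ : N → ℂ) := by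
    unfold charDegree
    have h9 := hη'ext 1
    rw [Subgroup.coe_one] at h9
    rw [h9]
  have hdef : blockDefect 2 (blockOf M (η' : G → ℂ)) = (Nat.card G).factorization 2 := by
    obtain ⟨h3, h4⟩ := block_valuations (p := 2) hχB
    have h5 : (charDegree (η' : G → ℂ)).factorization 2 = 0 := by
      apply Nat.factorization_eq_zero_of_not_dvd
      rw [← even_iff_two_dvd, Nat.not_even_iff_odd, hdeg]
      exact hodd
    have h6 : blockHeight 2 (blockOf M (η' : G → ℂ)) (η' : G → ℂ) = 0 := by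
      unfold blockHeight
      rw [h5, Nat.zero_sub]
    omega
  have hfix : powFn (Nat.card G - 1) (η' : G → ℂ) =
      fun g => ((ν g : ℂˣ) : ℂ) * (η' : G → ℂ) g := by
    funext g
    rw [powFn_apply, hpow, isCharacter_inv (isCharacter_of_irr η'.2)]
    exact hconj g
  have hν2 : ∀ g, ((ν g : ℂˣ) : ℂ) ^ (2 ^ (Nat.card G).factorization 2) = 1 := by
    intro g
    rw [h6, inv_pow, ← pow_mul, mul_comm (2 * j + 1), hcard, hzc, inv_one]
  have hs : SameBlock M (fun g => ((ν g : ℂˣ) : ℂ) * (η' : G → ℂ) g) (η' : G → ℂ) :=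
    sameBlock_hom_mul hM ν _ hν2 η'.2
  have h7 := stable_full_defect_principal hM (Nat.card G - 1) hk (fun g _ => hpow g) hB hdef (by
    intro χ hχ
    have h8 : SameBlock M (powFn (Nat.card G - 1) (η' : G → ℂ))
        (powFn (Nat.card G - 1) (χ : G → ℂ)) := sameBlock_powFn h1 hχ
    rw [hfix] at h8
    exact sameBlock_trans hMp (sameBlock_symm hs) h8)
  rw [← h7]
  exact hχB

end Cfsg.Agent.S4580
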