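import Mathlib
import Cfsg.Statements.S4582
import Cfsg.Agent.Lib.Lead.TransferControl

set_option autoImplicit false
open Cfsg
open scoped Pointwise

namespace Cfsg.Agent.S4582

open MulAction Function

/-- functoriality of the transfer in the target -/
theorem transfer_comp {G : Type*} [Group G] (H : Subgroup G) [H.FiniteIndex]
    {A B : Type*} [CommGroup A] [CommGroup B] (ϕ : H →* A) (f : A →* B) (g : G) :
    MonoidHom.transfer (f.comp ϕ) g = f (MonoidHom.transfer ϕ g) := by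
  classical
  letI : Fintype (Quotient (orbitRel (Subgroup.zpowers g) (G ⧸ H))) := Fintype.ofFinite _
  rw [MonoidHom.transfer_eq_prod_quotient_orbitRel_zpowers_quot,
    MonoidHom.transfer_eq_prod_quotient_orbitRel_zpowers_quot, map_prod]
  rfl

/-- The case `G = P N`. -/
theorem main {G : Type*} [Group G] [Finite G] (N : Subgroup G) [N.Normal] (P : Subgroup G)
    (hP2 : IsPGroup 2 P) (hidx : Odd P.index)
    (htop : ∀ g : G, ∃ y ∈ P, ∃ n ∈ N, g = y * n)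
    (hP : ∀ x ∈ P, x ^ 2 ∈ (P ⊓ N) ⊔ ⁅P, P⁆)
    (hQ : ∀ x ∈ P ⊓ N, x ^ 2 ∈ ⁅P ⊓ N, P ⊓ N⁆)
    (hodd : Odd (Nat.card (Abelianization N))) :
    ∀ x ∈ P, x ^ 2 ∈ ⁅P, P⁆ := by
  classical
  -- notation
  let A := Abelianization ↥P
  let ab : ↥P →* A := Abelianization.of
  let sq : A →* A := powMonoidHom 2
  let T : G →* A := MonoidHom.transfer ab
  -- membership in ⁅P,P⁆ vs kernel of ab
  have hker : ∀ (z : G) (hz : z ∈ P), ab ⟨z, hz⟩ = 1 ↔ z ∈ ⁅P, P⁆ := by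
    intro z hz
    rw [← MonoidHom.mem_ker, show ab.ker = commutator ↥P from Abelianization.ker_of ↥P,
      ← Subgroup.map_subtype_commutator P]
    constructor
    · intro h; exact ⟨⟨z, hz⟩, h, rfl⟩
    · rintro ⟨w, hw, hwz⟩
      have : w = ⟨z, hz⟩ := Subtype.ext hwz
      rw [← this]; exact hw
  -- A is a 2-group
  have hA2 : ∀ a : A, ∃ k : ℕ, a ^ 2 ^ k = 1 := by
    intro a
    obtain ⟨x, rfl⟩ := QuotientGroup.mk_surjective a
    obtain ⟨k, hk⟩ := hP2 x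
    refine ⟨k, ?_⟩
    show ab x ^ 2 ^ k = 1
    rw [← map_pow, hk, map_one]
  -- T kills N
  have hTN : ∀ n ∈ N, T n = 1 := by
    intro n hn
    let f : ↥N →* A := T.comp N.subtype
    have h1 : Abelianization.lift f (Abelianization.of ⟨n, hn⟩) = T n := by
      rw [Abelianization.lift_apply_of]; rfl
    have h2 : (Abelianization.of (⟨n, hn⟩ : ↥N)) ^ Nat.card (Abelianization ↥N) = 1 :=
      pow_card_eq_one'
    have h3 : T n ^ Nat.card (Abelianization ↥N) = 1 := by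
      rw [← h1, ← map_pow, h2, map_one]
    obtain ⟨k, hk⟩ := hA2 (T n)
    have hcop : Nat.Coprime (Nat.card (Abelianization ↥N)) (2 ^ k) := by
      apply Nat.Coprime.pow_right
      exact Nat.coprime_two_right.mpr hodd
    have h4 : orderOf (T n) ∣ Nat.card (Abelianization ↥N) := orderOf_dvd_of_pow_eq_one h3
    have h5 : orderOf (T n) ∣ 2 ^ k := orderOf_dvd_of_pow_eq_one hk
    have h6 : orderOf (T n) ∣ 1 := by
      rw [← Nat.Coprime.gcd_eq_one hcop]; exact Nat.dvd_gcd h4 h5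
    exact orderOf_eq_one_iff.mp (Nat.dvd_one.mp h6)
  -- T kills (P ⊓ N) ⊔ ⁅P,P⁆
  have hTker : (P ⊓ N) ⊔ ⁅P, P⁆ ≤ T.ker := by
    rw [sup_le_iff]
    constructor
    · intro z hz
      exact hTN z hz.2
    · refine le_trans ?_ (Abelianization.commutator_subset_ker T)
      exact Subgroup.commutator_mono le_top le_top
  -- T(y)^2 = 1 for y ∈ P
  have hT2 : ∀ y ∈ P, T y ^ 2 = 1 := by
    intro y hy
    rw [← map_pow]
    exact hTker (hP y hy)
  -- control for sq ∘ ab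
  have hctrl : ∀ y ∈ P, ∀ (k : ℕ) (g₀ : G) (hk : g₀⁻¹ * y ^ k * g₀ ∈ P) (hyk : y ^ k ∈ P),
      (sq.comp ab) ⟨g₀⁻¹ * y ^ k * g₀, hk⟩ = (sq.comp ab) ⟨y ^ k, hyk⟩ := by
    intro y hy k g₀ hk hyk
    obtain ⟨p, hp, n, hn, rfl⟩ := htop g₀
    set u := y ^ k with hu
    have hw : p⁻¹ * u * p ∈ P := P.mul_mem (P.mul_mem (P.inv_mem hp) hyk) hp
    set w := p⁻¹ * u * p with hwdef
    have hz : (p * n)⁻¹ * u * (p * n) = w * (w⁻¹ * n⁻¹ * w * n) := by
      rw [hwdef]; group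
    have hqN : w⁻¹ * n⁻¹ * w * n ∈ N := by
      refine N.mul_mem ?_ hn
      have := ‹N.Normal›.conj_mem n⁻¹ (N.inv_mem hn) w⁻¹
      simpa [mul_assoc] using this
    have hqP : w⁻¹ * n⁻¹ * w * n ∈ P := by
      have : w⁻¹ * n⁻¹ * w * n = w⁻¹ * ((p * n)⁻¹ * u * (p * n)) := by rw [hz]; group
      rw [this]
      exact P.mul_mem (P.inv_mem hw) hk
    set q := w⁻¹ * n⁻¹ * w * n with hq
    have hq2 : q ^ 2 ∈ ⁅P, P⁆ :=
      Subgroup.commutator_mono inf_le_left inf_le_left (hQ q ⟨hqP, hqN⟩)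
    have e1 : (⟨(p * n)⁻¹ * u * (p * n), hk⟩ : ↥P) = ⟨w, hw⟩ * ⟨q, hqP⟩ := Subtype.ext hz
    have e2 : (⟨w, hw⟩ : ↥P) = (⟨p, hp⟩ : ↥P)⁻¹ * ⟨u, hyk⟩ * ⟨p, hp⟩ := Subtype.ext rfl
    have e3 : ab ⟨w, hw⟩ = ab ⟨u, hyk⟩ := by
      rw [e2, map_mul, map_mul, map_inv, mul_comm, ← mul_assoc, mul_inv_cancel, one_mul]
    have e4 : ab ⟨q, hqP⟩ ^ 2 = 1 := by
      rw [← map_pow]
      exact (hker (q ^ 2) (P.pow_mem hqP 2)).mpr hq2
    show (ab ⟨(p * n)⁻¹ * u * (p * n), hk⟩) ^ 2 = (ab ⟨u, hyk⟩) ^ 2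
    rw [e1, map_mul, mul_pow, e3, e4, mul_one]
  intro x hx
  haveI : P.FiniteIndex := Subgroup.finiteIndex_of_finite_quotient
  have h1 : MonoidHom.transfer (sq.comp ab) x = (sq.comp ab) ⟨x, hx⟩ ^ P.index :=
    Cfsg.Agent.Lib.Lead.transfer_eq_pow_of_control P (sq.comp ab) x hx
      (fun k g₀ hk => hctrl x hx k g₀ hk (P.pow_mem hx k))
  rw [transfer_comp] at h1
  have h2 : (ab ⟨x, hx⟩ ^ 2) ^ P.index = 1 := by
    have : sq (T x) = T x ^ 2 := rfl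
    have h3 : (sq.comp ab) ⟨x, hx⟩ = ab ⟨x, hx⟩ ^ 2 := rfl
    rw [← h3, ← h1]
    show sq (T x) = 1
    rw [this, hT2 x hx]
  -- so (x^2)^m ∈ ⁅P,P⁆
  have h4 : (x ^ 2) ^ P.index ∈ ⁅P, P⁆ := by
    rw [← hker _ (P.pow_mem (P.pow_mem hx 2) _)]
    have : (⟨(x ^ 2) ^ P.index, P.pow_mem (P.pow_mem hx 2) _⟩ : ↥P) = (⟨x, hx⟩ ^ 2) ^ P.index :=
      Subtype.ext rfl
    rw [this, map_pow, map_pow]; exact h2
  have h5 : ∃ k : ℕ, orderOf (x ^ 2) = 2 ^ k := by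
    obtain ⟨k, hk⟩ := hP2 (⟨x, hx⟩ ^ 2)
    have hk' : (x ^ 2) ^ 2 ^ k = 1 := by
      have := congrArg (Subtype.val) hk
      simpa using this
    obtain ⟨j, _, hj⟩ := (Nat.dvd_prime_pow Nat.prime_two).mp (orderOf_dvd_of_pow_eq_one hk')
    exact ⟨j, hj⟩
  have h6 := Cfsg.Agent.Lib.Lead.mem_zpowers_pow_of_coprime (p := 2) (x ^ 2) h5 P.index
    (Nat.coprime_two_left.mpr hidx)
  exact (Subgroup.zpowers_le.mpr h4) h6

theorem result {G : Type*} [Group G] [Finite G] (N : Subgroup G) [N.Normal] (P : Sylow 2 G)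
    (hP : ∀ x ∈ (P : Subgroup G), x ^ 2 ∈ ((P : Subgroup G) ⊓ N) ⊔ ⁅(P : Subgroup G), (P : Subgroup G)⁆)
    (hQ : ∀ x ∈ (P : Subgroup G) ⊓ N, x ^ 2 ∈ ⁅(P : Subgroup G) ⊓ N, (P : Subgroup G) ⊓ N⁆)
    (hodd : Odd (Nat.card (Abelianization N))) :
    ∀ x ∈ (P : Subgroup G), x ^ 2 ∈ ⁅(P : Subgroup G), (P : Subgroup G)⁆ := by
  classical
  set H : Subgroup G := (P : Subgroup G) ⊔ N with hH
  have hPH : (P : Subgroup G) ≤ H := le_sup_left
  have hNH : N ≤ H := le_sup_right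
  set ι : ↥H →* G := H.subtype with hι
  have hinj : Function.Injective ι := H.subtype_injective
  set P' : Subgroup ↥H := (P : Subgroup G).subgroupOf H with hP'
  set N' : Subgroup ↥H := N.subgroupOf H with hN'
  have mP : P'.map ι = (P : Subgroup G) := Subgroup.map_subgroupOf_eq_of_le hPH
  have mN : N'.map ι = N := Subgroup.map_subgroupOf_eq_of_le hNH
  have mC : (⁅P', P'⁆).map ι = ⁅(P : Subgroup G), (P : Subgroup G)⁆ := by
    rw [Subgroup.map_commutator, mP]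
  have mI : (P' ⊓ N').map ι = (P : Subgroup G) ⊓ N := by
    rw [Subgroup.map_inf _ _ ι hinj, mP, mN]
  have mCI : (⁅P' ⊓ N', P' ⊓ N'⁆).map ι = ⁅(P : Subgroup G) ⊓ N, (P : Subgroup G) ⊓ N⁆ := by
    rw [Subgroup.map_commutator, mI]
  haveI : N'.Normal := Subgroup.normal_subgroupOf
  have hmain := main N' P' ?_ ?_ ?_ ?_ ?_ ?_
  · intro x hx
    have hxH : x ∈ H := hPH hx
    have h1 : (⟨x, hxH⟩ : ↥H) ∈ P' := Subgroup.mem_subgroupOf.mpr hx
    have h2 := hmain ⟨x, hxH⟩ h1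
    rw [← mC]
    exact ⟨_, h2, rfl⟩
  · -- 2-group
    exact P.2.comap_subtype
  · -- odd index
    have h1 : P'.index = (P : Subgroup G).relIndex H := rfl
    rw [h1]
    have h2 : (P : Subgroup G).relIndex H ∣ (P : Subgroup G).index :=
      Subgroup.relIndex_dvd_index_of_le hPH
    have h3 : ¬ 2 ∣ (P : Subgroup G).index := P.not_dvd_index
    rw [← Nat.not_even_iff_odd, even_iff_two_dvd]
    exact fun h => h3 (h.trans h2)
  · -- factorization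
    intro g
    have hg : (g : G) ∈ ((P : Subgroup G) ⊔ N : Subgroup G) := g.2
    rw [← SetLike.mem_coe, Subgroup.mul_normal] at hg
    obtain ⟨y, hy, n, hn, hyn⟩ := hg
    refine ⟨⟨y, hPH hy⟩, Subgroup.mem_subgroupOf.mpr hy, ⟨n, hNH hn⟩, Subgroup.mem_subgroupOf.mpr hn, ?_⟩
    exact Subtype.ext hyn.symm
  · intro x hx
    have h1 : ι x ∈ (P : Subgroup G) := Subgroup.mem_subgroupOf.mp hx
    have h2 := hP (ι x) h1
    rw [← mI, ← mC, ← Subgroup.map_sup, ← map_pow] at h2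
    exact (Subgroup.mem_map_iff_mem hinj).mp h2
  · intro x hx
    have h1 : ι x ∈ (P : Subgroup G) ⊓ N := by
      rw [← mI]; exact ⟨x, hx, rfl⟩
    have h2 := hQ (ι x) h1
    rw [← mCI, ← map_pow] at h2
    exact (Subgroup.mem_map_iff_mem hinj).mp h2
  · have e : ↥N' ≃* ↥N := Subgroup.subgroupOfEquivOfLe hNH
    rw [Nat.card_congr e.abelianizationCongr.toEquiv]
    exact hodd

end Cfsg.Agent.S4582
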