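import Mathlib
import Cfsg.Statements.S4583
import Cfsg.Agent.Lib.Helper8.TM4
import Cfsg.Agent.Lib.Helper8.HD2
import Cfsg.Agent.Lib.Helper8.BlockIso
import Cfsg.Agent.Lib.Helper1.CharFound3

set_option autoImplicit false
open Cfsg

namespace Cfsg.Agent.S4583

open Cfsg.Agent.Lib.Helper1 Cfsg.Agent.Lib.Helper4 Cfsg.Agent.Lib.Helper8

/-- Restriction in stages, for a character of the whole group. -/
theorem classInner_stages {G : Type*} [Group G] {Y N : Subgroup G} [Fintype Y] [Fintype N]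
    [Fintype (Cfsg.IrrCharacter Y)] (hNY : N ≤ Y) {χ : G → ℂ} (hχ : Cfsg.IsCharacter G χ)
    (γ : N → ℂ) :
    Cfsg.classInner (fun n : N => χ n) γ
      = ∑ ψ : Cfsg.IrrCharacter Y, Cfsg.classInner (fun y : Y => χ y) (ψ : Y → ℂ) *
        Cfsg.classInner (fun n : N => (ψ : Y → ℂ) ⟨n, hNY n.2⟩) γ := by
  have hχY : Cfsg.IsCharacter Y (fun y : Y => χ y) :=
    isCharacter_comp_hom hχ Y.subtype
  have hexp := class_function_expansion _ (isClassFunction_of_isCharacter hχY)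
  have h1 : (fun n : N => χ n)
      = ∑ ψ : Cfsg.IrrCharacter Y, Cfsg.classInner (fun y : Y => χ y) (ψ : Y → ℂ) •
        fun n : N => (ψ : Y → ℂ) ⟨n, hNY n.2⟩ := by
    funext n
    have h2 := congrFun hexp ⟨n, hNY n.2⟩
    rw [Finset.sum_apply] at h2 ⊢
    exact h2
  rw [h1, classInner_sum_left]
  refine Finset.sum_congr rfl fun ψ _ => ?_
  rw [classInner_smul_left]

/-- The main argument, for a subgroup `Y` playing the role of `N P`. -/
theorem main_aux {G : Type*} [Group G] [Finite G] (N : Subgroup G) [hNn : N.Normal] (p : ℕ)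
    [Fact p.Prime] (M : Ideal Cfsg.AlgInt) (hM : Cfsg.IsPModular p M) (P : Sylow p G)
    (θ : Cfsg.IrrCharacter N) (hθ : θ ∈ Cfsg.principalBlock M N)
    (hdeg : ¬ p ∣ Cfsg.charDegree (θ : N → ℂ))
    (Y : Subgroup G) (hNY : N ≤ Y) (hPY : (P : Subgroup G) ≤ Y)
    (hidx : ∃ k : ℕ, (N.subgroupOf Y).index = p ^ k)
    (hYC : ∀ c ∈ Subgroup.centralizer ((P : Subgroup G) : Set G), ∀ y ∈ Y, c * y * c⁻¹ ∈ Y)
    (η : Cfsg.IrrCharacter Y) (hη : ∀ n : N, (η : Y → ℂ) ⟨n, hNY n.2⟩ = (θ : N → ℂ) n) :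
    ∃ χ : Cfsg.IrrCharacter G, χ ∈ Cfsg.principalBlock M G ∧
      ¬ p ∣ Cfsg.charDegree (χ : G → ℂ) ∧
      haveI := Fintype.ofFinite N; Cfsg.classInner (fun n : N => (χ : G → ℂ) n) (θ : N → ℂ) ≠ 0 := by
  classical
  haveI : Fintype G := Fintype.ofFinite G
  letI : Fintype N := Fintype.ofFinite N
  have hp : p.Prime := Fact.out
  have hMp := isPModular_isPrime hM
  haveI : Fintype Y := Fintype.ofFinite Y
  haveI : Fintype (Cfsg.IrrCharacter Y) := Fintype.ofFinite _
  -- the normal subgroup `N' = N ∩ Y` of `Y`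
  haveI : (N.subgroupOf Y).Normal := Subgroup.Normal.subgroupOf inferInstance Y
  haveI : Fintype (N.subgroupOf Y) := Fintype.ofFinite _
  have hθ' : irrMap (Subgroup.subgroupOfEquivOfLe hNY).symm θ ∈
      Cfsg.principalBlock M (N.subgroupOf Y) := by
    rw [← irrMap_image_principalBlock (M := M) (Subgroup.subgroupOfEquivOfLe hNY).symm]
    exact ⟨θ, hθ, rfl⟩
  have hres : ∀ n' : N.subgroupOf Y, (η : Y → ℂ) n' =
      (irrMap (Subgroup.subgroupOfEquivOfLe hNY).symm θ : N.subgroupOf Y → ℂ) n' := by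
    intro n'
    rw [irrMap_apply, ← hη]
    congr 1
  have hηB : η ∈ Cfsg.principalBlock M Y :=
    HD.mem_principalBlock_of_restrict (N.subgroupOf Y) hM hidx η _ hθ' hres
  have hηdeg : ¬ p ∣ Cfsg.charDegree (η : Y → ℂ) := by
    have h1 : Cfsg.charDegree (η : Y → ℂ) = Cfsg.charDegree (θ : N → ℂ) := by
      unfold Cfsg.charDegree
      have := hη 1
      rw [← this]
      rfl
    rw [h1]
    exact hdeg
  obtain ⟨χ, hχB, hχdeg, hχη⟩ := TM.exists_principal_over hM P Y hPY hYC η hηB hηdeg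
  refine ⟨χ, hχB, hχdeg, ?_⟩
  -- restriction in stages
  have hstage := classInner_stages hNY (isCharacter_of_irr χ.2) (θ : N → ℂ)
  have ha : ∀ ψ : Cfsg.IrrCharacter Y, ∃ a : ℕ,
      Cfsg.classInner (fun y : Y => (χ : G → ℂ) y) (ψ : Y → ℂ) = a := fun ψ =>
    classInner_char_irr_nat (isCharacter_comp_hom (isCharacter_of_irr χ.2) Y.subtype) ψ.2
  have hb : ∀ ψ : Cfsg.IrrCharacter Y, ∃ b : ℕ,
      Cfsg.classInner (fun n : N => (ψ : Y → ℂ) ⟨n, hNY n.2⟩) (θ : N → ℂ) = b := fun ψ =>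
    classInner_char_irr_nat
      (isCharacter_comp_hom (isCharacter_of_irr ψ.2) (Subgroup.inclusion hNY)) θ.2
  choose a ha using ha
  choose b hb using hb
  have hsum : Cfsg.classInner (fun n : N => (χ : G → ℂ) n) (θ : N → ℂ) =
      ((∑ ψ : Cfsg.IrrCharacter Y, a ψ * b ψ : ℕ) : ℂ) := by
    rw [hstage]
    push_cast
    refine Finset.sum_congr rfl fun ψ _ => ?_
    rw [ha ψ, hb ψ]
  have hbη : b η = 1 := by
    have h1 : (fun n : N => (η : Y → ℂ) ⟨n, hNY n.2⟩) = (θ : N → ℂ) := by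
      funext n
      exact hη n
    have h2 := hb η
    rw [h1, classInner_irr_self θ.2] at h2
    exact_mod_cast h2.symm
  have haη : a η ≠ 0 := by
    intro h
    apply hχη
    rw [ha η, h, Nat.cast_zero]
  intro hzero
  have hz : (∑ ψ : Cfsg.IrrCharacter Y, a ψ * b ψ : ℕ) = 0 := by
    have := hsum.symm.trans hzero
    exact_mod_cast this
  have h1 := (Finset.sum_eq_zero_iff.1 hz) η (Finset.mem_univ _)
  rw [hbη, mul_one] at h1
  exact haη h1

/-- Let N be a normal subgroup of the finite group G, p a prime, M a maximal ideal of the algebraic integers containing p, and P a Sylow p-subgroup of G. Let θ be an irreducible character of N of degree prime to p lying in the principal p-block of N, and suppose θ extends to the subgroup NP (some irreducible character of NP restricts to θ). Then some irreducible character χ of G of degree prime to p in the principal p-block of G lies over θ (θ is a constituent of the restriction of χ to N). -/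
theorem result {G : Type*} [Group G] [Finite G] (N : Subgroup G) [N.Normal] (p : ℕ) [Fact p.Prime] (M : Ideal Cfsg.AlgInt) (hM : Cfsg.IsPModular p M) (P : Sylow p G)
    (θ : Cfsg.IrrCharacter N) (hθ : θ ∈ Cfsg.principalBlock M N) (hdeg : ¬ p ∣ Cfsg.charDegree (θ : N → ℂ))
    (hext : ∃ η : Cfsg.IrrCharacter ↥(N ⊔ (P : Subgroup G)), ∀ n : N, (η : ↥(N ⊔ (P : Subgroup G)) → ℂ) (Subgroup.inclusion le_sup_left n) = (θ : N → ℂ) n) :
    ∃ χ : Cfsg.IrrCharacter G, χ ∈ Cfsg.principalBlock M G ∧ ¬ p ∣ Cfsg.charDegree (χ : G → ℂ) ∧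
      haveI := Fintype.ofFinite N; Cfsg.classInner (fun n : N => (χ : G → ℂ) n) (θ : N → ℂ) ≠ 0 := by
  have hp : p.Prime := Fact.out
  obtain ⟨η, hη⟩ := hext
  have hidx : ∃ k : ℕ, (N.subgroupOf (N ⊔ (P : Subgroup G))).index = p ^ k := by
    have h1 : (N.subgroupOf (N ⊔ (P : Subgroup G))).index = N.relIndex (P : Subgroup G) :=
      Subgroup.relIndex_sup_left (K := N) (H := (P : Subgroup G))
    obtain ⟨k, hk⟩ := IsPGroup.iff_card.1 P.isPGroup'
    have h2 : N.relIndex (P : Subgroup G) ∣ p ^ k := hk ▸ Subgroup.relIndex_dvd_card _ _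
    obtain ⟨j, -, hj⟩ := (Nat.dvd_prime_pow hp).1 h2
    exact ⟨j, h1.trans hj⟩
  have hYC : ∀ c ∈ Subgroup.centralizer ((P : Subgroup G) : Set G),
      ∀ y ∈ N ⊔ (P : Subgroup G), c * y * c⁻¹ ∈ N ⊔ (P : Subgroup G) := by
    intro c hc y hy
    have h1 : y ∈ ((N ⊔ (P : Subgroup G) : Subgroup G) : Set G) := hy
    rw [Subgroup.normal_mul] at h1
    obtain ⟨n, hn, u, hu, rfl⟩ := Set.mem_mul.1 h1
    have h2 : c * (n * u) * c⁻¹ = (c * n * c⁻¹) * u := by
      have := (Subgroup.mem_centralizer_iff.1 hc) u hu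
      calc c * (n * u) * c⁻¹ = (c * n * c⁻¹) * (c * u) * c⁻¹ := by group
        _ = (c * n * c⁻¹) * (u * c) * c⁻¹ := by rw [this]
        _ = (c * n * c⁻¹) * u := by group
    rw [h2]
    exact (N ⊔ (P : Subgroup G)).mul_mem
      ((le_sup_left : N ≤ N ⊔ (P : Subgroup G)) (‹N.Normal›.conj_mem n hn c))
      ((le_sup_right : (P : Subgroup G) ≤ N ⊔ (P : Subgroup G)) hu)
  exact main_aux N p M hM P θ hθ hdeg (N ⊔ (P : Subgroup G)) le_sup_left le_sup_right hidx hYC η
    (fun n => hη n)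

end Cfsg.Agent.S4583
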