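import Mathlib
import Cfsg.Statements.S4584
import Cfsg.Agent.Lib.Helper7.P4a

set_option autoImplicit false
open Cfsg

namespace Cfsg.Agent.S4584

open Cfsg.Agent.Lib.Helper7.P4

theorem common {P : Type*} [Group P] [Finite P] (p : ℕ) [hp : Fact p.Prime] (hP : Nat.card P = p ^ 4)
    (x : P) (hx : x ∉ Subgroup.center P)
    (hidx : (Subgroup.centralizer ({x} : Set P)).index = p) :
    Nat.card (commutator P) * Nat.card (Subgroup.center P) = p ^ 3 := by
  have hPG : IsPGroup p P := IsPGroup.of_card hP
  have hmin : (Nat.card P).minFac = p := by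
    rw [hP]; exact Nat.Prime.pow_minFac hp.out (by norm_num)
  have hc : Nat.card (Subgroup.centralizer ({x} : Set P)) = p ^ 3 := by
    have h1 := Subgroup.card_mul_index (Subgroup.centralizer ({x} : Set P))
    rw [hidx, hP] at h1
    have h2 : p ^ 4 = p ^ 3 * p := by ring
    rw [h2] at h1
    exact Nat.eq_of_mul_eq_mul_right hp.out.pos h1
  have hab := centralizer_comm hPG hx hc
  rw [key hidx hmin hab, hc]

theorem exists_not_mem_center {P : Type*} [Group P] (h : Subgroup.center P ≠ ⊤) :
    ∃ x : P, x ∉ Subgroup.center P := by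
  by_contra h1
  push Not at h1
  exact h (eq_top_iff.mpr fun g _ => h1 g)

theorem centralizer_ne_top {P : Type*} [Group P] {x : P} (hx : x ∉ Subgroup.center P) :
    Subgroup.centralizer ({x} : Set P) ≠ ⊤ := by
  intro h
  rw [Subgroup.centralizer_eq_top_iff_subset] at h
  exact hx (h (Set.mem_singleton x))

/-- Let p be a prime and P a group of order p^4. Then the derived subgroup P' has order p if and only if the centre Z(P) has index p^2 in P. -/
theorem result {P : Type*} [Group P] [Finite P] (p : ℕ) [Fact p.Prime] (hP : Nat.card P = p ^ 4) :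
    Nat.card (commutator P) = p ↔ (Subgroup.center P).index = p ^ 2 := by
  have hp : p.Prime := Fact.out
  constructor
  · intro hD
    have hZtop : Subgroup.center P ≠ ⊤ := by
      intro h
      have h1 : commutator P = ⊥ := by
        rw [commutator_def, Subgroup.commutator_top_left_eq_bot_iff_le_center, h]
      rw [h1, Subgroup.card_bot] at hD
      exact hp.one_lt.ne hD
    obtain ⟨x, hx⟩ := exists_not_mem_center hZtop
    have h1 := index_centralizer_le x
    rw [hD] at h1
    have h2 : (Subgroup.centralizer ({x} : Set P)).index ∣ p ^ 4 :=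
      hP ▸ Subgroup.index_dvd_card _
    obtain ⟨k, hk, hk2⟩ := (Nat.dvd_prime_pow hp).mp h2
    have hk1 : k ≤ 1 := by
      rw [hk2] at h1
      have : p ^ k ≤ p ^ 1 := by rw [pow_one]; exact h1
      exact (Nat.pow_le_pow_iff_right hp.one_lt).mp this
    have hk0 : k ≠ 0 := by
      intro h0
      rw [h0, pow_zero] at hk2
      exact centralizer_ne_top hx (Subgroup.index_eq_one.mp hk2)
    have hk' : k = 1 := by omega
    rw [hk', pow_one] at hk2
    have h3 := common p hP x hx hk2
    rw [hD] at h3
    have h4 : Nat.card (Subgroup.center P) = p ^ 2 := by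
      have : p ^ 3 = p * p ^ 2 := by ring
      rw [this] at h3
      exact Nat.eq_of_mul_eq_mul_left hp.pos h3
    have h5 := Subgroup.card_mul_index (Subgroup.center P)
    rw [h4, hP] at h5
    have : p ^ 4 = p ^ 2 * p ^ 2 := by ring
    rw [this] at h5
    exact Nat.eq_of_mul_eq_mul_left (pow_pos hp.pos 2) h5
  · intro hZ
    have hZtop : Subgroup.center P ≠ ⊤ := by
      intro h
      rw [h, Subgroup.index_top] at hZ
      have : 1 < p ^ 2 := Nat.one_lt_pow (by norm_num) hp.one_lt
      omega
    obtain ⟨x, hx⟩ := exists_not_mem_center hZtop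
    have hle : Subgroup.center P ≤ Subgroup.centralizer ({x} : Set P) :=
      Subgroup.center_le_centralizer _
    have h2 : (Subgroup.centralizer ({x} : Set P)).index ∣ p ^ 2 :=
      hZ ▸ Subgroup.index_dvd_of_le hle
    obtain ⟨k, hk, hk2⟩ := (Nat.dvd_prime_pow hp).mp h2
    have hk0 : k ≠ 0 := by
      intro h0
      rw [h0, pow_zero] at hk2
      exact centralizer_ne_top hx (Subgroup.index_eq_one.mp hk2)
    have hk2' : k ≠ 2 := by
      intro h0
      rw [h0] at hk2
      have e1 := Subgroup.card_mul_index (Subgroup.center P)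
      have e2 := Subgroup.card_mul_index (Subgroup.centralizer ({x} : Set P))
      rw [hZ] at e1
      rw [hk2, ← e1] at e2
      have e3 := Nat.eq_of_mul_eq_mul_right (pow_pos hp.pos 2) e2
      have e4 : Subgroup.center P = Subgroup.centralizer ({x} : Set P) :=
        Subgroup.eq_of_le_of_card_ge hle e3.le
      apply hx
      rw [e4]
      exact Subgroup.mem_centralizer_singleton_iff.mpr rfl
    have hk' : k = 1 := by omega
    rw [hk', pow_one] at hk2
    have h3 := common p hP x hx hk2
    have h4 : Nat.card (Subgroup.center P) = p ^ 2 := by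
      have h5 := Subgroup.card_mul_index (Subgroup.center P)
      rw [hZ, hP] at h5
      have : p ^ 4 = p ^ 2 * p ^ 2 := by ring
      rw [this] at h5
      exact Nat.eq_of_mul_eq_mul_right (pow_pos hp.pos 2) h5
    rw [h4] at h3
    have : p ^ 3 = p * p ^ 2 := by ring
    rw [this] at h3
    exact Nat.eq_of_mul_eq_mul_right (pow_pos hp.pos 2) h3

end Cfsg.Agent.S4584
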