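import Mathlib
import Cfsg.Statements.S4585
import Cfsg.Agent.S4584
import Cfsg.Agent.Lib.Lead.Frattini
import Cfsg.Agent.Lib.Lead.Nilpotent

set_option autoImplicit false
open Cfsg

namespace Cfsg.Agent.S4585

variable {G : Type*} [Group G]

theorem eq_bot_of_commutator_eq [Group.IsNilpotent G] (H : Subgroup G) (h : ⁅H, (⊤ : Subgroup G)⁆ = H) :
    H = ⊥ := by
  have h1 : ∀ n, H ≤ (⊤ : Subgroup G).lowerCentralSeries n := by
    intro n
    induction n with
    | zero => exact le_top
    | succ n ih =>
      rw [Subgroup.lowerCentralSeries_succ, ← h]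
      exact Subgroup.commutator_mono ih le_rfl
  have h2 := h1 (Group.nilpotencyClass G)
  rwa [Subgroup.lowerCentralSeries_nilpotencyClass, le_bot_iff] at h2

/-- the orders of the terms of the lower central series of a `p`-group drop -/
theorem card_succ [Finite G] [Group.IsNilpotent G] {p : ℕ} (hp : p.Prime) (n k : ℕ)
    (h : Nat.card ((⊤ : Subgroup G).lowerCentralSeries n) = p ^ (k + 1)) :
    ∃ j ≤ k, Nat.card ((⊤ : Subgroup G).lowerCentralSeries (n + 1)) = p ^ j := by
  have hle : (⊤ : Subgroup G).lowerCentralSeries (n + 1) ≤ (⊤ : Subgroup G).lowerCentralSeries n :=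
    Subgroup.lowerCentralSeries_antitone _ (Nat.le_succ n)
  have hdvd := Subgroup.card_dvd_of_le hle
  rw [h] at hdvd
  obtain ⟨j, hj, hj2⟩ := (Nat.dvd_prime_pow hp).mp hdvd
  refine ⟨j, ?_, hj2⟩
  by_contra hlt
  have hj' : j = k + 1 := by omega
  rw [hj', ← h] at hj2
  have heq : (⊤ : Subgroup G).lowerCentralSeries (n + 1) = (⊤ : Subgroup G).lowerCentralSeries n :=
    Subgroup.eq_of_le_of_card_ge hle hj2.ge
  rw [Subgroup.lowerCentralSeries_succ] at heq
  have hbot := eq_bot_of_commutator_eq _ heq
  rw [hbot, Subgroup.card_bot] at h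
  have : 1 < p ^ (k + 1) := Nat.one_lt_pow (by omega) hp.one_lt
  omega

theorem center_index_ne_prime [Finite G] {p : ℕ} (hp : p.Prime) :
    (Subgroup.center G).index ≠ p := by
  intro h
  haveI : Fact (Nat.card (G ⧸ Subgroup.center G)).Prime := by
    rw [← Subgroup.index_eq_card]; exact ⟨h ▸ hp⟩
  haveI : IsCyclic (G ⧸ Subgroup.center G) := isCyclic_of_prime_card rfl
  have hcomm := MonoidHom.isMulCommutative_of_isCyclic_of_ker_le_center
    (QuotientGroup.mk' (Subgroup.center G)) (by rw [QuotientGroup.ker_mk'])
  have htop : Subgroup.center G = ⊤ := by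
    rw [eq_top_iff]
    intro g _
    rw [Subgroup.mem_center_iff]
    intro a
    exact hcomm.is_comm.comm a g
  rw [htop, Subgroup.index_top] at h
  exact hp.one_lt.ne h

theorem commutator_index_ne_prime [Finite G] {p : ℕ} [hp : Fact p.Prime] (hG : IsPGroup p G)
    (hnc : ¬ IsMulCommutative G) : (commutator G).index ≠ p := by
  intro h
  have hne : commutator G ≠ ⊤ := by
    intro h1
    rw [h1, Subgroup.index_top] at h
    exact hp.out.one_lt.ne h
  obtain ⟨x, hx⟩ : ∃ x : G, x ∉ commutator G := by
    by_contra h1
    push Not at h1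
    exact hne (eq_top_iff.mpr fun g _ => h1 g)
  have hgen : Subgroup.zpowers x ⊔ commutator G = ⊤ := by
    have h1 : (Subgroup.zpowers x ⊔ commutator G).index ∣ p :=
      h ▸ Subgroup.index_dvd_of_le le_sup_right
    rcases (Nat.dvd_prime hp.out).mp h1 with h2 | h2
    · exact Subgroup.index_eq_one.mp h2
    · exfalso
      have h3 : commutator G = Subgroup.zpowers x ⊔ commutator G := by
        apply Subgroup.eq_of_le_of_card_ge le_sup_right
        have e1 := Subgroup.card_mul_index (commutator G)
        have e2 := Subgroup.card_mul_index (Subgroup.zpowers x ⊔ commutator G)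
        rw [h] at e1
        rw [h2, ← e1] at e2
        exact (Nat.eq_of_mul_eq_mul_right hp.out.pos e2).le
      apply hx
      rw [h3]
      exact Subgroup.mem_sup_left (Subgroup.mem_zpowers x)
  have hfr : Subgroup.zpowers x ⊔ frattini G = ⊤ := by
    rw [eq_top_iff, ← hgen]
    exact sup_le_sup_left (Cfsg.Agent.Lib.Lead.commutator_le_frattini_of_isPGroup hG) _
  have hcyc : Subgroup.zpowers x = ⊤ := frattini_nongenerating hfr
  apply hnc
  refine ⟨⟨fun a b => ?_⟩⟩
  have ha : a ∈ Subgroup.zpowers x := by rw [hcyc]; exact Subgroup.mem_top a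
  have hb : b ∈ Subgroup.zpowers x := by rw [hcyc]; exact Subgroup.mem_top b
  obtain ⟨i, rfl⟩ := ha
  obtain ⟨j, rfl⟩ := hb
  exact (Commute.zpow_zpow_self x i j).eq

/-- Let p be a prime and P a group of order p^4. Then P' has index p^2 in P if and only if P has maximal nilpotency class, that is, nilpotency class exactly 3. -/
theorem result {P : Type*} [Group P] [Finite P] (p : ℕ) [Fact p.Prime] (hP : Nat.card P = p ^ 4) :
    (commutator P).index = p ^ 2 ↔ Group.nilpotencyClass P = 3 := by
  have hp : p.Prime := Fact.out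
  have hPG : IsPGroup p P := IsPGroup.of_card hP
  haveI : Group.IsNilpotent P := hPG.isNilpotent
  haveI : Nontrivial P := by
    rw [← Finite.one_lt_card_iff_nontrivial, hP]
    exact Nat.one_lt_pow (by norm_num) hp.one_lt
  have hL1 : (⊤ : Subgroup P).lowerCentralSeries 1 = commutator P := rfl
  have hL2 : (⊤ : Subgroup P).lowerCentralSeries 2 = ⊥ ↔ commutator P ≤ Subgroup.center P := by
    rw [Subgroup.lowerCentralSeries_succ, hL1, Subgroup.commutator_top_right_eq_bot_iff_le_center]
  have hidxcard : ∀ j : ℕ, j ≤ 4 → Nat.card (commutator P) = p ^ j →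
      (commutator P).index = p ^ (4 - j) := by
    intro j hj hc
    have h1 := Subgroup.card_mul_index (commutator P)
    rw [hc, hP] at h1
    have : p ^ 4 = p ^ j * p ^ (4 - j) := by rw [← pow_add]; congr 1; omega
    rw [this] at h1
    exact Nat.eq_of_mul_eq_mul_left (pow_pos hp.pos j) h1
  constructor
  · intro hidx
    have hc : Nat.card (commutator P) = p ^ 2 := by
      have h1 := Subgroup.card_mul_index (commutator P)
      rw [hidx, hP] at h1
      have : p ^ 4 = p ^ 2 * p ^ 2 := by ring
      rw [this] at h1
      exact Nat.eq_of_mul_eq_mul_right (pow_pos hp.pos 2) h1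
    -- class ≤ 3
    have hle3 : Group.nilpotencyClass P ≤ 3 := by
      rw [← Subgroup.lowerCentralSeries_eq_bot_iff_nilpotencyClass_le]
      obtain ⟨j, hj, hj2⟩ := card_succ hp 1 1 (by rw [hL1, hc])
      have hj' : j = 0 ∨ j = 1 := by omega
      rcases hj' with h0 | h1
      · rw [h0, pow_zero] at hj2
        have hb : (⊤ : Subgroup P).lowerCentralSeries 2 = ⊥ := Subgroup.card_eq_one.mp hj2
        have := Subgroup.lowerCentralSeries_antitone (⊤ : Subgroup P) (show 2 ≤ 3 by norm_num)
        rw [hb, le_bot_iff] at this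
        exact this
      · rw [h1] at hj2
        obtain ⟨i, hi, hi2⟩ := card_succ hp 2 0 (by rw [hj2])
        have hi0 : i = 0 := by omega
        rw [hi0, pow_zero] at hi2
        exact Subgroup.card_eq_one.mp hi2
    -- class > 2
    have hgt2 : ¬ Group.nilpotencyClass P ≤ 2 := by
      rw [← Subgroup.lowerCentralSeries_eq_bot_iff_nilpotencyClass_le, hL2]
      intro hle
      have hdvd := Subgroup.card_dvd_of_le hle
      rw [hc] at hdvd
      obtain ⟨k, hk, hk2⟩ := (Nat.dvd_prime_pow hp).mp
        (hP ▸ Subgroup.card_subgroup_dvd_card (Subgroup.center P))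
      rw [hk2] at hdvd
      have hk2' : 2 ≤ k := (Nat.pow_dvd_pow_iff_le_right hp.one_lt).mp hdvd
      have hZidx : (Subgroup.center P).index = p ^ (4 - k) := by
        have h1 := Subgroup.card_mul_index (Subgroup.center P)
        rw [hk2, hP] at h1
        have : p ^ 4 = p ^ k * p ^ (4 - k) := by rw [← pow_add]; congr 1; omega
        rw [this] at h1
        exact Nat.eq_of_mul_eq_mul_left (pow_pos hp.pos k) h1
      have hk3 : k = 2 ∨ k = 3 ∨ k = 4 := by omega
      rcases hk3 with h | h | h
      · rw [h] at hZidx
        have := (Cfsg.Agent.S4584.result p hP).mpr hZidx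
        rw [hc] at this
        have h2 : p ^ 2 = p ^ 1 := by rw [pow_one]; exact this
        have := Nat.pow_right_injective hp.two_le h2
        omega
      · rw [h] at hZidx
        exact center_index_ne_prime hp (by simpa using hZidx)
      · rw [h] at hZidx
        have htop : Subgroup.center P = ⊤ := Subgroup.index_eq_one.mp (by simpa using hZidx)
        have h1 : commutator P = ⊥ := by
          rw [commutator_def, Subgroup.commutator_top_left_eq_bot_iff_le_center, htop]
        rw [h1, Subgroup.card_bot] at hc
        have : 1 < p ^ 2 := Nat.one_lt_pow (by norm_num) hp.one_lt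
        omega
    omega
  · intro hcl
    have hL2ne : ¬ (commutator P ≤ Subgroup.center P) := by
      rw [← hL2, Subgroup.lowerCentralSeries_eq_bot_iff_nilpotencyClass_le, hcl]
      norm_num
    obtain ⟨j, hj, hj2⟩ := (Nat.dvd_prime_pow hp).mp
      (hP ▸ Subgroup.card_subgroup_dvd_card (commutator P))
    have hnc : ¬ IsMulCommutative P := by
      intro h
      apply hL2ne
      intro g _
      rw [Subgroup.mem_center_iff]
      intro a
      exact h.is_comm.comm a g
    have hj5 : j = 0 ∨ j = 1 ∨ j = 2 ∨ j = 3 ∨ j = 4 := by omega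
    rcases hj5 with h | h | h | h | h
    · exfalso
      rw [h, pow_zero] at hj2
      have : commutator P = ⊥ := Subgroup.card_eq_one.mp hj2
      apply hL2ne
      rw [this]; exact bot_le
    · exfalso
      rw [h, pow_one] at hj2
      apply hL2ne
      have hne : commutator P ≠ ⊥ := by
        intro hb
        rw [hb, Subgroup.card_bot] at hj2
        exact hp.one_lt.ne hj2
      have h1 := Cfsg.Agent.Lib.Lead.inf_center_ne_bot (commutator P) hne
      have h2 : Nat.card ↥(commutator P ⊓ Subgroup.center P) ∣ p :=
        hj2 ▸ Subgroup.card_dvd_of_le inf_le_left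
      rcases (Nat.dvd_prime hp).mp h2 with h3 | h3
      · exact absurd (Subgroup.card_eq_one.mp h3) h1
      · have h4 : commutator P ⊓ Subgroup.center P = commutator P :=
          Subgroup.eq_of_le_of_card_ge inf_le_left (by rw [h3, hj2])
        rw [← h4]
        exact inf_le_right
    · rw [hidxcard 2 (by norm_num) (h ▸ hj2)]
    · exfalso
      have := hidxcard 3 (by norm_num) (h ▸ hj2)
      exact commutator_index_ne_prime hPG hnc (by simpa using this)
    · exfalso
      have := hidxcard 4 (by norm_num) (h ▸ hj2)
      have htop : commutator P = ⊤ := Subgroup.index_eq_one.mp (by simpa using this)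
      haveI : Group.IsSolvable P := inferInstance
      exact (Group.IsSolvable.commutator_lt_top_of_nontrivial P).ne htop

end Cfsg.Agent.S4585
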