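import Mathlib
import Cfsg.Statements.S4586
import Cfsg.Agent.Lib.Helper7.AbMax1

set_option autoImplicit false
open Cfsg

namespace Cfsg.Agent.S4586

open Cfsg.Agent.Lib.Helper7.AbMax
open scoped commutatorElement

variable {P : Type*} [Group P] [Finite P]

/-- the order of the image of a subgroup containing the kernel -/
theorem card_map_mk (K : Subgroup P) [K.Normal] (T : Subgroup P) (hKT : K ≤ T) :
    Nat.card (T.map (QuotientGroup.mk' K)) * Nat.card K = Nat.card T := by
  set f : T →* P ⧸ K := (QuotientGroup.mk' K).comp T.subtype with hf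
  have hr : f.range = T.map (QuotientGroup.mk' K) := by
    rw [hf, MonoidHom.range_comp, Subgroup.range_subtype]
  have hk : f.ker = K.subgroupOf T := by
    ext t
    rw [MonoidHom.mem_ker, Subgroup.mem_subgroupOf]
    show QuotientGroup.mk' K (t : P) = 1 ↔ _
    rw [QuotientGroup.mk'_apply, QuotientGroup.eq_one_iff]
  have h1 := Subgroup.card_eq_card_quotient_mul_card_subgroup f.ker
  rw [Nat.card_congr (QuotientGroup.quotientKerEquivRange f).toEquiv, hr, hk,
    Nat.card_congr (Subgroup.subgroupOfEquivOfLe hKT).toEquiv] at h1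
  exact h1.symm

/-- the key identity `[P : P'] · |N'| = p · c(x)` -/
theorem core (p : ℕ) [hp : Fact p.Prime] (N : Subgroup P) [N.Normal] (hN : N.index = p)
    (x : P) (hx : x ∉ N) :
    (commutator P).index * Nat.card (commutator N) = p *
      Nat.card {n : N // x * n * x⁻¹ * (n : P)⁻¹ ∈ (commutator N).map N.subtype} := by
  rw [Subgroup.map_subtype_commutator]
  have hcK : Nat.card (commutator N) = Nat.card (⁅N, N⁆ : Subgroup P) := by
    rw [← Subgroup.map_subtype_commutator, Subgroup.card_map_of_injective N.subtype_injective]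
  rw [hcK]
  set K : Subgroup P := ⁅N, N⁆ with hK
  have hKN : K ≤ N := Subgroup.commutator_le_left N N
  have hKP : K ≤ commutator P := by
    rw [commutator_def]; exact Subgroup.commutator_mono le_top le_top
  set π := QuotientGroup.mk' K with hπ
  have hπs : Function.Surjective π := QuotientGroup.mk'_surjective K
  set A : Subgroup (P ⧸ K) := N.map π with hA
  haveI : A.Normal := Subgroup.Normal.map inferInstance π hπs
  have hab : ∀ a ∈ A, ∀ b ∈ A, a * b = b * a := by
    rintro _ ⟨n, hn, rfl⟩ _ ⟨m, hm, rfl⟩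
    have h1 : ⁅n, m⁆ ∈ K := Subgroup.commutator_mem_commutator hn hm
    have h2 : π ⁅n, m⁆ = 1 := (QuotientGroup.eq_one_iff _).mpr h1
    rw [map_commutatorElement, commutatorElement_eq_one_iff_mul_comm] at h2
    exact h2
  -- generation
  have hgenP : N ⊔ Subgroup.zpowers x = ⊤ := by
    have h1 : (N ⊔ Subgroup.zpowers x).index ∣ p := hN ▸ Subgroup.index_dvd_of_le le_sup_left
    rcases (Nat.dvd_prime hp.out).mp h1 with h2 | h2
    · exact Subgroup.index_eq_one.mp h2
    · exfalso
      have h3 : N = N ⊔ Subgroup.zpowers x := by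
        apply Subgroup.eq_of_le_of_card_ge le_sup_left
        have e1 := Subgroup.card_mul_index N
        have e2 := Subgroup.card_mul_index (N ⊔ Subgroup.zpowers x)
        rw [hN] at e1
        rw [h2, ← e1] at e2
        exact (Nat.eq_of_mul_eq_mul_right hp.out.pos e2).le
      apply hx
      rw [h3]
      exact Subgroup.mem_sup_right (Subgroup.mem_zpowers x)
  have hgen : A ⊔ Subgroup.zpowers (π x) = ⊤ := by
    rw [hA, ← MonoidHom.map_zpowers, ← Subgroup.map_sup, hgenP]
    exact Subgroup.map_top_of_surjective _ hπs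
  have hAB := card_commutator_mul A hab (π x) hgen
  -- (1) |A| |K| = |N|
  have h1 : Nat.card A * Nat.card K = Nat.card N := card_map_mk K N hKN
  -- (2) index of the commutator subgroup
  have h2 : (commutator (P ⧸ K)).index = (commutator P).index := by
    have : commutator (P ⧸ K) = (commutator P).map π := by
      rw [commutator_def, commutator_def, Subgroup.map_commutator,
        Subgroup.map_top_of_surjective _ hπs]
    rw [this]
    apply Subgroup.index_map_eq _ hπs
    rw [hπ, QuotientGroup.ker_mk']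
    exact hKP
  -- (3) |Q| |K| = |P|
  have h3 : Nat.card (P ⧸ K) * Nat.card K = Nat.card P :=
    (Subgroup.card_eq_card_quotient_mul_card_subgroup K).symm
  -- (4) c(x) = |ker θ| |K|
  set T : Subgroup P := N ⊓ (Subgroup.centralizer ({π x} : Set (P ⧸ K))).comap π with hT
  have hKT : K ≤ T := by
    intro k hk
    rw [hT, Subgroup.mem_inf]
    refine ⟨hKN hk, ?_⟩
    rw [Subgroup.mem_comap, Subgroup.mem_centralizer_singleton_iff]
    have : π k = 1 := (QuotientGroup.eq_one_iff _).mpr hk
    rw [this, one_mul, mul_one]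
  have hcond : ∀ n : P, x * n * x⁻¹ * n⁻¹ ∈ K ↔
      π n ∈ Subgroup.centralizer ({π x} : Set (P ⧸ K)) := by
    intro n
    rw [Subgroup.mem_centralizer_singleton_iff, ← QuotientGroup.eq_one_iff, ← QuotientGroup.mk'_apply,
      ← hπ, map_mul, map_mul, map_mul, map_inv, map_inv]
    constructor
    · intro h
      calc π n * π x = (π x * π n * (π x)⁻¹ * (π n)⁻¹)⁻¹ * (π x * π n) := by group
        _ = π x * π n := by rw [h, inv_one, one_mul]
    · intro h
      calc π x * π n * (π x)⁻¹ * (π n)⁻¹ = (π x * π n) * (π n * π x)⁻¹ := by group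
        _ = 1 := by rw [h, mul_inv_cancel]
  have h4a : Nat.card {n : N // x * n * x⁻¹ * (n : P)⁻¹ ∈ K} = Nat.card T := by
    apply Nat.card_congr
    refine ⟨fun n => ⟨n.1.1, ?_⟩, fun t => ⟨⟨t.1, ?_⟩, ?_⟩, ?_, ?_⟩
    · rw [hT, Subgroup.mem_inf]
      exact ⟨n.1.2, (hcond _).mp n.2⟩
    · exact (Subgroup.mem_inf.mp t.2).1
    · exact (hcond _).mpr (Subgroup.mem_inf.mp t.2).2
    · intro n; rfl
    · intro t; rfl
  have h4b : T.map π = (theta A hab (π x)).ker.map A.subtype := by
    ext y
    constructor
    · rintro ⟨t, ht, rfl⟩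
      rw [SetLike.mem_coe, hT, Subgroup.mem_inf] at ht
      have htA : π t ∈ A := ⟨t, ht.1, rfl⟩
      refine ⟨⟨π t, htA⟩, ?_, rfl⟩
      rw [SetLike.mem_coe, mem_ker_theta]
      have := ht.2
      rw [Subgroup.mem_comap, Subgroup.mem_centralizer_singleton_iff] at this
      exact this.symm
    · rintro ⟨a, ha, rfl⟩
      rw [SetLike.mem_coe, mem_ker_theta] at ha
      obtain ⟨n, hn, hna⟩ := a.2
      refine ⟨n, ?_, hna⟩
      rw [SetLike.mem_coe, hT, Subgroup.mem_inf]
      refine ⟨hn, ?_⟩
      rw [Subgroup.mem_comap, Subgroup.mem_centralizer_singleton_iff, hna]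
      exact ha.symm
  have h4 : Nat.card (theta A hab (π x)).ker * Nat.card K = Nat.card T := by
    rw [← card_map_mk K T hKT, h4b, Subgroup.card_map_of_injective A.subtype_injective]
  -- arithmetic
  rw [h4a, ← h4, ← h2]
  have h5 := Subgroup.card_mul_index (commutator (P ⧸ K))
  have h6 := Subgroup.card_mul_index N
  rw [hN] at h6
  -- |Q| = p |A|
  have hKpos : 0 < Nat.card K := Nat.card_pos
  have hQ : Nat.card (P ⧸ K) = p * Nat.card A := by
    have : Nat.card (P ⧸ K) * Nat.card K = (p * Nat.card A) * Nat.card K := by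
      rw [h3, ← h6, ← h1]; ring
    exact Nat.eq_of_mul_eq_mul_right hKpos this
  have hcpos : 0 < Nat.card (commutator (P ⧸ K)) := Nat.card_pos
  have hidx : (commutator (P ⧸ K)).index = p * Nat.card (theta A hab (π x)).ker := by
    have : Nat.card (commutator (P ⧸ K)) * (commutator (P ⧸ K)).index
        = Nat.card (commutator (P ⧸ K)) * (p * Nat.card (theta A hab (π x)).ker) := by
      rw [h5, hQ, ← hAB]; ring
    exact Nat.eq_of_mul_eq_mul_left hcpos this
  rw [hidx]
  ring

/-- Let p be a prime, P a finite p-group and N a normal subgroup of P of index p. For x ∈ P write c(x) for the number of elements n of N whose commutator x n x⁻¹ n⁻¹ lies in the derived subgroup N' (so c(x)/#N' is the order of the centralizer of x acting on N/N'). Then [P : P'] = p² if and only if c(x) = p·#N' for every x ∈ P outside N, and also if and only if c(x) = p·#N' for some x ∈ P outside N. -/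
theorem result {P : Type*} [Group P] [Finite P] (p : ℕ) [Fact p.Prime] (hP : IsPGroup p P) (N : Subgroup P) [N.Normal] (hN : N.index = p) :
    ((commutator P).index = p ^ 2 ↔ ∀ x : P, x ∉ N →
        Nat.card {n : N // x * n * x⁻¹ * (n : P)⁻¹ ∈ (commutator N).map N.subtype} = p * Nat.card (commutator N)) ∧
    ((commutator P).index = p ^ 2 ↔ ∃ x : P, x ∉ N ∧
        Nat.card {n : N // x * n * x⁻¹ * (n : P)⁻¹ ∈ (commutator N).map N.subtype} = p * Nat.card (commutator N)) := by
  have hp : p.Prime := Fact.out
  have hNtop : N ≠ ⊤ := by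
    intro h
    rw [h, Subgroup.index_top] at hN
    exact hp.one_lt.ne hN
  obtain ⟨x₀, hx₀⟩ : ∃ x : P, x ∉ N := by
    by_contra h
    push Not at h
    exact hNtop (eq_top_iff.mpr fun g _ => h g)
  have hpos : 0 < Nat.card (commutator N) := Nat.card_pos
  have fwd : (commutator P).index = p ^ 2 → ∀ x : P, x ∉ N →
      Nat.card {n : N // x * n * x⁻¹ * (n : P)⁻¹ ∈ (commutator N).map N.subtype}
        = p * Nat.card (commutator N) := by
    intro h x hx
    have h1 := core p N hN x hx
    rw [h] at h1
    have h2 : p * (p * Nat.card (commutator N)) = p *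
        Nat.card {n : N // x * n * x⁻¹ * (n : P)⁻¹ ∈ (commutator N).map N.subtype} := by
      rw [← h1]; ring
    exact (Nat.eq_of_mul_eq_mul_left hp.pos h2).symm
  have bwd : ∀ x : P, x ∉ N →
      Nat.card {n : N // x * n * x⁻¹ * (n : P)⁻¹ ∈ (commutator N).map N.subtype}
        = p * Nat.card (commutator N) → (commutator P).index = p ^ 2 := by
    intro x hx h
    have h1 := core p N hN x hx
    rw [h] at h1
    have h2 : (commutator P).index * Nat.card (commutator N) = p ^ 2 * Nat.card (commutator N) := by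
      rw [h1]; ring
    exact Nat.eq_of_mul_eq_mul_right hpos h2
  refine ⟨⟨fwd, fun h => bwd x₀ hx₀ (h x₀ hx₀)⟩, ⟨fun h => ⟨x₀, hx₀, fwd h x₀ hx₀⟩, ?_⟩⟩
  rintro ⟨x, hx, h⟩
  exact bwd x hx h

end Cfsg.Agent.S4586
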