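import Cfsg.Statements.S4587
import Cfsg.Agent.Lib.Helper2.PAb_Norm
import Cfsg.Agent.Lib.Helper3.PAb_P6
import Cfsg.Agent.Lib.Helper3.PAb_P8
import Cfsg.Agent.Lib.Helper4.PAb_K
import Cfsg.Agent.Lib.Helper4.PAb_P9
import Cfsg.Agent.Lib.Helper8.PAb_P5
import Cfsg.Agent.Lib.Helper9.PAb_P7
import Cfsg.Agent.Lib.Helper8.PAb_P4
import Cfsg.Agent.Lib.Helper9.CharSimple2
import Cfsg.Agent.Lib.Helper2.MinNormal

set_option autoImplicit false
open Cfsg

namespace Cfsg.Agent.S4587

open Cfsg.Agent.Lib.Helper2.PAb
open scoped commutatorElement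

/-- a minimal normal subgroup inside a nontrivial normal subgroup -/
theorem exists_min_normal_le {G : Type*} [Group G] [Finite G] (C : Subgroup G) (hC : C.Normal)
    (hC1 : C ≠ ⊥) : ∃ N : Subgroup G, N.Normal ∧ N ≠ ⊥ ∧ N ≤ C ∧
      ∀ M : Subgroup G, M.Normal → M ≠ ⊥ → M ≤ N → M = N := by
  have hfin : {N : Subgroup G | N.Normal ∧ N ≠ ⊥ ∧ N ≤ C}.Finite := Set.toFinite _
  obtain ⟨N, hN⟩ := hfin.exists_minimal ⟨C, hC, hC1, le_rfl⟩
  refine ⟨N, hN.1.1, hN.1.2.1, hN.1.2.2, fun M hM hM1 hMN => ?_⟩
  exact le_antisymm hMN (hN.2 ⟨hM, hM1, hMN.trans hN.1.2.2⟩ hMN)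

theorem le_normalizer_inf {G : Type*} [Group G] (P N : Subgroup G) [N.Normal] :
    P ≤ Subgroup.normalizer ((P ⊓ N : Subgroup G) : Set G) := by
  intro g hg
  rw [Subgroup.mem_normalizer_iff]
  intro h
  constructor
  · rintro ⟨h1, h2⟩
    exact ⟨P.mul_mem (P.mul_mem hg h1) (P.inv_mem hg), Subgroup.Normal.conj_mem inferInstance h h2 g⟩
  · rintro ⟨h1, h2⟩
    refine ⟨?_, ?_⟩
    · have := P.mul_mem (P.mul_mem (P.inv_mem hg) h1) hg
      simpa [mul_assoc] using this
    · have := Subgroup.Normal.conj_mem (inferInstance : N.Normal) _ h2 g⁻¹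
      simpa [mul_assoc] using this

theorem le_normalizer_inf' {G : Type*} [Group G] (P S : Subgroup G)
    (h : P ≤ Subgroup.normalizer (S : Set G)) :
    P ≤ Subgroup.normalizer ((P ⊓ S : Subgroup G) : Set G) := by
  intro g hg
  have hgS := h hg
  rw [Subgroup.mem_normalizer_iff] at hgS ⊢
  intro x
  constructor
  · rintro ⟨h1, h2⟩
    exact ⟨P.mul_mem (P.mul_mem hg h1) (P.inv_mem hg), (hgS x).mp h2⟩
  · rintro ⟨h1, h2⟩
    refine ⟨?_, (hgS x).mpr h2⟩
    have := P.mul_mem (P.mul_mem (P.inv_mem hg) h1) hg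
    simpa [mul_assoc] using this

theorem forward {G : Type*} [Group G] [Finite G] (p : ℕ) [Fact p.Prime] (P : Sylow p G)
    (hbig : p ^ 2 ∣ Nat.card G) (hcore : Cfsg.pPrimeCore p G = ⊥)
    (hcore' : (⁅(P : Subgroup G), (P : Subgroup G)⁆).normalCore = ⊥)
    (hnas : ¬ ∃ S : Subgroup G, S.Normal ∧ IsSimpleGroup S ∧ ¬ IsMulCommutative S ∧
      Subgroup.centralizer (S : Set G) = ⊥)
    (hidx : (⁅(P : Subgroup G), (P : Subgroup G)⁆).relIndex (P : Subgroup G) = p ^ 2) :
    ∃ x : G, (∃ k : ℕ, orderOf x = p ^ k) ∧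
      (Nat.card (Subgroup.centralizer ({x} : Set G))).factorization p = 2 := by
  have hp : p.Prime := Fact.out
  by_cases hab : ⁅(P : Subgroup G), (P : Subgroup G)⁆ = ⊥
  · -- abelian Sylow: `x = 1`
    refine ⟨1, ⟨0, by simp⟩, ?_⟩
    rw [hab, Subgroup.relIndex_bot_left, P.card_eq_multiplicity] at hidx
    have h2 : (Nat.card G).factorization p = 2 := Nat.pow_right_injective hp.two_le hidx
    have : Subgroup.centralizer ({1} : Set G) = ⊤ := by
      rw [Subgroup.centralizer_eq_top_iff_subset]
      intro x hx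
      rw [Set.mem_singleton_iff] at hx
      rw [hx]; exact Subgroup.one_mem _
    rw [this, Subgroup.card_top]; exact h2
  have hPp : IsPGroup p (P : Subgroup G) := P.isPGroup'
  haveI : Nontrivial G := by
    rw [← Finite.one_lt_card_iff_nontrivial]
    by_contra hlt
    have h1 : Nat.card G = 1 := le_antisymm (not_lt.mp hlt) Nat.card_pos
    rw [h1, Nat.dvd_one] at hbig
    have h2 := hp.two_le
    nlinarith [hbig]
  -- helper: a normal subgroup of order prime to p is trivial
  have hcop : ∀ N : Subgroup G, N.Normal → (Nat.card N).Coprime p → N = ⊥ := by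
    intro N hN hc
    rw [eq_bot_iff, ← hcore]
    exact le_sSup ⟨hN, hc⟩
  -- helper: nontrivial normal subgroups have order divisible by p
  have hdvd : ∀ N : Subgroup G, N.Normal → N ≠ ⊥ → p ∣ Nat.card N := by
    intro N hN hN1
    by_contra hnd
    exact hN1 (hcop N hN ((Nat.Prime.coprime_iff_not_dvd hp).mpr hnd).symm)
  by_cases hA : ∃ N : Subgroup G, N.Normal ∧ N ≠ ⊥ ∧
      (∀ M : Subgroup G, M.Normal → M ≠ ⊥ → M ≤ N → M = N) ∧ IsPGroup p N
  · -- Case A
    obtain ⟨N, hNn, hN1, hmin, hNp⟩ := hA
    haveI := hNn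
    have hNP : N ≤ (P : Subgroup G) := hNp.le_sylow_of_normal P
    have hNder : ¬ N ≤ ⁅(P : Subgroup G), (P : Subgroup G)⁆ := by
      intro h
      apply hN1
      rw [eq_bot_iff, ← hcore']
      exact Subgroup.normal_le_normalCore.mpr h
    obtain ⟨hder, hind⟩ := lemmaK (P : Subgroup G) hPp hidx N hNP
      (by rw [Subgroup.normalizer_eq_top]; exact le_top) hNder
    -- N abelian
    have hNab : ⁅N, N⁆ = ⊥ := by
      have hn : (⁅N, N⁆).Normal := inferInstance
      by_contra hne
      have heq := hmin ⁅N, N⁆ hn hne (Subgroup.commutator_le_self N)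
      haveI : Nontrivial N := (Subgroup.nontrivial_iff_ne_bot N).mpr hN1
      haveI : Finite N := inferInstance
      haveI : Group.IsNilpotent N := hNp.isNilpotent
      have hlt := Group.IsSolvable.commutator_lt_top_of_nontrivial N
      have hmap : (commutator N).map N.subtype = N := by
        rw [Subgroup.map_subtype_commutator]; exact heq
      apply hlt.ne
      rw [eq_top_iff]
      intro x _
      have hx : (x : G) ∈ (commutator N).map N.subtype := by rw [hmap]; exact x.2
      obtain ⟨y, hy, hyx⟩ := hx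
      have : y = x := Subtype.ext hyx
      rw [← this]; exact hy
    have hNc : ∀ a ∈ N, ∀ b ∈ N, a * b = b * a := by
      intro a ha b hb
      have : ⁅a, b⁆ ∈ ⁅N, N⁆ := Subgroup.commutator_mem_commutator ha hb
      rw [hNab, Subgroup.mem_bot, commutatorElement_eq_one_iff_mul_comm] at this
      exact this
    rcases hind with h1 | h1
    · exfalso
      apply hab
      rw [Subgroup.relIndex_eq_one] at h1
      rw [eq_bot_iff, ← hNab]
      exact Subgroup.commutator_mono h1 h1
    · exact exists_of_abelian_index_p P hidx N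
        (fun a ha b hb => hNc a ha.2 b hb.2)
        (by rw [Subgroup.inf_relIndex_left]; exact h1)
  · -- Case B
    push Not at hA
    obtain ⟨N, hNn, hN1, hmin⟩ := Cfsg.Agent.H9CharSimple.exists_min_normal (G := G)
    haveI := hNn
    -- the key consequence of Tate + K for minimal normal subgroups
    have hkey : ∀ M : Subgroup G, M.Normal → M ≠ ⊥ →
        (∀ M' : Subgroup G, M'.Normal → M' ≠ ⊥ → M' ≤ M → M' = M) →
        ⁅(P : Subgroup G), (P : Subgroup G)⁆ ≤ (P : Subgroup G) ⊓ M ∧
        (((P : Subgroup G) ⊓ M).relIndex (P : Subgroup G) = 1 ∨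
          ((P : Subgroup G) ⊓ M).relIndex (P : Subgroup G) = p) := by
      intro M hMn hM1 hMmin
      haveI := hMn
      have hnot : ¬ ((P : Subgroup G) ⊓ M ≤ ⁅(P : Subgroup G), (P : Subgroup G)⁆) := fun h =>
        hA M hMn hM1 hMmin (isPGroup_of_inf_le_commutator P hcore M h)
      exact lemmaK (P : Subgroup G) hPp hidx _ inf_le_left (le_normalizer_inf _ M) hnot
    obtain ⟨hder, hind⟩ := hkey N hNn hN1 hmin
    -- C_G(N) = 1
    have hC : Subgroup.centralizer (N : Set G) = ⊥ := by
      by_contra hC1
      obtain ⟨N2, hN2n, hN21, hN2C, hmin2⟩ :=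
        exists_min_normal_le (Subgroup.centralizer (N : Set G)) Subgroup.normal_centralizer hC1
      obtain ⟨hder2, -⟩ := hkey N2 hN2n hN21 hmin2
      set Z : Subgroup G := N ⊓ Subgroup.centralizer (N : Set G) with hZ
      have hZn : Z.Normal := Subgroup.normal_inf_normal _ _
      have hderZ : ⁅(P : Subgroup G), (P : Subgroup G)⁆ ≤ Z := by
        intro x hx
        exact ⟨(hder hx).2, hN2C (hder2 hx).2⟩
      have hZ1 : Z ≠ ⊥ := by
        intro h; apply hab; rw [eq_bot_iff, ← h]; exact hderZ
      have hZN : Z = N := hmin Z hZn hZ1 inf_le_left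
      have hNC : N ≤ Subgroup.centralizer (N : Set G) := by
        intro x hx
        have hxZ : x ∈ Z := by rw [hZN]; exact hx
        exact hxZ.2
      have hNcomm : IsMulCommutative N := by
        refine ⟨⟨fun a b => ?_⟩⟩
        apply Subtype.ext
        have := (Subgroup.mem_centralizer_iff.mp (hNC a.2)) b b.2
        simpa using this.symm
      obtain ⟨q, hq, -, d, hd, hcard⟩ :=
        Cfsg.Agent.Lib.Helper2.exists_prime_pow_of_minNormal_abelian N hN1
          (fun K hK hKN => by
            by_cases hK1 : K = ⊥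
            · exact Or.inl hK1
            · exact Or.inr (hmin K hK hK1 hKN)) hNcomm
      by_cases hqp : q = p
      · subst hqp
        exact hA N hNn hN1 hmin (IsPGroup.of_card hcard)
      · apply hN1
        apply hcop N hNn
        rw [hcard]
        exact Nat.Coprime.pow_left d ((Nat.coprime_primes hq hp).mpr hqp)
    -- N nonabelian
    have hNnab : ¬ ∀ a ∈ N, ∀ b ∈ N, a * b = b * a := by
      intro h
      apply hN1
      rw [eq_bot_iff, ← hC]
      intro a ha
      rw [Subgroup.mem_centralizer_iff]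
      intro b hb
      exact h b hb a ha
    have hns : ¬ IsSimpleGroup N := by
      intro hs
      apply hnas
      refine ⟨N, hNn, hs, ?_, hC⟩
      intro hc
      apply hNnab
      intro a ha b hb
      have := hc.is_comm.comm (⟨a, ha⟩ : N) ⟨b, hb⟩
      exact congrArg Subtype.val this
    obtain ⟨S, V, k, hk, hSN, hVN, hSV, hsup, hnS, hnV, hcomm, hcN, hcV, hdich, hnSV, hQab⟩ :=
      exists_simple_factor N hN1 hmin hNnab hns
    have hpN : p ∣ Nat.card N := hdvd N hNn hN1
    have hpS : p ∣ Nat.card S := by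
      rw [hcN] at hpN; exact hp.dvd_of_dvd_pow hpN
    have hpV : p ∣ Nat.card V := by
      rw [hcV]; exact dvd_pow hpS (by omega)
    have hcRa := card_sylow_inf P N S hSN hnS
    have hcRb := card_sylow_inf P N V hVN hnV
    have hfS : 1 ≤ (Nat.card S).factorization p :=
      (hp.dvd_iff_one_le_factorization Nat.card_pos.ne').mp hpS
    have hfV : 1 ≤ (Nat.card V).factorization p :=
      (hp.dvd_iff_one_le_factorization Nat.card_pos.ne').mp hpV
    have hRa1 : (P : Subgroup G) ⊓ S ≠ ⊥ := by
      intro h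
      rw [h, Subgroup.card_bot] at hcRa
      have : 1 < p ^ (Nat.card S).factorization p := Nat.one_lt_pow (by omega) hp.one_lt
      omega
    have hRb1 : (P : Subgroup G) ⊓ V ≠ ⊥ := by
      intro h
      rw [h, Subgroup.card_bot] at hcRb
      have : 1 < p ^ (Nat.card V).factorization p := Nat.one_lt_pow (by omega) hp.one_lt
      omega
    have hsupR := sylow_inf_eq_sup P N S V hSN hVN hnS hnV hSV hsup
    by_cases hn : (P : Subgroup G) ≤ Subgroup.normalizer (S : Set G)
    · -- case (i)
      exfalso
      apply hab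
      refine commutator_eq_bot_of_two_normal (P : Subgroup G) hPp hidx
        ((P : Subgroup G) ⊓ S) ((P : Subgroup G) ⊓ V) inf_le_left inf_le_left
        (le_normalizer_inf' _ S hn) (le_normalizer_inf' _ V (hn.trans hnSV)) ?_ hRa1 hRb1 ?_
      · rw [eq_bot_iff, ← hSV]
        exact le_inf (inf_le_left.trans inf_le_right) (inf_le_right.trans inf_le_right)
      · rw [← hsupR]; exact hind
    · -- case (ii)
      obtain ⟨g0, hg0P, hg0S⟩ := SetLike.not_le_iff_exists.mp hn
      have hg0N : g0 ∉ N := fun h => hg0S (hnS h)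
      have hindp : ((P : Subgroup G) ⊓ N).relIndex (P : Subgroup G) = p := by
        rcases hind with h1 | h1
        · exfalso
          rw [Subgroup.relIndex_eq_one] at h1
          exact hg0N (h1 hg0P).2
        · exact h1
      -- N_P(S) = P ∩ N
      have hT : (P : Subgroup G) ⊓ Subgroup.normalizer (S : Set G) ≤ (P : Subgroup G) ⊓ N := by
        set T : Subgroup G := (P : Subgroup G) ⊓ Subgroup.normalizer (S : Set G) with hTdef
        have h1 : (P : Subgroup G) ⊓ N ≤ T := le_inf inf_le_left (inf_le_right.trans hnS)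
        have h2 : T ≤ (P : Subgroup G) := inf_le_left
        have hmul := Subgroup.relIndex_mul_relIndex _ _ _ h1 h2
        rw [hindp] at hmul
        have hT1 : T.relIndex (P : Subgroup G) ≠ 1 := by
          intro h
          rw [Subgroup.relIndex_eq_one] at h
          exact hg0S (h hg0P).2
        have hd : T.relIndex (P : Subgroup G) ∣ p := Dvd.intro_left _ hmul
        have hTp : T.relIndex (P : Subgroup G) = p :=
          ((Nat.dvd_prime hp).mp hd).resolve_left hT1
        rw [hTp] at hmul
        have h3 : ((P : Subgroup G) ⊓ N).relIndex T = 1 := by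
          have := hp.pos
          nlinarith [hmul]
        exact Subgroup.relIndex_eq_one.mp h3
      have hmove : ∀ g ∈ (P : Subgroup G), g ∉ N → ∀ s ∈ S, g * s * g⁻¹ ∈ V := by
        intro g hg hgN
        rcases hdich g with h | h
        · exact absurd (hT ⟨hg, h⟩).2 hgN
        · exact h
      have hdiv := card_inf_dvd_of_moved (P : Subgroup G) hPp hidx N S V hSN hVN hSV hsup hcomm
        (by rw [Subgroup.normalizer_eq_top]; exact le_top) hsupR hder hindp hmove
      rw [hcRa] at hdiv
      have hf1 : (Nat.card S).factorization p ≤ 1 := by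
        have h1 : p ^ (Nat.card S).factorization p ∣ p ^ 1 := by simpa using hdiv
        exact (Nat.pow_dvd_pow_iff_le_right hp.one_lt).mp h1
      have hnsq : ¬ p ^ 2 ∣ Nat.card S := by
        intro h
        have := (hp.pow_dvd_iff_le_factorization Nat.card_pos.ne').mp h
        omega
      have hRab := hQab p hnsq ((P : Subgroup G) ⊓ N) inf_le_right (hPp.to_le inf_le_left)
      exact exists_of_abelian_index_p P hidx N hRab hindp

/-- Let G be a finite group, p a prime and P a Sylow p-subgroup of order at least p². Assume that G has no nontrivial normal subgroup of order prime to p, that the derived subgroup P' of P contains no nontrivial normal subgroup of G, and that G is not almost simple (there is no non-abelian simple normal subgroup of G with trivial centralizer). Then [P : P'] = p² if and only if some p-element x of G has centralizer whose order has p-part exactly p². -/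
theorem result {G : Type*} [Group G] [Finite G] (p : ℕ) [Fact p.Prime] (P : Sylow p G) (hbig : p ^ 2 ∣ Nat.card G) (hcore : Cfsg.pPrimeCore p G = ⊥)
    (hcore' : (⁅(P : Subgroup G), (P : Subgroup G)⁆).normalCore = ⊥) (hnas : ¬ ∃ S : Subgroup G, S.Normal ∧ IsSimpleGroup S ∧ ¬ IsMulCommutative S ∧ Subgroup.centralizer (S : Set G) = ⊥) :
    (⁅(P : Subgroup G), (P : Subgroup G)⁆).relIndex (P : Subgroup G) = p ^ 2 ↔
      ∃ x : G, (∃ k : ℕ, orderOf x = p ^ k) ∧ (Nat.card (Subgroup.centralizer ({x} : Set G))).factorization p = 2 := by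
  constructor
  · exact forward p P hbig hcore hcore' hnas
  · rintro ⟨x, hx, hc⟩
    exact relIndex_of_exists P x hx hc

end Cfsg.Agent.S4587
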