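import Cfsg.Statements.S4591
import Mathlib
import Cfsg.Agent.Lib.Helper8.PK4
import Cfsg.Agent.Lib.Helper8.PQ1
import Cfsg.Agent.Lib.Helper8.CharKernel
import Cfsg.Agent.Lib.Lead.TateE
import Cfsg.Agent.Lib.Lead.Frattini

set_option autoImplicit false
open Cfsg

namespace Cfsg.Agent.S4591

/-- Let G be a finite group, p a prime and P a Sylow p-subgroup, and let N be the largest normal subgroup of G in which P has trivial centralizer (N is normal with C_N(P) = 1 and contains every normal subgroup with that property). Then the intersection of the kernels of the irreducible characters of G of degree prime to p is the normal core in G of the subgroup N·P' (P' the derived subgroup of P). In particular, when G has no nontrivial normal subgroup of order prime to p, that intersection is the normal core of P'. -/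
theorem result {G : Type*} [Group G] [Finite G] (p : ℕ) [Fact p.Prime] (P : Sylow p G) (N : Subgroup G) [N.Normal]
    (hN : N ⊓ Subgroup.centralizer ((P : Subgroup G) : Set G) = ⊥)
    (hmax : ∀ L : Subgroup G, L.Normal → L ⊓ Subgroup.centralizer ((P : Subgroup G) : Set G) = ⊥ → L ≤ N) :
    {g : G | ∀ χ : Cfsg.IrrCharacter G, ¬ p ∣ Cfsg.charDegree (χ : G → ℂ) → (χ : G → ℂ) g = (χ : G → ℂ) 1} =
      ((N ⊔ ⁅(P : Subgroup G), (P : Subgroup G)⁆).normalCore : Set G) := by
  classical
  have hpp : p.Prime := Fact.out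
  ext g
  simp only [Set.mem_ofPred_eq, SetLike.mem_coe]
  constructor
  · intro hg
    -- the intersection of the kernels as a normal subgroup
    have hex : ∀ χ : Cfsg.IrrCharacter G, ∃ K : Subgroup G, K.Normal ∧
        ∀ x : G, x ∈ K ↔ (χ : G → ℂ) x = (χ : G → ℂ) 1 := fun χ =>
      Cfsg.Agent.Lib.Helper8.exists_normal_ker (Cfsg.Agent.Lib.Helper4.isCharacter_of_irr χ.2)
    choose Kc hKn hKc using hex
    set K : Subgroup G := ⨅ χ : {χ : Cfsg.IrrCharacter G // ¬ p ∣ Cfsg.charDegree (χ : G → ℂ)},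
      Kc χ.1 with hK
    haveI hKnorm : K.Normal := Subgroup.normal_iInf_normal (fun χ => hKn χ.1)
    have hmemK : ∀ x : G, x ∈ K ↔ ∀ χ : Cfsg.IrrCharacter G,
        ¬ p ∣ Cfsg.charDegree (χ : G → ℂ) → (χ : G → ℂ) x = (χ : G → ℂ) 1 := by
      intro x
      rw [hK, Subgroup.mem_iInf]
      constructor
      · intro h χ hχ
        exact (hKc χ x).1 (h ⟨χ, hχ⟩)
      · intro h χ
        exact (hKc χ.1 x).2 (h χ.1 χ.2)
    have hgK : g ∈ K := (hmemK g).2 hg
    -- `K ∩ P ≤ P'`
    have hKP : K ⊓ (P : Subgroup G) ≤ ⁅(P : Subgroup G), (P : Subgroup G)⁆ := by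
      rintro x ⟨hxK, hxP⟩
      have h1 := Cfsg.Agent.Lib.Helper8.PQ.mem_commutator_sylow p K
        (fun χ hχ n hn => (hmemK n).1 hn χ hχ) P ⟨x, hxP⟩ hxK
      rw [← Subgroup.map_subtype_commutator]
      exact Subgroup.mem_map.2 ⟨⟨x, hxP⟩, h1, rfl⟩
    have hfr : K ⊓ (P : Subgroup G) ≤ (frattini (P : Subgroup G)).map (P : Subgroup G).subtype := by
      refine hKP.trans ?_
      rw [← Subgroup.map_subtype_commutator]
      exact Subgroup.map_mono (Cfsg.Agent.Lib.Lead.commutator_le_frattini_of_isPGroup P.2)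
    have htate := Cfsg.Agent.Lib.Lead.tate P K hfr
    obtain ⟨L, hLn, hLK, hLp, v, hv⟩ := Cfsg.Agent.Lib.Helper8.PK.exists_normal_compl K htate
    haveI := hLn
    have hLC : L ⊓ Subgroup.centralizer ((P : Subgroup G) : Set G) = ⊥ := by
      apply Cfsg.Agent.Lib.Helper8.PK.centralizer_inf_eq_bot P L hLp
      intro χ hχ d hd hpd x hx
      have h1 := (hmemK x).1 (hLK hx) ⟨χ, hχ⟩
      apply h1
      have h2 := (Cfsg.Agent.Lib.Helper8.irr_apply_one_eq_charDegree hχ).1
      have h3 : (d : ℂ) = (Cfsg.charDegree χ : ℂ) := by rw [← hd, h2]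
      have h4 : d = Cfsg.charDegree χ := by exact_mod_cast h3
      show ¬ p ∣ Cfsg.charDegree χ
      rw [← h4]
      exact hpd
    have hLN : L ≤ N := hmax L hLn hLC
    have hKle : K ≤ N ⊔ ⁅(P : Subgroup G), (P : Subgroup G)⁆ :=
      (Cfsg.Agent.Lib.Helper8.PK.le_sup_inf_sylow P K L hLK hLp v hv).trans (sup_le_sup hLN hKP)
    exact (Subgroup.normal_le_normalCore.2 hKle) hgK
  · intro hg χ hχ
    have h2 := (Cfsg.Agent.Lib.Helper8.irr_apply_one_eq_charDegree χ.2).1
    exact Cfsg.Agent.Lib.Helper8.PK.ker_of_not_dvd P N hN χ.2 h2 hχ g hg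

end Cfsg.Agent.S4591
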