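import Mathlib
import Cfsg.Statements.S4611
import Cfsg.Agent.Lib.Helper8.PSol1

set_option autoImplicit false
open Cfsg

namespace Cfsg.Agent.S4611

open scoped ComplexConjugate
open Cfsg.Agent.Lib.Helper1 Cfsg.Agent.Lib.Helper4 Cfsg.Agent.Lib.Helper8

/-- Let G be a finite solvable group and π a nonempty set of primes, each dividing the order of G; fix for each p in π a maximal ideal M p of the algebraic integers containing p. Then the only irreducible character lying in the principal p-block for every p in π is the principal character if and only if G is generated by the subgroups O_{p'}(G), p in π (the largest normal subgroups of order prime to p). -/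
theorem result {G : Type*} [Group G] [Finite G] [Group.IsSolvable G] (π : Set ℕ) (hπ : ∀ p ∈ π, p.Prime ∧ p ∣ Nat.card G) (hne : π.Nonempty) (M : ℕ → Ideal Cfsg.AlgInt) (hM : ∀ p ∈ π, Cfsg.IsPModular p (M p)) :
    (∀ χ : Cfsg.IrrCharacter G, (∀ p ∈ π, χ ∈ Cfsg.principalBlock (M p) G) → (χ : G → ℂ) = fun _ => 1) ↔
      ⨆ p ∈ π, Cfsg.pPrimeCore p G = ⊤ := by
  classical
  haveI : Fintype G := Fintype.ofFinite G
  have hiff : ∀ p ∈ π, ∀ χ : Cfsg.IrrCharacter G, χ ∈ Cfsg.principalBlock (M p) G ↔
      ∀ n ∈ Cfsg.pPrimeCore p G, (χ : G → ℂ) n = (χ : G → ℂ) 1 := by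
    intro p hp χ
    haveI : Fact p.Prime := ⟨(hπ p hp).1⟩
    exact mem_principalBlock_iff_of_isPSolvable (hM p hp)
      (Cfsg.Agent.Lib.Lead.SolvPSolv.isPSolvable_of_isSolvable' p G) χ
  constructor
  · intro h
    by_contra hK
    haveI : (⨆ p ∈ π, Cfsg.pPrimeCore p G).Normal :=
      Subgroup.biSup_normal π (fun p => Cfsg.pPrimeCore p G) (fun p _ => inferInstance)
    obtain ⟨χ, hχ1, hχ2⟩ := exists_irr_ne_one_of_normal _ hK
    apply hχ1
    apply h χ
    intro p hp
    rw [hiff p hp]
    intro n hn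
    apply hχ2
    exact (le_biSup (fun p => Cfsg.pPrimeCore p G) hp) hn
  · intro h χ hχ
    obtain ⟨K, hKn, hK⟩ := exists_normal_ker (isCharacter_of_irr χ.2)
    have hle : ⨆ p ∈ π, Cfsg.pPrimeCore p G ≤ K := by
      apply iSup₂_le
      intro p hp n hn
      rw [hK]
      exact (hiff p hp χ).1 (hχ p hp) n hn
    rw [h, top_le_iff] at hle
    have hconst : ∀ g : G, (χ : G → ℂ) g = (χ : G → ℂ) 1 := by
      intro g
      rw [← hK, hle]
      exact Subgroup.mem_top g
    have := eq_trivIrr_of_const χ hconst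
    rw [this]
    funext g
    exact trivIrr_apply g

end Cfsg.Agent.S4611
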