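import Cfsg.Statements.S4619

set_option autoImplicit false
open Cfsg
open scoped Pointwise

namespace Cfsg.Agent.S4619

theorem mem_conj_smul {G : Type*} [Group G] {A : Subgroup G} {g x : G} :
    x ∈ MulAut.conj g • A ↔ g⁻¹ * x * g ∈ A := by
  rw [Subgroup.mem_pointwise_smul_iff_inv_smul_mem]
  simp [MulAut.smul_def, MulAut.conj_symm_apply]

/-- TI Sylow. -/
theorem result {G : Type*} [Group G] [Finite G] (p : ℕ) [Fact p.Prime] (P : Sylow p G) (hTI : (∀ g : G, g ∉ Subgroup.normalizer ((P : Subgroup G) : Set G) → (P : Subgroup G) ⊓ (MulAut.conj g • (P : Subgroup G)) = ⊥)) (Q : Subgroup G) (hQ : Q ≤ (P : Subgroup G)) (hQ1 : Q ≠ ⊥) :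
    Subgroup.normalizer (Q : Set G) ≤ Subgroup.normalizer ((P : Subgroup G) : Set G) ∧
      ∀ g : G, MulAut.conj g • Q ≤ (P : Subgroup G) → g ∈ Subgroup.normalizer ((P : Subgroup G) : Set G) := by
  have key : ∀ g : G, MulAut.conj g • Q ≤ (P : Subgroup G) → g ∈ Subgroup.normalizer ((P : Subgroup G) : Set G) := by
    intro g hg
    by_contra hgN
    have hbot := hTI g hgN
    apply hQ1
    rw [eq_bot_iff]
    intro q hq
    have h1 : g * q * g⁻¹ ∈ MulAut.conj g • Q := by
      rw [mem_conj_smul]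
      have : g⁻¹ * (g * q * g⁻¹) * g = q := by group
      rwa [this]
    have h2 : g * q * g⁻¹ ∈ MulAut.conj g • (P : Subgroup G) := by
      rw [mem_conj_smul]
      have : g⁻¹ * (g * q * g⁻¹) * g = q := by group
      rw [this]; exact hQ hq
    have h3 : g * q * g⁻¹ ∈ (P : Subgroup G) ⊓ (MulAut.conj g • (P : Subgroup G)) :=
      ⟨hg h1, h2⟩
    rw [hbot, Subgroup.mem_bot] at h3
    rw [Subgroup.mem_bot]
    have : q = g⁻¹ * (g * q * g⁻¹) * g := by group
    rw [this, h3]; group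
  refine ⟨?_, key⟩
  intro g hg
  apply key
  intro x hx
  rw [mem_conj_smul] at hx
  apply hQ
  have hg' := (Subgroup.mem_normalizer_iff.mp hg (g⁻¹ * x * g)).mp hx
  have : g * (g⁻¹ * x * g) * g⁻¹ = x := by group
  rwa [this] at hg'

end Cfsg.Agent.S4619
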