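import Mathlib
import Cfsg.Statements.S4620
import Cfsg.Agent.Lib.Helper7.TISylow1

set_option autoImplicit false
open Cfsg
open scoped Pointwise

namespace Cfsg.Agent.S4620

open Cfsg.Agent.Lib.Helper7.TISylow

theorem result {H : Type*} [Group H] [Finite H] (p : ℕ) [Fact p.Prime] (hOp : Cfsg.pCore p H = ⊥) (hOp' : Cfsg.pPrimeCore p H = ⊥) (P : Sylow p H) (hP1 : (P : Subgroup H) ≠ ⊥)
    (hTI : ∀ g : H, g ∉ Subgroup.normalizer ((P : Subgroup H) : Set H) → (P : Subgroup H) ⊓ (MulAut.conj g • (P : Subgroup H)) = ⊥) :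
    ∃ N : Subgroup H, N.Normal ∧ N ≠ ⊥ ∧ (∀ K : Subgroup H, K.Normal → K ≠ ⊥ → N ≤ K) ∧
      IsSimpleGroup N ∧ ¬ IsMulCommutative N ∧ Subgroup.centralizer (N : Set H) = ⊥ ∧
      ∀ Q : Sylow p N, (Q : Subgroup N) ≠ ⊥ ∧
        ∀ n : N, n ∉ Subgroup.normalizer ((Q : Subgroup N) : Set N) → (Q : Subgroup N) ⊓ (MulAut.conj n • (Q : Subgroup N)) = ⊥ := by
  classical
  have hTI' := ti_of_inf (P : Subgroup H) hTI
  obtain ⟨N, hNn, hN1, huniq, hsimple, hnab, hcent⟩ := structure_thm hOp hOp' P hP1 hTI'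
  refine ⟨N, hNn, hN1, huniq, hsimple, hnab, hcent, ?_⟩
  intro Q
  haveI := hNn
  have hdvd : p ∣ Nat.card N :=
    dvd_card_of_subnormal hOp' N N le_rfl
      (fun m hm k hk => N.mul_mem (N.mul_mem hm hk) (N.inv_mem hm)) hN1
  refine ⟨Q.ne_bot_of_dvd_card hdvd, ?_⟩
  intro n hn
  have hQp : IsPGroup p ((Q : Subgroup N).map N.subtype) := Q.2.map _
  obtain ⟨P₁, hP₁⟩ := hQp.exists_le_sylow
  have hTI₁ := ti_all P hTI' P₁
  have hQeq : (P₁ : Subgroup H).subgroupOf N = (Q : Subgroup N) := by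
    apply Q.3 (P₁.2.comap_subtype)
    intro y hy
    show (y : H) ∈ (P₁ : Subgroup H)
    exact hP₁ ⟨y, hy, rfl⟩
  rw [eq_bot_iff]
  intro x hx
  rw [Subgroup.mem_inf] at hx
  obtain ⟨hx1, hx2⟩ := hx
  rw [Subgroup.mem_bot]
  by_contra hx0
  apply hn
  rw [Subgroup.mem_pointwise_smul_iff_inv_smul_mem] at hx2
  have hx2' : n⁻¹ * x * n ∈ (Q : Subgroup N) := by
    have : (MulAut.conj n)⁻¹ • x = n⁻¹ * x * n := by
      rw [← map_inv]
      show n⁻¹ * x * n⁻¹⁻¹ = _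
      rw [inv_inv]
    rw [← this]
    exact hx2
  rw [← hQeq, Subgroup.mem_subgroupOf] at hx1 hx2'
  have hnorm : (n : H) ∈ Subgroup.normalizer ((P₁ : Subgroup H) : Set H) := by
    apply hTI₁ (n : H) ((n⁻¹ * x * n : N) : H) hx2'
    · have : (n : H) * ((n⁻¹ * x * n : N) : H) * (n : H)⁻¹ = (x : H) := by
        push_cast
        group
      rw [this]
      exact hx1
    · intro h
      apply hx0
      have h2 : n⁻¹ * x * n = 1 := Subtype.ext h
      have : x = n * (n⁻¹ * x * n) * n⁻¹ := by group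
      rw [this, h2]
      group
  rw [Subgroup.mem_normalizer_iff]
  intro y
  rw [← hQeq, Subgroup.mem_subgroupOf, Subgroup.mem_subgroupOf]
  exact (Subgroup.mem_normalizer_iff.mp hnorm) (y : H)

end Cfsg.Agent.S4620
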