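import Cfsg.Statements.S4636

set_option autoImplicit false
open Cfsg
open scoped Pointwise

namespace Cfsg.Agent.S4636

theorem mem_conj_smul {G : Type*} [Group G] {A : Subgroup G} {g x : G} :
    x ∈ MulAut.conj g • A ↔ g⁻¹ * x * g ∈ A := by
  rw [Subgroup.mem_pointwise_smul_iff_inv_smul_mem]
  simp [MulAut.smul_def, MulAut.conj_symm_apply]

/-- In a cyclic group `P`, the elements killed by `p` all lie in the subgroup `Z` of order `p`. -/
theorem lemA {G : Type*} [Group G] [Finite G] (p : ℕ) [Fact p.Prime] (P : Subgroup G)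
    (hcyc : IsCyclic P) (Z : Subgroup G) (hZ : Z ≤ P) (hZcard : Nat.card Z = p) :
    ∀ y ∈ P, y ^ p = 1 → y ∈ Z := by
  classical
  intro y hyP hy
  have : Fintype P := Fintype.ofFinite P
  have hp0 : 0 < p := (Fact.out : p.Prime).pos
  have hF := IsCyclic.card_pow_eq_one_le (α := P) hp0
  set F : Finset P := Finset.univ.filter (fun a : P => a ^ p = 1) with hFdef
  set Zs : Finset P := Finset.univ.filter (fun a : P => (a : G) ∈ Z) with hZs
  have hsub : Zs ⊆ F := by
    intro a ha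
    rw [hZs, Finset.mem_filter] at ha
    rw [hFdef, Finset.mem_filter]
    refine ⟨Finset.mem_univ _, ?_⟩
    have h1 : (⟨(a : G), ha.2⟩ : Z) ^ Nat.card Z = 1 := pow_card_eq_one'
    rw [hZcard] at h1
    have h2 := congrArg Subtype.val h1
    rw [Subgroup.coe_pow, Subgroup.coe_one] at h2
    apply Subtype.ext
    rw [Subgroup.coe_pow, Subgroup.coe_one]
    exact h2
  have hmemZs : ∀ a : P, a ∈ Zs ↔ (a : G) ∈ Z := by
    intro a
    simp [Zs]
  have hcardZs : Zs.card = p := by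
    have e : {a : P // a ∈ Zs} ≃ Z.subgroupOf P :=
      { toFun := fun a => ⟨a.1, Subgroup.mem_subgroupOf.mpr ((hmemZs a.1).mp a.2)⟩
        invFun := fun a => ⟨a.1, (hmemZs a.1).mpr (Subgroup.mem_subgroupOf.mp a.2)⟩
        left_inv := fun a => rfl
        right_inv := fun a => rfl }
    have h1 : Nat.card {a : P // a ∈ Zs} = Nat.card (Z.subgroupOf P) := Nat.card_congr e
    have h2 : Nat.card (Z.subgroupOf P) = Nat.card Z :=
      Nat.card_congr (Subgroup.subgroupOfEquivOfLe hZ).toEquiv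
    rw [← hZcard, ← h2, ← h1]
    simp
  have heq : Zs = F := Finset.eq_of_subset_of_card_le hsub (by rw [hcardZs]; exact hF)
  have hyF : (⟨y, hyP⟩ : P) ∈ F := by
    rw [hFdef, Finset.mem_filter]
    refine ⟨Finset.mem_univ _, ?_⟩
    apply Subtype.ext
    rw [Subgroup.coe_pow, Subgroup.coe_one]
    exact hy
  rw [← heq, hZs, Finset.mem_filter] at hyF
  exact hyF.2

/-- A nontrivial subgroup of a `p`-group contains a nontrivial element killed by `p`. -/
theorem lemB {G : Type*} [Group G] [Finite G] (p : ℕ) [Fact p.Prime] (P : Subgroup G)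
    (hP : IsPGroup p P) (R : Subgroup G) (hR : R ≤ P) (hR1 : R ≠ ⊥) :
    ∃ y ∈ R, y ≠ 1 ∧ y ^ p = 1 := by
  have hRp : IsPGroup p R := hP.to_le hR
  obtain ⟨n, hn⟩ := IsPGroup.iff_card.mp hRp
  have hn0 : n ≠ 0 := by
    rintro rfl
    rw [pow_zero] at hn
    exact hR1 (Subgroup.card_eq_one.mp hn)
  have hdvd : p ∣ Nat.card R := by
    rw [hn]; exact dvd_pow_self p hn0
  obtain ⟨y, hy⟩ := exists_prime_orderOf_dvd_card' p hdvd
  refine ⟨y, y.2, ?_, ?_⟩
  · intro h1
    have : orderOf (y : G) = 1 := by rw [h1, orderOf_one]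
    rw [Subgroup.orderOf_coe, hy] at this
    exact (Fact.out : p.Prime).one_lt.ne' this
  · rw [← hy, ← Subgroup.orderOf_coe]
    exact pow_orderOf_eq_one _

/-- If `g` conjugates a nontrivial element `y` of `Z` (of prime order) into `Z` then `g` normalizes `Z`. -/
theorem lemC {G : Type*} [Group G] [Finite G] (p : ℕ) [Fact p.Prime] (Z : Subgroup G)
    (hZcard : Nat.card Z = p) (g y : G) (hy : y ∈ Z) (hy1 : y ≠ 1) (hgy : g * y * g⁻¹ ∈ Z) :
    g ∈ Subgroup.normalizer (Z : Set G) := by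
  apply Subgroup.mem_normalizer_fintype
  intro n hn
  have hne : (⟨y, hy⟩ : Z) ≠ 1 := by
    intro h
    exact hy1 (congrArg Subtype.val h)
  have hmem : (⟨n, hn⟩ : Z) ∈ Subgroup.zpowers (⟨y, hy⟩ : Z) := mem_zpowers_of_prime_card hZcard hne
  obtain ⟨k, hk⟩ := Subgroup.mem_zpowers_iff.mp hmem
  have hk' : y ^ k = n := by
    have := congrArg Subtype.val hk
    simpa using this
  have : g * n * g⁻¹ = (g * y * g⁻¹) ^ k := by
    rw [conj_zpow, hk']
  show g * n * g⁻¹ ∈ Z
  rw [this]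
  exact Z.zpow_mem hgy k

/-- Cyclic p-subgroups and their subgroup of order p. -/
theorem result {G : Type*} [Group G] [Finite G] (p : ℕ) [Fact p.Prime] (P : Subgroup G) (hP : IsPGroup p P) (hP1 : P ≠ ⊥) (hcyc : IsCyclic P) (Z : Subgroup G) (hZ : Z ≤ P) (hZcard : Nat.card Z = p) : (∀ x : G, x ∉ Subgroup.normalizer (Z : Set G) → P ⊓ MulAut.conj x • P = ⊥) ∧ ∀ Q : Subgroup G, Q ≤ P → Q ≠ ⊥ → Subgroup.normalizer (Q : Set G) ≤ Subgroup.normalizer (Z : Set G) := by
  have hA := lemA p P hcyc Z hZ hZcard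
  constructor
  · intro x hx
    by_contra hne
    obtain ⟨y, hyR, hy1, hyp⟩ := lemB p P hP (P ⊓ MulAut.conj x • P) inf_le_left hne
    have hyP : y ∈ P := hyR.1
    have hyx : x⁻¹ * y * x ∈ P := mem_conj_smul.mp hyR.2
    have hyZ : y ∈ Z := hA y hyP hyp
    have hyxZ : x⁻¹ * y * x ∈ Z := by
      apply hA _ hyx
      have : x⁻¹ * y * x = x⁻¹ * y * x⁻¹⁻¹ := by rw [inv_inv]
      rw [this, conj_pow, hyp]; group
    have : x⁻¹ ∈ Subgroup.normalizer (Z : Set G) := by
      apply lemC p Z hZcard x⁻¹ y hyZ hy1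
      rwa [inv_inv]
    exact hx (by simpa using Subgroup.inv_mem _ this)
  · intro Q hQP hQ1 g hg
    obtain ⟨y, hyQ, hy1, hyp⟩ := lemB p P hP Q hQP hQ1
    have hyZ : y ∈ Z := hA y (hQP hyQ) hyp
    have hgy : g * y * g⁻¹ ∈ Q := (Subgroup.mem_normalizer_iff.mp hg y).mp hyQ
    apply lemC p Z hZcard g y hyZ hy1
    apply hA _ (hQP hgy)
    rw [conj_pow, hyp]; group

end Cfsg.Agent.S4636
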