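import Cfsg.Statements.S4645
import Mathlib
import Cfsg.Agent.Lib.Helper8.NA7
import Cfsg.Agent.S4633

set_option autoImplicit false
open Cfsg

namespace Cfsg.Agent.S4645

/-- Let B be a block of the finite group G relative to a maximal ideal M of the algebraic integers containing the prime p, with a nontrivial cyclic defect group P; let c be a block of C_G(P) inducing B and T the stabilizer of c in N_G(P). Let Q be a nontrivial subgroup of P (so C_G(P) ≤ C_G(Q)), f the block of C_G(Q) induced by c inside C_G(Q), and T' the stabilizer of f in N_G(Q). Then T' = T·C_G(Q), the index of C_G(Q) in T' equals the index of C_G(P) in T, f has p-regular rank 1, and f is a nilpotent block of C_G(Q). -/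
theorem result {G : Type*} [Group G] [Finite G] (p : ℕ) [Fact p.Prime] (M : Ideal Cfsg.AlgInt) (hM : Cfsg.IsPModular p M) (B : Set (Cfsg.IrrCharacter G)) (hB : Cfsg.IsPBlock M B) (P : Subgroup G) (hPD : Cfsg.IsDefectGroup p M B P) (hP1 : P ≠ ⊥) (hcyc : IsCyclic P) (c : Set (Cfsg.IrrCharacter (Subgroup.centralizer (P : Set G)))) (hc : Cfsg.IsInducedBlock M (Subgroup.centralizer (P : Set G)) c B) (T : Subgroup G) (hT : ∀ g : G, g ∈ T ↔ (g ∈ Subgroup.normalizer (P : Set G) ∧ Cfsg.StabilizesBlock (Subgroup.centralizer (P : Set G)) c g)) (Q : Subgroup G) (hQP : Q ≤ P) (hQ1 : Q ≠ ⊥) (f : Set (Cfsg.IrrCharacter (Subgroup.centralizer (Q : Set G)))) (hf : Cfsg.IsInducedBlockIn M (Subgroup.centralizer (Q : Set G)) (Subgroup.centralizer (P : Set G)) c f) (T' : Subgroup G) (hT' : ∀ g : G, g ∈ T' ↔ (g ∈ Subgroup.normalizer (Q : Set G) ∧ Cfsg.StabilizesBlock (Subgroup.centralizer (Q : Set G)) f g)) : T' = T ⊔ Subgroup.centralizer (Q : Set G) ∧ (Subgroup.centralizer (Q : Set G)).relIndex T' = (Subgroup.centralizer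 (P : Set G)).relIndex T ∧ Cfsg.blockRank p f = 1 ∧ Cfsg.IsNilpotentBlock p M f := by
  classical
  have : Fintype G := Fintype.ofFinite G
  have hMp := Cfsg.Agent.Lib.Helper8.isPModular_isPrime hM
  have hPp := Cfsg.Agent.Lib.Helper8.isPGroup_of_isDefectGroup hPD
  have hab : ∀ x ∈ P, ∀ y ∈ P, x * y = y * x := by
    intro x hx y hy
    obtain ⟨g, hg⟩ := hcyc.exists_generator
    have hcomm : ∀ a b : P, a * b = b * a := by
      intro a b
      obtain ⟨i, rfl⟩ := Subgroup.mem_zpowers_iff.1 (hg a)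
      obtain ⟨j, rfl⟩ := Subgroup.mem_zpowers_iff.1 (hg b)
      rw [← zpow_add, ← zpow_add, add_comm]
    exact congrArg Subtype.val (hcomm ⟨x, hx⟩ ⟨y, hy⟩)
  have hPC : P ≤ Subgroup.centralizer (P : Set G) := by
    intro u hu
    rw [Subgroup.mem_centralizer_iff]
    intro q hq
    exact hab q hq u hu
  have hKX : Subgroup.centralizer (P : Set G) ≤ Subgroup.centralizer (Q : Set G) :=
    Subgroup.centralizer_le (by exact_mod_cast hQP)
  have hTN : T ≤ Subgroup.normalizer (P : Set G) := fun t ht => ((hT t).1 ht).1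
  have hTNC : T ≤ Subgroup.normalizer ((Subgroup.centralizer (P : Set G) : Subgroup G) : Set G) :=
    hTN.trans (Cfsg.Agent.Lib.Helper8.normalizer_le_normalizer_centralizer P)
  have hn : ((Subgroup.centralizer (P : Set G)).subgroupOf T).Normal :=
    Subgroup.normal_subgroupOf_of_le_normalizer hTNC
  have hfree := (Cfsg.Agent.S4633.result p M hM B hB P hPD hP1 hcyc c hc T hT).2.2
  have hpair := Cfsg.Agent.Lib.Helper8.AF.pair_of_induced hM P hPp hPC hc
  have hmax := Cfsg.Agent.Lib.Helper8.AF.maxPair_of_defect hM hPD hpair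
  have h1 := Cfsg.Agent.Lib.Helper8.NA.pairStab_eq_sup hM hmax hcyc hab T hT hQP hf T' hT'
  have hnil : Cfsg.IsNilpotentBlock p M f :=
    Cfsg.Agent.Lib.Helper8.AF.nilpotent_of_free hM hmax hab hc
      (fun g hgN hgst x hx hx1 hgx => hfree g ((hT g).2 ⟨hgN, hgst⟩) x hx hx1 hgx) hQP hQ1 hf
  have hfB : Cfsg.IsInducedBlock M (Subgroup.centralizer (Q : Set G)) f B :=
    Cfsg.Agent.Lib.Helper8.isInducedBlock_trans' _ _ hKX hMp hf hc
  refine ⟨h1, ?_, ?_, hnil⟩
  · -- the index
    have hCT : Subgroup.centralizer (P : Set G) ≤ T := by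
      intro g hg
      exact (hT g).2 ⟨Subgroup.centralizer_le_normalizer _ hg,
        Cfsg.Agent.Lib.Helper8.stabilizesBlock_of_mem _ c hg⟩
    have hinf : Subgroup.centralizer (Q : Set G) ⊓ T = Subgroup.centralizer (P : Set G) := by
      apply le_antisymm
      · rintro g ⟨hgX, hgT⟩
        obtain ⟨q, hq, hq1⟩ : ∃ q ∈ Q, q ≠ 1 := by
          by_contra hcon
          push Not at hcon
          apply hQ1
          rw [eq_bot_iff]
          intro q hq
          rw [Subgroup.mem_bot]
          exact hcon q hq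
        have hgq : g * q * g⁻¹ = q := by
          have := Subgroup.mem_centralizer_iff.1 hgX q hq
          rw [← this]
          group
        exact hfree g hgT q (hQP hq) hq1 hgq
      · exact le_inf hKX hCT
    have hTX : T ≤ Subgroup.normalizer
        ((Subgroup.centralizer (Q : Set G) : Subgroup G) : Set G) := by
      intro g hg
      exact Cfsg.Agent.Lib.Helper8.normalizer_le_normalizer_centralizer Q
        (Cfsg.Agent.Lib.Helper8.NA.normalizer_cyclic_le hcyc hQP (hTN hg))
    rw [h1, Cfsg.Agent.Lib.Helper8.NA.relIndex_sup_of_le_normalizer hTX,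
      ← Subgroup.inf_relIndex_right, hinf]
  · -- the rank
    have : Fintype (Subgroup.centralizer (Q : Set G)) := Fintype.ofFinite _
    obtain ⟨D, hD⟩ := Cfsg.Agent.Lib.Helper8.exists_isDefectGroup (p := p) hMp hf.2.1
    exact Cfsg.Agent.Lib.Helper8.NA.blockRank_eq_one_of_nilpotent_abelian hM hnil hD
      (Cfsg.Agent.Lib.Helper8.NA.abelian_defect_of_induced hM hPD hab _ hfB hD)

end Cfsg.Agent.S4645
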