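import Mathlib
import Cfsg.Statements.S4691
import Cfsg.Agent.Lib.Helper8.BlockPairPrincipal
import Cfsg.Agent.Lib.Helper8.BlockPairs3
import Cfsg.Agent.Lib.Helper8.ConjChar2
import Cfsg.Agent.Lib.Lead.FrobNPC5

set_option autoImplicit false
open Cfsg

namespace Cfsg.Agent.S4691

open scoped ComplexConjugate
open Cfsg.Agent.Lib.Helper1 Cfsg.Agent.Lib.Helper4 Cfsg.Agent.Lib.Helper8

/-- Fix a prime p and a maximal ideal M of the algebraic integers containing p. A finite group G has a normal p-complement if and only if its principal p-block is nilpotent. -/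
theorem result {G : Type*} [Group G] [Fintype G] (p : ℕ) [Fact p.Prime] (M : Ideal Cfsg.AlgInt) (hM : Cfsg.IsPModular p M) : Cfsg.HasNormalPComplement p G ↔ Cfsg.IsNilpotentBlock p M (Cfsg.principalBlock M G) := by
  classical
  have hp : p.Prime := Fact.out
  constructor
  · rintro ⟨P, N, hN, hc⟩
    have hpl := Cfsg.Agent.Lib.Lead.plocalCentral_of_complement P N hc
    refine ⟨isPBlock_principalBlock, fun Q e hQe x hxN _ hreg => ?_⟩
    exact hpl Q hQe.1.1 x hxN ((Nat.Prime.coprime_iff_not_dvd hp).2 hreg).symm
  · intro hnil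
    have hpl : Cfsg.Agent.Lib.Lead.PLocalCentral p G := by
      intro D hD g hg hcop
      apply hnil.2 D (principalBlock M (Subgroup.centralizer (D : Set G)))
        (isBrauerPairOf_principal hM D hD) g hg
      · rw [stabilizesBlock_iff_image]
        exact ⟨normalizer_le_normalizer_centralizer D hg, conjIrr_image_principalBlock _ g _⟩
      · exact (Nat.Prime.coprime_iff_not_dvd hp).1 hcop.symm
    obtain ⟨P⟩ : Nonempty (Sylow p G) := inferInstance
    exact ⟨P, Cfsg.Agent.Lib.Lead.exists_normal_complement_of_plocal hpl P⟩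

end Cfsg.Agent.S4691
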