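import Cfsg.Statements.S4648
import Mathlib
import Cfsg.Agent.Lib.Helper8.BlockFirstMain3
import Cfsg.Agent.Lib.Helper8.Kuls_G4
import Cfsg.Agent.Lib.Helper5.Kuls_N1

set_option autoImplicit false
open Cfsg

namespace Cfsg.Agent.S4648

/-- Let B be a block of the finite group G relative to a maximal ideal M of the algebraic integers containing the prime p, with a nontrivial defect group D. If B has p-regular rank 1 and at most four irreducible characters, then B is nilpotent, D has exactly as many elements as B has irreducible characters, and p is 2 or 3. -/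
theorem result {G : Type*} [Group G] [Finite G] (p : ℕ) [Fact p.Prime] (M : Ideal Cfsg.AlgInt) (hM : Cfsg.IsPModular p M) (B : Set (Cfsg.IrrCharacter G)) (hB : Cfsg.IsPBlock M B) (D : Subgroup G) (hD : Cfsg.IsDefectGroup p M B D) (hD1 : D ≠ ⊥) (hl : Cfsg.blockRank p B = 1) (hk : Nat.card B ≤ 4) : Cfsg.IsNilpotentBlock p M B ∧ Nat.card D = Nat.card B ∧ (p = 2 ∨ p = 3) := by
  have hDk := Cfsg.Agent.Lib.Lead.Brandt.card_defect_eq_card_block_of_rank_one p M hM B hB D hD hl hk
  refine ⟨Cfsg.Agent.Lib.Lead.Brandt.nilpotent_of_card_defect_le_four p M hM B hB D hD hD1 hl hDk hk,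
    hDk, ?_⟩
  have hp : p.Prime := Fact.out
  have hcard := Cfsg.Agent.Lib.Helper8.card_of_isDefectGroup hM hB hD
  have hne : Cfsg.blockDefect p B ≠ 0 := by
    intro h0
    rw [h0, pow_zero] at hcard
    exact hD1 ((Subgroup.card_eq_one).1 hcard)
  have hdvd : p ∣ Nat.card D := by
    rw [hcard]
    exact dvd_pow_self p hne
  have hpos : 0 < Nat.card D := Nat.card_pos
  have hle : p ≤ 4 := le_trans (Nat.le_of_dvd hpos hdvd) (hDk ▸ hk)
  have h2 := hp.two_le
  interval_cases p
  · left; rfl
  · right; rfl
  · exact absurd hp (by decide)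

end Cfsg.Agent.S4648
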