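import Mathlib
import Cfsg.Statements.S4652
import Cfsg.Agent.Lib.Helper8.BlockDefect

set_option autoImplicit false

open Cfsg

namespace Cfsg.Agent.S4652

open Cfsg.Agent.Lib.Helper1 Cfsg.Agent.Lib.Helper4 Cfsg.Agent.Lib.Helper8

/-- For a defect class of the principal block, the class size is prime to `p`. -/
theorem not_dvd_index_of_isDefectClass {G : Type*} [Group G] [Fintype G] {p : ℕ}
    {M : Ideal Cfsg.AlgInt} (hM : Cfsg.IsPModular p M) {g : G}
    (hg : Cfsg.IsDefectClass M (Cfsg.principalBlock M G) g) :
    ¬ p ∣ (Subgroup.centralizer ({g} : Set G)).index := by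
  intro hdvd
  have h := hg.2.2 (trivIrr G) (trivIrr_mem_principalBlock (isPModular_ne_top hM))
  apply h
  unfold Cfsg.centralChar
  rw [trivIrr_apply, trivIrr_apply, mul_one, div_one]
  exact (memLocalIdeal_natCast_iff hM _).2 hdvd

theorem factorization_centralizer {G : Type*} [Group G] [Fintype G] {p : ℕ} (_hp : p.Prime) {g : G}
    (h : ¬ p ∣ (Subgroup.centralizer ({g} : Set G)).index) :
    (Nat.card (Subgroup.centralizer ({g} : Set G))).factorization p
      = (Nat.card G).factorization p := by
  have h1 := (Subgroup.centralizer ({g} : Set G)).card_mul_index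
  rw [← h1, Nat.factorization_mul Nat.card_pos.ne' (Subgroup.index_ne_zero_of_finite)]
  simp [Nat.factorization_eq_zero_of_not_dvd h]

theorem result {G : Type*} [Group G] [Fintype G] (p : ℕ) [Fact p.Prime] (M : Ideal Cfsg.AlgInt) (hM : Cfsg.IsPModular p M) (D : Subgroup G) : Cfsg.IsDefectGroup p M (Cfsg.principalBlock M G) D ↔ ∃ S : Sylow p G, (S : Subgroup G) = D := by
  classical
  have hp : p.Prime := Fact.out
  have hMp := isPModular_isPrime hM
  constructor
  · rintro ⟨g, hg, P, rfl⟩
    have hnd := not_dvd_index_of_isDefectClass hM hg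
    have hcard : Nat.card ((P : Subgroup (Subgroup.centralizer ({g} : Set G))).map
        (Subgroup.centralizer ({g} : Set G)).subtype)
        = p ^ (Nat.card G).factorization p := by
      rw [Nat.card_congr ((P : Subgroup (Subgroup.centralizer ({g} : Set G))).equivMapOfInjective
        _ (Subgroup.subtype_injective _)).symm.toEquiv, P.card_eq_multiplicity,
        factorization_centralizer hp hnd]
    exact ⟨Sylow.ofCard _ hcard, Sylow.coe_ofCard _ hcard⟩
  · rintro ⟨S, rfl⟩
    obtain ⟨g, hg⟩ := exists_isDefectClass hMp (isPBlock_principalBlock (M := M) (G := G))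
    have hnd := not_dvd_index_of_isDefectClass hM hg
    obtain ⟨P₀⟩ : Nonempty (Sylow p (Subgroup.centralizer ({g} : Set G))) := inferInstance
    have hcard₀ : Nat.card ((P₀ : Subgroup (Subgroup.centralizer ({g} : Set G))).map
        (Subgroup.centralizer ({g} : Set G)).subtype)
        = p ^ (Nat.card G).factorization p := by
      rw [Nat.card_congr ((P₀ : Subgroup (Subgroup.centralizer ({g} : Set G))).equivMapOfInjective
        _ (Subgroup.subtype_injective _)).symm.toEquiv, P₀.card_eq_multiplicity,
        factorization_centralizer hp hnd]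
    obtain ⟨t, ht⟩ := MulAction.exists_smul_eq G (Sylow.ofCard _ hcard₀) S
    have hg' := isDefectClass_conj hg t
    have hnd' := not_dvd_index_of_isDefectClass hM hg'
    have hSle : (S : Subgroup G) ≤ Subgroup.centralizer ({t * g * t⁻¹} : Set G) := by
      intro x hx
      rw [← ht, Sylow.coe_subgroup_smul, Sylow.coe_ofCard] at hx
      obtain ⟨y, hy, rfl⟩ := (Subgroup.mem_smul_pointwise_iff_exists _ _ _).1 hx
      obtain ⟨c, _, rfl⟩ := Subgroup.mem_map.1 hy
      have hc := Subgroup.mem_centralizer_iff.1 c.2 g (Set.mem_singleton g)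
      rw [Subgroup.mem_centralizer_iff]
      intro z hz
      rw [Set.mem_singleton_iff] at hz
      subst hz
      simp only [Subgroup.coe_subtype, MulAut.smul_def, MulAut.conj_apply]
      have e1 : t * g * t⁻¹ * (t * (c : G) * t⁻¹) = t * (g * (c : G)) * t⁻¹ := by group
      have e2 : t * (c : G) * t⁻¹ * (t * g * t⁻¹) = t * ((c : G) * g) * t⁻¹ := by group
      rw [e1, e2, hc]
    have hcardS : Nat.card ((S : Subgroup G).subgroupOf (Subgroup.centralizer ({t * g * t⁻¹} : Set G)))
        = p ^ (Nat.card (Subgroup.centralizer ({t * g * t⁻¹} : Set G))).factorization p := by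
      rw [Nat.card_congr (Subgroup.subgroupOfEquivOfLe hSle).toEquiv, S.card_eq_multiplicity,
        factorization_centralizer hp hnd']
    refine ⟨t * g * t⁻¹, hg', Sylow.ofCard _ hcardS, ?_⟩
    rw [Sylow.coe_ofCard, Subgroup.subgroupOf_map_subtype, inf_eq_left.2 hSle]

end Cfsg.Agent.S4652
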