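import Mathlib
import Cfsg.Statements.S4667
import Cfsg.Agent.Lib.Helper8.BlockRank2

set_option autoImplicit false

open Cfsg

namespace Cfsg.Agent.S4667

open Cfsg.Agent.Lib.Helper8

theorem result {G : Type*} [Group G] [Fintype G] (p : ℕ) [Fact p.Prime] (M : Ideal Cfsg.AlgInt) (hM : Cfsg.IsPModular p M) (B : Set (Cfsg.IrrCharacter G)) (hB : Cfsg.IsPBlock M B) : (Nat.card G : ℂ) * (Cfsg.blockRank p B : ℂ) = ∑ x : G, ∑ᶠ χ ∈ B, Cfsg.pRegularPart p (χ : G → ℂ) x * (χ : G → ℂ) x⁻¹ :=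
  card_mul_blockRank hM hB

end Cfsg.Agent.S4667
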