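import Mathlib
import Cfsg.Statements.S4668
import Cfsg.Agent.Lib.Helper8.BlockNormalP2
import Cfsg.Agent.Lib.Lead.ThompsonPQ

set_option autoImplicit false
open Cfsg

namespace Cfsg.Agent.S4668

open scoped ComplexConjugate
open Cfsg.Agent.Lib.Helper1 Cfsg.Agent.Lib.Helper4 Cfsg.Agent.Lib.Helper8

/-- Fix a prime p and a maximal ideal M of the algebraic integers containing p. Let Q₀ < Q₁ < ⋯ < Q_m be a strictly increasing chain of p-subgroups of the finite group G and N the intersection of their normalizers. Then every block idempotent of N is supported on C_G(Q_m): for every p-block E of N, the idempotent coefficient of E vanishes at every element of N outside C_G(Q_m). -/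
theorem result {G : Type*} [Group G] [Fintype G] (p : ℕ) [Fact p.Prime] (M : Ideal Cfsg.AlgInt) (hM : Cfsg.IsPModular p M) (m : ℕ) (Q : Fin (m + 1) → Subgroup G) (hQ : StrictMono Q) (hQp : ∀ i, IsPGroup p (Q i)) (N : Subgroup G) (hN : ∀ g : G, g ∈ N ↔ ∀ i, g ∈ Subgroup.normalizer (Q i : Set G)) (E : Set (Cfsg.IrrCharacter N)) (hE : Cfsg.IsPBlock M E) (n : N) (hn : (n : G) ∉ Subgroup.centralizer (Q (Fin.last m) : Set G)) : Cfsg.blockCoeff E n = 0 := by
  classical
  have hMp := isPModular_isPrime hM
  have hp : p.Prime := Fact.out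
  by_contra hne
  -- n is p-regular
  have hreg : ¬ p ∣ orderOf (n : G) := by
    intro hdvd
    apply hne
    apply blockCoeff_eq_zero_of_dvd_orderOf hM hE
    rwa [Subgroup.orderOf_coe] at hdvd
  -- n centralizes every normal p-subgroup of N
  have hcent : ∀ (R : Subgroup N) [R.Normal], IsPGroup p R →
      n ∈ Subgroup.centralizer (R : Set N) := by
    intro R _ hR
    by_contra hn'
    exact hne (blockCoeff_eq_zero_of_not_mem_centralizer hM R hR hE hn')
  have hmono : Monotone Q := hQ.monotone
  -- the normal p-subgroup Q_m ∩ N of N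
  have hNmem : ∀ x : G, x ∈ N → ∀ i, x ∈ Subgroup.normalizer (Q i : Set G) := fun x hx => (hN x).1 hx
  let T : Subgroup N := (Q (Fin.last m)).subgroupOf N
  have hTn : T.Normal := by
    constructor
    intro t ht x
    rw [Subgroup.mem_subgroupOf] at ht ⊢
    have hx := hNmem x x.2 (Fin.last m)
    have := (Subgroup.mem_normalizer_iff.1 hx (t : G)).1 ht
    simpa using this
  have hTp : IsPGroup p T := (hQp (Fin.last m)).comap_subtype
  have hnT := hcent T hTp
  have hnT' : ∀ x : G, x ∈ Q (Fin.last m) → x ∈ N → x * (n : G) = (n : G) * x := by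
    intro x hxQ hxN
    have := Subgroup.mem_centralizer_iff.1 hnT ⟨x, hxN⟩ (Subgroup.mem_subgroupOf.2 hxQ)
    exact congrArg Subtype.val this
  -- induction
  have key : ∀ k : ℕ, ∀ hk : k < m + 1, (n : G) ∈ Subgroup.centralizer (Q ⟨k, hk⟩ : Set G) := by
    intro k
    induction k with
    | zero =>
      intro hk
      rw [Subgroup.mem_centralizer_iff]
      intro x hx
      have hxm : x ∈ Q (Fin.last m) := hmono (Fin.le_last _) hx
      have hxN : x ∈ N := by
        rw [hN]
        intro i
        have : x ∈ Q i := hmono (Fin.zero_le i) hx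
        exact Subgroup.le_normalizer this
      exact hnT' x hxm hxN
    | succ k ih =>
      intro hk
      have hk' : k < m + 1 := by omega
      have ihk := ih hk'
      set Qi := Q ⟨k, hk'⟩ with hQi
      set Qj := Q ⟨k + 1, hk⟩ with hQj
      have hle : Qi ≤ Qj := hmono (by simp [Fin.le_def])
      have hcop : (Nat.card (Subgroup.zpowers (n : G))).Coprime p := by
        rw [Nat.card_zpowers]
        exact (Nat.Coprime.symm ((Nat.Prime.coprime_iff_not_dvd hp).2 hreg))
      have h1 : Qi ≤ Subgroup.centralizer ((Subgroup.zpowers (n : G)) : Set G) := by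
        intro x hx
        rw [Subgroup.mem_centralizer_iff]
        intro z hz
        obtain ⟨e, rfl⟩ := Subgroup.mem_zpowers_iff.1 hz
        have hc : Commute (n : G) x := (Subgroup.mem_centralizer_iff.1 ihk x hx).symm
        exact (hc.zpow_left e).eq
      have h2 : Qi ≤ Subgroup.normalizer (Qj : Set G) := hle.trans Subgroup.le_normalizer
      have h3 : Subgroup.zpowers (n : G) ≤ Subgroup.normalizer (Qj : Set G) := by
        rw [Subgroup.zpowers_le]
        exact hNmem n n.2 _
      have h4 : Qj ⊓ Subgroup.centralizer (Qi : Set G) ≤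
          Subgroup.centralizer ((Subgroup.zpowers (n : G)) : Set G) := by
        intro x hx
        have hxQj : x ∈ Qj := hx.1
        have hxC : x ∈ Subgroup.centralizer (Qi : Set G) := hx.2
        have hxm : x ∈ Q (Fin.last m) := hmono (Fin.le_last _) hxQj
        have hxN : x ∈ N := by
          rw [hN]
          intro i
          by_cases hi : (i : ℕ) ≤ k
          · have hiQ : Q i ≤ Qi := hmono (by simp [Fin.le_def, hi])
            have : x ∈ Subgroup.centralizer (Q i : Set G) :=
              Subgroup.centralizer_le (by exact_mod_cast hiQ) hxC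
            exact Subgroup.centralizer_le_normalizer _ this
          · have hiQ : Qj ≤ Q i := hmono (by simp [Fin.le_def]; omega)
            exact Subgroup.le_normalizer (hiQ hxQj)
        have hc : Commute (n : G) x := (hnT' x hxm hxN).symm
        rw [Subgroup.mem_centralizer_iff]
        intro z hz
        obtain ⟨e, rfl⟩ := Subgroup.mem_zpowers_iff.1 hz
        exact (hc.zpow_left e).eq
      have := Cfsg.Agent.Lib.Lead.thompson_PQ p Qi (Subgroup.zpowers (n : G)) Qj (hQp _) hcop
        (hQp _) h1 h2 h3 h4
      exact this (Subgroup.mem_zpowers _)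
  exact hn (key m (by omega))

end Cfsg.Agent.S4668
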