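import Mathlib
import Cfsg.Statements.S4679
import Cfsg.Agent.Lib.Helper8.PairStabConj

set_option autoImplicit false
open Cfsg

namespace Cfsg.Agent.S4679

open scoped ComplexConjugate
open Cfsg.Agent.Lib.Helper1 Cfsg.Agent.Lib.Helper4 Cfsg.Agent.Lib.Helper8

/-- Fix a prime p and a maximal ideal M of the algebraic integers containing p, a p-block B of the finite group G with maximal Brauer pair (P, e), its fusion system F on P, a Brauer pair (Q, f) ≤ (P, e), and let T be the stabilizer of f in N_G(Q). Then Q is fully normalized in F if and only if N_P(Q) is a defect group of the block of T whose idempotent is that of f. -/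
theorem result {G : Type*} [Group G] [Fintype G] (p : ℕ) [Fact p.Prime] (M : Ideal Cfsg.AlgInt) (hM : Cfsg.IsPModular p M) (B : Set (Cfsg.IrrCharacter G)) (P : Subgroup G) (e : Set (Cfsg.IrrCharacter (Subgroup.centralizer (P : Set G)))) (hmax : Cfsg.IsMaximalBrauerPair p M B P e) (F : Cfsg.FusionSystem P) (hF : Cfsg.IsBlockFusionSystemOn p M B P e F) (Q : Subgroup G) (f : Set (Cfsg.IrrCharacter (Subgroup.centralizer (Q : Set G)))) (hQP : Q ≤ P) (hf : Cfsg.IsPBlock M f) (hle : Cfsg.SubpairLE p M Q f P e) (T : Subgroup G) (hT : ∀ y : G, y ∈ T ↔ y ∈ Subgroup.normalizer (Q : Set G) ∧ Cfsg.StabilizesBlock (Subgroup.centralizer (Q : Set G)) f y) : F.IsFullyNormalized Q ↔ ∃ F' : Set (Cfsg.IrrCharacter T), Cfsg.IsPBlock M F' ∧ (∀ t : T, Cfsg.blockCoeff F' t = Cfsg.subgroupBlockCoeff (Subgroup.centralizer (Q : Set G)) f (t : G)) ∧ Cfsg.IsDefectGroup p M F' ((P ⊓ Subgroup.normalizer (Q : Set G)).subgroupOf T) := by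
  classical
  have hMp := isPModular_isPrime hM
  have hPe : IsBrauerPair p M P e := hmax.1.1
  have hB : IsPBlock M B := hmax.1.2.1
  have hQ : IsPGroup p Q := hPe.1.to_le hQP
  have hBQf : IsBrauerPairOf p M B Q f :=
    (Cfsg.Agent.S4658.result p M hM P Q e f hPe ⟨hQ, hf⟩ hle B hB).1 hmax.1
  have hcardsub : ∀ (R T' : Subgroup G), R ≤ T' → Nat.card (R.subgroupOf T') = Nat.card R :=
    fun R T' h => Nat.card_congr (Subgroup.subgroupOfEquivOfLe h).toEquiv
  constructor
  · intro hfn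
    obtain ⟨⟨F₁, hF₁, hF₁e, D, hD, hDle⟩, _⟩ :=
      normalizer_defectGroup_of_subpairLE hM hmax hQP hf hle T hT
    obtain ⟨hRT, _⟩ := exists_defectGroup_ge_normalizer hM hPe hQP hle T hT hF₁ hF₁e
    obtain ⟨z, hz, hzcard⟩ := exists_conj_card_le_normalizer hM hmax hBQf T hT hF₁ hF₁e hD
    have hlez : SubpairLE p M (Q.map (MulAut.conj z).toMonoidHom) (conjBlock Q z f) P e := hz
    have hconj := isConj_of_subpairLE hF hle hlez
    have h1 := hfn.2 _ hconj
    unfold FusionSystem.normalizerIn at h1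
    have h2 := hcardsub _ _ hRT
    have heq : (P ⊓ Subgroup.normalizer (Q : Set G)).subgroupOf T = D :=
      Subgroup.eq_of_le_of_card_ge hDle (by omega)
    refine ⟨F₁, hF₁, hF₁e, ?_⟩
    rw [heq]
    exact hD
  · rintro ⟨F', hF', hF'e, hdef⟩
    obtain rfl : T = pairStabOf (⟨Q, f⟩ : BrauerPairIdx G) := by
      ext y
      rw [hT]
      exact Iff.rfl
    obtain ⟨hRT, _⟩ := exists_defectGroup_ge_normalizer hM hPe hQP hle _ hT hF' hF'e
    refine ⟨hQP, ?_⟩
    intro Q' hQ'
    obtain ⟨g, rfl, hleg⟩ := exists_of_isConj hM hF hle hQ'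
    have hQgP : Q.map (MulAut.conj g).toMonoidHom ≤ P := subpairLE_le hleg
    obtain ⟨hFg, hFge⟩ := stab_block_conj (M := M) g Q f hF' hF'e
    obtain ⟨hRgT, Dg, hDg, hDgle⟩ := exists_defectGroup_ge_normalizer hM hPe hQgP hleg
      (pairStabOf (pairConj g (⟨Q, f⟩ : BrauerPairIdx G))) (fun y => Iff.rfl) hFg hFge
    have h1 := isDefectGroup_image_irrMap (stabConj g (⟨Q, f⟩ : BrauerPairIdx G)) hdef
    have h2 : Nat.card Dg = Nat.card _ :=
      (card_of_isDefectGroup hM hFg hDg).trans (card_of_isDefectGroup hM hFg h1).symm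
    rw [Subgroup.card_map_of_injective (stabConj g (⟨Q, f⟩ : BrauerPairIdx G)).injective,
      hcardsub _ _ hRT] at h2
    have h3 := Subgroup.card_le_of_le hDgle
    rw [hcardsub _ _ hRgT, h2] at h3
    exact h3

end Cfsg.Agent.S4679
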