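import Mathlib
import Cfsg.Statements.S4681
import Cfsg.Agent.Lib.Helper8.BlockPairPrincipal
import Cfsg.Agent.Lib.Helper8.BlockPairs6
import Cfsg.Agent.Lib.Helper8.PairConj
import Cfsg.Agent.Lib.Helper8.BlockIso

set_option autoImplicit false
open Cfsg

namespace Cfsg.Agent.S4681

open scoped ComplexConjugate
open Cfsg.Agent.Lib.Helper1 Cfsg.Agent.Lib.Helper4 Cfsg.Agent.Lib.Helper8

/-- Fix a prime p and a maximal ideal M of the algebraic integers containing p. Let B₀ be the principal p-block of the finite group G, P a Sylow p-subgroup and e₀ the principal p-block of C_G(P). Then (P, e₀) is a maximal Brauer pair of B₀, and the fusion system of B₀ on (P, e₀) is the fusion system of G on P: its maps from each subgroup of P are exactly the conjugation maps into P by elements of G. -/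
theorem result {G : Type*} [Group G] [Fintype G] (p : ℕ) [Fact p.Prime] (M : Ideal Cfsg.AlgInt) (hM : Cfsg.IsPModular p M) (S : Sylow p G) : Cfsg.IsMaximalBrauerPair p M (Cfsg.principalBlock M G) (S : Subgroup G) (Cfsg.principalBlock M (Subgroup.centralizer ((S : Subgroup G) : Set G))) ∧ ∀ F : Cfsg.FusionSystem (S : Subgroup G), Cfsg.IsBlockFusionSystemOn p M (Cfsg.principalBlock M G) (S : Subgroup G) (Cfsg.principalBlock M (Subgroup.centralizer ((S : Subgroup G) : Set G))) F → ∀ Q : Subgroup G, F.Hom Q = (Cfsg.groupFusionSystem (S : Subgroup G)).Hom Q := by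
  classical
  have hMp := isPModular_isPrime hM
  have hSp : IsPGroup p (S : Subgroup G) := S.isPGroup'
  have hS0 := isBrauerPairOf_principal hM (S : Subgroup G) hSp
  -- every subgroup of S carries the principal pair below the top principal pair
  have hbelow : ∀ Q : Subgroup G, Q ≤ (S : Subgroup G) →
      SubpairLE p M Q (principalBlock M (Subgroup.centralizer (Q : Set G))) (S : Subgroup G)
        (principalBlock M (Subgroup.centralizer ((S : Subgroup G) : Set G))) := by
    intro Q hQ
    obtain ⟨f, hf, hle⟩ := exists_subpairLE hM _ (S : Subgroup G) Q _ hS0.1 hQ le_rfl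
    have := eq_principalBlock_of_subpairRel hM (a := ⟨Q, f⟩)
      (b := ⟨(S : Subgroup G), principalBlock M _⟩) hle rfl
    change f = principalBlock M (Subgroup.centralizer (Q : Set G)) at this
    subst this
    exact hle
  refine ⟨⟨hS0, ?_⟩, ?_⟩
  · intro R g hRg hle
    have h1 : (S : Subgroup G) ≤ R := subpairLE_le hle
    exact S.is_maximal' hRg.1.1 h1
  · intro F hF Q
    ext φ
    rw [hF.2 Q φ]
    constructor
    · rintro ⟨hQ, g, hφ, hgQ, -⟩
      refine ⟨hQ, fun x => ?_, g, hφ⟩
      apply hgQ
      rw [hφ]
      exact ⟨(x : G), x.2, rfl⟩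
    · rintro ⟨hQ, hφS, g, hφ⟩
      have hgQ : Q.map (MulAut.conj g).toMonoidHom ≤ (S : Subgroup G) := by
        rintro _ ⟨u, hu, rfl⟩
        have := hφS ⟨u, hu⟩
        rw [hφ] at this
        exact this
      refine ⟨hQ, g, hφ, hgQ, principalBlock M _, hbelow Q hQ, ?_⟩
      rw [conjBlock_eq_image, irrMap_image_principalBlock]
      exact hbelow _ hgQ

end Cfsg.Agent.S4681
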