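import Mathlib
import Cfsg.Statements.S4682
import Cfsg.Agent.Lib.Helper8.FS4

set_option autoImplicit false
open Cfsg

namespace Cfsg.Agent.S4682

open scoped ComplexConjugate
open Cfsg.Agent.Lib.Helper1 Cfsg.Agent.Lib.Helper4 Cfsg.Agent.Lib.Helper8

/-- Fix a prime p and a maximal ideal M of the algebraic integers containing p, a p-block B of the finite group G with maximal Brauer pair (P, e), P abelian, and a Brauer pair (Q, f) ≤ (P, e). Let T_Q be the stabilizer of f in N_G(Q) and T_P the stabilizer of e in N_G(P). Then every element of T_Q is a product of an element of T_P and an element of C_G(Q); and the index of C_G(Q) in T_Q equals the index of T_P ∩ C_G(Q) in T_P ∩ N_G(Q). -/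
theorem result {G : Type*} [Group G] [Fintype G] (p : ℕ) [Fact p.Prime] (M : Ideal Cfsg.AlgInt) (hM : Cfsg.IsPModular p M) (B : Set (Cfsg.IrrCharacter G)) (P : Subgroup G) (e : Set (Cfsg.IrrCharacter (Subgroup.centralizer (P : Set G)))) (hmax : Cfsg.IsMaximalBrauerPair p M B P e) (hab : ∀ x ∈ P, ∀ y ∈ P, x * y = y * x) (Q : Subgroup G) (f : Set (Cfsg.IrrCharacter (Subgroup.centralizer (Q : Set G)))) (hQP : Q ≤ P) (hf : Cfsg.IsPBlock M f) (hle : Cfsg.SubpairLE p M Q f P e) (TQ : Subgroup G) (hTQ : ∀ y : G, y ∈ TQ ↔ y ∈ Subgroup.normalizer (Q : Set G) ∧ Cfsg.StabilizesBlock (Subgroup.centralizer (Q : Set G)) f y) (TP : Subgroup G) (hTP : ∀ y : G, y ∈ TP ↔ y ∈ Subgroup.normalizer (P : Set G) ∧ Cfsg.StabilizesBlock (Subgroup.centralizer (P : Set G)) e y) : (∀ x ∈ TQ, ∃ y ∈ TP, ∃ c ∈ Subgroup.centralizer (Q : Set G), x = y * c) ∧ ((Subgroup.centralizer (Q : Set G)).subgroupOf TQ).index = ((TP ⊓ Subgroup.centralizer (Q : Set G)).subgroupOf (TP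 ⊓ Subgroup.normalizer (Q : Set G))).index := by
  classical
  have hPe : Cfsg.IsBrauerPair p M P e := hmax.1.1
  have hle' : Relation.ReflTransGen (Cfsg.NormalSubpairRel p M) ⟨Q, f⟩ ⟨P, e⟩ := hle
  have hfac : ∀ x ∈ TQ, ∃ y ∈ TP, ∃ c ∈ Subgroup.centralizer (Q : Set G), x = y * c := by
    intro x hx
    obtain ⟨hxN, hxst⟩ := (hTQ x).1 hx
    obtain ⟨y, hyN, hyst, c, hc, hxyc⟩ := abelian_stab_factor hM hmax hab hQP hle hxN hxst
    exact ⟨y, (hTP y).2 ⟨hyN, hyst⟩, c, hc, hxyc⟩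
  refine ⟨hfac, ?_⟩
  have hCTQ : Subgroup.centralizer (Q : Set G) ≤ TQ := fun c hc =>
    (hTQ c).2 ⟨Subgroup.centralizer_le_normalizer _ hc, stabilizesBlock_of_mem _ f hc⟩
  have hHTQ : TP ⊓ Subgroup.normalizer (Q : Set G) ≤ TQ := by
    rintro y ⟨hyTP, hyNQ⟩
    obtain ⟨hyN, hyst⟩ := (hTP y).1 hyTP
    refine (hTQ y).2 ⟨hyNQ, ?_⟩
    have hyC := normalizer_le_normalizer_centralizer P hyN
    have h1 := subpairRel_pairConj y hle'
    rw [pairConj_of_mem_normalizer y P e hyN hyC] at h1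
    obtain ⟨_, himg⟩ := (stabilizesBlock_iff_image _ e y).1 hyst
    rw [himg] at h1
    exact (subpairLE_conj_iff_stabilizes hM hPe hle hyNQ).1 h1
  have hsup : TQ = (TP ⊓ Subgroup.normalizer (Q : Set G)) ⊔ Subgroup.centralizer (Q : Set G) := by
    apply le_antisymm
    · intro x hx
      obtain ⟨y, hy, c, hc, rfl⟩ := hfac x hx
      refine Subgroup.mul_mem _ (Subgroup.mem_sup_left ⟨hy, ?_⟩) (Subgroup.mem_sup_right hc)
      have hxN := ((hTQ _).1 hx).1
      have : y = y * c * c⁻¹ := by group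
      rw [this]
      exact Subgroup.mul_mem _ hxN (Subgroup.inv_mem _ (Subgroup.centralizer_le_normalizer _ hc))
    · exact sup_le hHTQ hCTQ
  have hHC : TP ⊓ Subgroup.normalizer (Q : Set G) ≤
      Subgroup.normalizer ((Subgroup.centralizer (Q : Set G) : Subgroup G) : Set G) :=
    inf_le_right.trans (normalizer_le_normalizer_centralizer Q)
  have h1 := relIndex_sup_of_le_normalizer' (Subgroup.centralizer (Q : Set G))
    (TP ⊓ Subgroup.normalizer (Q : Set G)) hHC
  rw [← hsup] at h1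
  have h2 : (TP ⊓ Subgroup.centralizer (Q : Set G)).subgroupOf (TP ⊓ Subgroup.normalizer (Q : Set G)) =
      (Subgroup.centralizer (Q : Set G)).subgroupOf (TP ⊓ Subgroup.normalizer (Q : Set G)) := by
    ext y
    rw [Subgroup.mem_subgroupOf, Subgroup.mem_subgroupOf]
    exact ⟨fun h => h.2, fun h => ⟨y.2.1, h⟩⟩
  rw [h2]
  exact h1

end Cfsg.Agent.S4682
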