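import Mathlib
import Cfsg.Statements.S4683
import Cfsg.Agent.Lib.Helper8.Sub6
import Cfsg.Agent.Lib.Helper8.Sub7
import Cfsg.Agent.Lib.Helper8.Sub8
import Cfsg.Agent.Lib.Helper8.BlockOrth2

set_option autoImplicit false
open Cfsg

namespace Cfsg.Agent.S4683

open scoped ComplexConjugate
open Cfsg.Agent.Lib.Helper1 Cfsg.Agent.Lib.Helper4 Cfsg.Agent.Lib.Helper8

/-- Fix a prime p and a maximal ideal M of the algebraic integers containing p, a p-block B of the finite group G, a p-element u and a p-block e of C = C_G(u) such that (⟨u⟩, e) is a Brauer pair of B (a Brauer element of B). For χ ∈ B let χ_u be the e-part of the class function c ↦ χ(u c) on C and χ_u' the e-part of c ↦ χ(u⁻¹ c). Then the sum over χ ∈ B and over the p-regular elements s of C of χ_u(s)·χ_u'(s⁻¹) equals the order of C times the p-regular rank of e (the number of irreducible Brauer characters of e). -/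
theorem result {G : Type*} [Group G] [Fintype G] (p : ℕ) [Fact p.Prime] (M : Ideal Cfsg.AlgInt) (hM : Cfsg.IsPModular p M) (B : Set (Cfsg.IrrCharacter G)) (u : G) (hu : ∃ k : ℕ, orderOf u = p ^ k) (e : Set (Cfsg.IrrCharacter (Subgroup.centralizer (Subgroup.zpowers u : Set G)))) (hBe : Cfsg.IsBrauerPairOf p M B (Subgroup.zpowers u) e) : ∑ᶠ χ ∈ B, ∑ᶠ s : Subgroup.centralizer (Subgroup.zpowers u : Set G), Cfsg.pRegularPart p (Cfsg.blockPart e (fun c : Subgroup.centralizer (Subgroup.zpowers u : Set G) => (χ : G → ℂ) (u * c))) s * Cfsg.blockPart e (fun c : Subgroup.centralizer (Subgroup.zpowers u : Set G) => (χ : G → ℂ) (u⁻¹ * c)) s⁻¹ = (Nat.card (Subgroup.centralizer (Subgroup.zpowers u : Set G)) : ℂ) * (Cfsg.blockRank p e : ℂ) := by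
  classical
  have : Fintype (IrrCharacter G) := Fintype.ofFinite _
  have hMp := isPModular_isPrime hM
  have hC : ∀ t, t ∈ Subgroup.centralizer (Subgroup.zpowers u : Set G) ↔ t * u = u * t := by
    intro t
    rw [Subgroup.mem_centralizer_iff]
    constructor
    · intro h
      exact (h u (Subgroup.mem_zpowers u)).symm
    · intro h g hg
      obtain ⟨n, rfl⟩ := Subgroup.mem_zpowers_iff.1 hg
      have hc : Commute t u := h
      exact (hc.zpow_right n).eq.symm
  have hQC : Subgroup.zpowers u ≤ Subgroup.centralizer (Subgroup.zpowers u : Set G) := by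
    rw [Subgroup.zpowers_le]
    exact (hC u).2 rfl
  have hind := isInducedBlock_of_isBrauerPairOf hM (Subgroup.zpowers u) hQC hBe
  have he := hind.1
  -- rewrite each term as a squared norm
  have hterm : ∀ (χ : IrrCharacter G) (s : Subgroup.centralizer (Subgroup.zpowers u : Set G)),
      Cfsg.pRegularPart p (Cfsg.blockPart e (fun c : Subgroup.centralizer (Subgroup.zpowers u : Set G) => (χ : G → ℂ) (u * c))) s *
        Cfsg.blockPart e (fun c : Subgroup.centralizer (Subgroup.zpowers u : Set G) => (χ : G → ℂ) (u⁻¹ * c)) s⁻¹ =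
      ((Complex.normSq (Cfsg.pRegularPart p (Cfsg.blockPart e
        (fun c : Subgroup.centralizer (Subgroup.zpowers u : Set G) => (χ : G → ℂ) (u * c))) s) : ℝ) : ℂ) := by
    intro χ s
    have h1 : (fun c : Subgroup.centralizer (Subgroup.zpowers u : Set G) => (χ : G → ℂ) (u⁻¹ * c)) =
        fun c => conj ((fun c : Subgroup.centralizer (Subgroup.zpowers u : Set G) => (χ : G → ℂ) (u * c)) c⁻¹) := by
      funext c
      show (χ : G → ℂ) (u⁻¹ * (c : G)) = conj ((χ : G → ℂ) (u * ((c⁻¹ : Subgroup.centralizer (Subgroup.zpowers u : Set G)) : G)))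
      rw [← isCharacter_inv (isCharacter_of_irr χ.2)]
      have h2 : (u * ((c⁻¹ : Subgroup.centralizer (Subgroup.zpowers u : Set G)) : G))⁻¹ = (c : G) * (u⁻¹ * (c : G)) * (c : G)⁻¹ := by
        rw [Subgroup.coe_inv]
        group
      rw [h2, isClassFunction_irr χ.2]
    rw [h1, blockPart_star e (fun c : Subgroup.centralizer (Subgroup.zpowers u : Set G) => (χ : G → ℂ) (u * c)) s,
      ← Complex.mul_conj]
    by_cases hs : p ∣ orderOf s
    · rw [pRegularPart_of_dvd _ hs, zero_mul, zero_mul]
    · rw [pRegularPart_of_not_dvd _ hs]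
  simp_rw [hterm]
  rw [finsum_mem_eq_sum_indicator]
  have hsum : ∀ χ : IrrCharacter G, (by classical exact if χ ∈ B then (1 : ℂ) else 0) *
      ∑ᶠ s : Subgroup.centralizer (Subgroup.zpowers u : Set G), ((Complex.normSq (Cfsg.pRegularPart p (Cfsg.blockPart e
        (fun c : Subgroup.centralizer (Subgroup.zpowers u : Set G) => (χ : G → ℂ) (u * c))) s) : ℝ) : ℂ) =
      ((∑ s : Subgroup.centralizer (Subgroup.zpowers u : Set G), Complex.normSq (Cfsg.pRegularPart p (Cfsg.blockPart e
        (fun c : Subgroup.centralizer (Subgroup.zpowers u : Set G) => (χ : G → ℂ) (u * c))) s) : ℝ) : ℂ) := by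
    intro χ
    rw [finsum_eq_sum_of_fintype, Complex.ofReal_sum]
    by_cases hχ : χ ∈ B
    · rw [if_pos hχ, one_mul]
    · rw [if_neg hχ, zero_mul]
      symm
      apply Finset.sum_eq_zero
      intro s _
      by_cases hs : p ∣ orderOf s
      · rw [pRegularPart_of_dvd _ hs]; simp
      · rw [pRegularPart_of_not_dvd _ hs, blockPart_section_eq_zero hM _ hC hu hind hχ hs]; simp
  simp_rw [hsum]
  rw [← Complex.ofReal_sum, sum_irr_normSq_blockPart_section hM _ hC hu he, Complex.ofReal_mul]
  rfl

end Cfsg.Agent.S4683
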