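import Cfsg.Statements.S4701
import Cfsg.Agent.S0999
import Cfsg.Agent.Lib.Lead.BRP1
import Cfsg.Agent.Lib.Helper1.SLCard
import Cfsg.Agent.Lib.Helper1.SL2Torus

set_option autoImplicit false
set_option linter.style.haveILetI false
open Cfsg

namespace Cfsg.Agent.S4701

open Subgroup Cfsg.Agent.Lib.Lead.BRP

theorem card_psl2_aux {F : Type} [Field F] [Fintype F] :
    Nat.gcd 2 (Fintype.card F - 1) *
      Nat.card (Matrix.ProjectiveSpecialLinearGroup (Fin 2) F) =
      Fintype.card F * (Fintype.card F ^ 2 - 1) := by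
  have h1 := Cfsg.Agent.Lib.Helper1.card_SL2 (F := F)
  have h2 := Cfsg.Agent.Lib.Helper1.card_center_SL_field (F := F) 2 (by norm_num)
  have h3 := Subgroup.card_mul_index (Subgroup.center (Matrix.SpecialLinearGroup (Fin 2) F))
  have h4 : (Subgroup.center (Matrix.SpecialLinearGroup (Fin 2) F)).index =
      Nat.card (Matrix.ProjectiveSpecialLinearGroup (Fin 2) F) := rfl
  rw [h4, h2, h1] at h3
  exact h3

theorem center_SL2_eq_bot_aux {F : Type*} [Field F] [CharP F 2] :
    Subgroup.center (Matrix.SpecialLinearGroup (Fin 2) F) = ⊥ := by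
  rw [Subgroup.eq_bot_iff_forall]
  intro A hA
  rw [Matrix.SpecialLinearGroup.mem_center_iff] at hA
  obtain ⟨r, hr, hrA⟩ := hA
  rw [Fintype.card_fin] at hr
  have h2 : (2 : F) = 0 := CharTwo.two_eq_zero
  have h1 : (r + 1) ^ 2 = 0 := by linear_combination hr + r * h2 + h2
  have h3 : r + 1 = 0 := pow_eq_zero_iff (n := 2) (by norm_num) |>.mp h1
  have h4 : r = 1 := by linear_combination h3 - h2
  apply Subtype.ext
  rw [← hrA, h4]
  simp

/-- in characteristic two, `PSL₂(F) ≃* SL₂(F)` -/
noncomputable def pslEquivAux {F : Type*} [Field F] [CharP F 2] :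
    Matrix.ProjectiveSpecialLinearGroup (Fin 2) F ≃* Matrix.SpecialLinearGroup (Fin 2) F :=
  (QuotientGroup.quotientMulEquivOfEq center_SL2_eq_bot_aux).trans QuotientGroup.quotientBot

theorem charP_two_of_card {F : Type*} [Field F] [Fintype F] {m : ℕ}
    (hcard : Fintype.card F = 2 ^ m) : CharP F 2 := by
  obtain ⟨r, hr⟩ := CharP.exists F
  have hrp : r.Prime := CharP.char_is_prime F r
  have hdvd : r ∣ Fintype.card F := by
    rw [← CharP.cast_eq_zero_iff F r]
    exact Nat.cast_card_eq_zero F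
  rw [hcard] at hdvd
  have : r = 2 := (Nat.prime_dvd_prime_iff_eq hrp Nat.prime_two).mp (hrp.dvd_of_dvd_pow hdvd)
  subst this
  exact hr

/-- a perfect group has no normal subgroup of index two -/
theorem not_index_two {X : Type*} [Group X] (hperf : commutator X = ⊤) (N : Subgroup X)
    [N.Normal] (hidx : N.index = 2) : False := by
  have hcard : Nat.card (X ⧸ N) = 2 := hidx
  haveI : Fact (Nat.Prime 2) := ⟨Nat.prime_two⟩
  have hcyc : IsCyclic (X ⧸ N) := isCyclic_of_prime_card hcard
  let _ : CommGroup (X ⧸ N) := IsCyclic.commGroup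
  have h := Abelianization.commutator_subset_ker (QuotientGroup.mk' N)
  rw [hperf, QuotientGroup.ker_mk'] at h
  have : N = ⊤ := top_le_iff.mp h
  rw [this, Subgroup.index_top] at hidx
  omega

theorem not_sq_dvd {G : Type*} [Group G] [Finite G] (p : ℕ) [hp : Fact p.Prime]
    (hbig : Nat.card G < p ^ 3) (P : Sylow p G) (hP : ¬ (P : Subgroup G).Normal) :
    ¬ p ^ 2 ∣ Nat.card G := by
  intro hsq
  have h0 : Nat.card G ≠ 0 := Nat.card_pos.ne'
  have hf : 2 ≤ (Nat.card G).factorization p :=
    (hp.out.pow_dvd_iff_le_factorization h0).mp hsq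
  have hPcard : p ^ 2 ≤ Nat.card P := by
    rw [P.card_eq_multiplicity]
    exact Nat.pow_le_pow_right hp.out.pos hf
  have hn1 := card_sylow_modEq_one p G
  have hn2 : Nat.card (Sylow p G) = (normalizer ((P : Subgroup G) : Set G)).index :=
    P.card_eq_index_normalizer
  have hne : (normalizer ((P : Subgroup G) : Set G)).index ≠ 1 := by
    intro h
    rw [Subgroup.index_eq_one, Subgroup.normalizer_eq_top_iff] at h
    exact hP h
  rw [hn2] at hn1
  have hge : p + 1 ≤ (normalizer ((P : Subgroup G) : Set G)).index := by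
    have hpos : 0 < (normalizer ((P : Subgroup G) : Set G)).index :=
      Nat.pos_of_ne_zero Subgroup.index_ne_zero_of_finite
    have h1 : 1 % p = 1 := Nat.mod_eq_of_lt hp.out.one_lt
    have h2 : (normalizer ((P : Subgroup G) : Set G)).index % p = 1 := by
      have := hn1
      unfold Nat.ModEq at this
      rw [this, h1]
    by_contra hlt
    push Not at hlt
    have h3 : (normalizer ((P : Subgroup G) : Set G)).index ≤ p := by omega
    rcases Nat.lt_or_ge (normalizer ((P : Subgroup G) : Set G)).index p with h4 | h4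
    · rw [Nat.mod_eq_of_lt h4] at h2
      exact hne h2
    · have h5 : (normalizer ((P : Subgroup G) : Set G)).index = p := le_antisymm h3 h4
      rw [h5, Nat.mod_self] at h2
      omega
  have hle : Nat.card P ≤ Nat.card (normalizer ((P : Subgroup G) : Set G)) :=
    Nat.card_le_card_of_injective (Subgroup.inclusion Subgroup.le_normalizer)
      (Subgroup.inclusion_injective _)
  have hmul := Subgroup.card_mul_index (normalizer ((P : Subgroup G) : Set G))
  have h6 : p ^ 2 * (p + 1) ≤ Nat.card G := by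
    rw [← hmul]
    exact Nat.mul_le_mul (hPcard.trans hle) hge
  have h7 : p ^ 3 < p ^ 2 * (p + 1) := by
    have : 0 < p ^ 2 := pow_pos hp.out.pos 2
    nlinarith
  omega

/-- Let G be a finite perfect group and p a prime dividing the order of G with p^3 larger than the order of G. Suppose a Sylow p-subgroup of G is not normal and G has no normal subgroup of order 2. Then p > 3 and G is isomorphic to PSL(2, p), or to SL(2, 2^m) with p = 2^m + 1. -/
theorem result {G : Type*} [Group G] [Finite G] (hperf : commutator G = ⊤) (p : ℕ) [Fact p.Prime] (hdvd : p ∣ Nat.card G) (hbig : Nat.card G < p ^ 3) (P : Sylow p G) (hP : ¬ (P : Subgroup G).Normal) (h2 : ∀ N : Subgroup G, N.Normal → Nat.card N ≠ 2) : (∃ (F : Type) (_ : Field F) (_ : Fintype F), Fintype.card F = p ∧ 3 < p ∧ Nonempty (G ≃* Matrix.ProjectiveSpecialLinearGroup (Fin 2) F)) ∨ (∃ (m : ℕ) (F : Type) (_ : Field F) (_ : Fintype F), Fintype.card F = 2 ^ m ∧ p = 2 ^ m + 1 ∧ 3 < p ∧ Nonempty (G ≃* Matrix.SpecialLinearGroup (Fin 2) F)) :=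 by
  classical
  have hpp : p.Prime := Fact.out
  have hsq : ¬ p ^ 2 ∣ Nat.card G := not_sq_dvd p hbig P hP
  set K : Subgroup G := Cfsg.pPrimeCore p G with hK
  have hKn : K.Normal := inferInstance
  have hKc : (Nat.card K).Coprime p := Cfsg.Agent.Lib.Helper6.pPrimeCore_coprime p
  have hcardG : Nat.card G = Nat.card (G ⧸ K) * Nat.card K :=
    Subgroup.card_eq_card_quotient_mul_card_subgroup K
  have hperf' : commutator (G ⧸ K) = ⊤ := by
    have h := congrArg (Subgroup.map (QuotientGroup.mk' K)) hperf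
    rw [commutator_def, Subgroup.map_commutator,
      Subgroup.map_top_of_surjective _ (QuotientGroup.mk'_surjective K)] at h
    rw [commutator_def]
    exact h
  have hdvd' : p ∣ Nat.card (G ⧸ K) := by
    rw [hcardG] at hdvd
    exact Nat.Coprime.dvd_of_dvd_mul_right hKc.symm hdvd
  have hsq' : ¬ p ^ 2 ∣ Nat.card (G ⧸ K) := fun h =>
    hsq (h.trans (Dvd.intro _ hcardG.symm))
  have hcore : Cfsg.pPrimeCore p (G ⧸ K) = ⊥ := Cfsg.Agent.Lib.Helper3.pPrimeCore_quotient_eq_bot
  obtain ⟨N, hNn, hNs, hNc, hpN⟩ := exists_simple_normal hperf' hdvd' hsq' hcore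
  haveI := hNn
  haveI := hNs
  have hNcard := Subgroup.card_mul_index N
  have hKpos : 0 < Nat.card K := Nat.card_pos
  have hipos : 0 < N.index := Nat.pos_of_ne_zero Subgroup.index_ne_zero_of_finite
  have hNlt : Nat.card N < p ^ 3 := by
    have h1 : Nat.card N ≤ Nat.card (G ⧸ K) := Subgroup.card_le_card_group N
    have h2 : Nat.card (G ⧸ K) ≤ Nat.card G := by
      rw [hcardG]; exact Nat.le_mul_of_pos_right _ hKpos
    omega
  -- the total: |G| = |N| * index * |K|
  have htot : Nat.card G = Nat.card N * N.index * Nat.card K := by rw [hNcard, hcardG]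
  -- final step, given `index * |K| ≤ 2`
  have hfin : N.index * Nat.card K ≤ 2 → Nonempty (G ≃* N) := by
    intro hle
    have hidx : N.index ≠ 2 := fun h => not_index_two hperf' N h
    have hK2 : Nat.card K ≠ 2 := h2 K hKn
    have hi1 : N.index = 1 := by
      rcases Nat.lt_or_ge N.index 2 with h | h
      · omega
      · exfalso
        have : N.index * 1 ≤ N.index * Nat.card K := Nat.mul_le_mul_left _ hKpos
        omega
    have hk1 : Nat.card K = 1 := by
      rw [hi1, one_mul] at hle
      omega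
    have hNtop : N = ⊤ := Subgroup.index_eq_one.mp hi1
    have hKbot : K = ⊥ := Subgroup.card_eq_one.mp hk1
    have e1 : G ⧸ K ≃* G := (QuotientGroup.quotientMulEquivOfEq hKbot).trans
      QuotientGroup.quotientBot
    have e2 : N ≃* (G ⧸ K) := (MulEquiv.subgroupCongr hNtop).trans Subgroup.topEquiv
    exact ⟨e1.symm.trans e2.symm⟩
  rcases Cfsg.Agent.S0999.result (G := N) hNc p hpp hpN hNlt with
    ⟨F, instF, instFin, hF, h3, ⟨e⟩⟩ | ⟨m, F, instF, instFin, hF, hpm, h3, ⟨e⟩⟩
  · left
    refine ⟨F, instF, instFin, hF, h3, ?_⟩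
    have hcardN : Nat.card N = Nat.card (Matrix.ProjectiveSpecialLinearGroup (Fin 2) F) :=
      Nat.card_congr e.toEquiv
    have hpsl := card_psl2_aux (F := F)
    rw [hF, ← hcardN] at hpsl
    have hodd : Odd p := hpp.odd_of_ne_two (by omega)
    have hg : Nat.gcd 2 (p - 1) = 2 := by
      obtain ⟨k, hk⟩ := hodd
      rw [hk, Nat.add_sub_cancel]
      exact Nat.gcd_eq_left ⟨k, rfl⟩
    rw [hg] at hpsl
    -- 2 * |N| = p * (p^2 - 1)
    have hle : N.index * Nat.card K ≤ 2 := by
      by_contra hgt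
      push Not at hgt
      have h5 : 3 * Nat.card N ≤ Nat.card G := by
        calc 3 * Nat.card N = Nat.card N * 3 := mul_comm _ _
          _ ≤ Nat.card N * (N.index * Nat.card K) := Nat.mul_le_mul_left _ hgt
          _ = Nat.card G := by rw [htot, mul_assoc]
      have h6 : p * (p ^ 2 - 1) + p = p ^ 3 := by
        have : 1 ≤ p ^ 2 := Nat.one_le_pow _ _ hpp.pos
        have h7 : p * (p ^ 2 - 1) = p * p ^ 2 - p := by
          rw [Nat.mul_sub, mul_one]
        have h8 : p ≤ p * p ^ 2 := Nat.le_mul_of_pos_right _ (by positivity)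
        rw [h7, Nat.sub_add_cancel h8]; ring
      have h9 : 24 * p ≤ p * (p ^ 2 - 1) := by
        have : 25 ≤ p ^ 2 := by nlinarith
        have : 24 ≤ p ^ 2 - 1 := by omega
        rw [mul_comm]; exact Nat.mul_le_mul_left _ this
      omega
    obtain ⟨e'⟩ := hfin hle
    exact ⟨e'.trans e⟩
  · right
    refine ⟨m, F, instF, instFin, hF, hpm, h3, ?_⟩
    haveI : CharP F 2 := charP_two_of_card hF
    have hcardN : Nat.card N = Nat.card (Matrix.ProjectiveSpecialLinearGroup (Fin 2) F) :=
      Nat.card_congr e.toEquiv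
    have hpsl := card_psl2_aux (F := F)
    rw [hF, ← hcardN] at hpsl
    have hm : 2 ≤ m := by
      by_contra h
      push Not at h
      interval_cases m <;> omega
    have hg : Nat.gcd 2 (2 ^ m - 1) = 1 := by
      obtain ⟨k, rfl⟩ : ∃ k, m = k + 1 := ⟨m - 1, by omega⟩
      have : 2 ^ (k + 1) - 1 = 2 * (2 ^ k - 1) + 1 := by
        have : 1 ≤ 2 ^ k := Nat.one_le_two_pow
        rw [pow_succ]; omega
      rw [this]
      simp
    rw [hg, one_mul] at hpsl
    -- |N| = q (q^2 - 1), q = p - 1
    have hle : N.index * Nat.card K ≤ 2 := by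
      by_contra hgt
      push Not at hgt
      have h5 : 3 * Nat.card N ≤ Nat.card G := by
        calc 3 * Nat.card N = Nat.card N * 3 := mul_comm _ _
          _ ≤ Nat.card N * (N.index * Nat.card K) := Nat.mul_le_mul_left _ hgt
          _ = Nat.card G := by rw [htot, mul_assoc]
      have hq : 4 ≤ 2 ^ m := by
        calc 4 = 2 ^ 2 := by norm_num
          _ ≤ 2 ^ m := Nat.pow_le_pow_right (by norm_num) hm
      set q := 2 ^ m with hqdef
      have h6 : q * (q ^ 2 - 1) + q = q ^ 3 := by
        have h7 : q * (q ^ 2 - 1) = q * q ^ 2 - q := by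
          rw [Nat.mul_sub, mul_one]
        have h8 : q ≤ q * q ^ 2 := Nat.le_mul_of_pos_right _ (by positivity)
        rw [h7, Nat.sub_add_cancel h8]; ring
      have h10 : p ^ 3 = q ^ 3 + 3 * q ^ 2 + 3 * q + 1 := by rw [hpm]; ring
      -- 3 (q^3 - q) < (q+1)^3 fails for q ≥ 4
      have h11 : 3 * (q * (q ^ 2 - 1)) < q ^ 3 + 3 * q ^ 2 + 3 * q + 1 := by
        rw [← h10, ← hpsl]; omega
      have h12 : 3 * q ^ 3 < q ^ 3 + 3 * q ^ 2 + 6 * q + 1 := by omega
      have hq2 : 4 * q ≤ q ^ 2 := by
        calc 4 * q ≤ q * q := Nat.mul_le_mul_right _ hq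
          _ = q ^ 2 := by ring
      have hq3 : 4 * q ^ 2 ≤ q ^ 3 := by
        calc 4 * q ^ 2 ≤ q * q ^ 2 := Nat.mul_le_mul_right _ hq
          _ = q ^ 3 := by ring
      linarith
    obtain ⟨e'⟩ := hfin hle
    exact ⟨(e'.trans e).trans pslEquivAux⟩

end Cfsg.Agent.S4701
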