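import Cfsg.Statements.S4707
import Cfsg.Agent.Lib.Helper7.I2p5
import Cfsg.Agent.Lib.Helper7.Ord60
import Cfsg.Agent.S0494

set_option autoImplicit false
open Cfsg

namespace Cfsg.Agent.S4707

/-- Let p > 3 be a prime and G a primitive permutation group of degree 2p that is not doubly transitive. If a Sylow p-subgroup of G has normalizer of order 2p, then p = 5 and G is isomorphic to the alternating group of degree 5. -/
theorem result {α : Type*} [Fintype α] [DecidableEq α] {p : ℕ} [Fact p.Prime] (hp : 3 < p) (hα : Fintype.card α = 2 * p) (G : Subgroup (Equiv.Perm α)) (hprim : MulAction.IsPreprimitive G α) (hnot2 : ¬ MulAction.IsMultiplyPretransitive G α 2) (P : Sylow p G) (hN : Nat.card (Subgroup.normalizer ((P : Subgroup G) : Set G)) = 2 * p) : p = 5 ∧ Nonempty (G ≃* alternatingGroup (Fin 5)) := by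
  classical
  have hpp : p.Prime := Fact.out
  have hp2 : p ≠ 2 := by omega
  have hp5 : 5 ≤ p := by
    rcases Nat.lt_or_ge p 5 with h | h
    · exfalso
      have h4 : p = 4 := by omega
      rw [h4] at hpp
      norm_num at hpp
    · exact h
  obtain ⟨x, hx, hsq, hself, hsemi⟩ := Cfsg.Agent.H7W2p.partA hpp hp2 hα G hprim hnot2
  have : Fintype G := Fintype.ofFinite _
  have := hprim.toIsPretransitive
  have hne : Nonempty α := Fintype.card_pos_iff.1 (by rw [hα]; omega)
  obtain ⟨a₀⟩ := hne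
  -- the normalizer of `⟨x⟩`
  have hSN := Cfsg.Agent.H7Brauer.card_sylow_mul_card_nrm hx hself
  have hNx : Nat.card (Cfsg.Agent.H7Brauer.nrm x) = 2 * p := by
    have h2 := Sylow.card_eq_index_normalizer P
    have h3 := (Subgroup.normalizer ((P : Subgroup G) : Set G)).index_mul_card
    rw [hN] at h3
    have h4 : Nat.card (Sylow p G) * (2 * p) = Nat.card G := by
      rw [h2]
      exact h3
    have hpos : 0 < Nat.card (Sylow p G) := Nat.card_pos
    exact Nat.eq_of_mul_eq_mul_left hpos (hSN.trans h4.symm)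
  have hcard := Cfsg.Agent.H7I2p.card_abstract (G := G) (Ω := α) hprim hp5 hα x hx hsq hself
    hsemi hnot2 a₀ hNx
  obtain ⟨-, a, ha, hpa, horb⟩ := Cfsg.Agent.H7W2p.main_abstract (G := G) (Ω := α) hprim hpp hp2
    hα x hx hsq hself hsemi hnot2 a₀
  -- a second point
  have hnt : Nontrivial α := Fintype.one_lt_card_iff_nontrivial.1 (by rw [hα]; omega)
  obtain ⟨b, hb⟩ := exists_ne a₀
  -- the order of the stabilizer
  have hidx := MulAction.index_stabilizer_of_transitive G a₀
  have hic := (MulAction.stabilizer G a₀).index_mul_card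
  rw [hidx, Nat.card_eq_fintype_card (α := α), hα, hcard] at hic
  -- the orbit of `b`
  have hdvd : Nat.card (MulAction.orbit (MulAction.stabilizer G a₀) b) ∣
      Nat.card (MulAction.stabilizer G a₀) := by
    rw [Nat.card_coe_set_eq, ← MulAction.index_stabilizer]
    exact Subgroup.index_dvd_card _
  have hd : (2 * a + 1) ∣ Nat.card (MulAction.stabilizer G a₀) := by
    rcases horb b hb with h | h
    · exact (Dvd.intro_left _ rfl).trans (h ▸ hdvd)
    · exact (Dvd.intro_left _ rfl).trans (h ▸ hdvd)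
  have ha1 : a = 1 := by
    set h : ℕ := Nat.card (MulAction.stabilizer G a₀) with hh
    obtain ⟨r, hr⟩ := hd
    have hp0 : (p : ℤ) ≠ 0 := by exact_mod_cast hpp.ne_zero
    have e1 : (2 * (p : ℤ)) * (h : ℤ) = (p : ℤ) * ((p : ℤ) - 1) * ((p : ℤ) - 2) := by
      have : ((2 * p * h : ℕ) : ℤ) = ((p * (p - 1) * (p - 2) : ℕ) : ℤ) := by rw [hic]
      push_cast [Nat.cast_sub (by omega : 1 ≤ p), Nat.cast_sub (by omega : 2 ≤ p)] at this
      linarith
    have e2 : 2 * (h : ℤ) = ((p : ℤ) - 1) * ((p : ℤ) - 2) := by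
      apply mul_left_cancel₀ hp0
      linarith
    have e3 : (p : ℤ) = 2 * (a : ℤ) ^ 2 + 2 * (a : ℤ) + 1 := by exact_mod_cast hpa
    have e4 : (h : ℤ) = (2 * (a : ℤ) + 1) * (r : ℤ) := by exact_mod_cast hr
    have e5 : (2 * (a : ℤ) + 1) ∣ 3 := by
      have e6 : 8 * (h : ℤ) = (2 * (a : ℤ) + 1) *
          ((2 * (a : ℤ) + 1) * ((2 * (a : ℤ) + 1) ^ 2 - 4)) + 3 := by
        rw [e3] at e2
        linear_combination 4 * e2
      have e7 : (2 * (a : ℤ) + 1) ∣ 8 * (h : ℤ) := Dvd.intro (8 * (r : ℤ)) (by rw [e4]; ring)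
      rw [e6] at e7
      exact (Int.dvd_add_right (Dvd.intro _ rfl)).1 e7
    have e8 := Int.le_of_dvd (by norm_num) e5
    have : (a : ℤ) ≤ 1 := by linarith
    have : a ≤ 1 := by exact_mod_cast this
    omega
  have hp5' : p = 5 := by
    rw [hpa, ha1]
    norm_num
  refine ⟨hp5', ?_⟩
  subst hp5'
  have h60 : Nat.card G = 60 := by rw [hcard]
  have : IsSimpleGroup G := by
    apply Cfsg.Agent.Lib.Helper7.Ord60.simple_of_card_sixty h60
    intro P' hP'
    have h1 := Cfsg.Agent.Lib.Helper3.card_sylow_eq_one_of_normal P' hP'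
    rw [h1, hNx, h60] at hSN
    omega
  exact Cfsg.Agent.S0494.result h60

end Cfsg.Agent.S4707
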