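import Mathlib
import Cfsg.Statements.S4708
import Cfsg.Agent.Lib.Helper8.PBN1

set_option autoImplicit false
open Cfsg

namespace Cfsg.Agent.S4708

open scoped ComplexConjugate
open Cfsg.Agent.Lib.Helper1 Cfsg.Agent.Lib.Helper4 Cfsg.Agent.Lib.Helper8

/-- Let p be a prime, M a maximal ideal of the algebraic integers containing p, G a finite group and H a normal subgroup. Write λ(X) for the sum of the squares of the degrees of the irreducible characters in the principal p-block of a group X. Then λ(H) ≤ λ(G) ≤ [G : H]·λ(H). -/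
theorem result {G : Type*} [Group G] [Finite G] (p : ℕ) [Fact p.Prime] (M : Ideal Cfsg.AlgInt) (hM : Cfsg.IsPModular p M) (H : Subgroup G) [H.Normal] : (∑ᶠ θ ∈ Cfsg.principalBlock M H, Cfsg.charDegree (θ : H → ℂ) ^ 2) ≤ (∑ᶠ χ ∈ Cfsg.principalBlock M G, Cfsg.charDegree (χ : G → ℂ) ^ 2) ∧ (∑ᶠ χ ∈ Cfsg.principalBlock M G, Cfsg.charDegree (χ : G → ℂ) ^ 2) ≤ H.index * ∑ᶠ θ ∈ Cfsg.principalBlock M H, Cfsg.charDegree (θ : H → ℂ) ^ 2 := by
  classical
  have : Fintype G := Fintype.ofFinite G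
  have : Fintype H := Fintype.ofFinite H
  have : Fintype (IrrCharacter G) := Fintype.ofFinite _
  have : Fintype (IrrCharacter H) := Fintype.ofFinite _
  have hMp := isPModular_isPrime hM
  set B₀ := principalBlock M G with hB₀
  set b₀ := principalBlock M H with hb₀
  have hm : ∀ (χ : IrrCharacter G) (θ : IrrCharacter H), ∃ m : ℕ,
      classInner (fun n : H => (χ : G → ℂ) n) (θ : H → ℂ) = (m : ℂ) := fun χ θ =>
    classInner_char_nat (Cfsg.Agent.S0148.isCharacter_restrict H (isCharacter_of_irr χ.2))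
      (isCharacter_of_irr θ.2)
  choose m hm using hm
  set d : IrrCharacter G → ℕ := fun χ => charDegree (χ : G → ℂ) with hd
  set dH : IrrCharacter H → ℕ := fun θ => charDegree (θ : H → ℂ) with hdH
  have hdC : ∀ χ : IrrCharacter G, (χ : G → ℂ) 1 = (d χ : ℂ) := fun χ =>
    (irr_apply_one_eq_charDegree χ.2).1
  have hdHC : ∀ θ : IrrCharacter H, (θ : H → ℂ) 1 = (dH θ : ℂ) := fun θ =>
    (irr_apply_one_eq_charDegree θ.2).1
  have I1 : ∀ χ : IrrCharacter G, d χ = ∑ θ : IrrCharacter H, m χ θ * dH θ := by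
    intro χ
    have h1 := apply_one_eq_sum_restrict H (χ : G → ℂ) (isClassFunction_irr χ.2)
    rw [hdC] at h1
    have h2 : ((∑ θ : IrrCharacter H, m χ θ * dH θ : ℕ) : ℂ) = (d χ : ℂ) := by
      rw [h1]
      push_cast
      refine Finset.sum_congr rfl fun θ _ => ?_
      rw [hm, hdHC]
    exact (Nat.cast_injective h2).symm
  have I2 : ∀ θ : IrrCharacter H, ∑ χ : IrrCharacter G, d χ * m χ θ = H.index * dH θ := by
    intro θ
    have h1 := sum_degree_mul_classInner_restrict H θ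
    have h2 : ((∑ χ : IrrCharacter G, d χ * m χ θ : ℕ) : ℂ) = ((H.index * dH θ : ℕ) : ℂ) := by
      push_cast
      rw [← hdHC, ← h1]
      refine Finset.sum_congr rfl fun χ _ => ?_
      rw [hm, hdC]
    exact Nat.cast_injective h2
  have F1 : ∀ χ ∈ B₀, ∀ θ : IrrCharacter H, m χ θ ≠ 0 → θ ∈ b₀ := by
    intro χ hχ θ h
    apply mem_principalBlock_of_constituent H hMp hχ
    rw [hm]
    exact_mod_cast h
  have F2 : ∀ θ ∈ b₀, ∃ χ ∈ B₀, m χ θ ≠ 0 := by
    intro θ hθ
    obtain ⟨χ, hχ, h⟩ := exists_over_of_covers H hM isPBlock_principalBlock isPBlock_principalBlock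
      (covers_principalBlock H hMp.ne_top) hθ
    refine ⟨χ, hχ, ?_⟩
    rw [hm] at h
    exact_mod_cast h
  rw [finsum_mem_eq_finite_toFinset_sum _ (Set.toFinite b₀),
    finsum_mem_eq_finite_toFinset_sum _ (Set.toFinite B₀)]
  set BF := (Set.toFinite B₀).toFinset with hBF
  set bF := (Set.toFinite b₀).toFinset with hbF
  have hBFmem : ∀ χ, χ ∈ BF ↔ χ ∈ B₀ := fun χ => Set.Finite.mem_toFinset _
  have hbFmem : ∀ θ, θ ∈ bF ↔ θ ∈ b₀ := fun θ => Set.Finite.mem_toFinset _
  change (∑ θ ∈ bF, dH θ ^ 2) ≤ (∑ χ ∈ BF, d χ ^ 2) ∧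
    (∑ χ ∈ BF, d χ ^ 2) ≤ H.index * ∑ θ ∈ bF, dH θ ^ 2
  have hsq : ∀ (s : Finset (IrrCharacter H)) (x : IrrCharacter H → ℕ),
      ∑ θ ∈ s, x θ ^ 2 ≤ (∑ θ ∈ s, x θ) ^ 2 := by
    intro s x
    induction s using Finset.induction_on with
    | empty => simp
    | insert a s ha ih =>
      rw [Finset.sum_insert ha, Finset.sum_insert ha]
      nlinarith [ih, Nat.zero_le (x a), Nat.zero_le (∑ θ ∈ s, x θ)]
  constructor
  · -- part 2
    obtain ⟨χ₀, hχ₀⟩ := isPBlock_nonempty hMp (isPBlock_principalBlock (M := M) (G := G))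
    let f : IrrCharacter H → IrrCharacter G := fun θ =>
      if h : θ ∈ b₀ then Classical.choose (F2 θ h) else χ₀
    have hf1 : ∀ θ ∈ bF, f θ ∈ BF := by
      intro θ hθ
      have h := (hbFmem θ).1 hθ
      simp only [f, dif_pos h]
      exact (hBFmem _).2 (Classical.choose_spec (F2 θ h)).1
    have hf2 : ∀ θ ∈ bF, m (f θ) θ ≠ 0 := by
      intro θ hθ
      have h := (hbFmem θ).1 hθ
      simp only [f, dif_pos h]
      exact (Classical.choose_spec (F2 θ h)).2
    rw [← Finset.sum_fiberwise_of_maps_to hf1]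
    apply Finset.sum_le_sum
    intro χ hχ
    calc ∑ θ ∈ bF.filter (fun θ => f θ = χ), dH θ ^ 2
        ≤ (∑ θ ∈ bF.filter (fun θ => f θ = χ), dH θ) ^ 2 := hsq _ _
      _ ≤ (∑ θ : IrrCharacter H, m χ θ * dH θ) ^ 2 := by
          apply Nat.pow_le_pow_left
          calc ∑ θ ∈ bF.filter (fun θ => f θ = χ), dH θ
              ≤ ∑ θ ∈ bF.filter (fun θ => f θ = χ), m χ θ * dH θ := by
                apply Finset.sum_le_sum
                intro θ hθ
                obtain ⟨h1, h2⟩ := Finset.mem_filter.1 hθ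
                have := hf2 θ h1
                rw [h2] at this
                exact Nat.le_mul_of_pos_left _ (Nat.pos_of_ne_zero this)
            _ ≤ ∑ θ : IrrCharacter H, m χ θ * dH θ :=
                Finset.sum_le_sum_of_subset (Finset.subset_univ _)
      _ = d χ ^ 2 := by rw [← I1]
  · -- part 1
    have h1 : ∀ χ ∈ BF, d χ ^ 2 = ∑ θ ∈ bF, d χ * m χ θ * dH θ := by
      intro χ hχ
      have e0 : d χ ^ 2 = d χ * ∑ θ : IrrCharacter H, m χ θ * dH θ := by
        rw [pow_two, ← I1 χ]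
      rw [e0, Finset.mul_sum]
      rw [← Finset.sum_subset (Finset.subset_univ bF)]
      · exact Finset.sum_congr rfl fun θ _ => (mul_assoc _ _ _).symm
      · intro θ _ hθ
        have : m χ θ = 0 := by
          by_contra h
          exact hθ ((hbFmem θ).2 (F1 χ ((hBFmem χ).1 hχ) θ h))
        rw [this, zero_mul, mul_zero]
    rw [Finset.sum_congr rfl h1, Finset.sum_comm, Finset.mul_sum]
    apply Finset.sum_le_sum
    intro θ _
    calc ∑ χ ∈ BF, d χ * m χ θ * dH θ = (∑ χ ∈ BF, d χ * m χ θ) * dH θ := by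
          rw [Finset.sum_mul]
      _ ≤ (∑ χ : IrrCharacter G, d χ * m χ θ) * dH θ :=
          Nat.mul_le_mul_right _ (Finset.sum_le_sum_of_subset (Finset.subset_univ _))
      _ = H.index * dH θ ^ 2 := by rw [I2]; ring

end Cfsg.Agent.S4708
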