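import Mathlib
import Cfsg.Statements.S4714
import Cfsg.Agent.Lib.Helper8.PC10

set_option autoImplicit false
open Cfsg

namespace Cfsg.Agent.S4714

open scoped ComplexConjugate
open Cfsg.Agent.Lib.Helper1 Cfsg.Agent.Lib.Helper4 Cfsg.Agent.Lib.Helper8

/-- Let p be a prime, M a maximal ideal of the algebraic integers containing p, D a p-subgroup of the finite group G with G = D·C_G(D), and B a p-block with defect group D. Let χ be a member of B having D in its kernel (there is exactly one, the canonical character of B). Then the irreducible characters in B are exactly the functions θ on G for which there is an irreducible character ζ of D such that θ(yx) = ζ(y)χ(x) whenever y ∈ D, x has order prime to p and x commutes with y, and θ(z) = 0 whenever the p-part of z does not lie in D. -/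
theorem result {G : Type*} [Group G] [Finite G] (p : ℕ) [Fact p.Prime] (M : Ideal Cfsg.AlgInt) (hM : Cfsg.IsPModular p M) (D : Subgroup G) (hD : IsPGroup p D) (hG : D ⊔ Subgroup.centralizer (D : Set G) = ⊤) (B : Set (Cfsg.IrrCharacter G)) (hB : Cfsg.IsPBlock M B) (hBD : Cfsg.IsDefectGroup p M B D) (χ : Cfsg.IrrCharacter G) (hχ : χ ∈ B) (hχD : ∀ y ∈ D, (χ : G → ℂ) y = (χ : G → ℂ) 1) : (∀ θ : Cfsg.IrrCharacter G, θ ∈ B ↔ ∃ ζ : Cfsg.IrrCharacter D, (∀ (y : D) (x : G), ¬ p ∣ orderOf x → Commute (y : G) x → (θ : G → ℂ) ((y : G) * x) = (ζ : D → ℂ) y * (χ : G → ℂ) x) ∧ (∀ z : G, (∀ y : G, Cfsg.IsPPart p z y → y ∉ D) → (θ : G → ℂ) z = 0)) ∧ ∀ ζ : Cfsg.IrrCharacter D, ∃ θ ∈ B, (∀ (y : D) (x : G), ¬ p ∣ orderOf x → Commute (y : G) x → (θ : G → ℂ) ((y : G) * x) = (ζ : D → ℂ) y * (χ : G → ℂ) x) ∧ (∀ z : G, (∀ y : G, Cfsg.IsPPart p z y → y ∉ D) → (θ : G → ℂ) z = 0) := by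
  classical
  have := Fintype.ofFinite G
  have hp : p.Prime := Fact.out
  have hn := normal_of_sup_centralizer hG
  -- members of the block have the stated shape
  have hmem : ∀ θ : IrrCharacter G, θ ∈ B →
      (∀ (y : D) (x : G), ¬ p ∣ orderOf x → Commute (y : G) x →
        (θ : G → ℂ) ((y : G) * x) = (pcConst hG θ : D → ℂ) y * (χ : G → ℂ) x) ∧
      (∀ z : G, (∀ y : G, IsPPart p z y → y ∉ D) → (θ : G → ℂ) z = 0) := by
    intro θ hθ
    refine ⟨fun y x hx _ => apply_mul_of_mem_block hM hD hG hB hBD hχ hχD hθ y hx, ?_⟩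
    intro z hz
    obtain ⟨y₀, hy₀⟩ := exists_isPPart hp z
    exact irr_eq_zero_of_normal_defectGroup hM hB hn hBD hθ hy₀ (hz y₀ hy₀)
  -- the shape determines the character
  have huniq : ∀ (θ θ' : IrrCharacter G) (ζ : IrrCharacter D),
      ((∀ (y : D) (x : G), ¬ p ∣ orderOf x → Commute (y : G) x →
        (θ : G → ℂ) ((y : G) * x) = (ζ : D → ℂ) y * (χ : G → ℂ) x) ∧
      (∀ z : G, (∀ y : G, IsPPart p z y → y ∉ D) → (θ : G → ℂ) z = 0)) →
      ((∀ (y : D) (x : G), ¬ p ∣ orderOf x → Commute (y : G) x →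
        (θ' : G → ℂ) ((y : G) * x) = (ζ : D → ℂ) y * (χ : G → ℂ) x) ∧
      (∀ z : G, (∀ y : G, IsPPart p z y → y ∉ D) → (θ' : G → ℂ) z = 0)) → θ = θ' := by
    intro θ θ' ζ h h'
    apply Subtype.ext
    funext z
    obtain ⟨y₀, hy₀⟩ := exists_isPPart hp z
    by_cases hy₀D : y₀ ∈ D
    · obtain ⟨x₀, hz, hcomm, _, hx₀⟩ := hy₀
      rw [← hz]
      rw [h.1 ⟨y₀, hy₀D⟩ x₀ hx₀ hcomm, h'.1 ⟨y₀, hy₀D⟩ x₀ hx₀ hcomm]
    · have hall : ∀ y : G, IsPPart p z y → y ∉ D := by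
        intro y hy
        rw [isPPart_unique hp hy hy₀]
        exact hy₀D
      rw [h.2 z hall, h'.2 z hall]
  have hsurj := (pcConst_bijective hM hD hG hB hBD).2
  refine ⟨fun θ => ⟨fun hθ => ⟨pcConst hG θ, hmem θ hθ⟩, ?_⟩, ?_⟩
  · rintro ⟨ζ, hζ⟩
    obtain ⟨θ', hθ'⟩ := hsurj ζ
    have h' := hmem θ' θ'.2
    change pcConst hG (θ' : IrrCharacter G) = ζ at hθ'
    rw [hθ'] at h'
    rw [huniq θ θ' ζ hζ h']
    exact θ'.2
  · intro ζ
    obtain ⟨θ', hθ'⟩ := hsurj ζ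
    have h' := hmem θ' θ'.2
    change pcConst hG (θ' : IrrCharacter G) = ζ at hθ'
    rw [hθ'] at h'
    exact ⟨θ', θ'.2, h'⟩

end Cfsg.Agent.S4714
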