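import Mathlib
import Cfsg.Statements.S4718
import Cfsg.Agent.Lib.Helper8.LD2
import Cfsg.Agent.Lib.Helper8.BlockIdem
import Cfsg.Agent.Lib.Helper8.BlockLocal
import Cfsg.Agent.Lib.Helper1.CharFound4
import Cfsg.Agent.S4494

set_option autoImplicit false
universe u
open Cfsg

namespace Cfsg.Agent.S4718

open Cfsg.Agent.Lib.Helper8 Cfsg.Agent.Lib.Helper1

/-- Let p be a prime and a a natural number. There is a bound N such that every finite group whose Sylow p-subgroups have order p^a and whose only p-block (relative to a maximal ideal of the algebraic integers containing p) is the principal block has order at most N. -/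
theorem result (p : ℕ) [Fact p.Prime] (a : ℕ) : ∃ N : ℕ, ∀ (G : Type u) [Group G] [Finite G] (M : Ideal Cfsg.AlgInt), Cfsg.IsPModular p M → (Nat.card G).factorization p = a → (∀ B : Set (Cfsg.IrrCharacter G), Cfsg.IsPBlock M B → B = Cfsg.principalBlock M G) → Nat.card G ≤ N := by
  classical
  refine ⟨(Finset.range ((p ^ (2 * a) + 4) / 4 + 1)).sup (fun k => LD.landauBound k 1), ?_⟩
  intro G _ _ M hM ha hall
  have hMp := isPModular_isPrime hM
  -- the principal block is everything
  have huniv : Cfsg.principalBlock M G = Set.univ := by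
    ext χ
    simp only [Set.mem_univ, iff_true]
    have h1 : Cfsg.blockOf M (χ : G → ℂ) = Cfsg.principalBlock M G := hall _ ⟨χ, rfl⟩
    rw [← h1]
    exact sameBlock_refl hMp.ne_top _
  have hblock : Cfsg.IsPBlock M (Cfsg.principalBlock M G) := by
    obtain ⟨χ⟩ : Nonempty (Cfsg.IrrCharacter G) := by
      have h1 : 0 < Nat.card (Cfsg.IrrCharacter G) := by
        rw [card_irr_eq_card_conjClasses]
        exact Nat.card_pos
      exact (Nat.card_pos_iff.1 h1).1
    have h1 : Cfsg.blockOf M (χ : G → ℂ) = Cfsg.principalBlock M G := hall _ ⟨χ, rfl⟩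
    exact ⟨χ, h1.symm⟩
  have hBF := Cfsg.Agent.S4494.result p M hM (Cfsg.principalBlock M G) hblock
  have hdef : Cfsg.blockDefect p (Cfsg.principalBlock M G) ≤ a := by
    unfold Cfsg.blockDefect
    rw [ha]
    exact Nat.sub_le _ _
  have hk : Nat.card (Cfsg.principalBlock M G) = Nat.card (ConjClasses G) := by
    rw [huniv, ← card_irr_eq_card_conjClasses]
    exact Nat.card_congr (Equiv.Set.univ _)
  rw [hk] at hBF
  have hk2 : Nat.card (ConjClasses G) ≤ (p ^ (2 * a) + 4) / 4 := by
    rw [Nat.le_div_iff_mul_le (by norm_num)]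
    have h1 : p ^ (2 * Cfsg.blockDefect p (Cfsg.principalBlock M G)) ≤ p ^ (2 * a) :=
      Nat.pow_le_pow_right (Fact.out : p.Prime).pos (by omega)
    omega
  have h3 := LD.card_le_landauBound G
  refine h3.trans ?_
  exact Finset.le_sup (f := fun k => LD.landauBound k 1)
    (Finset.mem_range.2 (Nat.lt_succ_of_le hk2))

end Cfsg.Agent.S4718
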