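import Mathlib
import Cfsg.Statements.S4725
import Cfsg.Agent.Lib.Helper8.InducedOmega2
import Cfsg.Agent.Lib.Helper8.FR8
import Cfsg.Agent.Lib.Helper8.Deflation

set_option autoImplicit false
open Cfsg

namespace Cfsg.Agent.S4725

open scoped ComplexConjugate
open Cfsg.Agent.Lib.Helper1 Cfsg.Agent.Lib.Helper4 Cfsg.Agent.Lib.Helper8

/-- Let p be a prime, M a maximal ideal of the algebraic integers containing p, H a subgroup of the finite group G, and b a p-block of H inducing the p-block B of G, with b and B of the same defect. Then for every height-zero ζ ∈ b there is a height-zero χ ∈ B whose multiplicity in the character induced from ζ is not divisible by p. -/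
theorem result {G : Type*} [Group G] [Fintype G] (p : ℕ) [Fact p.Prime] (M : Ideal Cfsg.AlgInt) (hM : Cfsg.IsPModular p M) (H : Subgroup G) (b : Set (Cfsg.IrrCharacter ↥H)) (B : Set (Cfsg.IrrCharacter G)) (hind : Cfsg.IsInducedBlock M H b B) (hdef : Cfsg.blockDefect p b = Cfsg.blockDefect p B) (ζ : Cfsg.IrrCharacter ↥H) (hζ : ζ ∈ b) (hζ0 : Cfsg.blockHeight p b (ζ : ↥H → ℂ) = 0) : ∃ χ ∈ B, Cfsg.blockHeight p B (χ : G → ℂ) = 0 ∧ ∃ a : ℕ, Cfsg.classInner (Cfsg.indFun H (ζ : ↥H → ℂ)) (χ : G → ℂ) = (a : ℂ) ∧ ¬ p ∣ a := by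
  classical
  have hp : p.Prime := Fact.out
  have hMp := isPModular_isPrime hM
  have : Fintype (IrrCharacter G) := Fintype.ofFinite _
  set mB := sInf ((fun χ : IrrCharacter G => (charDegree (χ : G → ℂ)).factorization p) '' B) with hmB
  set mb := sInf ((fun χ : IrrCharacter H => (charDegree (χ : H → ℂ)).factorization p) '' b) with hmb
  have h1 : (charDegree (ζ : H → ℂ)).factorization p = mb := by
    apply le_antisymm
    · unfold blockHeight at hζ0
      rw [Nat.sub_eq_zero_iff_le] at hζ0
      exact hζ0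
    · exact Nat.sInf_le ⟨ζ, hζ, rfl⟩
  have h2 : mb ≤ (Nat.card H).factorization p := by
    rw [← h1]
    exact (Nat.factorization_le_iff_dvd (irr_apply_one_eq_charDegree ζ.2).2.ne'
      Nat.card_pos.ne').2 (charDegree_dvd_card ζ.2) p
  obtain ⟨χ0, hχ0⟩ := isPBlock_nonempty hMp hind.2.1
  have h3 : mB ≤ (Nat.card G).factorization p := by
    have h6 : mB ≤ (charDegree (χ0 : G → ℂ)).factorization p := Nat.sInf_le ⟨χ0, hχ0, rfl⟩
    exact h6.trans ((Nat.factorization_le_iff_dvd (irr_apply_one_eq_charDegree χ0.2).2.ne'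
      Nat.card_pos.ne').2 (charDegree_dvd_card χ0.2) p)
  have hidx : H.index ≠ 0 := Subgroup.index_ne_zero_of_finite
  have h4 : (charDegree (indFun H (ζ : H → ℂ))).factorization p = mB := by
    rw [charDegree_indFun_eq H ζ.2,
      Nat.factorization_mul hidx (irr_apply_one_eq_charDegree ζ.2).2.ne']
    simp only [Finsupp.coe_add, Pi.add_apply]
    rw [h1]
    have h5 : (Nat.card G).factorization p
        = (Nat.card H).factorization p + H.index.factorization p := by
      rw [← Subgroup.card_mul_index H, Nat.factorization_mul Nat.card_pos.ne' hidx]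
      rfl
    unfold blockDefect at hdef
    rw [← hmB, ← hmb] at hdef
    omega
  obtain ⟨n, hn, hB0, -⟩ := blockPart_indFun_valuation hM H hind hζ hind.2.1
  obtain ⟨hn0, hnv⟩ := hB0 rfl
  rw [h4] at hnv
  have hc : IsCharacter G (indFun H (ζ : H → ℂ)) :=
    Cfsg.Agent.S0148.result H _ (isCharacter_of_irr ζ.2)
  have ha : ∀ χ : IrrCharacter G, ∃ a : ℕ,
      classInner (indFun H (ζ : H → ℂ)) (χ : G → ℂ) = (a : ℂ) := fun χ =>
    classInner_char_nat hc (isCharacter_of_irr χ.2)
  choose a ha using ha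
  by_contra hcon
  push Not at hcon
  have hdiv : ∀ χ ∈ B, p ^ (mB + 1) ∣ a χ * charDegree (χ : G → ℂ) := by
    intro χ hχ
    have hd0 := (irr_apply_one_eq_charDegree χ.2).2.ne'
    have hge : mB ≤ (charDegree (χ : G → ℂ)).factorization p := Nat.sInf_le ⟨χ, hχ, rfl⟩
    rcases hge.lt_or_eq with hlt | heq
    · exact Dvd.dvd.mul_left ((hp.pow_dvd_iff_le_factorization hd0).2 hlt) _
    · have hh : blockHeight p B (χ : G → ℂ) = 0 := by
        unfold blockHeight
        rw [← hmB, ← heq]
        simp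
      have := hcon χ hχ hh (a χ) (ha χ)
      rw [pow_succ, mul_comm]
      exact Nat.mul_dvd_mul this ((hp.pow_dvd_iff_le_factorization hd0).2 hge)
  have hsum : n = ∑ χ : IrrCharacter G, if χ ∈ B then a χ * charDegree (χ : G → ℂ) else 0 := by
    have : (n : ℂ) = ((∑ χ : IrrCharacter G,
        if χ ∈ B then a χ * charDegree (χ : G → ℂ) else 0 : ℕ) : ℂ) := by
      rw [← hn, blockPart_eq_sum]
      push_cast
      refine Finset.sum_congr rfl fun χ _ => ?_
      rw [ha χ, (irr_apply_one_eq_charDegree χ.2).1]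
      split_ifs <;> simp
    exact_mod_cast this
  have hdvd : p ^ (mB + 1) ∣ n := by
    rw [hsum]
    refine Finset.dvd_sum fun χ _ => ?_
    split_ifs with h
    · exact hdiv χ h
    · exact dvd_zero _
  have := (hp.pow_dvd_iff_le_factorization hn0).1 hdvd
  omega

end Cfsg.Agent.S4725
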