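import Mathlib
import Cfsg.Statements.S4726
import Cfsg.Agent.Lib.Helper8.BP5
import Cfsg.Agent.Lib.Helper8.PairConj3

set_option autoImplicit false
open Cfsg

namespace Cfsg.Agent.S4726

open scoped ComplexConjugate
open Cfsg.Agent.Lib.Helper1 Cfsg.Agent.Lib.Helper4 Cfsg.Agent.Lib.Helper8

/-- Let p be a prime, M a maximal ideal of the algebraic integers containing p, H a subgroup of the finite group G and b a p-block of H with defect group D₀ such that C_G(D₀) ≤ H. Then b induces a block of G, and for every block B of G induced by b there is a defect group D of B with Z(D) ≤ Z(D₀) ≤ D₀ ≤ D (as subgroups of G). In particular, if the defect groups of B are abelian then D₀ is a defect group of B. -/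
theorem result {G : Type*} [Group G] [Finite G] (p : ℕ) [Fact p.Prime] (M : Ideal Cfsg.AlgInt) (hM : Cfsg.IsPModular p M) (H : Subgroup G) (b : Set (Cfsg.IrrCharacter ↥H)) (hb : Cfsg.IsPBlock M b) (D₀ : Subgroup ↥H) (hD₀ : Cfsg.IsDefectGroup p M b D₀) (hC : Subgroup.centralizer ((D₀.map H.subtype : Subgroup G) : Set G) ≤ H) : Cfsg.InducedBlockDefined M H b ∧ ∀ B : Set (Cfsg.IrrCharacter G), Cfsg.IsInducedBlock M H b B → (∃ D : Subgroup G, Cfsg.IsDefectGroup p M B D ∧ (Subgroup.center ↥D).map D.subtype ≤ ((Subgroup.center ↥D₀).map D₀.subtype).map H.subtype ∧ ((Subgroup.center ↥D₀).map D₀.subtype).map H.subtype ≤ D₀.map H.subtype ∧ D₀.map H.subtype ≤ D) ∧ (∀ D : Subgroup G, Cfsg.IsDefectGroup p M B D → IsMulCommutative ↥D → Cfsg.IsDefectGroup p M B (D₀.map H.subtype)) := by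
  classical
  have : Fintype G := Fintype.ofFinite G
  have : Fintype H := Fintype.ofFinite _
  have hMp := isPModular_isPrime hM
  obtain ⟨h1, h2⟩ := induced_nested hM H hb hD₀ hC
  refine ⟨h1, ?_⟩
  intro B hind
  have key : ∃ D : Subgroup G, Cfsg.IsDefectGroup p M B D ∧ (Subgroup.center ↥D).map D.subtype ≤ ((Subgroup.center ↥D₀).map D₀.subtype).map H.subtype ∧ ((Subgroup.center ↥D₀).map D₀.subtype).map H.subtype ≤ D₀.map H.subtype ∧ D₀.map H.subtype ≤ D := by
    obtain ⟨D, hD, hcen, hPD⟩ := h2 B hind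
    refine ⟨D, hD, ?_, ?_, hPD⟩
    · rintro _ ⟨z, hz, rfl⟩
      have hzP : (z : G) ∈ D₀.map H.subtype := by
        apply hcen
        refine ⟨z.2, ?_⟩
        change (z : G) ∈ Subgroup.centralizer ((D₀.map H.subtype : Subgroup G) : Set G)
        rw [Subgroup.mem_centralizer_iff]
        intro y hy
        have := (Subgroup.mem_center_iff.1 hz) ⟨y, hPD hy⟩
        exact congrArg Subtype.val this
      obtain ⟨d₀, hd₀, hd₀z⟩ := hzP
      refine ⟨d₀, ⟨⟨d₀, hd₀⟩, ?_, rfl⟩, hd₀z⟩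
      change (⟨d₀, hd₀⟩ : D₀) ∈ Subgroup.center ↥D₀
      rw [Subgroup.mem_center_iff]
      intro d'
      apply Subtype.ext
      apply Subtype.ext
      have hd'D : ((d' : H) : G) ∈ D := hPD ⟨(d' : H), d'.2, rfl⟩
      have := (Subgroup.mem_center_iff.1 hz) ⟨((d' : H) : G), hd'D⟩
      have h3 := congrArg Subtype.val this
      simp only [Subgroup.coe_mul] at h3 ⊢
      rw [← hd₀z] at h3
      exact h3
    · rintro _ ⟨_, ⟨z, -, rfl⟩, rfl⟩
      exact ⟨(z : H), z.2, rfl⟩
  refine ⟨key, ?_⟩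
  intro D' hD' hcomm
  obtain ⟨D, hD, hZ, hZP, hPD⟩ := key
  obtain ⟨x, hx⟩ := exists_conj_eq_of_isDefectGroup hM hind.2.1 hD hD'
  have hDle : D ≤ D₀.map H.subtype := by
    intro d hd
    apply hZP
    apply hZ
    refine ⟨⟨d, hd⟩, ?_, rfl⟩
    change (⟨d, hd⟩ : D) ∈ Subgroup.center ↥D
    rw [Subgroup.mem_center_iff]
    intro y
    apply Subtype.ext
    have hy : (y : G) ∈ D'.map (MulAut.conj x).toMonoidHom := hx ▸ y.2
    have hd2 : d ∈ D'.map (MulAut.conj x).toMonoidHom := hx ▸ hd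
    obtain ⟨a, ha, hay⟩ := hy
    obtain ⟨c, hc, hcd⟩ := hd2
    have hac : a * c = c * a := by
      have := hcomm.is_comm.comm (⟨a, ha⟩ : D') ⟨c, hc⟩
      exact congrArg Subtype.val this
    simp only [Subgroup.coe_mul]
    rw [← hay, ← hcd]
    simp only [MulEquiv.coe_toMonoidHom, MulAut.conj_apply]
    calc x * a * x⁻¹ * (x * c * x⁻¹) = x * (a * c) * x⁻¹ := by group
      _ = x * (c * a) * x⁻¹ := by rw [hac]
      _ = x * c * x⁻¹ * (x * a * x⁻¹) := by group
  rw [le_antisymm hPD hDle]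
  exact hD

end Cfsg.Agent.S4726
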