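import Mathlib
import Cfsg.Statements.S4735
import Cfsg.Agent.Lib.Helper8.PN2
import Cfsg.Agent.Lib.Helper8.PC6
import Cfsg.Agent.Lib.Helper6.PPrimeCore

set_option autoImplicit false
open Cfsg

namespace Cfsg.Agent.S4735

open scoped ComplexConjugate
open Cfsg.Agent.Lib.Helper1 Cfsg.Agent.Lib.Helper4 Cfsg.Agent.Lib.Helper8

/-- Let p be a prime, M a maximal ideal of the algebraic integers containing p, G a finite group, H = O_p'(G) and Ḡ = G/H. For x ∈ G write λ(G, x) for the sum of |χ(x)|^2 over the irreducible characters χ in the principal p-block of G. Then λ(G, x) is a positive integer, λ(G, x) = λ(Ḡ, x̄) where x̄ is the image of x, and λ(G, x) ≤ #C_Ḡ(x̄). Moreover λ(G, 1) = [G : H] if and only if the principal block is the only p-block of Ḡ. -/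
theorem result {G : Type*} [Group G] [Finite G] (p : ℕ) [Fact p.Prime] (M : Ideal Cfsg.AlgInt) (hM : Cfsg.IsPModular p M) (x : G) : (∃ n : ℕ, 0 < n ∧ ∑ᶠ χ ∈ Cfsg.principalBlock M G, Complex.normSq ((χ : G → ℂ) x) = n) ∧ ∑ᶠ χ ∈ Cfsg.principalBlock M G, Complex.normSq ((χ : G → ℂ) x) = ∑ᶠ ψ ∈ Cfsg.principalBlock M (G ⧸ Cfsg.pPrimeCore p G), Complex.normSq ((ψ : G ⧸ Cfsg.pPrimeCore p G → ℂ) (QuotientGroup.mk x)) ∧ ∑ᶠ χ ∈ Cfsg.principalBlock M G, Complex.normSq ((χ : G → ℂ) x) ≤ (Nat.card ↥(Subgroup.centralizer ({(QuotientGroup.mk x : G ⧸ Cfsg.pPrimeCore p G)} : Set (G ⧸ Cfsg.pPrimeCore p G))) : ℝ) ∧ ((∑ᶠ χ ∈ Cfsg.principalBlock M G, Cfsg.charDegree (χ : G → ℂ) ^ 2) = (Cfsg.pPrimeCore p G).index ↔ ∀ B : Set (Cfsg.IrrCharacter (G ⧸ Cfsg.pPrimeCore p G)), Cfsg.IsPBlock M B → B = Cfsg.principalBlock M (G ⧸ Cfsg.pPrimeCore p G)) := by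
  classical
  have hMp := isPModular_isPrime hM
  have hp : p.Prime := Fact.out
  haveI : Fintype G := Fintype.ofFinite G
  haveI : Fintype (IrrCharacter G) := Fintype.ofFinite _
  set N := Cfsg.pPrimeCore p G with hNdef
  haveI : Fintype (G ⧸ N) := Fintype.ofFinite _
  haveI : Fintype (IrrCharacter (G ⧸ N)) := Fintype.ofFinite _
  have hN : ¬ p ∣ Nat.card N := by
    have h1 := Cfsg.Agent.Lib.Helper6.pPrimeCore_coprime (G := G) p
    exact (Nat.Prime.coprime_iff_not_dvd hp).1 h1.symm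
  have himg := image_inflIrr_principalBlock hM N hN
  have htrans : ∀ {α : Type} [AddCommMonoid α] (F : IrrCharacter G → α),
      ∑ᶠ χ ∈ Cfsg.principalBlock M G, F χ =
        ∑ᶠ ψ ∈ Cfsg.principalBlock M (G ⧸ N), F (inflIrr N ψ) := by
    intro α _ F
    rw [← himg]
    exact finsum_mem_image ((inflIrr_injective N).injOn)
  refine ⟨?_, ?_, ?_, ?_⟩
  · -- integrality
    set s := (Set.toFinite (Cfsg.principalBlock M G)).toFinset with hs
    have hmem : ∀ χ, χ ∈ s ↔ χ ∈ Cfsg.principalBlock M G := fun χ => Set.Finite.mem_toFinset _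
    have hstab : ∀ (k : ℕ) (hk : k.Coprime (Nat.card G)), ∀ χ ∈ s, powIrr k hk χ ∈ s := by
      intro k hk χ hχ
      rw [hmem] at hχ ⊢
      exact powIrr_mem_principalBlock k hk hχ
    obtain ⟨m, hm⟩ := exists_int_sum_mul_of_powIrr_stable s hstab x x⁻¹
    have h1 : ∑ᶠ χ ∈ Cfsg.principalBlock M G, Complex.normSq ((χ : G → ℂ) x) =
        ∑ χ ∈ s, Complex.normSq ((χ : G → ℂ) x) :=
      finsum_mem_eq_finite_toFinset_sum _ _
    have h2 : ((∑ χ ∈ s, Complex.normSq ((χ : G → ℂ) x) : ℝ) : ℂ) = (m : ℂ) := by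
      rw [← hm, Complex.ofReal_sum]
      refine Finset.sum_congr rfl fun χ _ => ?_
      rw [isCharacter_inv (isCharacter_of_irr χ.2), Complex.mul_conj]
    have h3 : (∑ χ ∈ s, Complex.normSq ((χ : G → ℂ) x) : ℝ) = (m : ℝ) := by
      apply Complex.ofReal_injective
      rw [h2]
      simp
    have h4 : (1 : ℝ) ≤ ∑ χ ∈ s, Complex.normSq ((χ : G → ℂ) x) := by
      have htriv : trivIrr G ∈ s := (hmem _).2 (trivIrr_mem_principalBlock hMp.ne_top)
      have := Finset.single_le_sum (f := fun χ : IrrCharacter G => Complex.normSq ((χ : G → ℂ) x))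
        (fun χ _ => Complex.normSq_nonneg _) htriv
      simpa [trivIrr_apply] using this
    rw [h3] at h4
    have h5 : (1 : ℤ) ≤ m := by exact_mod_cast h4
    refine ⟨m.toNat, by omega, ?_⟩
    rw [h1, h3]
    have : ((m.toNat : ℤ) : ℝ) = (m : ℝ) := by
      rw [Int.toNat_of_nonneg (by omega)]
    exact_mod_cast this.symm
  · exact htrans (fun χ => Complex.normSq ((χ : G → ℂ) x))
  · rw [htrans (fun χ => Complex.normSq ((χ : G → ℂ) x))]
    rw [finsum_mem_eq_finite_toFinset_sum _ (Set.toFinite _)]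
    have h1 : ∀ ψ : IrrCharacter (G ⧸ N), Complex.normSq ((inflIrr N ψ : G → ℂ) x) =
        Complex.normSq ((ψ : G ⧸ N → ℂ) (QuotientGroup.mk x)) := fun ψ => rfl
    simp only [h1]
    rw [← sum_normSq_eq_card_centralizer (G ⧸ N) (QuotientGroup.mk x)]
    exact Finset.sum_le_sum_of_subset_of_nonneg (Finset.subset_univ _)
      (fun _ _ _ => Complex.normSq_nonneg _)
  · rw [htrans (fun χ => Cfsg.charDegree (χ : G → ℂ) ^ 2)]
    simp only [charDegree_inflIrr]
    rw [finsum_mem_eq_finite_toFinset_sum _ (Set.toFinite _)]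
    set sB := (Set.toFinite (Cfsg.principalBlock M (G ⧸ N))).toFinset with hsB
    have hmem : ∀ ψ, ψ ∈ sB ↔ ψ ∈ Cfsg.principalBlock M (G ⧸ N) :=
      fun ψ => Set.Finite.mem_toFinset _
    have htot : ∑ ψ : IrrCharacter (G ⧸ N), Cfsg.charDegree (ψ : G ⧸ N → ℂ) ^ 2 = N.index := by
      rw [sum_charDegree_sq, Subgroup.index_eq_card]
    constructor
    · intro h B hB
      have hall : ∀ ψ : IrrCharacter (G ⧸ N), ψ ∈ sB := by
        intro ψ
        by_contra hψ
        have hlt := Finset.sum_lt_sum_of_subset (f := fun ψ : IrrCharacter (G ⧸ N) =>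
          Cfsg.charDegree (ψ : G ⧸ N → ℂ) ^ 2) (Finset.subset_univ sB) (Finset.mem_univ ψ) hψ
          (pow_pos (irr_apply_one_eq_charDegree ψ.2).2 2) (fun _ _ _ => Nat.zero_le _)
        rw [htot, h] at hlt
        exact lt_irrefl _ hlt
      obtain ⟨ψ, hψ⟩ := isPBlock_nonempty hMp hB
      have h1 := eq_blockOf_of_mem hMp hB hψ
      have h2 := eq_blockOf_of_mem hMp isPBlock_principalBlock ((hmem ψ).1 (hall ψ))
      rw [h1, ← h2]
    · intro h
      rw [← htot]
      have : sB = Finset.univ := by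
        ext ψ
        simp only [Finset.mem_univ, iff_true]
        rw [hmem]
        have h1 : Cfsg.IsPBlock M (Cfsg.blockOf M (ψ : G ⧸ N → ℂ)) := ⟨ψ, rfl⟩
        rw [← h _ h1]
        exact sameBlock_refl hMp.ne_top _
      rw [this]

end Cfsg.Agent.S4735
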