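import Mathlib
import Cfsg.Statements.S4736
import Cfsg.Agent.S4713
import Cfsg.Agent.Lib.Helper8.PSol1
import Cfsg.Agent.Lib.Helper8.TildeBlock3
import Cfsg.Agent.Lib.Helper4.HallHigman
import Cfsg.Agent.Lib.Helper4.SolvBalance
import Cfsg.Agent.Lib.Helper6.PCore
import Cfsg.Agent.Lib.Helper6.PPrimeCore

set_option autoImplicit false
open Cfsg

namespace Cfsg.Agent.S4736

open Cfsg.Agent.Lib.Helper1 Cfsg.Agent.Lib.Helper4 Cfsg.Agent.Lib.Helper8

/-- In a p-solvable group, the Sylow p-subgroups are abelian if and only if every character of the principal p-block has height zero. -/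
theorem result {G : Type*} [Group G] [Finite G] (p : ℕ) [Fact p.Prime] (M : Ideal Cfsg.AlgInt) (hM : Cfsg.IsPModular p M) (hsolv : Cfsg.IsPSolvable p G) (P : Sylow p G) : IsMulCommutative P ↔ ∀ χ ∈ Cfsg.principalBlock M G, Cfsg.blockHeight p (Cfsg.principalBlock M G) (χ : G → ℂ) = 0 := by
  classical
  haveI : Fintype G := Fintype.ofFinite G
  have hp : p.Prime := Fact.out
  have hMp := isPModular_isPrime hM
  set K := Cfsg.pPrimeCore p G with hK
  have hKc : (Nat.card K).Coprime p := Cfsg.Agent.Lib.Helper6.pPrimeCore_coprime p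
  -- height zero in the principal block means degree prime to `p`
  have htriv : trivIrr G ∈ Cfsg.principalBlock M G := trivIrr_mem_principalBlock hMp.ne_top
  have hheight : ∀ χ : Cfsg.IrrCharacter G,
      Cfsg.blockHeight p (Cfsg.principalBlock M G) (χ : G → ℂ) = 0 ↔
        ¬ p ∣ Cfsg.charDegree (χ : G → ℂ) := by
    intro χ
    rw [blockHeight_eq_zero_iff ⟨trivIrr G, htriv⟩]
    obtain ⟨-, hd0⟩ := irr_apply_one_eq_charDegree χ.2
    constructor
    · intro h hdvd
      have h1 := h (trivIrr G) htriv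
      have h2 : Cfsg.charDegree (trivIrr G : G → ℂ) = 1 := by
        apply charDegree_of_apply_one (n := 1)
        rw [trivIrr_apply]
        simp
      rw [h2, Nat.factorization_one] at h1
      have h3 : 0 < (Cfsg.charDegree (χ : G → ℂ)).factorization p :=
        hp.factorization_pos_of_dvd hd0.ne' hdvd
      have : (Cfsg.charDegree (χ : G → ℂ)).factorization p ≤ 0 := h1
      omega
    · intro h ξ _
      rw [Nat.factorization_eq_zero_of_not_dvd h]
      exact Nat.zero_le _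
  -- the quotient by the `p'`-core
  have hsolvQ : Cfsg.IsPSolvable p (G ⧸ K) := Cfsg.Agent.Lib.Helper7.isPSolvable_quotient hsolv K
  let Pb : Sylow p (G ⧸ K) := P.mapSurjective (QuotientGroup.mk'_surjective K)
  have hPb : (Pb : Subgroup (G ⧸ K)) = (P : Subgroup G).map (QuotientGroup.mk' K) := rfl
  have hmain := Cfsg.Agent.S4713.result p hsolvQ Pb
  -- principal block characters against characters of the quotient
  have hall : (∀ χ ∈ Cfsg.principalBlock M G,
      Cfsg.blockHeight p (Cfsg.principalBlock M G) (χ : G → ℂ) = 0) ↔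
      ∀ ψ : Cfsg.IrrCharacter (G ⧸ K), ¬ p ∣ Cfsg.charDegree (ψ : G ⧸ K → ℂ) := by
    constructor
    · intro h ψ
      set χ : Cfsg.IrrCharacter G := ⟨_, isIrrCharacter_inflation K ψ.2⟩ with hχ
      have hχB : χ ∈ Cfsg.principalBlock M G := by
        rw [mem_principalBlock_iff_of_isPSolvable hM hsolv]
        intro n hn
        show (ψ : G ⧸ K → ℂ) (QuotientGroup.mk n) = (ψ : G ⧸ K → ℂ) (QuotientGroup.mk 1)
        rw [(QuotientGroup.eq_one_iff n).2 hn, QuotientGroup.mk_one]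
      have h1 := (hheight χ).1 (h χ hχB)
      have h2 : Cfsg.charDegree (χ : G → ℂ) = Cfsg.charDegree (ψ : G ⧸ K → ℂ) := by
        unfold Cfsg.charDegree
        show ⌊((ψ : G ⧸ K → ℂ) (QuotientGroup.mk 1)).re⌋₊ = _
        rw [QuotientGroup.mk_one]
      rwa [h2] at h1
    · intro h χ hχB
      rw [hheight]
      have h1 := (mem_principalBlock_iff_of_isPSolvable hM hsolv χ).1 hχB
      obtain ⟨ψ, hψ, hψχ⟩ := exists_deflation K χ.2 h1
      have h2 := h ⟨ψ, hψ⟩
      have h3 : Cfsg.charDegree ψ = Cfsg.charDegree (χ : G → ℂ) := by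
        unfold Cfsg.charDegree
        rw [← hψχ 1, QuotientGroup.mk_one]
      rwa [← h3]
  rw [hall, ← hmain]
  -- the Sylow subgroup maps isomorphically
  have hinj : ∀ a ∈ (P : Subgroup G), ∀ b ∈ (P : Subgroup G),
      QuotientGroup.mk' K a = QuotientGroup.mk' K b → a = b := by
    intro a ha b hb hab
    have h1 : a⁻¹ * b ∈ K := by
      rw [← QuotientGroup.eq]
      exact hab
    have h2 : a⁻¹ * b ∈ (P : Subgroup G) := (P : Subgroup G).mul_mem ((P : Subgroup G).inv_mem ha) hb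
    have h3 := Cfsg.Agent.Lib.Helper6.isPGroup_inf_coprime_eq_bot hKc P.isPGroup'
    have h4 : a⁻¹ * b ∈ (P : Subgroup G) ⊓ K := ⟨h2, h1⟩
    rw [h3, Subgroup.mem_bot] at h4
    exact (inv_mul_eq_one.1 h4)
  constructor
  · intro hPc
    have hPbc : ∀ x ∈ (Pb : Subgroup (G ⧸ K)), ∀ y ∈ (Pb : Subgroup (G ⧸ K)), x * y = y * x := by
      rintro x ⟨a, ha, rfl⟩ y ⟨b, hb, rfl⟩
      rw [← map_mul, ← map_mul]
      congr 1
      exact congrArg Subtype.val (hPc.is_comm.comm (⟨a, ha⟩ : (P : Subgroup G)) ⟨b, hb⟩)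
    have hred : Cfsg.pPrimeCore p (G ⧸ K) = ⊥ := pPrimeCore_quotient_self p
    have hHH := centralizer_pCore_le_of_isPSolvable hsolvQ hred
    have h1 : Cfsg.pCore p (G ⧸ K) ≤ (Pb : Subgroup (G ⧸ K)) :=
      Cfsg.Agent.Lib.Helper6.pCore_le_sylow Pb
    have h2 : (Pb : Subgroup (G ⧸ K)) ≤ Cfsg.pCore p (G ⧸ K) := by
      intro x hx
      apply hHH
      rw [Subgroup.mem_centralizer_iff]
      intro y hy
      exact hPbc y (h1 hy) x hx
    have h3 : (Pb : Subgroup (G ⧸ K)) = Cfsg.pCore p (G ⧸ K) := le_antisymm h2 h1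
    refine ⟨by rw [h3]; exact Cfsg.pCore_normal p _, ⟨⟨?_⟩⟩⟩
    intro a b
    exact Subtype.ext (hPbc a a.2 b b.2)
  · rintro ⟨-, hPbc⟩
    refine ⟨⟨?_⟩⟩
    intro a b
    apply Subtype.ext
    apply hinj _ ((P : Subgroup G).mul_mem a.2 b.2) _ ((P : Subgroup G).mul_mem b.2 a.2)
    have ha : QuotientGroup.mk' K (a : G) ∈ (Pb : Subgroup (G ⧸ K)) := ⟨a, a.2, rfl⟩
    have hb : QuotientGroup.mk' K (b : G) ∈ (Pb : Subgroup (G ⧸ K)) := ⟨b, b.2, rfl⟩
    have := congrArg Subtype.val (hPbc.is_comm.comm (⟨_, ha⟩ : (Pb : Subgroup (G ⧸ K))) ⟨_, hb⟩)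
    simp only [Subgroup.coe_mul] at this
    rw [map_mul, map_mul]
    exact this

end Cfsg.Agent.S4736
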