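import Cfsg.Statements.S4746
import Mathlib
import Cfsg.Agent.S4742
import Cfsg.Agent.Lib.Helper8.ED2

set_option autoImplicit false
open Cfsg

namespace Cfsg.Agent.S4746

/-- Let p be an odd prime and G a finite group of even order divisible by p in which the centralizer of every non-identity p-element has odd order. Then G has an irreducible character of p-defect zero or an irreducible character of even degree. -/
theorem result {G : Type*} [Group G] [Finite G] (p : ℕ) [Fact p.Prime] (hp2 : p ≠ 2) (hpG : p ∣ Nat.card G) (h2G : 2 ∣ Nat.card G) (hC : ∀ g : G, g ≠ 1 → (∃ k : ℕ, orderOf g = p ^ k) → Odd (Nat.card ↥(Subgroup.centralizer ({g} : Set G)))) : (∃ χ : Cfsg.IrrCharacter G, (Cfsg.charDegree (χ : G → ℂ)).factorization p = (Nat.card G).factorization p) ∨ ∃ χ : Cfsg.IrrCharacter G, Even (Cfsg.charDegree (χ : G → ℂ)) := by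
  classical
  have : Fintype G := Fintype.ofFinite G
  by_cases hno : ∃ χ : Cfsg.IrrCharacter G, (Cfsg.charDegree (χ : G → ℂ)).factorization p = (Nat.card G).factorization p
  · exact Or.inl hno
  right
  have : Fact (Nat.Prime 2) := ⟨Nat.prime_two⟩
  have hC' : ∀ g : G, g ≠ 1 → (∃ k : ℕ, orderOf g = p ^ k) →
      ¬ 2 ∣ Nat.card ↥(Subgroup.centralizer ({g} : Set G)) := by
    intro g hg1 hgp h2
    have := Nat.odd_iff.1 (hC g hg1 hgp)
    omega
  rcases Cfsg.Agent.S4742.result p 2 hp2 hpG h2G hC' with h | h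
  · exact absurd h hno
  · obtain ⟨z, hz⟩ := exists_prime_orderOf_dvd_card' 2 h2G
    have hz1 : z ≠ 1 := by
      rintro rfl
      rw [orderOf_one] at hz
      omega
    obtain ⟨g, h', hg, hh, hne, hpk⟩ := h z hz1 ⟨1, by rw [hz, pow_one]⟩
    have hgo : orderOf g = 2 := by
      obtain ⟨c, hc⟩ := isConj_iff.1 hg
      rw [← hc]
      have := MulEquiv.orderOf_eq (MulAut.conj c) z
      rw [MulAut.conj_apply] at this
      rw [this, hz]
    have hho : orderOf h' = 2 := by
      obtain ⟨c, hc⟩ := isConj_iff.1 hh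
      rw [← hc]
      have := MulEquiv.orderOf_eq (MulAut.conj c) z
      rw [MulAut.conj_apply] at this
      rw [this, hz]
    have hg2 : g * g = 1 := by rw [← pow_two, ← hgo, pow_orderOf_eq_one]
    have hh2 : h' * h' = 1 := by rw [← pow_two, ← hho, pow_orderOf_eq_one]
    have hginv : g⁻¹ = g := inv_eq_of_mul_eq_one_left hg2
    have hhinv : h'⁻¹ = h' := inv_eq_of_mul_eq_one_left hh2
    have hinv : g * (g * h'⁻¹) * g⁻¹ = (g * h'⁻¹)⁻¹ := by
      rw [hhinv, hginv, mul_inv_rev, hginv, hhinv, ← mul_assoc, hg2, one_mul]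
    exact Cfsg.Agent.Lib.Helper8.ED.exists_even_degree_of_inverted (g * h'⁻¹) g hne hinv
      (hC _ hne hpk)

end Cfsg.Agent.S4746
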