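import Cfsg.Statements.S4750
import Mathlib
import Cfsg.Agent.Lib.Helper7.VL9
-- import your own Cfsg.Agent.* helpers here

set_option autoImplicit false
open scoped Pointwise
open Cfsg

namespace Cfsg.Agent.S4750

/-- Let P be a Sylow p-subgroup of the finite group G that meets each conjugate g P g⁻¹ with g outside N_G(P) trivially, χ a character of G with χ(1)² ≤ |P|, and H a subgroup of G containing N_G(P). Then the inner product of χ with itself over G equals the inner product over H of the restriction of χ to H. -/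
theorem result {G : Type*} [Group G] [Fintype G] [DecidableEq G] (p : ℕ) [Fact p.Prime] (P : Sylow p G) (hTI : ∀ g : G, g ∉ Subgroup.normalizer ((P : Subgroup G) : Set G) → (P : Subgroup G) ⊓ (MulAut.conj g • (P : Subgroup G)) = ⊥) (χ : G → ℂ) (hχ : Cfsg.IsCharacter G χ) (hdeg : Cfsg.charDegree χ ^ 2 ≤ Nat.card ↥(P : Subgroup G)) (H : Subgroup G) [Fintype ↥H] (hH : Subgroup.normalizer ((P : Subgroup G) : Set G) ≤ H) : Cfsg.classInner χ χ = Cfsg.classInner (fun h : ↥H => χ h) (fun h : ↥H => χ h) := by
  classical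
  obtain ⟨n, ρ, rfl⟩ := hχ
  have hdeg' : Cfsg.charDegree ρ.character = n := by
    unfold Cfsg.charDegree
    rw [Representation.char_one, Module.finrank_fin_fun]
    simp
  rw [hdeg'] at hdeg
  by_cases hP1 : (P : Subgroup G) = ⊥
  · -- then H = ⊤
    have hN : Subgroup.normalizer ((P : Subgroup G) : Set G) = ⊤ := by
      rw [hP1]
      exact Subgroup.normalizer_eq_top_iff.2 inferInstance
    have hHtop : H = ⊤ := top_le_iff.1 (hN ▸ hH)
    subst hHtop
    unfold Cfsg.classInner
    have hcard : Nat.card (⊤ : Subgroup G) = Nat.card G := Subgroup.card_top (G := G)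
    rw [hcard]
    congr 1
    exact (Fintype.sum_equiv Subgroup.topEquiv.toEquiv _ _ (fun _ => rfl)).symm
  · have hPH : (P : Subgroup G) ≤ H := le_trans Subgroup.le_normalizer hH
    exact Cfsg.Agent.Lib.Helper7.VL.norm_restrict_eq (p := p) H (P : Subgroup G) P.2 hP1 hPH
      (Cfsg.Agent.Lib.Helper7.VL.ti_free P hTI H hH) ρ hdeg

end Cfsg.Agent.S4750
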