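import Cfsg.Statements.S4751
import Cfsg.Agent.Lib.Helper8.Chr8Defs
import Cfsg.Agent.Lib.Helper8.Chr8K2
import Cfsg.Agent.Lib.Helper6.Chr8K2b
import Cfsg.Agent.Lib.Helper4.Chr8KMa
import Cfsg.Agent.Lib.Helper5.Chr8KMb
import Cfsg.Agent.Lib.Helper7.Chr8K3
import Cfsg.Agent.Lib.Helper7.Chr8K4a
import Cfsg.Agent.Lib.Helper3.Chr8K4c
import Cfsg.Agent.Lib.Helper3.Chr8K4d
import Cfsg.Agent.Lib.Helper9.ChrK5

set_option autoImplicit false
open Cfsg

namespace Cfsg.Agent.S4751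

open Cfsg.Agent.Lib.Helper8.Chr8 in
/-- Let χ be a faithful, non-linear irreducible character of the finite group G (χ g = χ 1 only for g = 1, χ 1 ≠ 1) whose value at every element of order divisible by p is a root of unity, and suppose P = O_p(G) ≠ 1. Then either P is an elementary abelian Sylow p-subgroup of G, C_G(P) is the internal direct product of P and Z(G), G acts transitively by conjugation on the non-principal linear characters of P, and χ 1 = |P| − 1; or p = 2 and G is the internal direct product of a subgroup isomorphic to the symmetric group S₄ and the centre Z(G), which has odd order. -/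
theorem result {G : Type*} [Group G] [Finite G] (p : ℕ) [Fact p.Prime] (χ : Cfsg.IrrCharacter G) (hfaith : ∀ g : G, (χ : G → ℂ) g = (χ : G → ℂ) 1 → g = 1) (hnl : (χ : G → ℂ) 1 ≠ 1) (hroot : ∀ g : G, p ∣ orderOf g → ∃ n : ℕ, 0 < n ∧ ((χ : G → ℂ) g) ^ n = 1) (hP : Cfsg.pCore p G ≠ ⊥) : ((Nat.card ↥(Cfsg.pCore p G)).factorization p = (Nat.card G).factorization p ∧ Cfsg.IsElementaryAbelian p (Cfsg.pCore p G) ∧ Subgroup.centralizer ((Cfsg.pCore p G : Subgroup G) : Set G) = Cfsg.pCore p G ⊔ Subgroup.center G ∧ Cfsg.pCore p G ⊓ Subgroup.center G = ⊥ ∧ (∀ lam mu : ↥(Cfsg.pCore p G) → ℂ, Cfsg.IsCharacter ↥(Cfsg.pCore p G) lam → lam 1 = 1 → lam ≠ (fun _ => (1 : ℂ)) → Cfsg.IsCharacter ↥(Cfsg.pCore p G) mu → mu 1 = 1 → mu ≠ (fun _ => (1 : ℂ)) → ∃ g : G, ∀ (x : G) (hx : x ∈ Cfsg.pCore p G) (hgx : g * x * g⁻¹ ∈ Cfsg.pCore p G), mu ⟨x, hx⟩ = lam ⟨g * x * g⁻¹, hgx⟩) ∧ (χ : G → ℂ) 1 = (Nat.card ↥(Cfsg.pCore p G) : ℂ) - 1) ∨ (p = 2 ∧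 Odd (Nat.card ↥(Subgroup.center G)) ∧ ∃ H : Subgroup G, Nonempty (↥H ≃* Equiv.Perm (Fin 4)) ∧ H ⊓ Subgroup.center G = ⊥ ∧ H ⊔ Subgroup.center G = ⊤) := by
  classical
  have hp : p.Prime := Fact.out
  have hPn : (Cfsg.pCore p G).Normal := Cfsg.Agent.Lib.Helper9.pCore_normal' p
  have hPp : IsPGroup p (Cfsg.pCore p G) := Cfsg.Agent.Lib.Helper9.pCore_isPGroup' p
  haveI : Fintype ↥(Cfsg.pCore p G) := Fintype.ofFinite _
  have hH : Hyp p (χ : G → ℂ) := by
    refine ⟨χ.2, hfaith, hnl, ?_⟩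
    intro g hg
    obtain ⟨n, hn0, hn⟩ := hroot g hg
    exact Complex.norm_eq_one_of_pow_eq_one hn hn0.ne'
  obtain ⟨L, hS⟩ := exists_spec hH (Cfsg.pCore p G) hPp hP
  have hexp := spec_pow_eq_one hH (Cfsg.pCore p G) hPp hS
  have hPZ := spec_inf_center hH (Cfsg.pCore p G) hPp hS
  have hM := fun g => master_le_of (Cfsg.pCore p G) hS g
    (fun l hl hg => fourier_coeff hH.irr (Cfsg.pCore p G) hS l hl g hg)
  have hC := centralizer_eq hH (Cfsg.pCore p G) hPp hS hM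
  have hdegP : (χ : G → ℂ) 1 = (Nat.card ↥(Cfsg.pCore p G) : ℂ) - 1 := by
    rw [hS.deg, ← hS.card]
    push_cast
    ring
  obtain ⟨Q, hPQ⟩ : ∃ Q : Sylow p G, Cfsg.pCore p G ≤ Q := hPp.exists_le_sylow
  rcases sylow_dichotomy hH (Cfsg.pCore p G) hPp hS Q hPQ with hQ | ⟨hp2, hQ⟩
  · left
    refine ⟨?_, ⟨?_, hexp⟩, hC, hPZ, ?_, hdegP⟩
    · rw [hQ, Sylow.card_eq_multiplicity, Nat.factorization_pow]
      simp [hp.factorization_self]
    · exact ⟨⟨fun a b => hS.comm a b⟩⟩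
    · intro lam mu hlam hlam1 hlamne hmu hmu1 hmune
      exact spec_trans_fun (Cfsg.pCore p G) hS lam mu hlam hlam1 hlamne hmu hmu1 hmune
  · right
    subst hp2
    obtain ⟨g, hgP, hg2, hgord⟩ := exists_outer (Cfsg.pCore 2 G) Q hPQ hQ
    have hfix : (fixSet (Cfsg.pCore 2 G) L g).card ≤ 1 := by
      have h1 := hM g
      have h2 : ∀ x : ↥(Cfsg.pCore 2 G), ‖(χ : G → ℂ) ((x : G) * g)‖ ^ 2 = 1 := by
        intro x
        rw [hH.unit _ (hgord x)]
        norm_num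
      rw [Finset.sum_congr rfl (fun x _ => h2 x), Finset.sum_const, Finset.card_univ,
        ← Nat.card_eq_fintype_card, nsmul_eq_mul, mul_one] at h1
      have hN0 : (0 : ℝ) < (Nat.card ↥(Cfsg.pCore 2 G) : ℝ) := by
        exact_mod_cast Nat.card_pos
      have h3 : ((fixSet (Cfsg.pCore 2 G) L g).card : ℝ) ≤ 1 := by
        by_contra hcon
        push Not at hcon
        nlinarith
      exact_mod_cast h3
    have hexp2 : ∀ x ∈ Cfsg.pCore 2 G, x ^ 2 = 1 := hexp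
    have hle4 := card_le_four (Cfsg.pCore 2 G) hS hexp2 g hg2 hfix
    have hP4 : Nat.card ↥(Cfsg.pCore 2 G) = 4 := by
      obtain ⟨n, hn⟩ := IsPGroup.iff_card.1 hPp
      have h3 : 3 ≤ Nat.card ↥(Cfsg.pCore 2 G) := by
        have := hS.two_le
        have := hS.card
        omega
      rw [hn] at h3 hle4 ⊢
      have hn2 : n < 3 := by
        by_contra hcon
        push Not at hcon
        have : 2 ^ 3 ≤ 2 ^ n := Nat.pow_le_pow_right (by norm_num) hcon
        omega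
      interval_cases n <;> simp_all
    have h6 := six_dvd_index (Cfsg.pCore 2 G) hS hP4 g hg2 hfix
    have hZodd : Odd (Nat.card ↥(Subgroup.center G)) := by
      have := center_coprime (p := 2) (G := G) hPZ
      exact Nat.Coprime.odd_of_right this
    exact ⟨rfl, hZodd, exists_s4_complement (Cfsg.pCore 2 G) hP4 hexp2 hC hPZ hZodd h6⟩

end Cfsg.Agent.S4751
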