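import Mathlib
import Cfsg.Statements.S4754
import Cfsg.Agent.Lib.Helper8.ClassAlgebra3

set_option autoImplicit false

open Cfsg

namespace Cfsg.Agent.S4754

open Cfsg.Agent.Lib.Helper8 Cfsg.Agent.Lib.Helper1 Cfsg.Agent.Lib.Helper4

theorem result {G : Type*} [Group G] [Finite G] (x y : G) : (∀ z : G, IsConj (x * y) z ↔ ∃ a b : G, z = a * x * a⁻¹ * (b * y * b⁻¹)) ↔ ∀ (a b : G) (χ : Cfsg.IrrCharacter G), (χ : G → ℂ) 1 * (χ : G → ℂ) (a * x * a⁻¹ * (b * y * b⁻¹)) = (χ : G → ℂ) x * (χ : G → ℂ) y := by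
  classical
  have : Fintype G := Fintype.ofFinite G
  have : Fintype (Cfsg.IrrCharacter G) := Fintype.ofFinite _
  have hG : (Fintype.card G : ℂ) ≠ 0 := Nat.cast_ne_zero.2 Fintype.card_pos.ne'
  have hconjval : ∀ (χ : Cfsg.IrrCharacter G) (u v : G), IsConj u v →
      (χ : G → ℂ) v = (χ : G → ℂ) u := by
    intro χ u v huv
    obtain ⟨c, hc⟩ := isConj_iff.mp huv
    rw [← hc]
    exact isClassFunction_irr χ.2 u c
  constructor
  · intro h a b χ
    have hχ1 : (χ : G → ℂ) 1 ≠ 0 := irr_apply_one_ne_zero χ.2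
    have h1 : (χ : G → ℂ) (a * x * a⁻¹ * (b * y * b⁻¹)) = (χ : G → ℂ) (x * y) :=
      hconjval χ _ _ ((h _).mpr ⟨a, b, rfl⟩)
    have h2 := sum_irr_mul_conj χ.2 x y
    have h3 : ∀ c : G, (χ : G → ℂ) (x * (c * y * c⁻¹)) = (χ : G → ℂ) (x * y) := by
      intro c
      apply hconjval χ _ _ ((h _).mpr ⟨1, c, ?_⟩)
      simp
    simp only [h3] at h2
    rw [Finset.sum_const, Finset.card_univ, nsmul_eq_mul] at h2
    rw [h1]
    have h4 : (Fintype.card G : ℂ) * ((χ : G → ℂ) 1 * (χ : G → ℂ) (x * y))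
        = (Fintype.card G : ℂ) * ((χ : G → ℂ) x * (χ : G → ℂ) y) := by
      rw [mul_left_comm, h2]
      field_simp
    exact mul_left_cancel₀ hG h4
  · intro h z
    constructor
    · intro hz
      obtain ⟨c, hc⟩ := isConj_iff.mp hz
      refine ⟨c, c, ?_⟩
      rw [← hc]; group
    · rintro ⟨a, b, rfl⟩
      apply isConj_of_forall_irr_eq
      intro χ
      have hχ1 : (χ : G → ℂ) 1 ≠ 0 := irr_apply_one_ne_zero χ.2
      have h1 := h a b χ
      have h2 := h 1 1 χ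
      simp only [one_mul, inv_one, mul_one] at h2
      exact mul_left_cancel₀ hχ1 (h2.trans h1.symm)

end Cfsg.Agent.S4754
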