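import Mathlib
import Cfsg.Statements.S4755
import Cfsg.Agent.Lib.Helper8.ClassAlgebra3
import Cfsg.Agent.Lib.Helper8.LinearCount
import Cfsg.Agent.S4754

set_option autoImplicit false

open Cfsg

namespace Cfsg.Agent.S4755

open Cfsg.Agent.Lib.Helper8 Cfsg.Agent.Lib.Helper1 Cfsg.Agent.Lib.Helper4
open scoped ComplexConjugate

theorem result {G : Type*} [Group G] [Finite G] (x y : G) (hx : x ≠ 1) (hy : y ≠ 1) (h : ∀ (a b : G) (χ : Cfsg.IrrCharacter G), (χ : G → ℂ) (a * x * a⁻¹ * (b * y * b⁻¹)) = (χ : G → ℂ) (a * x * a⁻¹) * (χ : G → ℂ) (b * y * b⁻¹)) : (∀ z : G, IsConj (x * y) z ↔ ∃ a b : G, z = a * x * a⁻¹ * (b * y * b⁻¹)) ∧ (∀ χ : Cfsg.IrrCharacter G, (χ : G → ℂ) 1 ≠ 1 → (χ : G → ℂ) (x * y) = 0) ∧ (∀ z : G, IsConj (x * y) z ↔ (x * y)⁻¹ * z ∈ commutator G) := by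
  classical
  have : Fintype G := Fintype.ofFinite G
  have : Fintype (Cfsg.IrrCharacter G) := Fintype.ofFinite _
  have hG : (Fintype.card G : ℂ) ≠ 0 := Nat.cast_ne_zero.2 Fintype.card_pos.ne'
  have hcf : ∀ (χ : Cfsg.IrrCharacter G) (u c : G), (χ : G → ℂ) (c * u * c⁻¹) = (χ : G → ℂ) u :=
    fun χ u c => isClassFunction_irr χ.2 u c
  -- `χ(x) χ(y) (χ(1) - 1) = 0`
  have key : ∀ χ : Cfsg.IrrCharacter G, (χ : G → ℂ) 1 ≠ 1 →
      (χ : G → ℂ) x * (χ : G → ℂ) y = 0 := by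
    intro χ hχ
    have hχ1 : (χ : G → ℂ) 1 ≠ 0 := irr_apply_one_ne_zero χ.2
    have h2 := sum_irr_mul_conj χ.2 x y
    have h3 : ∀ c : G, (χ : G → ℂ) (x * (c * y * c⁻¹)) = (χ : G → ℂ) x * (χ : G → ℂ) y := by
      intro c
      have := h 1 c χ
      simp only [one_mul, inv_one, mul_one] at this
      rw [this, hcf]
    simp only [h3] at h2
    rw [Finset.sum_const, Finset.card_univ, nsmul_eq_mul] at h2
    have h4 : (χ : G → ℂ) x * (χ : G → ℂ) y * ((χ : G → ℂ) 1 - 1) = 0 := by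
      have h5 : (Fintype.card G : ℂ) * ((χ : G → ℂ) x * (χ : G → ℂ) y * ((χ : G → ℂ) 1 - 1))
          = 0 := by
        have : (Fintype.card G : ℂ) * ((χ : G → ℂ) x * (χ : G → ℂ) y) * (χ : G → ℂ) 1
            = (Fintype.card G : ℂ) * (χ : G → ℂ) x * (χ : G → ℂ) y := by
          rw [h2]; field_simp
        linear_combination this
      exact (mul_eq_zero.mp h5).resolve_left hG
    exact (mul_eq_zero.mp h4).resolve_right (sub_ne_zero.mpr hχ)
  have hxy : ∀ χ : Cfsg.IrrCharacter G, (χ : G → ℂ) (x * y) = (χ : G → ℂ) x * (χ : G → ℂ) y := by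
    intro χ
    have := h 1 1 χ
    simpa using this
  have part2 : ∀ χ : Cfsg.IrrCharacter G, (χ : G → ℂ) 1 ≠ 1 → (χ : G → ℂ) (x * y) = 0 := by
    intro χ hχ
    rw [hxy, key χ hχ]
  have part1 : ∀ z : G, IsConj (x * y) z ↔ ∃ a b : G, z = a * x * a⁻¹ * (b * y * b⁻¹) := by
    rw [Cfsg.Agent.S4754.result]
    intro a b χ
    rw [h a b χ, hcf, hcf]
    by_cases hχ : (χ : G → ℂ) 1 = 1
    · rw [hχ, one_mul]
    · rw [key χ hχ, mul_zero]
  refine ⟨part1, part2, ?_⟩
  -- the centralizer of `x * y` has order `[G : G']`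
  have hcent : (Nat.card (Subgroup.centralizer ({x * y} : Set G)) : ℂ)
      = ((commutator G).index : ℂ) := by
    rw [← sum_irr_mul_conj_self (x * y), ← card_linear_irr, Nat.card_eq_fintype_card,
      Fintype.card_subtype, Finset.card_filter, Nat.cast_sum]
    refine Finset.sum_congr rfl fun χ _ => ?_
    by_cases hχ : (χ : G → ℂ) 1 = 1
    · rw [if_pos hχ, linear_irr_mul_conj χ.2 hχ]; simp
    · rw [if_neg hχ, part2 χ hχ]; simp
  have hcent' : Nat.card (Subgroup.centralizer ({x * y} : Set G)) = (commutator G).index := by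
    exact_mod_cast hcent
  have hsub : {z : G | IsConj (x * y) z} ⊆ {z : G | (x * y)⁻¹ * z ∈ commutator G} := by
    intro z hz
    obtain ⟨c, hc⟩ := isConj_iff.mp hz
    show (x * y)⁻¹ * z ∈ commutator G
    rw [← hc]
    have : (x * y)⁻¹ * (c * (x * y) * c⁻¹) = (x * y)⁻¹ * c * ((x * y)⁻¹)⁻¹ * c⁻¹ := by group
    rw [this, commutator_def]
    exact Subgroup.commutator_mem_commutator (Subgroup.mem_top _) (Subgroup.mem_top _)
  have hcard1 : Nat.card {z : G // IsConj (x * y) z} * (commutator G).index = Nat.card G := by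
    rw [← hcent']; exact card_isConj_mul_card_centralizer (x * y)
  have hcard2 : Nat.card {z : G // (x * y)⁻¹ * z ∈ commutator G} * (commutator G).index
      = Nat.card G := by
    have e : {z : G // (x * y)⁻¹ * z ∈ commutator G} ≃ commutator G :=
      ⟨fun z => ⟨(x * y)⁻¹ * z.1, z.2⟩,
        fun c => ⟨(x * y) * c.1, by rw [inv_mul_cancel_left]; exact c.2⟩,
        fun z => Subtype.ext (mul_inv_cancel_left _ _),
        fun c => Subtype.ext (inv_mul_cancel_left _ _)⟩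
    rw [Nat.card_congr e]
    exact Subgroup.card_mul_index (commutator G)
  have hidx : 0 < (commutator G).index := Nat.pos_of_ne_zero Subgroup.index_ne_zero_of_finite
  have hcardeq : Nat.card {z : G // (x * y)⁻¹ * z ∈ commutator G}
      = Nat.card {z : G // IsConj (x * y) z} :=
    Nat.eq_of_mul_eq_mul_right hidx (hcard2.trans hcard1.symm)
  have hseteq : {z : G | IsConj (x * y) z} = {z : G | (x * y)⁻¹ * z ∈ commutator G} := by
    apply Set.eq_of_subset_of_ncard_le hsub _ (Set.toFinite _)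
    rw [← Nat.card_coe_set_eq, ← Nat.card_coe_set_eq]
    exact hcardeq.le
  intro z
  exact Set.ext_iff.mp hseteq z

end Cfsg.Agent.S4755
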