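import Mathlib
import Cfsg.Statements.S4756
import Cfsg.Agent.Lib.Helper8.MulChar4
-- import your own Cfsg.Agent.* helpers here

set_option autoImplicit false
open Cfsg

namespace Cfsg.Agent.S4756

/-- For a finite group G the following are equivalent. (1) χ(x y) = χ(x) χ(y) for every irreducible character χ and all non-identity elements x, y of prime power orders for two different primes. (2) G is a p-group for some prime p, or G is abelian, or for some prime p: G = A P with P a normal Sylow p-subgroup and A a nontrivial cyclic subgroup of order prime to p such that, with C = C_P(A) and D = [A, P], one has P = C D, C abelian, D normal in G, C ∩ D = 1, and A acts fixed-point-freely on D (no non-identity element of A centralizes a non-identity element of D). -/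
theorem result {G : Type*} [Group G] [Finite G] : (∀ (x y : G) (χ : Cfsg.IrrCharacter G), x ≠ 1 → y ≠ 1 → (∃ p q a b : ℕ, p.Prime ∧ q.Prime ∧ p ≠ q ∧ orderOf x = p ^ a ∧ orderOf y = q ^ b) → (χ : G → ℂ) (x * y) = (χ : G → ℂ) x * (χ : G → ℂ) y) ↔ ((∃ p : ℕ, p.Prime ∧ IsPGroup p G) ∨ IsMulCommutative G ∨ ∃ (p : ℕ) (_ : Fact p.Prime) (P : Sylow p G) (A : Subgroup G), (P : Subgroup G).Normal ∧ IsCyclic ↥A ∧ A ≠ ⊥ ∧ (Nat.card ↥A).Coprime p ∧ A ⊔ (P : Subgroup G) = ⊤ ∧ IsMulCommutative ↥((P : Subgroup G) ⊓ Subgroup.centralizer (A : Set G)) ∧ (⁅A, (P : Subgroup G)⁆).Normal ∧ ((P : Subgroup G) ⊓ Subgroup.centralizer (A : Set G)) ⊔ ⁅A, (P : Subgroup G)⁆ = (P : Subgroup G) ∧ ((P : Subgroup G) ⊓ Subgroup.centralizer (A : Set G)) ⊓ ⁅A, (P : Subgroup G)⁆ = ⊥ ∧ ∀ a ∈ A, a ≠ 1 → ∀ d ∈ ⁅A, (P : Subgroup G)⁆, a * d = d * a → d = 1) := by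
  classical
  have : Fintype G := Fintype.ofFinite G
  constructor
  · intro hmul
    by_cases hnp : ∃ p : ℕ, p.Prime ∧ IsPGroup p G
    · exact Or.inl hnp
    by_cases hna : IsMulCommutative G
    · exact Or.inr (Or.inl hna)
    refine Or.inr (Or.inr ?_)
    have hm : Cfsg.Agent.Lib.Helper8.MulChar.MulHyp G := hmul
    obtain ⟨p, hp, hv⟩ := Cfsg.Agent.Lib.Helper8.MulChar.exists_prime_vanish hm
    have hD := Cfsg.Agent.Lib.Helper8.MulChar.isPGroup_commutator hp hv
    have hconj : ∀ r : ℕ, r.Prime → r ≠ p → ∀ a : G, orderOf a = r → ∀ d ∈ commutator G,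
        IsConj a (a * d) := by
      intro r hr hrp a hoa d hd
      apply Cfsg.Agent.Lib.Helper8.MulChar.isConj_mul_of_vanish hd
      intro χ hχ h1
      have ha1 : a ≠ 1 := by
        rintro rfl
        rw [orderOf_one] at hoa
        exact hr.one_lt.ne hoa
      exact hv χ hχ h1 r hr hrp a ha1 ⟨1, by rw [hoa, pow_one]⟩
    have hnp' : ¬ IsPGroup p G := fun h => hnp ⟨p, hp, h⟩
    obtain ⟨hF, P, A, h⟩ :=
      Cfsg.Agent.Lib.Helper8.MulChar.structure_of_conj hp hD hconj hnp' hna
    exact ⟨p, hF, P, A, h⟩
  · rintro (⟨p, hp, hG⟩ | hc | ⟨p, hF, P, A, hPn, hAcyc, hAne, hcop, hsup, hCc, hDn, hCD, hCD', hfpf⟩)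
    · -- p-group: vacuous
      intro x y χ hx hy ⟨p1, q1, a, b, hp1, hq1, hpq, hox, hoy⟩
      exfalso
      have : Fact p.Prime := ⟨hp⟩
      have hprime : ∀ {z : G} {r c : ℕ}, r.Prime → z ≠ 1 → orderOf z = r ^ c → r = p := by
        intro z r c hr hz hoz
        obtain ⟨k, hk⟩ := (IsPGroup.iff_orderOf.mp hG) z
        have hk0 : k ≠ 0 := by
          rintro rfl
          rw [pow_zero] at hk
          exact hz (orderOf_eq_one_iff.mp hk)
        have hdvd : p ∣ r ^ c := by
          rw [← hoz, hk]
          exact dvd_pow_self p hk0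
        exact ((Nat.prime_dvd_prime_iff_eq hp hr).mp (hp.dvd_of_dvd_pow hdvd)).symm
      exact hpq ((hprime hp1 hx hox).trans (hprime hq1 hy hoy).symm)
    · -- abelian: all characters are linear
      intro x y χ _ _ _
      have h1 : (χ : G → ℂ) 1 = 1 := by
        have hcard := Cfsg.Agent.Lib.Helper8.card_linear_irr (G := G)
        have hidx : (commutator G).index = Nat.card G := by
          have : commutator G = ⊥ := by
            rw [eq_bot_iff, commutator_def, Subgroup.commutator_le]
            intro a _ b _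
            rw [Subgroup.mem_bot, commutatorElement_eq_one_iff_mul_comm]
            exact hc.is_comm.comm a b
          rw [this, Subgroup.index_bot]
        -- sum of squares
        by_contra hne
        -- number of linear characters is |G|, total number of irreducible characters ≤ ... use classes
        have hk : Nat.card (Cfsg.IrrCharacter G) = Nat.card (ConjClasses G) :=
          Cfsg.Agent.Lib.Helper1.card_irr_eq_card_conjClasses
        have hle : Nat.card (ConjClasses G) ≤ Nat.card G :=
          Nat.card_le_card_of_surjective (ConjClasses.mk) ConjClasses.mk_surjective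
        have hsub : Nat.card {χ : Cfsg.IrrCharacter G // (χ : G → ℂ) 1 = 1} <
            Nat.card (Cfsg.IrrCharacter G) := by
          have : Fintype (Cfsg.IrrCharacter G) := Fintype.ofFinite _
          rw [Nat.card_eq_fintype_card, Nat.card_eq_fintype_card, Fintype.card_subtype]
          apply Finset.card_lt_card
          rw [Finset.ssubset_iff_of_subset (Finset.filter_subset _ _)]
          exact ⟨χ, Finset.mem_univ _, fun h => hne (Finset.mem_filter.mp h).2⟩
        rw [hcard, hidx] at hsub
        omega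
      exact Cfsg.Agent.Lib.Helper8.linear_irr_mul χ.2 h1 x y
    · have hdata : Cfsg.Agent.Lib.Helper8.MulChar.Data p (P : Subgroup G) A := by
        refine ⟨hF.out, P.isPGroup', hPn, ?_, hcop, hsup, ?_, hDn, hCD, hfpf⟩
        · intro a ha b hb
          have := (IsCyclic.commGroup (α := A)).mul_comm ⟨a, ha⟩ ⟨b, hb⟩
          exact congrArg Subtype.val this
        · intro x hx y hy
          have := hCc.is_comm.comm ⟨x, hx⟩ ⟨y, hy⟩
          exact congrArg Subtype.val this
      exact hdata.mulHyp

end Cfsg.Agent.S4756
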