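import Mathlib
import Cfsg.Statements.S4757
import Cfsg.Agent.Lib.Helper8.CV3

set_option autoImplicit false
open Cfsg

namespace Cfsg.Agent.S4757

open scoped ComplexConjugate
open Cfsg.Agent.Lib.Helper1 Cfsg.Agent.Lib.Helper4 Cfsg.Agent.Lib.Helper8

/-- Let u ≠ 1 be an element of the finite group G and c a complex number such that every non-principal irreducible character χ satisfies χ(1) − χ(u) = c or χ(u) = 0. Then the following are equivalent: (a) u has order 2, G is generated by u together with O(G), the largest normal subgroup of G of odd order, and the centralizer of u is {1, u}; (b) G is not perfect; (c) c = 2. -/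
theorem result {G : Type*} [Group G] [Finite G] (u : G) (hu : u ≠ 1) (c : ℂ) (hyp : ∀ χ : Cfsg.IrrCharacter G, (χ : G → ℂ) ≠ (fun _ => (1 : ℂ)) → ((χ : G → ℂ) 1 - (χ : G → ℂ) u = c ∨ (χ : G → ℂ) u = 0)) : ((orderOf u = 2 ∧ Subgroup.zpowers u ⊔ Cfsg.oddCore G = ⊤ ∧ Subgroup.centralizer ({u} : Set G) = Subgroup.zpowers u) ↔ commutator G ≠ ⊤) ∧ (commutator G ≠ ⊤ ↔ c = 2) := by
  have h : ConstVal u c := hyp
  refine ⟨⟨fun ⟨ho, htop, _⟩ => commutator_ne_top_of_shape ho htop, fun hG => h.structure hu hG⟩, ?_, ?_⟩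
  · intro hG
    obtain ⟨lam, hlam, hlam1⟩ := exists_linear_of_commutator_ne_top hG
    exact (h.linear_apply hu lam hlam hlam1).2
  · intro hc
    subst hc
    obtain ⟨χ, hχ, hχ1⟩ := h.exists_linear hu
    intro htop
    have hmem : ∀ g : G, g ∈ commutator G := fun g => by rw [htop]; trivial
    apply hχ
    funext g
    exact linear_irr_commutator χ.2 hχ1 (hmem g)

end Cfsg.Agent.S4757
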