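import Cfsg.Statements.S4762
import Mathlib
import Cfsg.Agent.Lib.Helper4.TE3
import Cfsg.Agent.Lib.Helper4.TE7
import Cfsg.Agent.Lib.Helper4.TE9
-- import your own Cfsg.Agent.* helpers here

set_option autoImplicit false
open Cfsg

namespace Cfsg.Agent.S4762

/-- Let p be a prime and G a finite nilpotent group. Then G has exactly one irreducible complex character of degree divisible by p if and only if p = 2 and G is an extraspecial 2-group. -/
theorem result {G : Type*} [Group G] [Finite G] [Group.IsNilpotent G] (p : ℕ) [Fact p.Prime] : Nat.card {χ : Cfsg.IrrCharacter G // p ∣ Cfsg.charDegree (χ : G → ℂ)} = 1 ↔ (p = 2 ∧ Cfsg.IsExtraspecial 2 G) := by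
  classical
  constructor
  · intro hcard
    obtain ⟨hsub, ⟨⟨⟨χ₀, hχ₀⟩, hpd⟩⟩⟩ := Nat.card_eq_one_iff_unique.1 hcard
    simp only at hpd
    have huniq : ∀ ψ : G → ℂ, Cfsg.IsIrrCharacter G ψ → p ∣ Cfsg.charDegree ψ → ψ = χ₀ := by
      intro ψ hψ hpψ
      have h1 := hsub.elim ⟨⟨ψ, hψ⟩, hpψ⟩ ⟨⟨χ₀, hχ₀⟩, hpd⟩
      exact congrArg (fun x => (x.1 : G → ℂ)) h1
    have hpG := Cfsg.Agent.Lib.Helper4.TE.isPGroup_of_unique p hχ₀ hpd huniq
    have hp : p.Prime := Fact.out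
    have hnl : χ₀ 1 ≠ 1 := by
      intro h1
      obtain ⟨h2, -⟩ := Cfsg.Agent.Lib.Helper8.irr_apply_one_eq_charDegree hχ₀
      rw [h2] at h1
      have h3 : Cfsg.charDegree χ₀ = 1 := by exact_mod_cast h1
      rw [h3] at hpd
      exact hp.one_lt.ne' (Nat.dvd_one.1 hpd)
    have huniq' : ∀ ψ : G → ℂ, Cfsg.IsIrrCharacter G ψ → ψ 1 ≠ 1 → ψ = χ₀ := by
      intro ψ hψ hψnl
      apply huniq ψ hψ
      obtain ⟨h2, -⟩ := Cfsg.Agent.Lib.Helper8.irr_apply_one_eq_charDegree hψ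
      have h3 := Cfsg.Agent.Lib.Helper8.charDegree_dvd_card hψ
      obtain ⟨n, hn⟩ := (IsPGroup.iff_card (p := p) (G := G)).1 hpG
      rw [hn] at h3
      obtain ⟨k, -, hk⟩ := (Nat.dvd_prime_pow hp).1 h3
      rcases Nat.eq_zero_or_pos k with rfl | hk0
      · exfalso
        apply hψnl
        rw [h2, hk]
        simp
      · rw [hk]
        exact dvd_pow_self p hk0.ne'
    exact Cfsg.Agent.Lib.Helper4.TE.extraspecial_of_unique_nonlinear p hpG hχ₀ hnl huniq'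
  · rintro ⟨rfl, hG⟩
    obtain ⟨χ₀, hχ₀, h2, huniq⟩ := Cfsg.Agent.Lib.Helper4.TE.unique_of_extraspecial hG
    rw [Nat.card_eq_one_iff_unique]
    refine ⟨⟨?_⟩, ⟨⟨⟨χ₀, hχ₀⟩, h2⟩⟩⟩
    rintro ⟨⟨a, ha⟩, ha2⟩ ⟨⟨b, hb⟩, hb2⟩
    have h3 := huniq a ha ha2
    have h4 := huniq b hb hb2
    subst h3
    subst h4
    rfl

end Cfsg.Agent.S4762
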