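import Cfsg.Statements.S4765
import Cfsg.Agent.Lib.Helper5.PSL2Deg2

set_option autoImplicit false
open Cfsg

namespace Cfsg.Agent.S4765


open Matrix Cfsg.Agent.Lib.Helper5 Cfsg.Agent.Lib.Helper5.PSL2Deg

theorem deg_eq_of_dvd {p q k d : ℕ} (hp : p.Prime) (hq : q = p ^ k) (hk : k ≠ 0)
    (hd : d ∈ degSet q) (hpd : p ∣ d) : d = q := by
  have hpq : p ∣ q := by rw [hq]; exact dvd_pow_self p hk
  have hq1 : 1 ≤ q := by rw [hq]; exact Nat.one_le_pow _ _ hp.pos
  have hno1 : ¬ p ∣ q + 1 := by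
    intro h
    have := (Nat.dvd_add_right hpq).1 h
    exact absurd (Nat.dvd_one.1 this) hp.one_lt.ne'
  have hno2 : ¬ p ∣ q - 1 := by
    intro h
    have h2 : p ∣ (q - 1) + 1 := by rw [Nat.sub_add_cancel hq1]; exact hpq
    have := (Nat.dvd_add_right h).1 h2
    exact absurd (Nat.dvd_one.1 this) hp.one_lt.ne'
  rcases hd with h | h | h | h | ⟨hodd, h⟩ | ⟨hodd, h⟩
  · rw [h] at hpd
    exact absurd (Nat.dvd_one.1 hpd) hp.one_lt.ne'
  · exact h
  · rw [h] at hpd; exact absurd hpd hno1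
  · rw [h] at hpd; exact absurd hpd hno2
  · rw [h] at hpd; exact absurd (hpd.trans (half_dvd_add q hodd)) hno1
  · rw [h] at hpd; exact absurd (hpd.trans (half_dvd_sub q hodd)) hno2



/-- Let F be a finite field of characteristic p with at least 4 elements. Then PSL(2,F) has exactly one irreducible complex character of degree divisible by p, and its degree is the order of F. -/
theorem result (p : ℕ) [Fact p.Prime] (F : Type*) [Field F] [Fintype F] [CharP F p] (hF : 4 ≤ Fintype.card F) : Nat.card {χ : Cfsg.IrrCharacter (Matrix.ProjectiveSpecialLinearGroup (Fin 2) F) // p ∣ Cfsg.charDegree (χ : Matrix.ProjectiveSpecialLinearGroup (Fin 2) F → ℂ)} = 1 ∧ ∀ χ : Cfsg.IrrCharacter (Matrix.ProjectiveSpecialLinearGroup (Fin 2) F), p ∣ Cfsg.charDegree (χ : Matrix.ProjectiveSpecialLinearGroup (Fin 2) F → ℂ) → Cfsg.charDegree (χ : Matrix.ProjectiveSpecialLinearGroup (Fin 2) F → ℂ) = Fintype.card F := by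
  classical
  have hp : p.Prime := Fact.out
  obtain ⟨k, -, hk⟩ := FiniteField.card F p
  have hdeg : ∀ χ : Cfsg.IrrCharacter (Matrix.ProjectiveSpecialLinearGroup (Fin 2) F),
      p ∣ Cfsg.charDegree (χ : Matrix.ProjectiveSpecialLinearGroup (Fin 2) F → ℂ) →
      Cfsg.charDegree (χ : Matrix.ProjectiveSpecialLinearGroup (Fin 2) F → ℂ) = Fintype.card F :=
    fun χ hχ => deg_eq_of_dvd hp hk (PNat.ne_zero k) (psl2_degree_mem χ.2) hχ
  refine ⟨?_, hdeg⟩
  rw [Nat.card_eq_one_iff_unique]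
  constructor
  · constructor
    intro a b
    have key : ∀ c : {χ : Cfsg.IrrCharacter (Matrix.ProjectiveSpecialLinearGroup (Fin 2) F) //
        p ∣ Cfsg.charDegree (χ : Matrix.ProjectiveSpecialLinearGroup (Fin 2) F → ℂ)},
        (fun g : SpecialLinearGroup (Fin 2) F => (c.1 : Matrix.ProjectiveSpecialLinearGroup (Fin 2) F → ℂ)
          (QuotientGroup.mk g)) = stFun := by
      intro c
      apply eq_stFun_of_degree
        (Cfsg.Agent.Lib.Helper8.isIrrCharacter_inflation
          (Subgroup.center (SpecialLinearGroup (Fin 2) F)) c.1.2)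
      have h1 := (Cfsg.Agent.Lib.Helper8.irr_apply_one_eq_charDegree c.1.2).1
      rw [hdeg c.1 c.2] at h1
      exact h1
    apply Subtype.ext
    apply Subtype.ext
    funext x
    obtain ⟨g, rfl⟩ := QuotientGroup.mk_surjective x
    have ha := congrFun (key a) g
    have hb := congrFun (key b) g
    exact ha.trans hb.symm
  · obtain ⟨χ, hχ, h1, hz⟩ := exists_irr_q (F := F)
    obtain ⟨ψ, hψ, hψχ⟩ := Cfsg.Agent.Lib.Helper8.exists_deflation
      (Subgroup.center (SpecialLinearGroup (Fin 2) F)) hχ hz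
    refine ⟨⟨⟨ψ, hψ⟩, ?_⟩⟩
    have h2 : ψ 1 = ((Fintype.card F : ℕ) : ℂ) := by
      have := hψχ 1
      rw [h1] at this
      exact this
    show p ∣ Cfsg.charDegree ψ
    rw [charDegree_natCast h2, hk]
    exact dvd_pow_self p (PNat.ne_zero k)


end Cfsg.Agent.S4765
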