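import Mathlib
import Cfsg.Statements.S4784
import Cfsg.Agent.Lib.Helper1.IndFun
import Cfsg.Agent.Lib.Helper1.CharFound6
import Cfsg.Agent.Lib.Helper8.AvgNormal
import Cfsg.Agent.Lib.Helper8.Deflation
import Cfsg.Agent.Lib.Helper8.TwoClass
import Cfsg.Agent.S0146
import Cfsg.Agent.S0148
import Cfsg.Agent.S0158
import Cfsg.Agent.S0161

set_option autoImplicit false
open Cfsg
open scoped ComplexConjugate
open Cfsg.Agent.Lib.Helper4 Cfsg.Agent.Lib.Helper1 Cfsg.Agent.Lib.Helper8

namespace Cfsg.Agent.S4784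

section Count

variable {G : Type*} [Group G] [Fintype G] [DecidableEq G]

/-- If `t ∉ H` and `t * t ∈ H`, then at least `2 |H|` elements have their square in `H`. -/
theorem two_mul_card_le (H : Subgroup G) [DecidablePred (· ∈ H)] (t : G) (ht : t ∉ H)
    (ht2 : t * t ∈ H) :
    2 * Nat.card H ≤ (Finset.univ.filter (fun g : G => g * g ∈ H)).card := by
  classical
  let HF : Finset G := Finset.univ.filter (fun g : G => g ∈ H)
  let DF : Finset G := Finset.univ.filter (fun d : G => d ∈ H ∧ t⁻¹ * d * t ∈ H)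
  have hHF : HF.card = Nat.card H := by
    rw [Nat.card_eq_fintype_card, Fintype.card_subtype]
  have hDFpos : 0 < DF.card := by
    apply Finset.card_pos.mpr
    refine ⟨1, ?_⟩
    simp only [DF, Finset.mem_filter, Finset.mem_univ, true_and]
    refine ⟨H.one_mem, ?_⟩
    simp [H.one_mem]
  let f : G × G → G := fun ad => ad.1 * t * ad.2 * ad.1⁻¹
  let A : Finset (G × G) := HF ×ˢ DF
  have hAcard : A.card = Nat.card H * DF.card := by
    rw [Finset.card_product, hHF]
  -- the image avoids `H` and consists of elements with square in `H`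
  have himg : ∀ v ∈ A.image f, v ∉ H ∧ v * v ∈ H := by
    intro v hv
    rw [Finset.mem_image] at hv
    obtain ⟨⟨a, d⟩, had, rfl⟩ := hv
    simp only [A, HF, DF, Finset.mem_product, Finset.mem_filter, Finset.mem_univ, true_and] at had
    obtain ⟨ha, hd, hd'⟩ := had
    constructor
    · intro h
      apply ht
      have h1 : t = a⁻¹ * (a * t * d * a⁻¹) * a * d⁻¹ := by group
      rw [h1]
      exact H.mul_mem (H.mul_mem (H.mul_mem (H.inv_mem ha) h) ha) (H.inv_mem hd)
    · have h1 : (a * t * d * a⁻¹) * (a * t * d * a⁻¹)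
          = a * ((t * t) * (t⁻¹ * d * t) * d) * a⁻¹ := by group
      show (a * t * d * a⁻¹) * (a * t * d * a⁻¹) ∈ H
      rw [h1]
      exact H.mul_mem (H.mul_mem ha (H.mul_mem (H.mul_mem ht2 hd') hd)) (H.inv_mem ha)
  -- fibers have at most `|D|` elements
  have hfib : ∀ v ∈ A.image f, (A.filter (fun ad => f ad = v)).card ≤ DF.card := by
    intro v hv
    rw [Finset.mem_image] at hv
    obtain ⟨⟨a₀, d₀⟩, had₀, hv₀⟩ := hv
    simp only [A, HF, DF, Finset.mem_product, Finset.mem_filter, Finset.mem_univ, true_and] at had₀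
    obtain ⟨ha₀, hd₀, hd₀'⟩ := had₀
    apply Finset.card_le_card_of_injOn (fun ad => a₀⁻¹ * ad.1)
    · intro ad had
      rw [Finset.mem_coe, Finset.mem_filter] at had
      obtain ⟨hadA, hadv⟩ := had
      simp only [A, HF, DF, Finset.mem_product, Finset.mem_filter, Finset.mem_univ, true_and]
        at hadA
      obtain ⟨ha, hd, hd'⟩ := hadA
      simp only [DF, Finset.coe_filter, Finset.mem_univ, true_and, Set.mem_ofPred_eq]
      refine ⟨H.mul_mem (H.inv_mem ha₀) ha, ?_⟩
      -- `t⁻¹ (a₀⁻¹ a) t = d₀ (a₀⁻¹ a) d⁻¹`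
      have h1 : ad.1 * t * ad.2 * ad.1⁻¹ = a₀ * t * d₀ * a₀⁻¹ := by
        have : f ad = f (a₀, d₀) := by rw [hadv, hv₀]
        exact this
      have h2 : t⁻¹ * (a₀⁻¹ * ad.1) * t = d₀ * (a₀⁻¹ * ad.1) * ad.2⁻¹ := by
        have h3 : t⁻¹ * (a₀⁻¹ * ad.1) * t
            = t⁻¹ * a₀⁻¹ * (ad.1 * t * ad.2 * ad.1⁻¹) * ad.1 * ad.2⁻¹ := by group
        rw [h3, h1]
        group
      rw [h2]
      exact H.mul_mem (H.mul_mem hd₀ (H.mul_mem (H.inv_mem ha₀) ha)) (H.inv_mem hd)
    · intro ad had ad' had' heq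
      rw [Finset.mem_coe, Finset.mem_filter] at had had'
      have h1 : ad.1 = ad'.1 := mul_left_cancel heq
      have h2 : f ad = f ad' := by rw [had.2, had'.2]
      have h3 : ad.2 = ad'.2 := by
        have h4 : ad.1 * t * ad.2 * ad.1⁻¹ = ad'.1 * t * ad'.2 * ad'.1⁻¹ := h2
        rw [← h1] at h4
        have h5 : ad.2 = t⁻¹ * ad.1⁻¹ * (ad.1 * t * ad.2 * ad.1⁻¹) * ad.1 := by group
        rw [h5, h4]
        group
      exact Prod.ext h1 h3
  have hcard := Finset.card_le_mul_card_image (f := f) A DF.card hfib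
  rw [hAcard, mul_comm] at hcard
  have himgcard : Nat.card H ≤ (A.image f).card := Nat.le_of_mul_le_mul_left hcard hDFpos
  -- assemble
  have hdisj : Disjoint HF (A.image f) := by
    rw [Finset.disjoint_left]
    intro v hv hv'
    simp only [HF, Finset.mem_filter, Finset.mem_univ, true_and] at hv
    exact (himg v hv').1 hv
  have hsub : HF ∪ A.image f ⊆ Finset.univ.filter (fun g : G => g * g ∈ H) := by
    intro v hv
    rw [Finset.mem_filter]
    refine ⟨Finset.mem_univ _, ?_⟩
    rcases Finset.mem_union.mp hv with h | h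
    · simp only [HF, Finset.mem_filter, Finset.mem_univ, true_and] at h
      exact H.mul_mem h h
    · exact (himg v h).2
  have := Finset.card_le_card hsub
  rw [Finset.card_union_of_disjoint hdisj, hHF] at this
  omega

end Count

section Main

variable {G : Type*} [Group G] [Fintype G]

/-- the sum of the permutation character over squares -/
theorem sum_indFun_sq [DecidableEq G] (H : Subgroup G) [DecidablePred (· ∈ H)] :
    ∑ g : G, Cfsg.indFun H (fun _ : H => (1 : ℂ)) (g * g)
      = (Nat.card H : ℂ)⁻¹ * ((Fintype.card G : ℂ) *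
          ((Finset.univ.filter (fun g : G => g * g ∈ H)).card : ℂ)) := by
  simp only [indFun_apply]
  rw [← Finset.mul_sum, Finset.sum_comm]
  congr 1
  have h1 : ∀ x : G, ∑ g : G, Cfsg.extendByZero H (fun _ : H => (1 : ℂ)) (x⁻¹ * (g * g) * x)
      = ((Finset.univ.filter (fun g : G => g * g ∈ H)).card : ℂ) := by
    intro x
    have h2 := sum_conj_mul_inv
      (fun g : G => Cfsg.extendByZero H (fun _ : H => (1 : ℂ)) (g * g)) x⁻¹
    simp only [inv_inv] at h2
    have h3 : ∀ g : G, x⁻¹ * (g * g) * x = x⁻¹ * g * x * (x⁻¹ * g * x) := by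
      intro g; group
    simp only [h3]
    rw [h2, Finset.card_filter]
    push_cast
    refine Finset.sum_congr rfl fun g _ => ?_
    by_cases hg : g * g ∈ H
    · rw [extendByZero_of_mem H _ hg, if_pos hg]
    · rw [extendByZero_of_notMem H _ hg, if_neg hg]
  rw [Finset.sum_congr rfl (fun x _ => h1 x), Finset.sum_const, Finset.card_univ, nsmul_eq_mul]

/-- the trivial function on a subgroup is a character -/
theorem isCharacter_one (H : Type*) [Group H] : Cfsg.IsCharacter H (fun _ : H => (1 : ℂ)) := by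
  have h := isCharacter_of_irr (trivIrr H).2
  have h2 : ((trivIrr H : Cfsg.IrrCharacter H) : H → ℂ) = fun _ => 1 := by
    funext x
    exact trivIrr_apply x
  rwa [h2] at h

end Main

theorem result {G : Type*} [Group G] [Fintype G] (H : Subgroup G) : Nat.card {χ : Cfsg.IrrCharacter G // Cfsg.classInner (Cfsg.indFun H (fun _ : H => (1 : ℂ))) (χ : G → ℂ) ≠ 0 ∧ (∀ g : G, (starRingEnd ℂ) ((χ : G → ℂ) g) = (χ : G → ℂ) g) ∧ (Nat.card G : ℂ)⁻¹ * ∑ g : G, (χ : G → ℂ) (g * g) = 1} = 1 ↔ Odd H.normalCore.index := by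
  classical
  haveI : Fintype (Cfsg.IrrCharacter G) := Fintype.ofFinite _
  haveI : Fintype H := Fintype.ofFinite _
  have hGne : (Nat.card G : ℂ) ≠ 0 := Nat.cast_ne_zero.2 Nat.card_pos.ne'
  have hHne : (Nat.card H : ℂ) ≠ 0 := Nat.cast_ne_zero.2 Nat.card_pos.ne'
  obtain ⟨π, hπ⟩ : ∃ π : G → ℂ, π = Cfsg.indFun H (fun _ : H => (1 : ℂ)) := ⟨_, rfl⟩
  rw [← hπ]
  have hπchar : Cfsg.IsCharacter G π := by
    rw [hπ]; exact Cfsg.Agent.S0148.result H _ (isCharacter_one H)
  have hπcf : Cfsg.IsClassFunction G π := isClassFunction_of_isCharacter hπchar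
  -- the trivial character
  obtain ⟨χ₀, hχ₀⟩ : ∃ χ₀ : Cfsg.IrrCharacter G, χ₀ = trivIrr G := ⟨_, rfl⟩
  have hχ₀app : ∀ x : G, (χ₀ : G → ℂ) x = 1 := by
    intro x; rw [hχ₀]; exact trivIrr_apply x
  have hfrob : ∀ χ : Cfsg.IrrCharacter G, Cfsg.classInner π (χ : G → ℂ)
      = Cfsg.classInner (fun _ : H => (1 : ℂ)) (fun h : H => (χ : G → ℂ) h) := by
    intro χ
    rw [hπ]
    exact Cfsg.Agent.S0146.result H _ _ (isClassFunction_irr χ.2)
  have h0inner : Cfsg.classInner π (χ₀ : G → ℂ) = 1 := by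
    rw [hfrob, classInner_def]
    simp only [hχ₀app, map_one, mul_one, Finset.sum_const, Finset.card_univ, nsmul_eq_mul]
    rw [Nat.card_eq_fintype_card, inv_mul_cancel₀]
    rw [← Nat.card_eq_fintype_card]; exact hHne
  have h0nu : (Nat.card G : ℂ)⁻¹ * ∑ g : G, (χ₀ : G → ℂ) (g * g) = 1 := by
    simp only [hχ₀app, Finset.sum_const, Finset.card_univ, nsmul_eq_mul, mul_one]
    rw [Nat.card_eq_fintype_card, inv_mul_cancel₀]
    rw [← Nat.card_eq_fintype_card]; exact hGne
  have h0mem : Cfsg.classInner π (χ₀ : G → ℂ) ≠ 0 ∧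
      (∀ g : G, (starRingEnd ℂ) ((χ₀ : G → ℂ) g) = (χ₀ : G → ℂ) g) ∧
      (Nat.card G : ℂ)⁻¹ * ∑ g : G, (χ₀ : G → ℂ) (g * g) = 1 := by
    refine ⟨by rw [h0inner]; exact one_ne_zero, ?_, h0nu⟩
    intro g; rw [hχ₀app]; simp
  obtain ⟨K, hK⟩ : ∃ K : Subgroup G, K = H.normalCore := ⟨_, rfl⟩
  haveI hKn : K.Normal := by rw [hK]; infer_instance
  have hKH : K ≤ H := by rw [hK]; exact H.normalCore_le
  rw [← hK]
  constructor
  · -- a unique such character forces odd index
    intro hcard
    by_contra hnodd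
    rw [Nat.not_odd_iff_even] at hnodd
    -- an element of order two modulo `K`
    have h2dvd : 2 ∣ Nat.card (G ⧸ K) := hnodd.two_dvd
    haveI : Fact (Nat.Prime 2) := ⟨Nat.prime_two⟩
    obtain ⟨q, hq⟩ := exists_prime_orderOf_dvd_card' 2 h2dvd
    obtain ⟨t, rfl⟩ := QuotientGroup.mk_surjective q
    have htK : t ∉ K := by
      intro h
      have : ((t : G) : G ⧸ K) = 1 := (QuotientGroup.eq_one_iff t).mpr h
      rw [this, orderOf_one] at hq
      omega
    have ht2K : t * t ∈ K := by
      rw [← QuotientGroup.eq_one_iff, QuotientGroup.mk_mul, ← sq, ← hq]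
      exact pow_orderOf_eq_one _
    -- a conjugate outside `H`
    have hex : ∃ b : G, b * t * b⁻¹ ∉ H := by
      by_contra hall
      push Not at hall
      apply htK
      rw [hK]
      exact hall
    obtain ⟨b, hb⟩ := hex
    have hb2 : (b * t * b⁻¹) * (b * t * b⁻¹) ∈ H := by
      have h1 : (b * t * b⁻¹) * (b * t * b⁻¹) = b * (t * t) * b⁻¹ := by group
      rw [h1]
      exact hKH (hKn.conj_mem _ ht2K b)
    have hT := two_mul_card_le H (b * t * b⁻¹) hb hb2
    -- multiplicities and indicators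
    have hm : ∀ χ : Cfsg.IrrCharacter G, ∃ m : ℕ, Cfsg.classInner π (χ : G → ℂ) = m :=
      fun χ => classInner_char_irr_nat hπchar χ.2
    choose m hm using hm
    have he : ∀ χ : Cfsg.IrrCharacter G, ∃ e : ℤ, (e = 0 ∨ e = 1 ∨ e = -1) ∧
        (Nat.card G : ℂ)⁻¹ * ∑ g : G, (χ : G → ℂ) (g * g) = e ∧
        (e ≠ 0 → ∀ g : G, ((χ : G → ℂ) g).im = 0) := by
      intro χ
      obtain ⟨n, ρ, hirr, hρ⟩ := χ.2
      haveI := hirr
      obtain ⟨h1, h2⟩ := Cfsg.Agent.S0158.result ρ
      rw [hρ] at h1 h2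
      rcases h1 with h | h | h
      · exact ⟨0, Or.inl rfl, by rw [h]; simp, fun h0 => absurd rfl h0⟩
      · refine ⟨1, Or.inr (Or.inl rfl), by rw [h]; simp, fun _ g => ?_⟩
        by_contra hg
        have := h2.mpr ⟨g, hg⟩
        rw [h] at this
        exact one_ne_zero this
      · refine ⟨-1, Or.inr (Or.inr rfl), by rw [h]; simp, fun _ g => ?_⟩
        by_contra hg
        have := h2.mpr ⟨g, hg⟩
        rw [h] at this
        norm_num at this
    choose e he1 he2 he3 using he
    -- the indicator of `π`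
    have hexp := class_function_expansion π hπcf
    have hsum : ∑ g : G, π (g * g)
        = ∑ χ : Cfsg.IrrCharacter G, (m χ : ℂ) * ((Nat.card G : ℂ) * (e χ : ℂ)) := by
      have h1 : ∀ g : G, π (g * g)
          = ∑ χ : Cfsg.IrrCharacter G, (m χ : ℂ) * (χ : G → ℂ) (g * g) := by
        intro g
        conv_lhs => rw [hexp]
        rw [Finset.sum_apply]
        refine Finset.sum_congr rfl fun χ _ => ?_
        rw [Pi.smul_apply, smul_eq_mul, hm]
      rw [Finset.sum_congr rfl (fun g _ => h1 g), Finset.sum_comm]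
      refine Finset.sum_congr rfl fun χ _ => ?_
      rw [← Finset.mul_sum, ← he2 χ, ← mul_assoc (Nat.card G : ℂ), mul_inv_cancel₀ hGne, one_mul]
    have hsum2 := sum_indFun_sq H
    rw [← hπ, hsum] at hsum2
    -- an integer identity
    have hZ : (∑ χ : Cfsg.IrrCharacter G, (m χ : ℤ) * e χ) * (Nat.card H : ℤ)
        = ((Finset.univ.filter (fun g : G => g * g ∈ H)).card : ℤ) := by
      have hC : (((∑ χ : Cfsg.IrrCharacter G, (m χ : ℤ) * e χ) * (Nat.card H : ℤ) : ℤ) : ℂ)
          = (((Finset.univ.filter (fun g : G => g * g ∈ H)).card : ℤ) : ℂ) := by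
        push_cast
        have h3 : ∑ χ : Cfsg.IrrCharacter G, (m χ : ℂ) * ((Nat.card G : ℂ) * (e χ : ℂ))
            = (Nat.card G : ℂ) * ∑ χ : Cfsg.IrrCharacter G, (m χ : ℂ) * (e χ : ℂ) := by
          rw [Finset.mul_sum]
          refine Finset.sum_congr rfl fun χ _ => ?_
          ring
        rw [h3, ← Nat.card_eq_fintype_card] at hsum2
        have h4 := mul_left_cancel₀ hGne (hsum2.trans (by ring :
          (Nat.card H : ℂ)⁻¹ * ((Nat.card G : ℂ) *
            ((Finset.univ.filter (fun g : G => g * g ∈ H)).card : ℂ))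
          = (Nat.card G : ℂ) * ((Nat.card H : ℂ)⁻¹ *
            ((Finset.univ.filter (fun g : G => g * g ∈ H)).card : ℂ))))
        rw [h4]
        field_simp
      exact_mod_cast hC
    have hm0 : m χ₀ = 1 := by
      have := hm χ₀
      rw [h0inner] at this
      exact_mod_cast this.symm
    have he0 : e χ₀ = 1 := by
      have := he2 χ₀
      rw [h0nu] at this
      exact_mod_cast this.symm
    have hHpos : (0 : ℤ) < (Nat.card H : ℤ) := by exact_mod_cast Nat.card_pos
    have hge2 : (2 : ℤ) ≤ ∑ χ : Cfsg.IrrCharacter G, (m χ : ℤ) * e χ := by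
      have hT' : (2 : ℤ) * (Nat.card H : ℤ)
          ≤ ((Finset.univ.filter (fun g : G => g * g ∈ H)).card : ℤ) := by exact_mod_cast hT
      rw [← hZ] at hT'
      exact le_of_mul_le_mul_right hT' hHpos
    rw [← Finset.add_sum_erase Finset.univ _ (Finset.mem_univ χ₀), hm0, he0] at hge2
    have hpos : (0 : ℤ) < ∑ χ ∈ Finset.univ.erase χ₀, (m χ : ℤ) * e χ := by
      push_cast at hge2
      linarith
    obtain ⟨χ, hχmem, hχpos⟩ := Finset.exists_lt_of_sum_lt (s := Finset.univ.erase χ₀)
      (f := fun _ => (0 : ℤ)) (g := fun χ => (m χ : ℤ) * e χ) (by simpa using hpos)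
    have hχne : χ ≠ χ₀ := Finset.ne_of_mem_erase hχmem
    have hmχ : m χ ≠ 0 := by
      intro h
      rw [h] at hχpos
      simp at hχpos
    have heχ : e χ = 1 := by
      have hmpos : (0 : ℤ) ≤ (m χ : ℤ) := by positivity
      rcases he1 χ with h | h | h
      · rw [h] at hχpos; simp at hχpos
      · exact h
      · rw [h] at hχpos
        have : (m χ : ℤ) * -1 ≤ 0 := by linarith
        linarith
    -- two distinct elements of the set
    have hχmem' : Cfsg.classInner π (χ : G → ℂ) ≠ 0 ∧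
        (∀ g : G, (starRingEnd ℂ) ((χ : G → ℂ) g) = (χ : G → ℂ) g) ∧
        (Nat.card G : ℂ)⁻¹ * ∑ g : G, (χ : G → ℂ) (g * g) = 1 := by
      refine ⟨?_, ?_, ?_⟩
      · rw [hm]; exact_mod_cast hmχ
      · intro g
        exact Complex.conj_eq_iff_im.mpr (he3 χ (by rw [heχ]; norm_num) g)
      · rw [he2, heχ]; simp
    obtain ⟨hsub, -⟩ := Nat.card_eq_one_iff_unique.mp hcard
    have := hsub.elim ⟨χ, hχmem'⟩ ⟨χ₀, h0mem⟩
    exact hχne (congrArg Subtype.val this)
  · -- odd index: only the trivial character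
    intro hodd
    rw [Nat.card_eq_one_iff_unique]
    refine ⟨⟨?_⟩, ⟨⟨χ₀, h0mem⟩⟩⟩
    have key : ∀ χ : Cfsg.IrrCharacter G, Cfsg.classInner π (χ : G → ℂ) ≠ 0 →
        (∀ g : G, (starRingEnd ℂ) ((χ : G → ℂ) g) = (χ : G → ℂ) g) → χ = χ₀ := by
      intro χ hne hreal
      have hχchar := isCharacter_of_irr χ.2
      -- `K` lies in the kernel
      have hker : ∀ k ∈ K, (χ : G → ℂ) k = (χ : G → ℂ) 1 := by
        rcases avgScalar_eq K χ.2 with hc | hc
        · exfalso
          apply hne
          have havg : ∀ x : G, ∑ k ∈ subFinset K, (χ : G → ℂ) (x * k) = 0 := by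
            intro x
            have h1 := congrFun (avgN_irr K χ.2) x
            rw [hc] at h1
            simp only [avgN, Pi.smul_apply, smul_eq_mul, zero_mul] at h1
            have hKne : (Nat.card K : ℂ)⁻¹ ≠ 0 := inv_ne_zero (card_ne_zero_h8 K)
            exact (mul_eq_zero.mp h1).resolve_left hKne
          have hsumH : ∑ h : H, (χ : G → ℂ) h = 0 := by
            have h1 : ∀ k ∈ subFinset K, ∑ h : H, (χ : G → ℂ) ((h : G) * k)
                = ∑ h : H, (χ : G → ℂ) h := by
              intro k hk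
              have hkH : k ∈ H := hKH (mem_subFinset.mp hk)
              exact Fintype.sum_equiv (Equiv.mulRight (⟨k, hkH⟩ : H)) _ _ (fun h => rfl)
            have h2 : ∑ k ∈ subFinset K, ∑ h : H, (χ : G → ℂ) ((h : G) * k)
                = ((subFinset K).card : ℂ) * ∑ h : H, (χ : G → ℂ) h := by
              rw [Finset.sum_congr rfl h1, Finset.sum_const, nsmul_eq_mul]
            rw [Finset.sum_comm] at h2
            simp only [havg, Finset.sum_const_zero] at h2
            have hcard : ((subFinset K).card : ℂ) ≠ 0 := by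
              rw [card_subFinset]; exact card_ne_zero_h8 K
            exact (mul_eq_zero.mp h2.symm).resolve_left hcard
          rw [hfrob, classInner_def]
          simp only [one_mul]
          rw [← map_sum, hsumH, map_zero, mul_zero]
        · intro k hk
          have h1 : ∑ n ∈ subFinset K, (χ : G → ℂ) n
              = ∑ _n ∈ subFinset K, (χ : G → ℂ) 1 := by
            unfold avgScalar at hc
            have hne1 := irr_apply_one_ne_zero χ.2
            have hKne := card_ne_zero_h8 K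
            rw [Finset.sum_const, card_subFinset, nsmul_eq_mul]
            field_simp at hc
            rw [hc]
          -- real parts
          have h2 : ∑ n ∈ subFinset K, (((χ : G → ℂ) 1).re - ((χ : G → ℂ) n).re) = 0 := by
            have := congrArg Complex.re h1
            rw [Complex.re_sum, Complex.re_sum] at this
            rw [Finset.sum_sub_distrib, this, sub_self]
          have h3 := (Finset.sum_eq_zero_iff_of_nonneg (fun n _ => by
            linarith [isCharacter_re_le hχchar n])).mp h2 k (mem_subFinset.mpr hk)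
          exact isCharacter_eq_of_re_eq hχchar k (by linarith)
      obtain ⟨ψ, hψ, hψχ⟩ := exists_deflation K χ.2 hker
      have hoddQ : Odd (Nat.card (G ⧸ K)) := hodd
      have hψreal : ∀ q : G ⧸ K, (ψ q).im = 0 := by
        intro q
        obtain ⟨g, rfl⟩ := QuotientGroup.mk_surjective q
        rw [hψχ]
        exact Complex.conj_eq_iff_im.mp (hreal g)
      have hψ1 := Cfsg.Agent.S0161.result hoddQ ⟨ψ, hψ⟩ hψreal
      apply Subtype.ext
      funext g
      rw [hχ₀app, ← hψχ]
      exact congrFun hψ1 _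
    rintro ⟨χ, h1, h2, -⟩ ⟨χ', h1', h2', -⟩
    apply Subtype.ext
    show χ = χ'
    exact (key χ h1 h2).trans (key χ' h1' h2').symm

end Cfsg.Agent.S4784

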