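import Mathlib
import Cfsg.Statements.S4796
import Cfsg.Agent.Lib.Helper8.SylowSmall
import Cfsg.Agent.Lib.Lead.Frobenius3
import Cfsg.Agent.S0178

set_option autoImplicit false
open Cfsg
open scoped ComplexConjugate
open Cfsg.Agent.Lib.Helper4 Cfsg.Agent.Lib.Helper1 Cfsg.Agent.Lib.Helper8 Cfsg.Agent.Lib.Lead

namespace Cfsg.Agent.S4796

/-- The degree of an irreducible character is at most the index of any abelian subgroup. -/
theorem charDegree_le_index_abelian {G : Type*} [Group G] [Finite G] {χ : G → ℂ}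
    (hχ : Cfsg.IsIrrCharacter G χ) (A : Subgroup G) (hA : ∀ a ∈ A, ∀ b ∈ A, a * b = b * a) :
    Cfsg.charDegree χ ≤ A.index := by
  obtain ⟨n, ρ, hirr, rfl⟩ := hχ
  haveI := hirr
  have h1 := Cfsg.Agent.S0178.result ρ A hA
  have h2 : Cfsg.charDegree ρ.character = n := by
    unfold Cfsg.charDegree
    rw [Representation.char_one]
    simp
  rw [h2]
  simpa using h1

theorem result {G : Type*} [Group G] [Finite G] (χ : Cfsg.IrrCharacter G) (hfaith : ∀ g : G, (χ : G → ℂ) g = (χ : G → ℂ) 1 → g = 1) (p : ℕ) (hp : p.Prime) (hcod : Nat.card G = p * Cfsg.charDegree (χ : G → ℂ)) : (IsCyclic G ∧ Nat.card G = p) ∨ ∃ H : Subgroup G, Cfsg.IsFrobeniusComplement H ∧ Nat.card ↥(Cfsg.frobeniusKernel H) = p := by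
  classical
  haveI : Fact p.Prime := ⟨hp⟩
  obtain ⟨d, hd⟩ : ∃ d, d = Cfsg.charDegree (χ : G → ℂ) := ⟨_, rfl⟩
  rw [← hd] at hcod
  have hdpos : 0 < d := by rw [hd]; exact (irr_apply_one_eq_charDegree χ.2).2
  have hsq : d * d ≤ p * d := by
    rw [← hcod, hd]; exact charDegree_sq_le_card χ.2
  have hdp : d ≤ p := Nat.le_of_mul_le_mul_right hsq hdpos
  -- every abelian subgroup has order at most `p`
  have habel : ∀ A : Subgroup G, (∀ a ∈ A, ∀ b ∈ A, a * b = b * a) → Nat.card A ≤ p := by
    intro A hA
    have h1 := charDegree_le_index_abelian χ.2 A hA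
    rw [← hd] at h1
    have h2 := A.card_mul_index
    rw [hcod] at h2
    have h3 : Nat.card A * d ≤ p * d := by
      rw [← h2]; exact Nat.mul_le_mul_left _ h1
    exact Nat.le_of_mul_le_mul_right h3 hdpos
  by_cases hd1 : d = 1
  · left
    rw [hd1, mul_one] at hcod
    exact ⟨isCyclic_of_prime_card hcod, hcod⟩
  right
  have hd2 : 1 < d := by omega
  have hdlt : d < p := by
    rcases lt_or_eq_of_le hdp with h | h
    · exact h
    · exfalso
      have hsq2 : Nat.card G = p ^ 2 := by rw [hcod, h, sq]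
      have hcomm : ∀ a b : G, a * b = b * a :=
        (IsPGroup.isMulCommutative_of_card_eq_prime_sq hsq2).is_comm.comm
      have h1 := habel ⊤ (fun a _ b _ => hcomm a b)
      rw [Subgroup.card_top, hsq2] at h1
      have : 1 < p := hp.one_lt
      nlinarith
  obtain ⟨P, hPcard, hPn, hPidx⟩ := exists_normal_sylow_of_card_eq_prime_mul p d hdpos hdlt hcod
  haveI := hPn
  have hcop : Nat.Coprime (Nat.card (P : Subgroup G)) (P : Subgroup G).index := by
    rw [hPcard, hPidx]
    exact (Nat.Prime.coprime_iff_not_dvd hp).mpr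
      (fun h => absurd (Nat.le_of_dvd hdpos h) (not_le.mpr hdlt))
  obtain ⟨H, hH⟩ := Subgroup.exists_right_complement'_of_coprime hcop
  have hHcard : Nat.card H = d := by
    have h1 := hH.card_mul_card
    rw [hPcard, hcod] at h1
    exact Nat.eq_of_mul_eq_mul_left hp.pos h1
  have hPne : (P : Subgroup G) ≠ ⊥ := by
    intro h
    rw [h, Subgroup.card_bot] at hPcard
    exact hp.one_lt.ne' hPcard.symm
  have hHne : H ≠ ⊥ := by
    intro h
    rw [h, Subgroup.card_bot] at hHcard
    omega
  have hdisj : (P : Subgroup G) ⊓ H = ⊥ := disjoint_iff.mp hH.disjoint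
  have hfrob : Cfsg.IsFrobeniusComplement H := by
    rw [isFrobeniusComplement_iff_fpf (P : Subgroup G) H hH hPne hHne]
    intro h hhH hh1
    rw [eq_bot_iff]
    intro u hu
    obtain ⟨huP, huC⟩ := Subgroup.mem_inf.mp hu
    rw [Subgroup.mem_bot]
    by_contra hu1
    rw [mem_centralizer_singleton_iff] at huC
    -- the abelian subgroup generated by `u` and `h`
    have hA : ∀ a ∈ Subgroup.closure ({u, h} : Set G), ∀ b ∈ Subgroup.closure ({u, h} : Set G),
        a * b = b * a := by
      have hcomm : ∀ x ∈ ({u, h} : Set G), ∀ y ∈ ({u, h} : Set G), x * y = y * x := by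
        intro x hx y hy
        rcases hx with rfl | rfl <;> rcases hy with rfl | rfl
        · rfl
        · exact huC.symm
        · exact huC
        · rfl
      intro a ha b hb
      have := Subgroup.closure_induction₂ (p := fun x y _ _ => x * y = y * x)
        (k := ({u, h} : Set G)) ?_ ?_ ?_ ?_ ?_ ?_ ?_ ha hb
      · exact this
      · intro x y hx hy; exact hcomm x hx y hy
      · intro x _; simp
      · intro x _; simp
      · intro x y z _ _ _ h1 h2
        rw [mul_assoc, h2, ← mul_assoc, h1, mul_assoc]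
      · intro x y z _ _ _ h1 h2
        rw [← mul_assoc, h1, mul_assoc, h2, ← mul_assoc]
      · intro x y _ _ h1
        have : x⁻¹ * y = x⁻¹ * (y * x) * x⁻¹ := by group
        rw [this, ← h1]; group
      · intro x y _ _ h1
        have : y⁻¹ * x = y⁻¹ * (x * y) * y⁻¹ := by group
        rw [this, h1]; group
    have hAcard := habel _ hA
    have huA : u ∈ Subgroup.closure ({u, h} : Set G) :=
      Subgroup.subset_closure (Set.mem_insert _ _)
    have hhA : h ∈ Subgroup.closure ({u, h} : Set G) :=
      Subgroup.subset_closure (Set.mem_insert_of_mem _ rfl)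
    have hzle : Subgroup.zpowers u ≤ Subgroup.closure ({u, h} : Set G) :=
      Subgroup.zpowers_le_of_mem huA
    have hzP : Subgroup.zpowers u ≤ (P : Subgroup G) := Subgroup.zpowers_le_of_mem huP
    have hzcard : Nat.card (Subgroup.zpowers u) = p := by
      have h1 : Nat.card (Subgroup.zpowers u) ∣ p := by
        rw [← hPcard]; exact Subgroup.card_dvd_of_le hzP
      rcases (Nat.dvd_prime hp).mp h1 with h2 | h2
      · exfalso
        apply hu1
        have := Subgroup.card_eq_one.mp h2
        rw [Subgroup.zpowers_eq_bot] at this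
        exact this
      · exact h2
    have hzeq : Subgroup.zpowers u = Subgroup.closure ({u, h} : Set G) := by
      apply Subgroup.eq_of_le_of_card_ge hzle
      rw [hzcard]; exact hAcard
    have hhP : h ∈ (P : Subgroup G) := hzP (hzeq ▸ hhA)
    have : h ∈ (P : Subgroup G) ⊓ H := ⟨hhP, hhH⟩
    rw [hdisj, Subgroup.mem_bot] at this
    exact hh1 this
  refine ⟨H, hfrob, ?_⟩
  rw [card_frobeniusKernel hfrob]
  have h1 := H.card_mul_index
  rw [hHcard, hcod, mul_comm] at h1
  exact Nat.eq_of_mul_eq_mul_right hdpos h1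

end Cfsg.Agent.S4796
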