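import Mathlib
import Cfsg.Statements.S4797
import Cfsg.Agent.Lib.Helper8.Deflation
import Cfsg.Agent.Lib.Helper8.PerfectSmall
import Cfsg.Agent.Lib.Helper8.CharKernel
import Cfsg.Agent.Lib.Helper8.ClassAlgebra2
import Cfsg.Agent.Lib.Helper8.LinearCount

set_option autoImplicit false
open Cfsg
open scoped ComplexConjugate
open Cfsg.Agent.Lib.Helper4 Cfsg.Agent.Lib.Helper1 Cfsg.Agent.Lib.Helper8

namespace Cfsg.Agent.S4797

section

variable {G : Type*} [Group G] [Finite G]

/-- A non-perfect finite group has a homomorphism to `ℂˣ` whose kernel has prime index. -/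
theorem exists_hom_prime_index (h : commutator G ≠ ⊤) :
    ∃ (φ : G →* ℂˣ) (p : ℕ), p.Prime ∧ φ.ker.index = p := by
  have hcard : Nat.card (G →* ℂˣ) = (commutator G).index := by
    rw [Nat.card_congr (Abelianization.lift (G := G) (A := ℂˣ))]
    have : NeZero (Monoid.exponent (Abelianization G)) := ⟨Monoid.exponent_ne_zero_of_finite⟩
    rw [CommGroup.card_monoidHom_of_hasEnoughRootsOfUnity (Abelianization G) ℂ]
    exact (Subgroup.index_eq_card (commutator G)).symm
  have hne1 : (commutator G).index ≠ 1 := fun h1 => h (Subgroup.index_eq_one.mp h1)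
  obtain ⟨p, hp, hpdvd⟩ := Nat.exists_prime_and_dvd hne1
  haveI : Fact p.Prime := ⟨hp⟩
  haveI : Finite (G →* ℂˣ) := by
    apply Nat.finite_of_card_ne_zero
    rw [hcard]
    exact Subgroup.FiniteIndex.index_ne_zero
  rw [← hcard] at hpdvd
  obtain ⟨φ, hφ⟩ := exists_prime_orderOf_dvd_card' p hpdvd
  refine ⟨φ, p, hp, ?_⟩
  rw [Subgroup.index_ker]
  have hle : φ.range ≤ rootsOfUnity p ℂ := by
    rintro _ ⟨g, rfl⟩
    rw [mem_rootsOfUnity]
    have h1 : φ ^ p = 1 := by rw [← hφ]; exact pow_orderOf_eq_one φ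
    have h2 := congrArg (fun ψ : G →* ℂˣ => ψ g) h1
    simpa using h2
  have hdvd : Nat.card φ.range ∣ p := by
    have hdv := Subgroup.card_dvd_of_le hle
    haveI : NeZero p := ⟨hp.ne_zero⟩
    rw [Complex.card_rootsOfUnity] at hdv
    exact hdv
  rcases (Nat.dvd_prime hp).mp hdvd with h1 | h1
  · exfalso
    have hφ1 : φ = 1 := by
      ext g
      have hbot : φ.range = ⊥ := Subgroup.card_eq_one.mp h1
      have : φ g ∈ φ.range := ⟨g, rfl⟩
      rw [hbot, Subgroup.mem_bot] at this
      rw [this]; rfl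
    rw [hφ1, orderOf_one] at hφ
    exact hp.one_lt.ne' hφ.symm
  · exact h1

end

theorem result {G : Type*} [Group G] [Finite G] [Nontrivial G] : commutator G = ⊤ ↔ ∀ χ : Cfsg.IrrCharacter G, ¬ ((Nat.card G / (Nat.card {g : G // (χ : G → ℂ) g = (χ : G → ℂ) 1} * Cfsg.charDegree (χ : G → ℂ)))).Prime := by
  classical
  constructor
  · intro hperf χ hprime
    obtain ⟨p, hpdef⟩ : ∃ p, p = Nat.card G / (Nat.card {g : G // (χ : G → ℂ) g = (χ : G → ℂ) 1}
        * Cfsg.charDegree (χ : G → ℂ)) := ⟨_, rfl⟩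
    rw [← hpdef] at hprime
    obtain ⟨K, hKn, hK⟩ := exists_normal_ker (isCharacter_of_irr χ.2)
    haveI := hKn
    have hKcard : Nat.card {g : G // (χ : G → ℂ) g = (χ : G → ℂ) 1} = Nat.card K := by
      apply Nat.card_congr
      exact (Equiv.subtypeEquivRight (fun g => hK g)).symm
    obtain ⟨d, hd⟩ : ∃ d, d = Cfsg.charDegree (χ : G → ℂ) := ⟨_, rfl⟩
    have hddvd : d ∣ K.index := by
      rw [hd]
      exact charDegree_dvd_index K χ.2 (fun g hg => (hK g).mp hg)
    have hdpos : 0 < d := by rw [hd]; exact (irr_apply_one_eq_charDegree χ.2).2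
    have hGK : Nat.card G = Nat.card K * K.index := (Subgroup.card_mul_index K).symm
    rw [hKcard, ← hd, hGK, Nat.mul_div_mul_left _ _ Nat.card_pos] at hpdef
    have hidx : K.index = p * d := by
      rw [hpdef]; exact (Nat.div_mul_cancel hddvd).symm
    -- the quotient
    have hQcard : Nat.card (G ⧸ K) = p * d := by
      rw [← hidx]; rfl
    have hQperf : commutator (G ⧸ K) = ⊤ := by
      rw [commutator_def, ← Subgroup.map_top_of_surjective (QuotientGroup.mk' K)
        (QuotientGroup.mk'_surjective K), ← Subgroup.map_commutator, ← commutator_def, hperf]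
    -- `d * d ≤ p * d`
    obtain ⟨ψ, hψ, hψχ⟩ := exists_deflation K χ.2 (fun g hg => (hK g).mp hg)
    have hψd : Cfsg.charDegree ψ = d := by
      unfold Cfsg.charDegree at hd ⊢
      have := hψχ 1
      rw [QuotientGroup.mk_one] at this
      rw [this, hd]
    have hsq : d * d ≤ p * d := by
      haveI : Fintype (G ⧸ K) := Fintype.ofFinite _
      haveI : Fintype (Cfsg.IrrCharacter (G ⧸ K)) := Fintype.ofFinite _
      have h := sum_irr_one_mul (G := G ⧸ K) 1
      rw [if_pos rfl] at h
      have h1 : ∀ ψ' : Cfsg.IrrCharacter (G ⧸ K), (ψ' : G ⧸ K → ℂ) 1 * (ψ' : G ⧸ K → ℂ) 1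
          = ((Cfsg.charDegree (ψ' : G ⧸ K → ℂ) * Cfsg.charDegree (ψ' : G ⧸ K → ℂ) : ℕ) : ℂ) := by
        intro ψ'
        rw [(irr_apply_one_eq_charDegree ψ'.2).1]
        push_cast
        ring
      simp only [h1] at h
      have h2 : ∑ ψ' : Cfsg.IrrCharacter (G ⧸ K),
          Cfsg.charDegree (ψ' : G ⧸ K → ℂ) * Cfsg.charDegree (ψ' : G ⧸ K → ℂ)
            = Fintype.card (G ⧸ K) := by
        exact_mod_cast h
      rw [← Nat.card_eq_fintype_card, hQcard] at h2
      rw [← h2]
      have h3 := Finset.single_le_sum (f := fun ψ' : Cfsg.IrrCharacter (G ⧸ K) =>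
        Cfsg.charDegree (ψ' : G ⧸ K → ℂ) * Cfsg.charDegree (ψ' : G ⧸ K → ℂ))
        (fun _ _ => Nat.zero_le _) (Finset.mem_univ (⟨ψ, hψ⟩ : Cfsg.IrrCharacter (G ⧸ K)))
      simp only [hψd] at h3
      exact h3
    have hdp : d ≤ p := Nat.le_of_mul_le_mul_right hsq hdpos
    rcases lt_or_eq_of_le hdp with hlt | heq
    · exact commutator_ne_top_of_card_eq_prime_mul p d hprime hdpos hlt hQcard hQperf
    · -- order `p ^ 2`: commutative
      haveI : Fact p.Prime := ⟨hprime⟩
      have hsq2 : Nat.card (G ⧸ K) = p ^ 2 := by rw [hQcard, heq, sq]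
      have hcomm : ∀ a b : G ⧸ K, a * b = b * a :=
        (IsPGroup.isMulCommutative_of_card_eq_prime_sq hsq2).is_comm.comm
      have hbot : commutator (G ⧸ K) = ⊥ := by
        rw [commutator_eq_bot_iff_center_eq_top, eq_top_iff]
        intro x _
        rw [Subgroup.mem_center_iff]
        intro y
        exact hcomm y x
      rw [hbot] at hQperf
      have h1 : Nat.card (⊥ : Subgroup (G ⧸ K)) = Nat.card (⊤ : Subgroup (G ⧸ K)) := by
        rw [hQperf]
      rw [Subgroup.card_bot, Subgroup.card_top, hsq2] at h1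
      have : 1 < p := hprime.one_lt
      nlinarith
  · intro hall
    by_contra hnp
    obtain ⟨φ, p, hp, hidx⟩ := exists_hom_prime_index hnp
    apply hall ⟨fun g => (φ g : ℂ), isIrrCharacter_of_hom φ⟩
    have hKcard : Nat.card {g : G // (fun g => (φ g : ℂ)) g = (fun g => (φ g : ℂ)) 1}
        = Nat.card φ.ker := by
      apply Nat.card_congr
      apply Equiv.subtypeEquivRight
      intro g
      rw [MonoidHom.mem_ker]
      simp
    have hdeg : Cfsg.charDegree (fun g => (φ g : ℂ)) = 1 := by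
      unfold Cfsg.charDegree
      simp
    show (Nat.card G / (Nat.card {g : G // (fun g => (φ g : ℂ)) g = (fun g => (φ g : ℂ)) 1}
      * Cfsg.charDegree (fun g => (φ g : ℂ)))).Prime
    rw [hKcard, hdeg, mul_one, ← Subgroup.card_mul_index φ.ker, hidx,
      Nat.mul_div_cancel_left _ Nat.card_pos]
    exact hp

end Cfsg.Agent.S4797
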