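import Mathlib
import Cfsg.Statements.S4798
import Cfsg.Agent.Lib.Helper8.CD5

set_option autoImplicit false
open Cfsg

namespace Cfsg.Agent.S4798

open scoped ComplexConjugate
open Cfsg.Agent.Lib.Helper1 Cfsg.Agent.Lib.Helper4 Cfsg.Agent.Lib.Helper8

/-- Let p be a prime and χ a faithful irreducible complex character of the finite group G (χ(g) = χ(1) only for g = 1), so that its codegree is #G / χ(1). Then #G / χ(1) is a power of p if and only if χ is induced from a character of a Sylow p-subgroup of G. -/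
theorem result {G : Type*} [Group G] [Fintype G] (p : ℕ) [Fact p.Prime] (χ : Cfsg.IrrCharacter G) (hfaith : ∀ g : G, (χ : G → ℂ) g = (χ : G → ℂ) 1 → g = 1) : (∃ k : ℕ, Nat.card G = p ^ k * Cfsg.charDegree (χ : G → ℂ)) ↔ ∃ (P : Sylow p G) (θ : ↥(P : Subgroup G) → ℂ), Cfsg.IsCharacter ↥(P : Subgroup G) θ ∧ (χ : G → ℂ) = Cfsg.indFun (P : Subgroup G) θ := by
  constructor
  · rintro ⟨k, hk⟩
    exact exists_sylow_induced χ hk
  · rintro ⟨P, θ, hθ, hχ⟩
    exact card_eq_pow_mul_of_sylow_induced χ P θ hθ hχ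

end Cfsg.Agent.S4798
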