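import Mathlib
import Cfsg.Statements.S4801
import Cfsg.Agent.Lib.Helper8.CD2

set_option autoImplicit false
open Cfsg

namespace Cfsg.Agent.S4801

open scoped ComplexConjugate
open Cfsg.Agent.Lib.Helper1 Cfsg.Agent.Lib.Helper4 Cfsg.Agent.Lib.Helper8

/-- The codegree of an irreducible complex character χ of a finite group G is [G : ker χ] / χ(1), where ker χ is the set of elements at which χ takes the value χ(1). Let S be a finite simple group and G a finite group such that every codegree of an irreducible character of S is a codegree of an irreducible character of G. Then the order of S divides the order of G. -/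
theorem result {S : Type*} [Group S] [Finite S] (hS : IsSimpleGroup S) {G : Type*} [Group G] [Finite G] (hsub : ∀ χ : Cfsg.IrrCharacter S, ∃ ψ : Cfsg.IrrCharacter G, (Nat.card S / (Nat.card {g : S // (χ : S → ℂ) g = (χ : S → ℂ) 1} * Cfsg.charDegree (χ : S → ℂ))) = (Nat.card G / (Nat.card {g : G // (ψ : G → ℂ) g = (ψ : G → ℂ) 1} * Cfsg.charDegree (ψ : G → ℂ)))) : Nat.card S ∣ Nat.card G := by
  classical
  rw [Nat.dvd_iff_prime_pow_dvd_dvd]
  intro p k hp hpk
  rcases Nat.eq_zero_or_pos k with hk | hk
  · rw [hk, pow_zero]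
    exact one_dvd _
  have hpS : p ∣ Nat.card S := dvd_trans (dvd_pow_self p hk.ne') hpk
  obtain ⟨χ, hχ1, hχp⟩ := exists_irr_ne_triv_not_dvd hp hpS
  obtain ⟨ψ, hψ⟩ := hsub χ
  have hker := card_ker_eq_one_of_simple hS χ hχ1
  rw [hker, one_mul] at hψ
  have hdvd := charDegree_dvd_card χ.2
  have h2 : p ^ k ∣ Nat.card S / charDegree (χ : S → ℂ) := by
    obtain ⟨e, he⟩ := hdvd
    have hd0 := (irr_apply_one_eq_charDegree χ.2).2
    rw [he, Nat.mul_div_cancel_left _ hd0]
    rw [he] at hpk
    have hcop : Nat.Coprime (p ^ k) (charDegree (χ : S → ℂ)) :=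
      Nat.Coprime.pow_left k ((Nat.Prime.coprime_iff_not_dvd hp).2 hχp)
    exact hcop.dvd_of_dvd_mul_left hpk
  rw [hψ] at h2
  exact dvd_trans h2 (codegree_dvd_card ψ)

end Cfsg.Agent.S4801
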