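import Mathlib
import Cfsg.Statements.S4802
import Cfsg.Agent.Lib.Helper8.ClassAlgebra3
import Cfsg.Agent.Lib.Helper4.CharBound

set_option autoImplicit false

open Cfsg

namespace Cfsg.Agent.S4802

open Cfsg.Agent.Lib.Helper8 Cfsg.Agent.Lib.Helper1 Cfsg.Agent.Lib.Helper4
open scoped ComplexConjugate

universe u

/-- If `χ` is irreducible with `N ≰ ker χ` and `χ (g * n) = χ g` for all `n ∈ N`, then `χ g = 0`. -/
theorem irr_eq_zero_of_coset_const {G : Type u} [Group G] [Fintype G] (N : Subgroup G) [N.Normal]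
    {χ : G → ℂ} (hχ : Cfsg.IsIrrCharacter G χ) (hker : ∃ x ∈ N, χ x ≠ χ 1) (g : G)
    (hconst : ∀ n ∈ N, χ (g * n) = χ g) : χ g = 0 := by
  classical
  have hχ1 : χ 1 ≠ 0 := irr_apply_one_ne_zero hχ
  have hchar : Cfsg.IsCharacter G χ := isCharacter_of_irr hχ
  let f : G → ℂ := fun a => if a ∈ N then 1 else 0
  have hf : Cfsg.IsClassFunction G f := by
    intro a h
    show (if h * a * h⁻¹ ∈ N then (1 : ℂ) else 0) = if a ∈ N then 1 else 0
    have : h * a * h⁻¹ ∈ N ↔ a ∈ N := by
      constructor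
      · intro h1
        have := (inferInstance : N.Normal).conj_mem _ h1 h⁻¹
        simpa [mul_assoc] using this
      · intro h1
        exact (inferInstance : N.Normal).conj_mem _ h1 h
    simp only [this]
  have h1 := sum_classFunction_mul_irr hχ f hf g
  have h2 : ∑ a, f a * χ (g * a) = (∑ a, f a) * χ g := by
    rw [Finset.sum_mul]
    refine Finset.sum_congr rfl fun a _ => ?_
    by_cases ha : a ∈ N
    · rw [hconst a ha]
    · simp [f, ha]
  rw [h2] at h1
  -- `(∑ f a (χ 1 - χ a)) * χ g = 0`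
  have h3 : (∑ a, f a * (χ 1 - χ a)) * χ g = 0 := by
    have : (∑ a, f a * (χ 1 - χ a)) = (∑ a, f a) * χ 1 - ∑ a, f a * χ a := by
      rw [Finset.sum_mul, ← Finset.sum_sub_distrib]
      refine Finset.sum_congr rfl fun a _ => ?_
      ring
    rw [this, sub_mul]
    have h4 : (∑ a, f a) * χ 1 * χ g = (∑ a, f a * χ a) * χ g := by
      calc (∑ a, f a) * χ 1 * χ g = ((∑ a, f a) * χ g) * χ 1 := by ring
        _ = ((∑ a, f a * χ a) / χ 1 * χ g) * χ 1 := by rw [h1]
        _ = (∑ a, f a * χ a) * χ g := by field_simp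
    rw [h4, sub_self]
  rcases mul_eq_zero.mp h3 with h5 | h5
  · exfalso
    obtain ⟨x, hxN, hx⟩ := hker
    have hre : ∀ a : G, 0 ≤ (f a * (χ 1 - χ a)).re := by
      intro a
      by_cases ha : a ∈ N
      · have : f a = 1 := by simp [f, ha]
        rw [this, one_mul, Complex.sub_re]
        linarith [isCharacter_re_le hchar a]
      · have : f a = 0 := by simp [f, ha]
        rw [this, zero_mul]; simp
    have hpos : 0 < (f x * (χ 1 - χ x)).re := by
      have : f x = 1 := by simp [f, hxN]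
      rw [this, one_mul, Complex.sub_re]
      have h6 := isCharacter_re_le hchar x
      have h7 : (χ x).re ≠ (χ 1).re := fun h => hx (isCharacter_eq_of_re_eq hchar x h)
      have : (χ x).re < (χ 1).re := lt_of_le_of_ne h6 h7
      linarith
    have h8 : 0 < (∑ a, f a * (χ 1 - χ a)).re := by
      rw [Complex.re_sum]
      exact Finset.sum_pos' (fun a _ => hre a) ⟨x, Finset.mem_univ _, hpos⟩
    rw [h5] at h8
    simp at h8
  · exact h5

theorem result {G : Type*} [Group G] [Finite G] (N M : Subgroup G) [N.Normal] [M.Normal] (hNM : N < M) (g : G) (hgM : g ∈ M) (hgN : g ∉ N) : {h : G | IsConj g h} = (M : Set G) \ (N : Set G) ↔ ((∀ χ : Cfsg.IrrCharacter G, (∀ x ∈ N, (χ : G → ℂ) x = (χ : G → ℂ) 1) → ∀ x ∈ M, x ∉ N → ∀ y ∈ M, y ∉ N → (χ : G → ℂ) x = (χ : G → ℂ) y) ∧ (∀ χ : Cfsg.IrrCharacter G, (∃ x ∈ N, (χ : G → ℂ) x ≠ (χ : G → ℂ) 1) → (χ : G → ℂ) g = 0)) := by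
  classical
  have : Fintype G := Fintype.ofFinite G
  have : Fintype (Cfsg.IrrCharacter G) := Fintype.ofFinite _
  have hconjval : ∀ (χ : Cfsg.IrrCharacter G) (u v : G), IsConj u v →
      (χ : G → ℂ) v = (χ : G → ℂ) u := by
    intro χ u v huv
    obtain ⟨c, hc⟩ := isConj_iff.mp huv
    rw [← hc]
    exact isClassFunction_irr χ.2 u c
  constructor
  · intro hclass
    have hmem : ∀ x : G, x ∈ M → x ∉ N → IsConj g x := by
      intro x hxM hxN
      have : x ∈ (M : Set G) \ (N : Set G) := ⟨hxM, hxN⟩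
      rw [← hclass] at this
      exact this
    refine ⟨?_, ?_⟩
    · intro χ _ x hxM hxN y hyM hyN
      rw [hconjval χ g x (hmem x hxM hxN), hconjval χ g y (hmem y hyM hyN)]
    · intro χ hker
      apply irr_eq_zero_of_coset_const N χ.2 hker g
      intro n hn
      apply hconjval χ g (g * n)
      apply hmem
      · exact M.mul_mem hgM (hNM.le hn)
      · intro h
        apply hgN
        have := N.mul_mem h (N.inv_mem hn)
        simpa using this
  · rintro ⟨h1, h2⟩
    ext h
    simp only [Set.mem_ofPred_eq, Set.mem_sdiff, SetLike.mem_coe]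
    constructor
    · intro hc
      obtain ⟨c, hc⟩ := isConj_iff.mp hc
      rw [← hc]
      refine ⟨(inferInstance : M.Normal).conj_mem _ hgM c, ?_⟩
      intro hn
      apply hgN
      have := (inferInstance : N.Normal).conj_mem _ hn c⁻¹
      simpa [mul_assoc] using this
    · rintro ⟨hhM, hhN⟩
      -- column orthogonality
      have hco := column_orthogonality (G := G) g h
      have hsum : ∑ χ : Cfsg.IrrCharacter G, (χ : G → ℂ) h * conj ((χ : G → ℂ) g)
          = (Nat.card (Subgroup.centralizer ({g} : Set G)) : ℂ) := by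
        rw [← sum_irr_mul_conj_self g]
        refine Finset.sum_congr rfl fun χ _ => ?_
        by_cases hk : ∀ x ∈ N, (χ : G → ℂ) x = (χ : G → ℂ) 1
        · rw [h1 χ hk h hhM hhN g hgM hgN]
        · push Not at hk
          rw [h2 χ hk]; simp
      rw [hsum] at hco
      have hC0 : (Nat.card (Subgroup.centralizer ({g} : Set G)) : ℂ) ≠ 0 :=
        Nat.cast_ne_zero.2 Nat.card_pos.ne'
      by_contra hcon
      unfold classIndicator at hco
      rw [if_neg hcon, mul_zero] at hco
      exact hC0 hco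

end Cfsg.Agent.S4802
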