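import Cfsg.Statements.S4812
import Cfsg.Agent.Lib.Helper5.PSL2Deg2

set_option autoImplicit false
open Cfsg

namespace Cfsg.Agent.S4812


open Cfsg.Agent.Lib.Helper5.PSL2Deg



/-- Let F be a finite field of characteristic 2 with q ≥ 4 elements and let S be isomorphic to PSL(2,F) or to SL(2,F). Then the vertices of the character degree graph of S are the primes dividing q(q²−1), and two distinct primes are adjacent exactly when both divide q + 1 or both divide q − 1; so the graph has the three connected components {2}, the primes dividing q + 1 and the primes dividing q − 1, each complete. -/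
theorem result (F : Type*) [Field F] [Fintype F] [CharP F 2] (q : ℕ) (hq : Fintype.card F = q) (h4 : 4 ≤ q) {S : Type*} [Group S] [Finite S] (hS : Nonempty (S ≃* Matrix.ProjectiveSpecialLinearGroup (Fin 2) F) ∨ Nonempty (S ≃* Matrix.SpecialLinearGroup (Fin 2) F)) : Cfsg.degreePrimes S = {r : ℕ | r.Prime ∧ r ∣ q * (q ^ 2 - 1)} ∧ ∀ r s : ℕ, (Cfsg.degreeGraph S).Adj r s ↔ (r ≠ s ∧ r.Prime ∧ s.Prime ∧ ((r ∣ q + 1 ∧ s ∣ q + 1) ∨ (r ∣ q - 1 ∧ s ∣ q - 1))) := by
  classical
  subst hq
  have : Fact (Nat.Prime 2) := ⟨Nat.prime_two⟩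
  obtain ⟨k, -, hk⟩ := FiniteField.card F 2
  have heven : Even (Fintype.card F) := by
    rw [hk]
    exact (Nat.even_pow' (PNat.ne_zero k)).2 even_two
  have h4a : ¬ (Fintype.card F - 1) ∣ 4 := by
    intro h
    have hle := Nat.le_of_dvd (by norm_num) h
    obtain ⟨j, hj⟩ := heven
    have h5 : Fintype.card F = 4 := by omega
    rw [h5] at h
    norm_num at h
  have h4' : ¬ (Fintype.card F + 1) ∣ 4 := by
    intro h
    have := Nat.le_of_dvd (by norm_num) h
    omega
  obtain ⟨hsub, h1, h2, h3⟩ := degree_data hS h4a h4'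
  refine ⟨primes_eq _ (by omega) _ hsub h1 h2 h3, ?_⟩
  intro r s
  exact adj_iff_even _ k hk (by omega) _ hsub h2 h3 r s


end Cfsg.Agent.S4812
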