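import Mathlib
import Cfsg.Statements.S4813
import Cfsg.Agent.Lib.Helper8.PD4
-- import your own Cfsg.Agent.* helpers here

set_option autoImplicit false
open Cfsg

namespace Cfsg.Agent.S4813

/-- If every irreducible complex character of the finite group G of degree greater than one has prime degree, then G has at most three distinct irreducible character degrees. -/
theorem result {G : Type*} [Group G] [Finite G] (hprime : ∀ d ∈ Cfsg.charDegrees G, d = 1 ∨ d.Prime) : Nat.card ↥(Cfsg.charDegrees G) ≤ 3 := by
  apply Cfsg.Agent.Lib.Helper8.PD.PD.card_degrees_le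
  intro χ hχ d hd
  obtain ⟨hc, -⟩ := Cfsg.Agent.Lib.Helper8.irr_apply_one_eq_charDegree hχ
  have hdc : Cfsg.charDegree χ = d := by
    rw [hd] at hc
    exact_mod_cast hc.symm
  exact hprime d ⟨⟨χ, hχ⟩, hdc⟩

end Cfsg.Agent.S4813
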