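import Mathlib
import Cfsg.Statements.S4814
import Cfsg.Agent.Lib.Helper8.ClassAlgebra2
import Cfsg.Agent.Lib.Helper4.CharBound
import Cfsg.Agent.Lib.Helper1.LinearChar

set_option autoImplicit false

open Cfsg

namespace Cfsg.Agent.S4814

open Cfsg.Agent.Lib.Helper8 Cfsg.Agent.Lib.Helper1 Cfsg.Agent.Lib.Helper4

universe u

section
variable {G : Type u} [Group G] [Fintype G]

/-- `∑ u, χ u * ψ (u⁻¹ * g) = [χ = ψ] |G| χ(g)/χ(1)`. -/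
theorem sum_convolution {χ ψ : G → ℂ} (hχ : Cfsg.IsIrrCharacter G χ)
    (hψ : Cfsg.IsIrrCharacter G ψ) (g : G) :
    ∑ u : G, χ u * ψ (u⁻¹ * g) = if ψ = χ then (Fintype.card G : ℂ) * ψ g / ψ 1 else 0 := by
  have h := sum_irr_inv_mul_irr hψ hχ g
  rw [← h, ← Equiv.sum_comp (Equiv.inv G)]
  refine Finset.sum_congr rfl fun u _ => ?_
  simp only [Equiv.inv_apply, inv_inv]
  have hc : Cfsg.IsClassFunction G ψ := isClassFunction_irr hψ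
  have : g * u = u⁻¹ * (u * g) * (u⁻¹)⁻¹ := by group
  rw [this, hc]

/-- The sum `∑ u, N(u) N(u⁻¹ g)` for `N(u) = |G| ∑ χ, χ(u)/χ(1)`. -/
theorem sum_N_mul_N [Fintype (Cfsg.IrrCharacter G)] (g : G) :
    ∑ u : G, ((Fintype.card G : ℂ) * ∑ χ : Cfsg.IrrCharacter G, (χ : G → ℂ) u / (χ : G → ℂ) 1) *
        ((Fintype.card G : ℂ) * ∑ ψ : Cfsg.IrrCharacter G,
          (ψ : G → ℂ) (u⁻¹ * g) / (ψ : G → ℂ) 1)
      = (Fintype.card G : ℂ) ^ 3 * ∑ χ : Cfsg.IrrCharacter G,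
          (χ : G → ℂ) g / ((χ : G → ℂ) 1) ^ 3 := by
  classical
  have h1 : ∀ u : G, ((Fintype.card G : ℂ) * ∑ χ : Cfsg.IrrCharacter G,
        (χ : G → ℂ) u / (χ : G → ℂ) 1) *
        ((Fintype.card G : ℂ) * ∑ ψ : Cfsg.IrrCharacter G,
          (ψ : G → ℂ) (u⁻¹ * g) / (ψ : G → ℂ) 1)
      = (Fintype.card G : ℂ) ^ 2 * ∑ χ : Cfsg.IrrCharacter G, ∑ ψ : Cfsg.IrrCharacter G,
          ((χ : G → ℂ) u * (ψ : G → ℂ) (u⁻¹ * g)) / ((χ : G → ℂ) 1 * (ψ : G → ℂ) 1) := by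
    intro u
    rw [mul_mul_mul_comm, ← pow_two, Finset.sum_mul_sum]
    congr 1
    refine Finset.sum_congr rfl fun χ _ => Finset.sum_congr rfl fun ψ _ => ?_
    rw [div_mul_div_comm]
  simp only [h1]
  rw [← Finset.mul_sum, Finset.sum_comm]
  have h2 : ∀ χ : Cfsg.IrrCharacter G, ∑ u : G, ∑ ψ : Cfsg.IrrCharacter G,
      ((χ : G → ℂ) u * (ψ : G → ℂ) (u⁻¹ * g)) / ((χ : G → ℂ) 1 * (ψ : G → ℂ) 1)
      = (Fintype.card G : ℂ) * ((χ : G → ℂ) g / ((χ : G → ℂ) 1) ^ 3) := by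
    intro χ
    rw [Finset.sum_comm]
    have h3 : ∀ ψ : Cfsg.IrrCharacter G, ∑ u : G,
        ((χ : G → ℂ) u * (ψ : G → ℂ) (u⁻¹ * g)) / ((χ : G → ℂ) 1 * (ψ : G → ℂ) 1)
        = if ψ = χ then (Fintype.card G : ℂ) * ((χ : G → ℂ) g / ((χ : G → ℂ) 1) ^ 3) else 0 := by
      intro ψ
      rw [← Finset.sum_div, sum_convolution χ.2 ψ.2 g]
      by_cases h : ψ = χ
      · subst h
        have hne : (ψ : G → ℂ) 1 ≠ 0 := irr_apply_one_ne_zero ψ.2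
        rw [if_pos rfl, if_pos rfl]
        field_simp
      · have h' : (ψ : G → ℂ) ≠ (χ : G → ℂ) := fun e => h (Subtype.ext e)
        rw [if_neg h', if_neg h, zero_div]
    simp only [h3]
    rw [Finset.sum_ite_eq' Finset.univ χ]
    simp
  simp only [h2]
  rw [← Finset.mul_sum]
  ring

end

theorem result {G : Type*} [Group G] [Finite G]
    (h : ∑ᶠ χ : Cfsg.IrrCharacter G, 1 / ‖(χ : G → ℂ) 1‖ ^ 2 < (2 : ℝ)) (g : G) :
    ∃ a b c d : G, (a * b * a⁻¹ * b⁻¹) * (c * d * c⁻¹ * d⁻¹) = g := by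
  classical
  have : Fintype G := Fintype.ofFinite G
  have : Fintype (Cfsg.IrrCharacter G) := Fintype.ofFinite _
  rw [finsum_eq_sum_of_fintype] at h
  by_contra hcon
  push Not at hcon
  -- every product `N(u) N(u⁻¹ g)` vanishes
  have hzero : ∀ u : G,
      (Nat.card {xy : G × G // xy.1 * xy.2 * xy.1⁻¹ * xy.2⁻¹ = u} : ℂ) *
        (Nat.card {xy : G × G // xy.1 * xy.2 * xy.1⁻¹ * xy.2⁻¹ = u⁻¹ * g} : ℂ) = 0 := by
    intro u
    by_contra hne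
    obtain ⟨h1, h2⟩ := mul_ne_zero_iff.mp hne
    rw [Nat.cast_ne_zero] at h1 h2
    obtain ⟨⟨⟨a, b⟩, hab⟩⟩ := (Nat.card_pos_iff.mp (Nat.pos_of_ne_zero h1)).1
    obtain ⟨⟨⟨c, d⟩, hcd⟩⟩ := (Nat.card_pos_iff.mp (Nat.pos_of_ne_zero h2)).1
    apply hcon a b c d
    simp only at hab hcd
    rw [hab, hcd]; group
  have hN : ∀ u : G, (Nat.card {xy : G × G // xy.1 * xy.2 * xy.1⁻¹ * xy.2⁻¹ = u} : ℂ)
      = (Fintype.card G : ℂ) * ∑ χ : Cfsg.IrrCharacter G, (χ : G → ℂ) u / (χ : G → ℂ) 1 := by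
    intro u
    rw [Nat.card_eq_fintype_card]
    exact card_commutator_pairs u
  have hsum : ∑ u : G,
      (Nat.card {xy : G × G // xy.1 * xy.2 * xy.1⁻¹ * xy.2⁻¹ = u} : ℂ) *
        (Nat.card {xy : G × G // xy.1 * xy.2 * xy.1⁻¹ * xy.2⁻¹ = u⁻¹ * g} : ℂ) = 0 :=
    Finset.sum_eq_zero fun u _ => hzero u
  simp only [hN] at hsum
  rw [sum_N_mul_N] at hsum
  have hG : (Fintype.card G : ℂ) ≠ 0 := Nat.cast_ne_zero.2 Fintype.card_pos.ne'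
  have hS : ∑ χ : Cfsg.IrrCharacter G, (χ : G → ℂ) g / ((χ : G → ℂ) 1) ^ 3 = 0 := by
    rcases mul_eq_zero.mp hsum with h1 | h1
    · exact absurd (pow_eq_zero_iff (n := 3) (by norm_num) |>.mp h1) hG
    · exact h1
  -- the trivial character
  let χ₀ : Cfsg.IrrCharacter G := ⟨fun g => ((1 : G →* ℂˣ) g : ℂ), isIrrCharacter_of_hom 1⟩
  have hχ₀ : ∀ x : G, (χ₀ : G → ℂ) x = 1 := fun x => by simp [χ₀]
  rw [← Finset.add_sum_erase _ _ (Finset.mem_univ χ₀), hχ₀, hχ₀] at hS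
  rw [← Finset.add_sum_erase _ _ (Finset.mem_univ χ₀), hχ₀] at h
  -- bound the rest
  have hbound : ‖∑ χ ∈ Finset.univ.erase χ₀, (χ : G → ℂ) g / ((χ : G → ℂ) 1) ^ 3‖
      ≤ ∑ χ ∈ Finset.univ.erase χ₀, 1 / ‖(χ : G → ℂ) 1‖ ^ 2 := by
    refine (norm_sum_le _ _).trans (Finset.sum_le_sum fun χ _ => ?_)
    obtain ⟨n, hn, h1⟩ := irr_apply_one_pos χ.2
    have hnorm1 : ‖(χ : G → ℂ) 1‖ = (n : ℝ) := by rw [h1]; simp
    have hle : ‖(χ : G → ℂ) g‖ ≤ (n : ℝ) := by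
      have := isCharacter_norm_le (isCharacter_of_irr χ.2) g
      rw [h1] at this
      simpa using this
    have hnpos : (0 : ℝ) < n := by exact_mod_cast hn
    rw [norm_div, norm_pow, hnorm1, div_le_div_iff₀ (by positivity) (by positivity)]
    calc ‖(χ : G → ℂ) g‖ * (n : ℝ) ^ 2 ≤ (n : ℝ) * (n : ℝ) ^ 2 :=
          mul_le_mul_of_nonneg_right hle (by positivity)
      _ = 1 * (n : ℝ) ^ 3 := by ring
  have h1 : ∑ χ ∈ Finset.univ.erase χ₀, (χ : G → ℂ) g / ((χ : G → ℂ) 1) ^ 3 = -1 := by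
    have : (1 : ℂ) / 1 ^ 3 = 1 := by norm_num
    rw [this] at hS
    exact eq_neg_of_add_eq_zero_right hS
  rw [h1, norm_neg, norm_one] at hbound
  have : (1 : ℝ) / ‖(1 : ℂ)‖ ^ 2 = 1 := by simp
  rw [this] at h
  linarith

end Cfsg.Agent.S4814
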