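import Mathlib
import Cfsg.Statements.S4825
import Cfsg.Agent.Lib.Helper8.BZ2
-- import your own Cfsg.Agent.* helpers here

set_option autoImplicit false
open Cfsg

namespace Cfsg.Agent.S4825

/-- Let p be a prime, G a finite group with Sylow p-subgroup P, M a maximal ideal of the algebraic integers containing p, and B a p-block of G with defect group P. Let N be a normal subgroup of G not containing P and θ an irreducible character of N. Then the number of irreducible characters in B of degree prime to p lying over θ (having θ as a constituent on restriction to N) is either 0 or at least 2, and when p ≤ 3 it is divisible by p. -/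
theorem result {G : Type*} [Group G] [Fintype G] (p : ℕ) [Fact p.Prime] (P : Sylow p G) (M : Ideal Cfsg.AlgInt) (hM : Cfsg.IsPModular p M) (B : Set (Cfsg.IrrCharacter G)) (hB : Cfsg.IsPBlock M B) (hBP : Cfsg.IsDefectGroup p M B P) (N : Subgroup G) [N.Normal] [Fintype N] (hPN : ¬ (P : Subgroup G) ≤ N) (θ : Cfsg.IrrCharacter N) :
    (Nat.card {χ : Cfsg.IrrCharacter G // χ ∈ B ∧ ¬ p ∣ Cfsg.charDegree (χ : G → ℂ) ∧ Cfsg.classInner (fun n : N => (χ : G → ℂ) n) (θ : N → ℂ) ≠ 0} = 0 ∨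
      2 ≤ Nat.card {χ : Cfsg.IrrCharacter G // χ ∈ B ∧ ¬ p ∣ Cfsg.charDegree (χ : G → ℂ) ∧ Cfsg.classInner (fun n : N => (χ : G → ℂ) n) (θ : N → ℂ) ≠ 0}) ∧
    (p ≤ 3 → p ∣ Nat.card {χ : Cfsg.IrrCharacter G // χ ∈ B ∧ ¬ p ∣ Cfsg.charDegree (χ : G → ℂ) ∧ Cfsg.classInner (fun n : N => (χ : G → ℂ) n) (θ : N → ℂ) ≠ 0}) := by
  classical
  have hp : p.Prime := Fact.out
  have : Fintype (Cfsg.IrrCharacter G) := Fintype.ofFinite _
  obtain ⟨x, hxP, hxN⟩ := SetLike.not_le_iff_exists.1 hPN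
  have hx : ∃ k : ℕ, orderOf x = p ^ k := by
    obtain ⟨k, hk⟩ := (IsPGroup.iff_orderOf.1 P.isPGroup') ⟨x, hxP⟩
    exact ⟨k, by rw [← hk, Subgroup.orderOf_mk]⟩
  have hdvd := Cfsg.Agent.Lib.Helper8.BZ.dvd_sum_sq_over hM hB N θ hx hxN
  set F : Finset (Cfsg.IrrCharacter G) := Finset.univ.filter (fun χ => χ ∈ B ∧
    ¬ p ∣ Cfsg.charDegree (χ : G → ℂ) ∧
    Cfsg.classInner (fun n : N => (χ : G → ℂ) n) (θ : N → ℂ) ≠ 0) with hF
  have hcard : Nat.card {χ : Cfsg.IrrCharacter G // χ ∈ B ∧ ¬ p ∣ Cfsg.charDegree (χ : G → ℂ) ∧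
      Cfsg.classInner (fun n : N => (χ : G → ℂ) n) (θ : N → ℂ) ≠ 0} = F.card := by
    rw [Nat.card_eq_fintype_card, Fintype.card_subtype]
  rw [hcard]
  -- the sum over `F` of squared degrees is divisible by `p`
  have hF' : p ∣ ∑ χ ∈ F, (Cfsg.charDegree (χ : G → ℂ)) ^ 2 := by
    have hsplit : (∑ χ : Cfsg.IrrCharacter G,
        (if χ ∈ B ∧ Cfsg.classInner (fun n : N => (χ : G → ℂ) n) (θ : N → ℂ) ≠ 0
          then (Cfsg.charDegree (χ : G → ℂ)) ^ 2 else 0)) =
        ∑ χ ∈ F, (Cfsg.charDegree (χ : G → ℂ)) ^ 2 +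
        ∑ χ : Cfsg.IrrCharacter G,
          (if (χ ∈ B ∧ Cfsg.classInner (fun n : N => (χ : G → ℂ) n) (θ : N → ℂ) ≠ 0) ∧
            p ∣ Cfsg.charDegree (χ : G → ℂ) then (Cfsg.charDegree (χ : G → ℂ)) ^ 2 else 0) := by
      rw [hF, Finset.sum_filter, ← Finset.sum_add_distrib]
      refine Finset.sum_congr rfl fun χ _ => ?_
      by_cases h1 : χ ∈ B ∧ Cfsg.classInner (fun n : N => (χ : G → ℂ) n) (θ : N → ℂ) ≠ 0
      · by_cases h2 : p ∣ Cfsg.charDegree (χ : G → ℂ)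
        · rw [if_pos h1, if_neg (fun h => h.2.1 h2), if_pos ⟨h1, h2⟩, zero_add]
        · rw [if_pos h1, if_pos ⟨h1.1, h2, h1.2⟩, if_neg (fun h => h2 h.2), add_zero]
      · rw [if_neg h1, if_neg (fun h => h1 ⟨h.1, h.2.2⟩), if_neg (fun h => h1 h.1)]
    rw [hsplit] at hdvd
    have h2 : p ∣ ∑ χ : Cfsg.IrrCharacter G,
        (if (χ ∈ B ∧ Cfsg.classInner (fun n : N => (χ : G → ℂ) n) (θ : N → ℂ) ≠ 0) ∧
          p ∣ Cfsg.charDegree (χ : G → ℂ) then (Cfsg.charDegree (χ : G → ℂ)) ^ 2 else 0) := by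
      apply Finset.dvd_sum
      intro χ _
      split_ifs with h
      · exact Dvd.dvd.pow h.2 two_ne_zero
      · exact dvd_zero p
    exact (Nat.dvd_add_left h2).1 hdvd
  have hFmem : ∀ χ ∈ F, ¬ p ∣ Cfsg.charDegree (χ : G → ℂ) := by
    intro χ hχ
    rw [hF, Finset.mem_filter] at hχ
    exact hχ.2.2.1
  constructor
  · by_contra hcon
    push Not at hcon
    have h1 : F.card = 1 := by omega
    obtain ⟨χ₀, hχ₀⟩ := Finset.card_eq_one.1 h1
    rw [hχ₀, Finset.sum_singleton] at hF'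
    have := hFmem χ₀ (by rw [hχ₀]; exact Finset.mem_singleton_self _)
    exact this (hp.dvd_of_dvd_pow hF')
  · intro hp3
    have hsq : ∀ χ ∈ F, ((Cfsg.charDegree (χ : G → ℂ) : ZMod p)) ^ 2 = 1 := by
      intro χ hχ
      have hne : (Cfsg.charDegree (χ : G → ℂ) : ZMod p) ≠ 0 := by
        intro h0
        exact hFmem χ hχ ((ZMod.natCast_eq_zero_iff _ _).1 h0)
      have h1 := ZMod.pow_card_sub_one_eq_one hne
      have hp2 : 2 ≤ p := hp.two_le
      have : p = 2 ∨ p = 3 := by omega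
      rcases this with h | h
      · subst h
        have h2 : (Cfsg.charDegree (χ : G → ℂ) : ZMod 2) = 1 := by simpa using h1
        rw [h2, one_pow]
      · subst h
        simpa using h1
    rw [← ZMod.natCast_eq_zero_iff]
    have h3 := (ZMod.natCast_eq_zero_iff _ _).2 hF'
    push_cast at h3
    rw [Finset.sum_congr rfl hsq] at h3
    simpa using h3

end Cfsg.Agent.S4825
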