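import Mathlib
import Cfsg.Statements.S4835
import Cfsg.Agent.Lib.Helper8.TwoClass

set_option autoImplicit false

open Cfsg

namespace Cfsg.Agent.S4835

open Cfsg.Agent.Lib.Helper8 Cfsg.Agent.Lib.Helper1 Cfsg.Agent.Lib.Helper4

theorem result {G : Type*} [Group G] [Finite G] (hG : 2 < Nat.card G) (χ : Cfsg.IrrCharacter G) (hχ : Nat.card {C : ConjClasses G // ∃ g ∈ C.carrier, (χ : G → ℂ) g ≠ 0} = 2) :
    ∃ N : Subgroup G, N.Normal ∧ N ≠ ⊥ ∧ (∀ K : Subgroup G, K.Normal → K ≠ ⊥ → N ≤ K) ∧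
      (∃ p : ℕ, p.Prime ∧ Cfsg.IsElementaryAbelian p N) ∧
      (∀ g : G, (χ : G → ℂ) g ≠ 0 ↔ g ∈ N) ∧
      (∀ x ∈ N, ∀ y ∈ N, x ≠ 1 → y ≠ 1 → ∃ g : G, g * x * g⁻¹ = y) := by
  obtain ⟨g₀, hg₀, hχg₀, hsupp⟩ := exists_of_two_classes χ hχ
  have h : TwoClass χ g₀ := ⟨hg₀, hχg₀, hsupp⟩
  obtain ⟨N, hNdef⟩ : ∃ N, N = Subgroup.normalClosure {g₀} := ⟨_, rfl⟩
  have hNn : N.Normal := hNdef ▸ Subgroup.normalClosure_normal
  have hg₀N : g₀ ∈ N := hNdef ▸ Subgroup.subset_normalClosure (Set.mem_singleton g₀)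
  have hNne : N ≠ ⊥ := by
    intro hb
    rw [hb, Subgroup.mem_bot] at hg₀N
    exact hg₀ hg₀N
  have hmin : ∀ K : Subgroup G, K.Normal → K ≠ ⊥ → N ≤ K := by
    intro K hK hKne
    rw [hNdef]
    apply Subgroup.normalClosure_le_normal
    rw [Set.singleton_subset_iff]
    exact h.mem_of_normal K hKne
  have hconj : ∀ x ∈ N, x ≠ 1 → IsConj g₀ x := by
    intro x hx hx1
    exact (hsupp x (h.ne_zero_of_mem hG (hNdef ▸ hx) hx1)).resolve_left hx1
  have hpair : ∀ x ∈ N, ∀ y ∈ N, x ≠ 1 → y ≠ 1 → ∃ g : G, g * x * g⁻¹ = y := by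
    intro x hx y hy hx1 hy1
    obtain ⟨a, ha⟩ := isConj_iff.mp (hconj x hx hx1)
    obtain ⟨b, hb⟩ := isConj_iff.mp (hconj y hy hy1)
    refine ⟨b * a⁻¹, ?_⟩
    rw [← ha, ← hb]; group
  refine ⟨N, hNn, hNne, hmin, ?_, ?_, hpair⟩
  · -- elementary abelian
    have hNnt : Nontrivial N := (Subgroup.nontrivial_iff_ne_bot N).mpr hNne
    have hcard1 : Nat.card N ≠ 1 := (Finite.one_lt_card (α := N)).ne'
    obtain ⟨p, hp, hpdvd⟩ := Nat.exists_prime_and_dvd hcard1
    have : Fact p.Prime := ⟨hp⟩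
    obtain ⟨x, hx⟩ := exists_prime_orderOf_dvd_card' (G := N) p hpdvd
    have hx1 : (x : G) ≠ 1 := by
      intro h1
      have : x = 1 := Subtype.ext h1
      rw [this, orderOf_one] at hx
      exact hp.one_lt.ne hx
    have hxp : (x : G) ^ p = 1 := by
      have := pow_orderOf_eq_one x
      rw [hx] at this
      exact_mod_cast congrArg Subtype.val this
    have hexp : ∀ a ∈ N, a ^ p = 1 := by
      intro a ha
      by_cases ha1 : a = 1
      · rw [ha1, one_pow]
      · obtain ⟨c, hc⟩ := hpair (x : G) x.2 a ha hx1 ha1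
        rw [← hc, conj_pow, hxp]; group
    have hNp : IsPGroup p N := by
      intro a
      refine ⟨1, ?_⟩
      rw [pow_one]
      exact Subtype.ext (by simpa using hexp a a.2)
    refine ⟨p, hp, ?_, hexp⟩
    -- commutative: the centre of `N` is a nontrivial normal subgroup of `G`
    have hZnt : Nontrivial (Subgroup.center N) := hNp.center_nontrivial
    obtain ⟨Z, hZ⟩ : ∃ Z, Z = (Subgroup.center N).map N.subtype := ⟨_, rfl⟩
    have hZn : Z.Normal := hZ ▸ ConjAct.normal_of_characteristic_of_normal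
    have hZne : Z ≠ ⊥ := by
      rw [hZ]
      intro hb
      rw [Subgroup.map_eq_bot_iff_of_injective _ N.subtype_injective] at hb
      exact (Subgroup.nontrivial_iff_ne_bot _).mp hZnt hb
    have hNZ : N ≤ Z := hmin Z hZn hZne
    constructor
    constructor
    intro a b
    obtain ⟨a', ha', haa⟩ := Subgroup.mem_map.mp (hZ ▸ hNZ a.2)
    have : a' = a := Subtype.ext haa
    rw [← this]
    exact (Subgroup.mem_center_iff.mp ha' b).symm
  · intro g
    constructor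
    · intro hg
      rcases hsupp g hg with h1 | h1
      · rw [h1]; exact N.one_mem
      · obtain ⟨c, hc⟩ := isConj_iff.mp h1
        rw [← hc]
        exact hNn.conj_mem _ hg₀N c
    · intro hg
      by_cases h1 : g = 1
      · rw [h1]; exact irr_apply_one_ne_zero χ.2
      · exact h.ne_zero_of_mem hG (hNdef ▸ hg) h1

end Cfsg.Agent.S4835
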