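import Mathlib
import Cfsg.Statements.S4836
import Cfsg.Agent.Lib.Helper8.TwoClass

set_option autoImplicit false

open Cfsg

namespace Cfsg.Agent.S4836

open Cfsg.Agent.Lib.Helper8 Cfsg.Agent.Lib.Helper1 Cfsg.Agent.Lib.Helper4
open scoped ComplexConjugate

theorem faithful_of_two {G : Type*} [Group G] [Finite G] (hG : 2 < Nat.card G)
    (χ : Cfsg.IrrCharacter G)
    (hχ : Nat.card {C : ConjClasses G // ∃ g ∈ C.carrier, (χ : G → ℂ) g ≠ 0} = 2) :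
    ∀ g : G, (χ : G → ℂ) g = (χ : G → ℂ) 1 → g = 1 := by
  classical
  have : Fintype G := Fintype.ofFinite G
  obtain ⟨g₀, hg₀, hχg₀, hsupp⟩ := exists_of_two_classes χ hχ
  have h : TwoClass χ g₀ := ⟨hg₀, hχg₀, hsupp⟩
  have hχ1 : (χ : G → ℂ) 1 ≠ 0 := irr_apply_one_ne_zero χ.2
  intro g hg
  by_contra hg1
  have hne : (χ : G → ℂ) g ≠ 0 := by rw [hg]; exact hχ1
  obtain ⟨c, hc⟩ := isConj_iff.mp ((hsupp g hne).resolve_left hg1)
  have hg₀1 : (χ : G → ℂ) g₀ = (χ : G → ℂ) 1 := by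
    rw [← hg, ← hc, isClassFunction_irr χ.2 g₀ c]
  have e1 := h.orth (trivIrr G) (h.ne_triv hG).symm
  simp only [trivIrr_apply, map_one, mul_one] at e1
  rw [hg₀1] at e1
  have e2 : (χ : G → ℂ) 1 * (1 + ((Finset.univ.filter (IsConj g₀)).card : ℂ)) = 0 := by
    linear_combination e1
  have e3 := (mul_eq_zero.mp e2).resolve_left hχ1
  have e4 : ((1 + (Finset.univ.filter (IsConj g₀)).card : ℕ) : ℂ) = 0 := by
    push_cast; exact e3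
  have e5 := Nat.cast_eq_zero.mp e4
  omega

theorem result {G : Type*} [Group G] [Finite G] (hG : 2 < Nat.card G) (χ : Cfsg.IrrCharacter G) (hχ : Nat.card {C : ConjClasses G // ∃ g ∈ C.carrier, (χ : G → ℂ) g ≠ 0} = 2) :
    (∀ g : G, (χ : G → ℂ) g = (χ : G → ℂ) 1 → g = 1) ∧
      (∀ ψ : Cfsg.IrrCharacter G, (∀ g : G, (ψ : G → ℂ) g = (ψ : G → ℂ) 1 → g = 1) → ψ = χ) ∧
      (∀ ψ : Cfsg.IrrCharacter G, Nat.card {C : ConjClasses G // ∃ g ∈ C.carrier, (ψ : G → ℂ) g ≠ 0} = 2 → ψ = χ) := by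
  obtain ⟨g₀, hg₀, hχg₀, hsupp⟩ := exists_of_two_classes χ hχ
  have h : TwoClass χ g₀ := ⟨hg₀, hχg₀, hsupp⟩
  have hb : ∀ ψ : Cfsg.IrrCharacter G, (∀ g : G, (ψ : G → ℂ) g = (ψ : G → ℂ) 1 → g = 1) →
      ψ = χ := by
    intro ψ hψ
    by_contra hne
    exact hg₀ (hψ g₀ (h.apply_eq_one hG ψ hne))
  exact ⟨faithful_of_two hG χ hχ, hb, fun ψ hψ => hb ψ (faithful_of_two hG ψ hψ)⟩

end Cfsg.Agent.S4836
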