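import Mathlib
import Cfsg.Statements.S4840
import Cfsg.Agent.Lib.Helper8.GagS9
import Cfsg.Agent.S4835
-- import your own Cfsg.Agent.* helpers here

set_option autoImplicit false
open Cfsg

namespace Cfsg.Agent.S4840

/-- Let G be a finite solvable group of order greater than 2 with an irreducible character nonzero on exactly two conjugacy classes. Then there is exactly one prime p with O_p(G) ≠ 1, and the quotient G/O_p(G) has a normal p-complement and commutative Sylow p-subgroups. -/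
theorem result {G : Type*} [Group G] [Finite G] [hs : Group.IsSolvable G] (hG : 2 < Nat.card G) (χ : Cfsg.IrrCharacter G) (hχ : Nat.card {C : ConjClasses G // ∃ g ∈ C.carrier, (χ : G → ℂ) g ≠ 0} = 2) :
    ∃ p : ℕ, p.Prime ∧ (∀ q : ℕ, q.Prime → (Cfsg.pCore q G ≠ ⊥ ↔ q = p)) ∧
      Cfsg.HasNormalPComplement p (G ⧸ Cfsg.pCore p G) ∧ ∀ Q : Sylow p (G ⧸ Cfsg.pCore p G), IsMulCommutative (Q : Subgroup (G ⧸ Cfsg.pCore p G)) := by
  classical
  obtain ⟨N, hNn, hN1, hmin, ⟨p, hp, hNc, hexp⟩, hsupp, _⟩ := Cfsg.Agent.S4835.result hG χ hχ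
  haveI := hNn
  haveI : Fact p.Prime := ⟨hp⟩
  obtain ⟨g₀, hgag⟩ := Cfsg.Agent.Lib.Helper8.Gagola.mk' hG χ hχ N (fun g => (hsupp g).symm)
  have hNp : IsPGroup p N := by
    intro a
    refine ⟨1, ?_⟩
    apply Subtype.ext
    rw [pow_one, Subgroup.coe_pow, Subgroup.coe_one]
    exact hexp _ a.2
  refine ⟨p, hp, ?_, Cfsg.Agent.Lib.Helper8.GagS.quotient_main hgag hN1 hNc hexp⟩
  intro q hq
  constructor
  · intro hne
    have h1 : N ≤ pCore q G := hmin _ (Cfsg.Agent.Lib.Lead.pCore_normal q) hne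
    have hg : g₀ ∈ pCore q G := h1 hgag.g₀_mem
    have ho : orderOf g₀ = p := orderOf_eq_prime (hexp _ hgag.g₀_mem) hgag.tc.ne_one
    obtain ⟨k, hk⟩ := (Cfsg.Agent.Lib.Lead.pCore_isPGroup (G := G) q) ⟨g₀, hg⟩
    have hk' : g₀ ^ q ^ k = 1 := by
      have := congrArg Subtype.val hk
      simpa using this
    have hd : p ∣ q ^ k := by
      rw [← ho]
      exact orderOf_dvd_of_pow_eq_one hk'
    exact ((Nat.prime_dvd_prime_iff_eq hp hq).1 (hp.dvd_of_dvd_pow hd)).symm
  · intro hqp hbot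
    subst hqp
    have h1 : N ≤ pCore q G := Cfsg.Agent.Lib.Lead.le_pCore hNn hNp
    rw [hbot] at h1
    exact hN1 (le_bot_iff.1 h1)

end Cfsg.Agent.S4840
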