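import Cfsg.Statements.S4845
import Mathlib
import Cfsg.Agent.Lib.Helper4.GC11
-- import your own Cfsg.Agent.* helpers here

set_option autoImplicit false
open Cfsg

namespace Cfsg.Agent.S4845

/-- Let p be a prime and P a finite non-commutative p-group. Then every two irreducible characters of P of the same degree greater than 1 are Galois conjugate (one is obtained from the other by composing with g ↦ g^k for some k prime to the order of P) if and only if the centre of P is cyclic and the derived subgroup of P has order p. -/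
theorem result {P : Type*} [Group P] [Finite P] (p : ℕ) [Fact p.Prime] (hP : IsPGroup p P) (hna : ¬ IsMulCommutative P) :
    (∀ χ ψ : Cfsg.IrrCharacter P, Cfsg.charDegree (χ : P → ℂ) ≠ 1 → Cfsg.charDegree (χ : P → ℂ) = Cfsg.charDegree (ψ : P → ℂ) → ∃ k : ℕ, Nat.Coprime k (Nat.card P) ∧ ∀ g : P, (ψ : P → ℂ) g = (χ : P → ℂ) (g ^ k)) ↔
      (IsCyclic (Subgroup.center P) ∧ Nat.card (commutator P) = p) := by
  classical
  have hnab : ¬ ∀ a b : P, a * b = b * a := by
    intro h
    exact hna ⟨⟨h⟩⟩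
  constructor
  · intro hyp
    have hH : Cfsg.Agent.Lib.Helper4.GC.SameDegGalois P := by
      intro χ ψ hχ hψ hnl hdeg
      obtain ⟨h1, -⟩ := Cfsg.Agent.Lib.Helper8.irr_apply_one_eq_charDegree hχ
      have hd1 : Cfsg.charDegree χ ≠ 1 := by
        intro h
        apply hnl
        rw [h1, h]
        simp
      have hd2 : Cfsg.charDegree χ = Cfsg.charDegree ψ := by
        unfold Cfsg.charDegree
        rw [hdeg]
      exact hyp ⟨χ, hχ⟩ ⟨ψ, hψ⟩ hd1 hd2
    obtain ⟨h1, h2⟩ := Cfsg.Agent.Lib.Helper4.GC.structure_of_sameDegGalois _ P rfl p hP hnab hH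
    exact ⟨h2, h1⟩
  · rintro ⟨hcyc, hcard⟩
    have hcen : commutator P ≤ Subgroup.center P :=
      Cfsg.Agent.Lib.Helper4.GC.le_center_of_card_prime p hP (commutator P) hcard
    have hH := Cfsg.Agent.Lib.Helper4.GC.sameDegGalois_of_cyclic p hP hcard hcen hcyc
    intro χ ψ hd1 hd2
    obtain ⟨h1, -⟩ := Cfsg.Agent.Lib.Helper8.irr_apply_one_eq_charDegree χ.2
    obtain ⟨h2, -⟩ := Cfsg.Agent.Lib.Helper8.irr_apply_one_eq_charDegree ψ.2
    have hnl : (χ : P → ℂ) 1 ≠ 1 := by
      intro h
      apply hd1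
      rw [h1] at h
      exact_mod_cast h
    have hdeg : (ψ : P → ℂ) 1 = (χ : P → ℂ) 1 := by
      rw [h1, h2, hd2]
    exact hH _ _ χ.2 ψ.2 hnl hdeg

end Cfsg.Agent.S4845
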