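import Mathlib
import Cfsg.Statements.S4856
import Cfsg.Agent.Lib.Helper8.ClassAlgebra2

set_option autoImplicit false

open Cfsg

namespace Cfsg.Agent.S4856

open Cfsg.Agent.Lib.Helper8 Cfsg.Agent.Lib.Helper1

theorem result {G : Type*} [Group G] [Finite G] (z : G) : (Nat.card {xy : G × G // xy.1 * xy.2 * xy.1⁻¹ * xy.2⁻¹ = z} : ℂ) = (Nat.card G : ℂ) * ∑ᶠ χ : Cfsg.IrrCharacter G, (χ : G → ℂ) z / (χ : G → ℂ) 1 := by
  classical
  have : Fintype G := Fintype.ofFinite G
  have : Fintype (Cfsg.IrrCharacter G) := Fintype.ofFinite _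
  rw [finsum_eq_sum_of_fintype, Nat.card_eq_fintype_card, Nat.card_eq_fintype_card]
  exact card_commutator_pairs z

end Cfsg.Agent.S4856
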