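import Mathlib
import Cfsg.Statements.S4859
import Cfsg.Agent.Lib.Helper1.CharFound6
import Cfsg.Agent.Lib.Helper8.TwoClass
import Cfsg.Agent.S0158

set_option autoImplicit false
open Cfsg
open scoped ComplexConjugate
open Cfsg.Agent.Lib.Helper4 Cfsg.Agent.Lib.Helper1 Cfsg.Agent.Lib.Helper8

namespace Cfsg.Agent.S4859

section

variable {G : Type*} [Group G] [Fintype G] [DecidableEq G]

/-- the number of square roots as a class function -/
noncomputable def rootCount (a : G) : ℂ := ((Finset.univ.filter (fun u : G => u * u = a)).card : ℂ)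

theorem rootCount_classFunction : Cfsg.IsClassFunction G (rootCount (G := G)) := by
  intro g h
  unfold rootCount
  congr 1
  apply Finset.card_bij (fun u _ => h⁻¹ * u * h)
  · intro u hu
    rw [Finset.mem_filter] at hu ⊢
    refine ⟨Finset.mem_univ _, ?_⟩
    have : h⁻¹ * u * h * (h⁻¹ * u * h) = h⁻¹ * (u * u) * h := by group
    rw [this, hu.2]
    group
  · intro u _ v _ huv
    have h1 : u = h * (h⁻¹ * u * h) * h⁻¹ := by group
    have h2 : v = h * (h⁻¹ * v * h) * h⁻¹ := by group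
    rw [h1, h2, huv]
  · intro v hv
    rw [Finset.mem_filter] at hv
    refine ⟨h * v * h⁻¹, ?_, by group⟩
    rw [Finset.mem_filter]
    refine ⟨Finset.mem_univ _, ?_⟩
    have : h * v * h⁻¹ * (h * v * h⁻¹) = h * (v * v) * h⁻¹ := by group
    rw [this, hv.2]

theorem classInner_rootCount (χ : G → ℂ) :
    Cfsg.classInner (rootCount (G := G)) χ
      = (Nat.card G : ℂ)⁻¹ * ∑ u : G, conj (χ (u * u)) := by
  rw [classInner_def]
  congr 1
  unfold rootCount
  have h1 : ∀ a : G, ((Finset.univ.filter (fun u : G => u * u = a)).card : ℂ) * conj (χ a)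
      = ∑ u : G, if u * u = a then conj (χ (u * u)) else 0 := by
    intro a
    rw [Finset.card_filter]
    push_cast
    rw [Finset.sum_mul]
    refine Finset.sum_congr rfl fun u _ => ?_
    by_cases hu : u * u = a
    · rw [if_pos hu, if_pos hu, hu, one_mul]
    · rw [if_neg hu, if_neg hu, zero_mul]
  rw [Finset.sum_congr rfl (fun a _ => h1 a), Finset.sum_comm]
  refine Finset.sum_congr rfl fun u _ => ?_
  rw [Finset.sum_ite_eq]
  simp

/-- the root-counting formula -/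
theorem rootCount_eq [Fintype (Cfsg.IrrCharacter G)] (a : G) :
    rootCount a = ∑ χ : Cfsg.IrrCharacter G,
      ((Nat.card G : ℂ)⁻¹ * ∑ u : G, conj ((χ : G → ℂ) (u * u))) * (χ : G → ℂ) a := by
  have h := class_function_expansion (rootCount (G := G)) rootCount_classFunction
  have h1 := congrFun h a
  rw [Finset.sum_apply] at h1
  rw [h1]
  refine Finset.sum_congr rfl fun χ _ => ?_
  rw [Pi.smul_apply, smul_eq_mul, classInner_rootCount]

end

theorem result {G : Type*} [Group G] [Finite G] (p : ℕ) [Fact p.Prime] (hp : p ≠ 2) (x : G) (hx : ∃ k : ℕ, orderOf x = p ^ k) (heven : Even (Nat.card (Subgroup.centralizer ({x} : Set G)))) (y : G) (hy : y ∈ Subgroup.centralizer ({x} : Set G)) (hy2 : ∃ k : ℕ, orderOf y = 2 ^ k) (hmax : ∀ z ∈ Subgroup.centralizer ({x} : Set G), (∃ k : ℕ, orderOf z = 2 ^ k) → orderOf z ≤ orderOf y) : (¬ ∃ u : G, u * u = x * y) ∧ ∃ χ : Cfsg.IrrCharacter G, ¬ ((χ : G → ℂ) = fun _ => (1 : ℂ)) ∧ (∀ g : G, ((χ : G → ℂ) g).im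 = 0) ∧ (χ : G → ℂ) (x * y) ≠ 0 := by
  classical
  haveI : Fintype G := Fintype.ofFinite G
  haveI : Fintype (Cfsg.IrrCharacter G) := Fintype.ofFinite _
  have hpp : p.Prime := Fact.out
  obtain ⟨k, hk⟩ := hx
  obtain ⟨j, hj⟩ := hy2
  have hxy : Commute x y := by
    rw [Subgroup.mem_centralizer_singleton_iff] at hy
    exact hy.symm
  -- `j ≥ 1`
  have hj1 : 1 ≤ j := by
    haveI : Fact (Nat.Prime 2) := ⟨Nat.prime_two⟩
    obtain ⟨z, hz⟩ := exists_prime_orderOf_dvd_card' (G := Subgroup.centralizer ({x} : Set G)) 2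
      heven.two_dvd
    have hz' : orderOf (z : G) = 2 := by
      rw [Subgroup.orderOf_coe]; exact hz
    have := hmax z z.2 ⟨1, by rw [hz']; norm_num⟩
    rw [hz', hj] at this
    by_contra hlt
    have : j = 0 := by omega
    subst this
    norm_num at *
  have hcop : Nat.Coprime (2 ^ j) (p ^ k) := by
    apply Nat.Coprime.pow
    rw [Nat.coprime_primes Nat.prime_two hpp]
    exact fun h => hp h.symm
  have hnosq : ¬ ∃ u : G, u * u = x * y := by
    rintro ⟨u, hu⟩
    -- `u` commutes with `x`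
    have hu1 : Commute u (x * y) := by
      rw [← hu]
      exact (Commute.refl u).mul_right (Commute.refl u)
    have hpow : (x * y) ^ (2 ^ j) = x ^ (2 ^ j) := by
      rw [hxy.mul_pow, ← hj, pow_orderOf_eq_one, mul_one]
    have hu2 : Commute u (x ^ (2 ^ j)) := by
      rw [← hpow]; exact hu1.pow_right _
    obtain ⟨s, hs⟩ := exists_pow_eq_self_of_coprime (x := x) (n := 2 ^ j) (by rw [hk]; exact hcop)
    have hux : Commute u x := by
      rw [← hs]; exact hu2.pow_right _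
    -- the element `w = u ^ (p ^ k)`
    obtain ⟨w, hw⟩ : ∃ w, w = u ^ (p ^ k) := ⟨_, rfl⟩
    have hwC : w ∈ Subgroup.centralizer ({x} : Set G) := by
      rw [Subgroup.mem_centralizer_singleton_iff, hw]
      exact (hux.pow_left _).eq
    have hw2 : w * w = y ^ (p ^ k) := by
      rw [hw, ← (Commute.refl u).mul_pow, hu, hxy.mul_pow, ← hk, pow_orderOf_eq_one, one_mul]
    have hy' : orderOf (y ^ (p ^ k)) = 2 ^ j := by
      rw [Nat.Coprime.orderOf_pow, hj]
      rw [hj]; exact hcop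
    have hwpow : ∀ i : ℕ, w ^ (2 ^ (i + 1)) = (y ^ (p ^ k)) ^ (2 ^ i) := by
      intro i
      rw [pow_succ, mul_comm, pow_mul, sq, hw2]
    have hwdvd : orderOf w ∣ 2 ^ (j + 1) := by
      rw [orderOf_dvd_iff_pow_eq_one, hwpow, ← hy', pow_orderOf_eq_one]
    obtain ⟨i, hi, hwi⟩ := (Nat.dvd_prime_pow Nat.prime_two).mp hwdvd
    have hile : orderOf w ≤ orderOf y := hmax w hwC ⟨i, hwi⟩
    rw [hwi, hj] at hile
    have hij : i ≤ j := (Nat.pow_le_pow_iff_right (by norm_num)).mp hile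
    -- then `w ^ (2 ^ j) = 1`
    have h1 : w ^ (2 ^ j) = 1 := by
      rw [← orderOf_dvd_iff_pow_eq_one, hwi]
      exact pow_dvd_pow 2 hij
    obtain ⟨j', rfl⟩ : ∃ j', j = j' + 1 := ⟨j - 1, by omega⟩
    rw [hwpow] at h1
    have h2 : orderOf (y ^ (p ^ k)) ∣ 2 ^ j' := orderOf_dvd_iff_pow_eq_one.mpr h1
    rw [hy'] at h2
    have := (Nat.pow_dvd_pow_iff_le_right (by norm_num : 1 < 2)).mp h2
    omega
  refine ⟨hnosq, ?_⟩
  -- the character sum
  have hrc : rootCount (x * y) = 0 := by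
    unfold rootCount
    rw [Nat.cast_eq_zero, Finset.card_eq_zero, Finset.filter_eq_empty_iff]
    intro u _ hu
    exact hnosq ⟨u, hu⟩
  have hformula := rootCount_eq (x * y)
  rw [hrc] at hformula
  obtain ⟨χ₀, hχ₀⟩ : ∃ χ₀ : Cfsg.IrrCharacter G, χ₀ = trivIrr G := ⟨_, rfl⟩
  have hχ₀app : ∀ g : G, (χ₀ : G → ℂ) g = 1 := by
    intro g; rw [hχ₀]; exact trivIrr_apply g
  have hGne : (Nat.card G : ℂ) ≠ 0 := Nat.cast_ne_zero.2 Nat.card_pos.ne'
  rw [← Finset.add_sum_erase Finset.univ _ (Finset.mem_univ χ₀)] at hformula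
  have h0 : ((Nat.card G : ℂ)⁻¹ * ∑ u : G, conj ((χ₀ : G → ℂ) (u * u))) * (χ₀ : G → ℂ) (x * y) = 1 := by
    simp only [hχ₀app, map_one, Finset.sum_const, Finset.card_univ, nsmul_eq_mul, mul_one]
    rw [Nat.card_eq_fintype_card, inv_mul_cancel₀]
    rw [← Nat.card_eq_fintype_card]; exact hGne
  rw [h0] at hformula
  have hne : ∑ χ ∈ Finset.univ.erase χ₀,
      ((Nat.card G : ℂ)⁻¹ * ∑ u : G, conj ((χ : G → ℂ) (u * u))) * (χ : G → ℂ) (x * y) ≠ 0 := by
    intro h
    rw [h, add_zero] at hformula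
    exact zero_ne_one hformula
  obtain ⟨χ, hχmem, hχne⟩ := Finset.exists_ne_zero_of_sum_ne_zero hne
  have hχ0 : χ ≠ χ₀ := Finset.ne_of_mem_erase hχmem
  have hν : (Nat.card G : ℂ)⁻¹ * ∑ u : G, conj ((χ : G → ℂ) (u * u)) ≠ 0 :=
    left_ne_zero_of_mul hχne
  have hval : (χ : G → ℂ) (x * y) ≠ 0 := right_ne_zero_of_mul hχne
  refine ⟨χ, ?_, ?_, hval⟩
  · intro h
    apply hχ0
    apply Subtype.ext
    rw [h]
    funext g
    exact (hχ₀app g).symm
  · obtain ⟨n, ρ, hirr, hρ⟩ := χ.2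
    haveI := hirr
    obtain ⟨-, h2⟩ := Cfsg.Agent.S0158.result ρ
    rw [hρ] at h2
    intro g
    by_contra hg
    have h3 := h2.mpr ⟨g, hg⟩
    apply hν
    have h4 : (Nat.card G : ℂ)⁻¹ * ∑ u : G, conj ((χ : G → ℂ) (u * u))
        = conj ((Nat.card G : ℂ)⁻¹ * ∑ s : G, (χ : G → ℂ) (s * s)) := by
      rw [map_mul, map_sum, map_inv₀, Complex.conj_natCast]
    rw [h4, h3, map_zero]

end Cfsg.Agent.S4859
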