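import Mathlib
import Cfsg.Statements.S4871
import Cfsg.Agent.Lib.Helper8.SR1
import Cfsg.Agent.Lib.Helper8.SR6
import Cfsg.Agent.Lib.Helper8.SR7

set_option autoImplicit false
open Cfsg

namespace Cfsg.Agent.S4871

open Cfsg.Agent.Lib.Helper1 Cfsg.Agent.Lib.Helper4 Cfsg.Agent.Lib.Helper8 Cfsg.Agent.Lib.Helper8.SR

/-- Let G be a finite group that is the semidirect product of a normal elementary abelian subgroup N of odd order by a non-trivial 2-subgroup P, with N the unique minimal normal subgroup of G. Consider the strongly real irreducible complex characters of G (Frobenius–Schur indicator +1) whose degree is 1 or even. Then their average degree is at least 4/3: four times their number is at most three times the sum of their degrees. -/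
theorem result {G : Type*} [Group G] [Finite G] (N P : Subgroup G) (hN : N.Normal) (q : ℕ) [Fact q.Prime] (hq : q ≠ 2) (hNel : Cfsg.IsElementaryAbelian q N) (hP : IsPGroup 2 ↥P) (hP1 : P ≠ ⊥) (hdisj : N ⊓ P = ⊥) (hprod : N ⊔ P = ⊤) (hmin : N ≠ ⊥ ∧ ∀ M : Subgroup G, M.Normal → M ≠ ⊥ → N ≤ M) : 4 * Nat.card {χ : Cfsg.IrrCharacter G // (Cfsg.charDegree (χ : G → ℂ) = 1 ∨ 2 ∣ Cfsg.charDegree (χ : G → ℂ)) ∧ (Nat.card G : ℂ)⁻¹ * ∑ᶠ g : G, (χ : G → ℂ) (g * g) = 1} ≤ 3 * (∑ᶠ χ : {χ : Cfsg.IrrCharacter G // (Cfsg.charDegree (χ : G → ℂ) = 1 ∨ 2 ∣ Cfsg.charDegree (χ : G → ℂ)) ∧ (Nat.card G : ℂ)⁻¹ * ∑ᶠ g : G, (χ : G → ℂ) (g * g) = 1}, Cfsg.charDegree (χ.1 : G → ℂ)) := by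
  classical
  haveI : Fintype G := Fintype.ofFinite G
  haveI : Fintype (Cfsg.IrrCharacter G) := Fintype.ofFinite _
  haveI := hN
  obtain ⟨z, hzP, hzz, hzc, hzinv⟩ := exists_inverting_involution N P hN q hNel hP hP1 hdisj hprod hmin
  have hcomm : ∀ a ∈ N, ∀ b ∈ N, a * b = b * a := by
    intro a ha b hb
    have := hNel.1.is_comm.comm (⟨a, ha⟩ : N) ⟨b, hb⟩
    exact congrArg Subtype.val this
  -- the index of `N`
  have hidx : ∃ k : ℕ, N.index = 2 ^ k := by
    have hc : Subgroup.IsComplement' P N := by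
      apply Subgroup.isComplement'_of_disjoint_and_mul_eq_univ
      · rw [disjoint_iff, inf_comm]; exact hdisj
      · rw [← Subgroup.mul_normal P N, sup_comm, hprod]; rfl
    obtain ⟨k, hk⟩ := hP.exists_card_eq
    exact ⟨k, by rw [hc.index_eq_card, hk]⟩
  -- a nontrivial linear character of `N`
  let instN : CommGroup N :=
    { (inferInstance : Group N) with
      mul_comm := fun a b => Subtype.ext (hcomm a a.2 b b.2) }
  obtain ⟨a₀, ha₀1⟩ := (Subgroup.ne_bot_iff_exists_ne_one).1 hmin.1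
  have hne : NeZero (Monoid.exponent N) := ⟨Monoid.exponent_ne_zero_of_finite⟩
  obtain ⟨lam, hlam⟩ := CommGroup.exists_apply_ne_one_of_hasEnoughRootsOfUnity N ℂ (a := a₀) ha₀1
  have hS : Setup N z q lam :=
    { comm := hcomm
      exp := hNel.2
      qodd := (Fact.out : q.Prime).odd_of_ne_two hq
      idx := hidx
      zz := hzz
      zinv := hzinv
      lam_ne := by
        intro h
        apply hlam
        rw [h]
        rfl }
  obtain ⟨ψ, hψ, hψq⟩ := hS.exists_ext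
  set χ₀ : G → ℂ := Cfsg.indFun (inertiaHom N lam) (fun t => ((ψ t : ℂˣ) : ℂ)) with hχ₀
  set m := (inertiaHom N lam).index with hmdef
  have hm2 : 2 ∣ m := hS.index_even
  have hm0 : m ≠ 0 := Subgroup.index_ne_zero_of_finite
  have hm : 2 ≤ m := Nat.le_of_dvd (Nat.pos_of_ne_zero hm0) hm2
  -- notation
  set deg : Cfsg.IrrCharacter G → ℕ := fun χ => Cfsg.charDegree (χ : G → ℂ) with hdeg
  set nu : Cfsg.IrrCharacter G → ℂ := fun χ =>
    (Nat.card G : ℂ)⁻¹ * ∑ᶠ g : G, (χ : G → ℂ) (g * g) with hnu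
  have hnu' : ∀ χ : Cfsg.IrrCharacter G, nu χ = (Nat.card G : ℂ)⁻¹ * ∑ g : G, (χ : G → ℂ) (g * g) := by
    intro χ
    simp only [hnu]
    rw [finsum_eq_sum_of_fintype]
  set A : Finset (Cfsg.IrrCharacter G) := Finset.univ.filter (fun χ => deg χ = 1 ∧ nu χ = 1) with hA
  set B : Finset (Cfsg.IrrCharacter G) := Finset.univ.filter (fun χ => 2 ∣ deg χ ∧ nu χ = 1) with hB
  set f : Cfsg.IrrCharacter G → Cfsg.IrrCharacter G := fun κ =>
    if hκ : Cfsg.IsIrrCharacter G (fun g => (κ : G → ℂ) g * χ₀ g) then ⟨_, hκ⟩ else κ with hf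
  -- facts about members of `A`
  have hAfacts : ∀ κ ∈ A, ∃ fκ : G →* ℂˣ, (κ : G → ℂ) = (fun g => ((fκ g : ℂˣ) : ℂ)) ∧
      (∀ g : G, fκ g ^ 2 = 1) ∧ (κ : G → ℂ) 1 = 1 := by
    intro κ hκ
    obtain ⟨h1, h2⟩ := (Finset.mem_filter.1 hκ).2
    have hκ1 : (κ : G → ℂ) 1 = 1 := by
      rw [(irr_apply_one_eq_charDegree κ.2).1]
      simp only [hdeg] at h1
      rw [h1, Nat.cast_one]
    obtain ⟨fκ, hfκ⟩ := exists_hom_of_isIrrCharacter κ.2 hκ1
    refine ⟨fκ, hfκ, ?_, hκ1⟩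
    apply Setup.real_of_fs
    rw [hnu' κ, hfκ] at h2
    exact h2
  have hfA : ∀ κ ∈ A, ((f κ : Cfsg.IrrCharacter G) : G → ℂ) = (fun g => (κ : G → ℂ) g * χ₀ g) := by
    intro κ hκ
    obtain ⟨fκ, hfκ, hreal, -⟩ := hAfacts κ hκ
    have hirr : Cfsg.IsIrrCharacter G (fun g => (κ : G → ℂ) g * χ₀ g) := by
      rw [hfκ]
      exact hS.irr_twist hreal hψ
    simp only [hf]
    rw [dif_pos hirr]
  have h := count_main deg A B f m hm ?_ ?_ ?_ ?_
  · -- translate
    have hcard : Nat.card {χ : Cfsg.IrrCharacter G // (Cfsg.charDegree (χ : G → ℂ) = 1 ∨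
        2 ∣ Cfsg.charDegree (χ : G → ℂ)) ∧
        (Nat.card G : ℂ)⁻¹ * ∑ᶠ g : G, (χ : G → ℂ) (g * g) = 1} = A.card + B.card := by
      rw [Nat.card_eq_fintype_card, Fintype.card_subtype, ← Finset.card_union_of_disjoint]
      · congr 1
        ext χ
        simp only [hA, hB, Finset.mem_filter, Finset.mem_univ, true_and, Finset.mem_union, hdeg, hnu]
        tauto
      · rw [Finset.disjoint_left]
        intro χ h1 h2
        have e1 := (Finset.mem_filter.1 h1).2.1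
        have e2 := (Finset.mem_filter.1 h2).2.1
        rw [e1] at e2
        omega
    have hsum : (∑ᶠ χ : {χ : Cfsg.IrrCharacter G // (Cfsg.charDegree (χ : G → ℂ) = 1 ∨
        2 ∣ Cfsg.charDegree (χ : G → ℂ)) ∧
        (Nat.card G : ℂ)⁻¹ * ∑ᶠ g : G, (χ : G → ℂ) (g * g) = 1},
        Cfsg.charDegree (χ.1 : G → ℂ)) = ∑ a ∈ A, deg a + ∑ b ∈ B, deg b := by
      rw [finsum_eq_sum_of_fintype, ← Finset.sum_union]
      · rw [← Finset.sum_subtype (A ∪ B) (p := fun χ : Cfsg.IrrCharacter G =>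
          (Cfsg.charDegree (χ : G → ℂ) = 1 ∨ 2 ∣ Cfsg.charDegree (χ : G → ℂ)) ∧
          (Nat.card G : ℂ)⁻¹ * ∑ᶠ g : G, (χ : G → ℂ) (g * g) = 1) ?_ deg]
        intro χ
        simp only [hA, hB, Finset.mem_filter, Finset.mem_univ, true_and, Finset.mem_union, hdeg, hnu]
        tauto
      · rw [Finset.disjoint_left]
        intro χ h1 h2
        have e1 := (Finset.mem_filter.1 h1).2.1
        have e2 := (Finset.mem_filter.1 h2).2.1
        rw [e1] at e2
        omega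
    rw [hcard, hsum]
    exact h
  · intro a ha
    exact (Finset.mem_filter.1 ha).2.1
  · intro b hb
    have h2 := (Finset.mem_filter.1 hb).2.1
    have hpos : 0 < deg b := (irr_apply_one_eq_charDegree b.2).2
    exact Nat.le_of_dvd hpos h2
  · intro κ hκ
    obtain ⟨fκ, hfκ, hreal, hκ1⟩ := hAfacts κ hκ
    have hval := hfA κ hκ
    have hdegf : deg (f κ) = m := by
      have h1 := (irr_apply_one_eq_charDegree (f κ).2).1
      rw [hval, hfκ] at h1
      beta_reduce at h1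
      have h2 := hS.deg_twist fκ ψ
      rw [h2] at h1
      simp only [hdeg]
      rw [hval, hfκ]
      exact_mod_cast h1.symm
    refine ⟨?_, hdegf⟩
    rw [hB, Finset.mem_filter]
    refine ⟨Finset.mem_univ _, by rw [hdegf]; exact hm2, ?_⟩
    rw [hnu' (f κ), hval, hfκ]
    exact hS.fs_twist hreal hψ hψq
  · intro κ₀ hκ₀
    obtain ⟨f₀, hf₀, hreal₀, -⟩ := hAfacts κ₀ hκ₀
    apply hS.fiber_bound hreal₀ hψ
    intro κ hκ
    obtain ⟨hκA, hκeq⟩ := Finset.mem_filter.1 hκ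
    obtain ⟨fκ, hfκ, hreal, hκ1⟩ := hAfacts κ hκA
    refine ⟨hκ1, ?_, ?_⟩
    · rw [← hnu' κ]
      exact (Finset.mem_filter.1 hκA).2.2
    · have h1 := congrArg (fun x : Cfsg.IrrCharacter G => (x : G → ℂ)) hκeq
      beta_reduce at h1
      rw [hfA κ hκA, hfA κ₀ hκ₀] at h1
      rw [h1, hf₀]

end Cfsg.Agent.S4871
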