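import Mathlib
import Cfsg.Statements.S4873
import Cfsg.Agent.Lib.Helper8.RQ3

set_option autoImplicit false
open Cfsg

namespace Cfsg.Agent.S4873

open scoped ComplexConjugate
open Cfsg.Agent.Lib.Helper1 Cfsg.Agent.Lib.Helper4 Cfsg.Agent.Lib.Helper8 Cfsg.Agent.Lib.Helper8.RQ

/-- Let N be a normal subgroup of odd index in the finite group G. Then every irreducible complex character of N with Frobenius–Schur indicator +1 lies under exactly one irreducible character of G with Frobenius–Schur indicator +1. -/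
theorem result {G : Type*} [Group G] [Finite G] (N : Subgroup G) [N.Normal] (hodd : Odd N.index) (φ : Cfsg.IrrCharacter ↥N) (hφ : (Nat.card ↥N : ℂ)⁻¹ * ∑ᶠ g : ↥N, (φ : ↥N → ℂ) (g * g) = 1) : ∃! χ : Cfsg.IrrCharacter G, (Nat.card G : ℂ)⁻¹ * ∑ᶠ g : G, (χ : G → ℂ) (g * g) = 1 ∧ (∑ᶠ n : ↥N, (χ : G → ℂ) n * (starRingEnd ℂ) ((φ : ↥N → ℂ) n)) ≠ 0 := by
  classical
  haveI : Fintype G := Fintype.ofFinite G
  haveI : Fintype N := Fintype.ofFinite N
  haveI : Fintype (Cfsg.IrrCharacter G) := Fintype.ofFinite _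
  have hN0 : (Nat.card N : ℂ) ≠ 0 := Nat.cast_ne_zero.2 Nat.card_pos.ne'
  -- `φ` is real
  have hφ' : (Nat.card N : ℂ)⁻¹ * ∑ g : N, (φ : N → ℂ) (g * g) = 1 := by
    rw [← finsum_eq_sum_of_fintype]; exact hφ
  have hφreal : ∀ k : N, ((φ : N → ℂ) k).im = 0 := by
    rw [im_zero_iff_conj]
    apply (fs_real_iff φ.2).2
    rw [hφ']
    exact one_ne_zero
  -- the over condition
  have hover : ∀ χ : Cfsg.IrrCharacter G,
      (∑ᶠ n : N, (χ : G → ℂ) n * (starRingEnd ℂ) ((φ : N → ℂ) n)) ≠ 0 ↔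
      Cfsg.classInner (fun k : N => (χ : G → ℂ) k) (φ : N → ℂ) ≠ 0 := by
    intro χ
    rw [classInner_def, finsum_eq_sum_of_fintype]
    constructor
    · intro h
      exact mul_ne_zero (inv_ne_zero hN0) h
    · intro h
      exact right_ne_zero_of_mul h
  have hnu : ∀ χ : Cfsg.IrrCharacter G, (Nat.card G : ℂ)⁻¹ * ∑ᶠ g : G, (χ : G → ℂ) (g * g) =
      (Nat.card G : ℂ)⁻¹ * ∑ g : G, (χ : G → ℂ) (g * g) := by
    intro χ
    rw [finsum_eq_sum_of_fintype]
  obtain ⟨χ₀, hχ₀real, hχ₀over⟩ := exists_real_over N hodd φ hφreal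
  have hsum := fs_sum_over N hodd (φ : N → ℂ)
  rw [hφ] at hsum
  have hsymm : ∀ χ : Cfsg.IrrCharacter G,
      Cfsg.classInner (φ : N → ℂ) (fun k : N => (χ : G → ℂ) k) =
        conj (Cfsg.classInner (fun k : N => (χ : G → ℂ) k) (φ : N → ℂ)) := by
    intro χ
    rw [classInner_def, classInner_def, map_mul, map_inv₀, Complex.conj_natCast, map_sum]
    congr 1
    refine Finset.sum_congr rfl fun k _ => ?_
    rw [map_mul, Complex.conj_conj, mul_comm]
  rw [Finset.sum_eq_single χ₀] at hsum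
  · -- the indicator of `χ₀`
    have hν₀ : (Nat.card G : ℂ)⁻¹ * ∑ g : G, (χ₀ : G → ℂ) (g * g) = 1 := by
      rcases fs_real_cases χ₀.2 ((im_zero_iff_conj _).1 hχ₀real) with h | ⟨h, -⟩
      · exact h
      · exfalso
        obtain ⟨a, ha⟩ := classInner_char_nat (isCharacter_of_irr φ.2)
          (isCharacter_comp_hom (isCharacter_of_irr χ₀.2) N.subtype)
        have ha' : Cfsg.classInner (φ : N → ℂ) (fun k : N => (χ₀ : G → ℂ) k) = a := ha
        rw [ha', h] at hsum
        have h2 : ((a : ℤ) : ℂ) = ((-1 : ℤ) : ℂ) := by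
          push_cast
          linear_combination hsum
        have h3 : (a : ℤ) = -1 := by exact_mod_cast h2
        omega
    refine ⟨χ₀, ⟨by rw [hnu]; exact hν₀, (hover χ₀).2 hχ₀over⟩, ?_⟩
    rintro χ' ⟨h1, h2⟩
    have hχ'real : ∀ g : G, ((χ' : G → ℂ) g).im = 0 := by
      rw [im_zero_iff_conj]
      apply (fs_real_iff χ'.2).2
      rw [← hnu, h1]
      exact one_ne_zero
    exact real_over_unique N hodd φ hφreal hχ'real hχ₀real ((hover χ').1 h2) hχ₀over
  · intro χ _ hne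
    by_cases hreal : ∀ g : G, ((χ : G → ℂ) g).im = 0
    · have : Cfsg.classInner (fun k : N => (χ : G → ℂ) k) (φ : N → ℂ) = 0 := by
        by_contra hcon
        exact hne (real_over_unique N hodd φ hφreal hreal hχ₀real hcon hχ₀over)
      rw [hsymm, this, map_zero, zero_mul]
    · have : (Nat.card G : ℂ)⁻¹ * ∑ g : G, (χ : G → ℂ) (g * g) = 0 := by
        by_contra hcon
        exact hreal ((im_zero_iff_conj _).2 ((fs_real_iff χ.2).2 hcon))
      rw [this, mul_zero]
  · intro h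
    exact absurd (Finset.mem_univ _) h

end Cfsg.Agent.S4873
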