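import Mathlib
import Cfsg.Statements.S4885
import Cfsg.Agent.Lib.Helper8.PQ3
import Cfsg.Agent.Lib.Helper8.PSol1
import Cfsg.Agent.Lib.Helper7.PSolvable

set_option autoImplicit false
open Cfsg

namespace Cfsg.Agent.S4885

open Cfsg.Agent.Lib.Helper1 Cfsg.Agent.Lib.Helper4 Cfsg.Agent.Lib.Helper8

/-- Let p and q be primes dividing the order of the finite group G, and suppose G is p-solvable and q-solvable. Fix maximal ideals of the algebraic integers containing p and q, defining the principal p-block and the principal q-block. If the irreducible characters of degree prime to p in the principal p-block are exactly the irreducible characters of degree prime to q in the principal q-block, then p = q. -/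
theorem result {G : Type*} [Group G] [Finite G] (p q : ℕ) [Fact p.Prime] [Fact q.Prime] (hp : p ∣ Nat.card G) (hq : q ∣ Nat.card G) (hps : Cfsg.IsPSolvable p G) (hqs : Cfsg.IsPSolvable q G) (Mp Mq : Ideal Cfsg.AlgInt) (hMp : Cfsg.IsPModular p Mp) (hMq : Cfsg.IsPModular q Mq) (h : ∀ χ : Cfsg.IrrCharacter G, (χ ∈ Cfsg.principalBlock Mp G ∧ ¬ p ∣ Cfsg.charDegree (χ : G → ℂ)) ↔ (χ ∈ Cfsg.principalBlock Mq G ∧ ¬ q ∣ Cfsg.charDegree (χ : G → ℂ))) : p = q := by
  classical
  haveI : Fintype G := Fintype.ofFinite G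
  by_contra hpq
  have hpp : p.Prime := Fact.out
  have hqp : q.Prime := Fact.out
  set R := Cfsg.pPrimeCore p G with hR
  set S := Cfsg.pPrimeCore q G with hS
  haveI hRn : R.Normal := Cfsg.pPrimeCore_normal p G
  haveI hSn : S.Normal := Cfsg.pPrimeCore_normal q G
  have hXp : ∀ χ : Cfsg.IrrCharacter G, (∀ r ∈ R, (χ : G → ℂ) r = (χ : G → ℂ) 1) →
      ¬ p ∣ Cfsg.charDegree (χ : G → ℂ) → ∀ s ∈ S, (χ : G → ℂ) s = (χ : G → ℂ) 1 := by
    intro χ h1 h2
    have h3 := (mem_principalBlock_iff_of_isPSolvable hMp hps χ).2 h1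
    obtain ⟨h4, -⟩ := (h χ).1 ⟨h3, h2⟩
    exact (mem_principalBlock_iff_of_isPSolvable hMq hqs χ).1 h4
  have hXq : ∀ χ : Cfsg.IrrCharacter G, (∀ r ∈ S, (χ : G → ℂ) r = (χ : G → ℂ) 1) →
      ¬ q ∣ Cfsg.charDegree (χ : G → ℂ) → ∀ s ∈ R, (χ : G → ℂ) s = (χ : G → ℂ) 1 := by
    intro χ h1 h2
    have h3 := (mem_principalBlock_iff_of_isPSolvable hMq hqs χ).2 h1
    obtain ⟨h4, -⟩ := (h χ).2 ⟨h3, h2⟩
    exact (mem_principalBlock_iff_of_isPSolvable hMp hps χ).1 h4
  set K := R ⊔ S with hK
  haveI hKn : K.Normal := Subgroup.sup_normal R S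
  -- `K = ⊤`
  have hKtop : K = ⊤ := by
    by_contra hne
    haveI : Nontrivial (G ⧸ K) := by
      rw [← not_subsingleton_iff_nontrivial]
      intro hsub
      apply hne
      rw [eq_top_iff]
      intro g _
      rw [← QuotientGroup.eq_one_iff]
      exact Subsingleton.elim _ _
    have hQ := Cfsg.Agent.Lib.Helper7.isPSolvable_quotient hps K
    obtain ⟨Nb, hNbn, hNbne, hNb⟩ := Cfsg.Agent.Lib.Helper7.exists_normal_of_isPSolvable hQ
    set mk := QuotientGroup.mk' K with hmk
    have hsurj : Function.Surjective mk := QuotientGroup.mk'_surjective K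
    set W := Nb.comap mk with hW
    haveI hWn : W.Normal := hNbn.comap mk
    have hrelW : K.relIndex W = Nat.card Nb := by
      have h1 : K = (⊥ : Subgroup (G ⧸ K)).comap mk := by
        rw [MonoidHom.comap_bot, QuotientGroup.ker_mk']
      conv_lhs => rw [h1]
      rw [Subgroup.relIndex_comap, Subgroup.relIndex_bot_left, hW,
        Subgroup.map_comap_eq_self_of_surjective hsurj]
    have hfin : W ≤ K → False := by
      intro hle
      apply hNbne
      rw [eq_bot_iff]
      intro x hx
      obtain ⟨g, rfl⟩ := hsurj x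
      have hg : g ∈ W := hx
      rw [Subgroup.mem_bot]
      exact (QuotientGroup.eq_one_iff g).2 (hle hg)
    rcases hNb with ⟨m, hm⟩ | hcop
    · -- a `p`-group: use `q`
      apply hfin
      have hrel : ((Cfsg.pPrimeCore q G ⊔ R).relIndex W).Coprime q := by
        rw [sup_comm, ← hS, ← hK, hrelW, hm]
        exact Nat.Coprime.pow_left m ((Nat.coprime_primes hpp hqp).2 hpq)
      have := PQ.le_sup_of_coprime_relIndex q R W hrel hXq
      rw [sup_comm] at this
      exact this
    · apply hfin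
      have hrel : ((Cfsg.pPrimeCore p G ⊔ S).relIndex W).Coprime p := by
        rw [← hR, ← hK, hrelW]
        exact hcop
      exact PQ.le_sup_of_coprime_relIndex p S W hrel hXp
  -- hence every character in the common set is trivial
  apply PQ.not_dvd_card_of_trivial p ?_ hp
  intro χ h1 h2 s
  obtain ⟨L, -, hL⟩ := exists_normal_ker (isCharacter_of_irr χ.2)
  have hRL : R ≤ L := fun r hr => (hL r).2 (h1 r hr)
  have hSL : S ≤ L := fun r hr => (hL r).2 (hXp χ h1 h2 r hr)
  have : s ∈ K := by rw [hKtop]; trivial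
  exact (hL s).1 (sup_le hRL hSL this)

end Cfsg.Agent.S4885
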