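import Mathlib
import Cfsg.Statements.S4888
import Cfsg.Agent.Lib.Helper8.HD4
import Cfsg.Agent.Lib.Helper8.PB1
import Cfsg.Agent.Lib.Helper8.TildeBlock3
import Cfsg.Agent.Lib.Helper4.NPC
import Cfsg.Agent.Lib.Helper6.PPrimeCore
import Cfsg.Agent.Lib.Lead.FrobNPC5

set_option autoImplicit false
open Cfsg

namespace Cfsg.Agent.S4888

open Cfsg.Agent.Lib.Helper1 Cfsg.Agent.Lib.Helper4 Cfsg.Agent.Lib.Helper8

/-- Let G be a finite group, p a prime and M a maximal ideal of the algebraic integers containing p. Then all height-zero irreducible characters of the principal p-block of G (equivalently, all its characters of degree prime to p) have the same degree if and only if G has a normal p-complement. -/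
theorem result {G : Type*} [Group G] [Finite G] (p : ℕ) [Fact p.Prime] (M : Ideal Cfsg.AlgInt) (hM : Cfsg.IsPModular p M) : (∃ d : ℕ, ∀ χ : Cfsg.IrrCharacter G, χ ∈ (Cfsg.principalBlock M G) → Cfsg.blockHeight p (Cfsg.principalBlock M G) (χ : G → ℂ) = 0 → Cfsg.charDegree (χ : G → ℂ) = d) ↔ Cfsg.HasNormalPComplement p G := by
  classical
  haveI : Fintype G := Fintype.ofFinite G
  have hp : p.Prime := Fact.out
  have hMp := isPModular_isPrime hM
  have htriv : trivIrr G ∈ Cfsg.principalBlock M G := trivIrr_mem_principalBlock hMp.ne_top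
  have h2 : Cfsg.charDegree (trivIrr G : G → ℂ) = 1 := by
    apply charDegree_of_apply_one (n := 1)
    rw [trivIrr_apply]
    simp
  have hheight : ∀ χ : Cfsg.IrrCharacter G,
      Cfsg.blockHeight p (Cfsg.principalBlock M G) (χ : G → ℂ) = 0 ↔
        ¬ p ∣ Cfsg.charDegree (χ : G → ℂ) := by
    intro χ
    rw [blockHeight_eq_zero_iff ⟨trivIrr G, htriv⟩]
    obtain ⟨-, hd0⟩ := irr_apply_one_eq_charDegree χ.2
    constructor
    · intro h hdvd
      have h1 := h (trivIrr G) htriv
      rw [h2, Nat.factorization_one] at h1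
      have h3 : 0 < (Cfsg.charDegree (χ : G → ℂ)).factorization p :=
        hp.factorization_pos_of_dvd hd0.ne' hdvd
      have : (Cfsg.charDegree (χ : G → ℂ)).factorization p ≤ 0 := h1
      omega
    · intro h ξ _
      rw [Nat.factorization_eq_zero_of_not_dvd h]
      exact Nat.zero_le _
  have hp1 : ¬ p ∣ 1 := fun h => hp.one_lt.ne' (Nat.dvd_one.1 h)
  constructor
  · rintro ⟨d, hd⟩
    have hd1 : d = 1 := by
      have := hd (trivIrr G) htriv ((hheight _).2 (by rw [h2]; exact hp1))
      rw [h2] at this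
      exact this.symm
    have hlin : ∀ χ : Cfsg.IrrCharacter G, χ ∈ Cfsg.principalBlock M G →
        ¬ p ∣ Cfsg.charDegree (χ : G → ℂ) → Cfsg.charDegree (χ : G → ℂ) = 1 := by
      intro χ hχ h
      rw [hd χ hχ ((hheight χ).2 h), hd1]
    have hex : ∃ n : ℕ, ∃ N : Subgroup G, N.Normal ∧ (∃ k : ℕ, N.index = p ^ k) ∧
        Nat.card N = n := ⟨_, ⊤, inferInstance, ⟨0, by simp⟩, rfl⟩
    obtain ⟨N, hNn, hNidx, hNcard⟩ := Nat.find_spec hex
    have hmin := fun m hm => Nat.find_min hex (m := m) hm
    by_cases hpN : p ∣ Nat.card N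
    · exfalso
      haveI := hNn
      haveI : Fintype N := Fintype.ofFinite N
      obtain ⟨φ, hφinv, hφo⟩ := HD.exists_hInv_orderOf N hM hNidx hpN hlin
      have hφp : ∀ n : N, φ (n ^ p) = 1 := by
        intro n
        have h1 : φ ^ p = 1 := by rw [← hφo]; exact pow_orderOf_eq_one φ
        have h2 := congrArg (fun ψ : N →* ℂˣ => ψ n) h1
        simp only [MonoidHom.pow_apply, MonoidHom.one_apply] at h2
        rw [map_pow]
        exact h2
      have hQp : IsPGroup p (N ⧸ φ.ker) := by
        intro q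
        induction q using QuotientGroup.induction_on with
        | H n =>
          refine ⟨1, ?_⟩
          rw [pow_one, ← QuotientGroup.mk_pow, QuotientGroup.eq_one_iff, MonoidHom.mem_ker]
          exact hφp n
      obtain ⟨j, hj⟩ := IsPGroup.iff_card.1 hQp
      have hkidx : φ.ker.index = p ^ j := by rw [Subgroup.index_eq_card]; exact hj
      have hj0 : j ≠ 0 := by
        rintro rfl
        rw [pow_zero, Subgroup.index_eq_one] at hkidx
        have : φ = 1 := by
          ext n
          have : n ∈ φ.ker := by rw [hkidx]; trivial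
          rw [MonoidHom.mem_ker] at this
          rw [this]; rfl
        rw [this, orderOf_one] at hφo
        exact hp.one_lt.ne' hφo.symm
      set K : Subgroup G := φ.ker.map N.subtype with hK
      have hKn : K.Normal := by
        constructor
        rintro x ⟨n, hn, rfl⟩ g
        refine ⟨⟨g * n * g⁻¹, hNn.conj_mem n n.2 g⟩, ?_, rfl⟩
        rw [SetLike.mem_coe, MonoidHom.mem_ker] at hn ⊢
        rw [hφinv g n]
        exact hn
      obtain ⟨k, hk⟩ := hNidx
      have hKidx : K.index = p ^ (j + k) := by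
        rw [hK, Subgroup.index_map_subtype, hkidx, hk, pow_add]
      have hKcard : Nat.card K < Nat.card N := by
        rw [hK, Subgroup.card_map_of_injective N.subtype_injective]
        have h1 := Subgroup.card_mul_index φ.ker
        rw [hkidx] at h1
        have h3 : 2 ≤ p ^ j := by
          calc 2 ≤ p := hp.two_le
            _ = p ^ 1 := (pow_one p).symm
            _ ≤ p ^ j := Nat.pow_le_pow_right hp.pos (Nat.one_le_iff_ne_zero.2 hj0)
        have h4 : 0 < Nat.card φ.ker := Nat.card_pos
        nlinarith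
      rw [hNcard] at hKcard
      exact hmin _ hKcard ⟨K, hKn, ⟨j + k, hKidx⟩, rfl⟩
    · obtain ⟨k, hk⟩ := hNidx
      exact Cfsg.Agent.Lib.Helper4.hasNormalPComplement_of_normal_coprime N hNn
        ((Nat.Prime.coprime_iff_not_dvd hp).2 hpN).symm k hk
  · rintro ⟨P, K, hKn, hc⟩
    haveI := hKn
    refine ⟨1, fun χ hχ hh => ?_⟩
    have hKc := Cfsg.Agent.Lib.Lead.card_coprime_of_isComplement' P K hc
    obtain ⟨k, hk⟩ := Cfsg.Agent.Lib.Lead.index_eq_pow_of_isComplement' P K hc
    have hKle : K ≤ Cfsg.pPrimeCore p G := Cfsg.Agent.Lib.Helper6.le_pPrimeCore hKn hKc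
    have h1 : ∀ g ∈ K, (χ : G → ℂ) g = (χ : G → ℂ) 1 := fun g hg =>
      principalBlock_apply_pPrimeCore hM hχ (hKle hg)
    have h3 := charDegree_dvd_index K χ.2 h1
    rw [hk] at h3
    obtain ⟨i, -, hi⟩ := (Nat.dvd_prime_pow hp).1 h3
    have h4 := (hheight χ).1 hh
    rw [hi] at h4 ⊢
    rcases Nat.eq_zero_or_pos i with rfl | hi0
    · rfl
    · exact absurd (dvd_pow_self p hi0.ne') h4

end Cfsg.Agent.S4888
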