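import Mathlib
import Cfsg.Statements.S4892
import Cfsg.Agent.Lib.Helper8.PRX11
import Cfsg.Agent.Lib.Helper8.PRX12
-- import your own Cfsg.Agent.* helpers here

set_option autoImplicit false
open Cfsg

namespace Cfsg.Agent.S4892

/-- Let p be an odd prime, M a maximal ideal of the algebraic integers containing p, N a normal subgroup of the finite group G, and θ an irreducible character of N that is G-invariant, of degree prime to p, p-rational (values in the field generated over ℚ by a root of unity of order prime to p) and lies in the principal p-block of N. Let Q be a Sylow p-subgroup of N and suppose the index of N·C_G(Q) in G is a power of p. Then θ extends to a p-rational irreducible character of G lying in the principal p-block of G. -/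
theorem result {G : Type*} [Group G] [Finite G] (p : ℕ) [Fact p.Prime] (hp : p ≠ 2) (M : Ideal Cfsg.AlgInt) (hM : Cfsg.IsPModular p M) (N : Subgroup G) [N.Normal] (θ : Cfsg.IrrCharacter ↥N) (hinv : ∀ g : G, ∀ n n' : ↥N, (n' : G) = g * (n : G) * g⁻¹ → (θ : ↥N → ℂ) n' = (θ : ↥N → ℂ) n) (hdeg : ¬ p ∣ Cfsg.charDegree (θ : ↥N → ℂ)) (hrat : ∃ m : ℕ, ¬ p ∣ m ∧ ∀ n : ↥N, (θ : ↥N → ℂ) n ∈ IntermediateField.adjoin ℚ ({Complex.exp (2 * Real.pi * Complex.I / m)} : Set ℂ)) (hB : θ ∈ Cfsg.principalBlock M ↥N) (Q : Sylow p ↥N) (hidx : ∃ a : ℕ, (N ⊔ Subgroup.centralizer (((Q : Subgroup ↥N).map N.subtype : Subgroup G) : Set G)).index = p ^ a) : ∃ χ : Cfsg.IrrCharacter G, χ ∈ (Cfsg.principalBlock M G) ∧ (∃ n : ℕ, ¬ p ∣ n ∧ ∀ g : G, (χ : G → ℂ) g ∈ IntermediateField.adjoin ℚ ({Complex.exp (2 * Real.pi * Complex.I / n)} : Set ℂ)) ∧ ∀ n : ↥N, (χ : G → ℂ) n = (θ : ↥N → ℂ) n := by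
  classical
  obtain ⟨m, hpm, hrat'⟩ := hrat
  have hp' : p.Prime := Fact.out
  have C : Cfsg.Agent.Lib.Helper8.PRX.PCtx p M N ((Q : Subgroup ↥N).map N.subtype)
      (θ : ↥N → ℂ) :=
    { hM := hM
      hp2 := hp
      hQN := Subgroup.map_subtype_le _
      hQ := by
        show ¬ p ∣ (((Q : Subgroup ↥N).map N.subtype).comap N.subtype).index
        rw [Subgroup.comap_map_eq_self_of_injective N.subtype_injective]
        exact Q.not_dvd_index
      hHn := Cfsg.Agent.Lib.Helper8.PRX.normal_sup_centralizer_sylow N Q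
      hHidx := hidx
      hθ := θ.2
      hinv := fun h x y hxy => hinv h⁻¹ x y (by rw [hxy, inv_inv])
      hprin := hB
      hfix := fun k hk => funext fun x =>
        Cfsg.Agent.Lib.Helper8.PRX.pow_eq_of_rational hp' N
          (Cfsg.Agent.Lib.Helper4.isCharacter_of_irr θ.2) hpm hrat' hk x }
  obtain ⟨Θ, hΘ, hΘθ, hΘS, hΘB⟩ := Cfsg.Agent.Lib.Helper8.PRX.exists_prational_ext C
  refine ⟨⟨Θ, hΘ⟩, hΘB, ⟨Nat.card G / p ^ (Nat.card G).factorization p,
    Nat.not_dvd_ordCompl hp' Nat.card_pos.ne', ?_⟩, hΘθ⟩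
  intro g
  exact Cfsg.Agent.Lib.Helper8.PRX.mem_adjoin_of_pow_eq
    (Cfsg.Agent.Lib.Helper4.isCharacter_of_irr hΘ) (Nat.ordCompl_dvd _ p)
    (fun k hk hk1 x => congrFun (hΘS k ⟨hk, hk1⟩) x) g

end Cfsg.Agent.S4892
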