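import Mathlib
import Cfsg.Statements.S4912
import Cfsg.Agent.Lib.Helper8.FSI4

set_option autoImplicit false
open Cfsg

namespace Cfsg.Agent.S4912

open scoped ComplexConjugate
open Cfsg.Agent.Lib.Helper1 Cfsg.Agent.Lib.Helper4 Cfsg.Agent.Lib.Helper8

/-- Let G be a finite group with a non-abelian minimal normal subgroup N, and let φ be an irreducible complex character of N with stabilizer I in G such that φ extends to an irreducible character of I with Frobenius–Schur indicator +1. Put d = φ(1)·[G : I]. Then the number of linear characters of G with Frobenius–Schur indicator +1 is at most [G : I] times the number of irreducible characters of G of degree d with Frobenius–Schur indicator +1. -/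
theorem result {G : Type*} [Group G] [Finite G] (N : Subgroup G) (hN : N.Normal) (hN1 : N ≠ ⊥) (hmin : ∀ M : Subgroup G, M.Normal → M ≤ N → M = ⊥ ∨ M = N) (hna : ¬ IsMulCommutative ↥N) (φ : Cfsg.IrrCharacter ↥N) (I : Subgroup G) (hI : ∀ g : G, g ∈ I ↔ ∀ n n' : ↥N, (n' : G) = g * (n : G) * g⁻¹ → (φ : ↥N → ℂ) n' = (φ : ↥N → ℂ) n) (hNI : N ≤ I) (hext : ∃ ψ : Cfsg.IrrCharacter ↥I, (Nat.card ↥I : ℂ)⁻¹ * ∑ᶠ g : ↥I, (ψ : ↥I → ℂ) (g * g) = 1 ∧ ∀ n : ↥N, (ψ : ↥I → ℂ) (Subgroup.inclusion hNI n) = (φ : ↥N → ℂ) n) : Nat.card {χ : Cfsg.IrrCharacter G // Cfsg.charDegree (χ : G → ℂ) = 1 ∧ (Nat.card G : ℂ)⁻¹ * ∑ᶠ g : G, (χ : G → ℂ) (g * g) = 1} ≤ I.index * Nat.card {χ : Cfsg.IrrCharacter G // Cfsg.charDegree (χ : G → ℂ) = Cfsg.charDegree (φ : ↥N → ℂ) * I.index ∧ (Nat.card G : ℂ)⁻¹ * ∑ᶠ g : G, (χ : G → ℂ) (g * g) = 1} := by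
  classical
  haveI := hN
  haveI : Fintype G := Fintype.ofFinite _
  obtain ⟨ψ, hνψ, hψ⟩ := hext
  -- N is perfect
  have hCn : (⁅N, N⁆ : Subgroup G).Normal := Subgroup.commutator_normal N N
  have hCle : (⁅N, N⁆ : Subgroup G) ≤ N := Subgroup.commutator_le_left N N
  have hC : (⁅N, N⁆ : Subgroup G) = N := by
    rcases hmin _ hCn hCle with h | h
    · exfalso
      apply hna
      refine ⟨⟨fun a b => ?_⟩⟩
      have h1 := Subgroup.commutator_mem_commutator a.2 b.2
      rw [h, Subgroup.mem_bot, commutatorElement_eq_one_iff_mul_comm] at h1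
      exact Subtype.ext h1
    · exact h
  have htriv : ∀ f : G →* ℂˣ, ∀ n ∈ N, f n = 1 := by
    intro f n hn
    have hle : (⁅N, N⁆ : Subgroup G) ≤ f.ker := by
      rw [Subgroup.commutator_le]
      intro a _ b _
      rw [MonoidHom.mem_ker, map_commutatorElement, commutatorElement_eq_one_iff_mul_comm]
      exact mul_comm _ _
    rw [hC] at hle
    exact MonoidHom.mem_ker.1 (hle hn)
  have hin : I = Cfsg.Agent.Lib.Helper1.inertia N (φ : ↥N → ℂ) := by
    ext g
    rw [hI g, Cfsg.Agent.Lib.Helper1.mem_inertia]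
    constructor
    · intro h
      funext n
      exact h n ⟨g * n * g⁻¹, hN.conj_mem n n.2 g⟩ rfl
    · intro h n n' hn'
      have h1 := congrFun h n
      have h2 : n' = ⟨g * n * g⁻¹, hN.conj_mem n n.2 g⟩ := Subtype.ext hn'
      rw [h2]
      exact h1
  have hdata : ExtData N (φ : ↥N → ℂ) I (ψ : ↥I → ℂ) :=
    { irrφ := φ.2
      irrψ := ψ.2
      inertia_eq := hin
      le := hNI
      ext := fun n => hψ n
      triv := htriv }
  exact FSI.card_linear_fs_le hdata hνψ

end Cfsg.Agent.S4912
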