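import Cfsg.Statements.S4914
import Mathlib
import Cfsg.Agent.Lib.Helper8.RV14

set_option autoImplicit false
open Cfsg
open Cfsg.Agent.Lib.Helper1 Cfsg.Agent.Lib.Helper4 Cfsg.Agent.Lib.Helper8 Cfsg.Agent.Lib.Helper8.RV Cfsg.Agent.Lib.Helper8.CX

namespace Cfsg.Agent.S4914

/-- Let P and K be subgroups of a finite group G with P a p-group normalizing K, and suppose K has a normal Sylow p-subgroup Q. Let C be the subgroup of those k ∈ K whose commutator with every element of P lies in Q (so that C/Q is the fixed-point subgroup of P on K/Q). Then there is a bijection f from the P-invariant irreducible complex characters of K onto the P-invariant irreducible complex characters of C such that, for every P-invariant irreducible character χ of K, the multiplicity of f(χ) in the restriction of χ to C is a natural number congruent to 1 or to −1 modulo p, every other P-invariant irreducible character of C occurs in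 that restriction with multiplicity divisible by p, and the degrees of χ and f(χ) are congruent modulo p up to sign. -/
theorem result {G : Type*} [Group G] [Finite G] (p : ℕ) [Fact p.Prime] (P K Q C : Subgroup G) (hP : IsPGroup p ↥P) (hPK : P ≤ Subgroup.normalizer (K : Set G)) (hQK : Q ≤ K) (hQn : ∀ k ∈ K, ∀ q ∈ Q, k * q * k⁻¹ ∈ Q) (hQp : ∃ a : ℕ, Nat.card ↥Q = p ^ a) (hQsyl : ¬ p ∣ Q.relIndex K) (hCK : C ≤ K) (hC : ∀ k : G, k ∈ C ↔ (k ∈ K ∧ ∀ x ∈ P, x * k * x⁻¹ * k⁻¹ ∈ Q)) : ∃ f : {χ : Cfsg.IrrCharacter ↥K // (∀ x ∈ P, ∀ k k' : ↥K, (k' : G) = x * (k : G) * x⁻¹ → (χ : ↥K → ℂ) k' = (χ : ↥K → ℂ) k)} → {ξ : Cfsg.IrrCharacter ↥C // (∀ x ∈ P, ∀ k k' : ↥C, (k' : G) = x * (k : G) * x⁻¹ → (ξ : ↥C → ℂ) k' = (ξ : ↥C → ℂ) k)}, Function.Bijective f ∧ ∀ χ, (∀ ξ : {ξ : Cfsg.IrrCharacter ↥C // (∀ x ∈ P, ∀ k k' : ↥C, (k' : G) = x * (k : G) * x⁻¹ → (ξ : ↥C → ℂ) k' = (ξ : ↥C → ℂ) k)}, ∃ m : ℕ, (Nat.card ↥C : ℂ)⁻¹ * ∑ᶠ c : ↥C,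 (χ.1 : ↥K → ℂ) (Subgroup.inclusion hCK c) * (starRingEnd ℂ) ((ξ.1 : ↥C → ℂ) c) = (m : ℂ) ∧ (ξ = f χ → ((m : ZMod p) = 1 ∨ (m : ZMod p) = -1)) ∧ (ξ ≠ f χ → p ∣ m)) ∧ ((Cfsg.charDegree ((f χ).1 : ↥C → ℂ) : ZMod p) = (Cfsg.charDegree (χ.1 : ↥K → ℂ) : ZMod p) ∨ (Cfsg.charDegree ((f χ).1 : ↥C → ℂ) : ZMod p) = -(Cfsg.charDegree (χ.1 : ↥K → ℂ) : ZMod p)) := by
  classical
  letI subFt : ∀ H : Subgroup G, Fintype H := fun H => Fintype.ofFinite H
  have hPKn : ∀ x ∈ P, Normalizes x K := fun x hx => Subgroup.mem_normalizer_iff.1 (hPK hx)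
  have hKQ : ∀ k ∈ K, Normalizes k Q := fun k hk => normalizes_of_forall hQn hk
  -- P normalises Q
  have hPQ : ∀ x ∈ P, Normalizes x Q := by
    have key : ∀ x ∈ P, ∀ q ∈ Q, x * q * x⁻¹ ∈ Q := by
      intro x hx q hq
      obtain ⟨a, ha⟩ := hQp
      haveI : (Q.subgroupOf K).Normal := normal_subgroupOf_of_normalizes hKQ
      have hxK : x * q * x⁻¹ ∈ K := (hPKn x hx q).1 (hQK hq)
      have hpow : (⟨x * q * x⁻¹, hxK⟩ : K) ^ (p ^ a) = 1 := by
        apply Subtype.ext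
        rw [Subgroup.coe_pow, Subgroup.coe_one]
        show (x * q * x⁻¹) ^ (p ^ a) = 1
        rw [conj_pow]
        have h1 : q ^ (p ^ a) = 1 := by
          have h2 : (⟨q, hq⟩ : Q) ^ (p ^ a) = 1 := by
            rw [← ha]
            exact pow_card_eq_one'
          have h3 := congrArg Subtype.val h2
          simpa using h3
        rw [h1]
        group
      have hcop : (p ^ a).Coprime (Q.subgroupOf K).index := by
        apply Nat.Coprime.pow_left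
        rw [Nat.Prime.coprime_iff_not_dvd (Fact.out : p.Prime)]
        exact hQsyl
      have := mem_of_pow_eq_one_of_coprime (K := Q.subgroupOf K) hpow hcop
      exact Subgroup.mem_subgroupOf.1 this
    exact fun x hx => normalizes_of_forall key hx
  have Gl : Glob p P K Q C :=
    { hP := hP, hPK := hPKn, hPQ := hPQ, hQK := hQK, hKQ := hKQ, hQp := hQp, hcop := hQsyl,
      hC := hC }
  -- the map
  have hex : ∀ χ : {χ : Cfsg.IrrCharacter ↥K // (∀ x ∈ P, ∀ k k' : ↥K, (k' : G) = x * (k : G) * x⁻¹ → (χ : ↥K → ℂ) k' = (χ : ↥K → ℂ) k)},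
      ∃ ξ : {ξ : Cfsg.IrrCharacter ↥C // (∀ x ∈ P, ∀ k k' : ↥C, (k' : G) = x * (k : G) * x⁻¹ → (ξ : ↥C → ℂ) k' = (ξ : ↥C → ℂ) k)},
        Corr p P Gl.hCK (χ.1 : ↥K → ℂ) (ξ.1 : ↥C → ℂ) := by
    intro χ
    obtain ⟨ξ, h1, h2, h3⟩ := Gl.global_exists χ.1.2 χ.2
    exact ⟨⟨⟨ξ, h1⟩, h2⟩, h3⟩
  choose f hf using hex
  refine ⟨f, ⟨?_, ?_⟩, ?_⟩
  · intro χ₁ χ₂ h12
    have h1 := hf χ₁
    have h2 := hf χ₂
    rw [h12] at h1
    have := Gl.global_inj χ₁.1.2 χ₁.2 χ₂.1.2 χ₂.2 (f χ₂).1.2 (f χ₂).2 h1 h2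
    exact Subtype.ext (Subtype.ext this)
  · intro ξ
    obtain ⟨χ, h1, h2, h3⟩ := Gl.global_surj ξ.1.2 ξ.2
    refine ⟨⟨⟨χ, h1⟩, h2⟩, ?_⟩
    have := Corr.unique (hf ⟨⟨χ, h1⟩, h2⟩) h3 ξ.1.2 ξ.2
    exact Subtype.ext (Subtype.ext this)
  · intro χ
    obtain ⟨ε, hε, hm, hdeg⟩ := hf χ
    refine ⟨?_, ?_⟩
    · intro ξ
      obtain ⟨m, hm1, hm2⟩ := hm ξ.1 ξ.2
      refine ⟨m, ?_, ?_, ?_⟩
      · rw [← hm1, classInner_def, finsum_eq_sum_of_fintype]
        rfl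
      · intro hξ
        rw [if_pos (by rw [hξ])] at hm2
        have h1 : ((m : ℤ) : ZMod p) = ((ε : ℤ) : ZMod p) :=
          (ZMod.intCast_eq_intCast_iff _ _ _).2 hm2
        rw [Int.cast_natCast] at h1
        rcases hε with h | h
        · left
          rw [h1, h]
          simp
        · right
          rw [h1, h]
          simp
      · intro hξ
        have hne : ¬ ((ξ.1 : ↥C → ℂ) = ((f χ).1 : ↥C → ℂ)) := by
          intro h
          exact hξ (Subtype.ext (Subtype.ext h))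
        rw [if_neg hne] at hm2
        exact dvd_of_modEq_zero hm2
    · have h1 : (((charDegree (χ.1 : ↥K → ℂ) : ℕ) : ℤ) : ZMod p)
          = ((ε * ((charDegree ((f χ).1 : ↥C → ℂ) : ℕ) : ℤ) : ℤ) : ZMod p) :=
        (ZMod.intCast_eq_intCast_iff _ _ _).2 hdeg
      rw [Int.cast_natCast, Int.cast_mul, Int.cast_natCast] at h1
      rcases hε with h | h
      · left
        rw [h1, h]
        simp
      · right
        rw [h1, h]
        simp

end Cfsg.Agent.S4914
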