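import Mathlib
import Cfsg.Statements.S4916
import Cfsg.Agent.Lib.Helper8.BlockUnion

set_option autoImplicit false

open Cfsg

namespace Cfsg.Agent.S4916

open scoped ComplexConjugate
open Cfsg.Agent.Lib.Helper1 Cfsg.Agent.Lib.Helper4 Cfsg.Agent.Lib.Helper8

theorem trivIrr_coe {G : Type*} [Group G] : (trivIrr G : G → ℂ) = fun _ => (1 : ℂ) := by
  funext x
  rw [trivIrr_apply]

theorem charDegree_trivIrr {G : Type*} [Group G] [Finite G] :
    Cfsg.charDegree (trivIrr G : G → ℂ) = 1 := by
  have h := (irr_apply_one_eq_charDegree (trivIrr G).2).1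
  rw [trivIrr_apply] at h
  exact_mod_cast h.symm

theorem result {G : Type*} [Group G] [Finite G] (p : ℕ) [Fact p.Prime] (M : Ideal Cfsg.AlgInt) (hM : Cfsg.IsPModular p M) : (∀ χ : Cfsg.IrrCharacter G, χ ∈ Cfsg.principalBlock M G → ¬ p ∣ Cfsg.charDegree (χ : G → ℂ) → (χ : G → ℂ) = fun _ => (1 : ℂ)) ↔ ¬ p ∣ Nat.card G := by
  classical
  have : Fintype G := Fintype.ofFinite G
  have : Fintype (Cfsg.IrrCharacter G) := Fintype.ofFinite _
  have hp : p.Prime := Fact.out
  have hMp := isPModular_isPrime hM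
  have hprinc : Cfsg.principalBlock M G = Cfsg.blockOf M (trivIrr G : G → ℂ) := by
    unfold Cfsg.principalBlock
    rw [trivIrr_coe]
  constructor
  · intro h hdvd
    obtain ⟨y, hy⟩ := exists_prime_orderOf_dvd_card' p hdvd
    have h1 : ¬ p ∣ orderOf (1 : G) := by
      rw [orderOf_one]
      exact hp.one_lt.ne' ∘ Nat.dvd_one.1
    have hy' : p ∣ orderOf y := by rw [hy]
    have key := finsum_block_mul_eq_zero hM (isPBlock_principalBlock (M := M) (G := G)) h1 hy'
    rw [finsum_mem_eq_sum_indicator] at key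
    rw [← Finset.add_sum_erase _ _ (Finset.mem_univ (trivIrr G))] at key
    rw [if_pos (trivIrr_mem_principalBlock hMp.ne_top), trivIrr_apply, trivIrr_apply] at key
    have hJ : MemLocalIdeal M (∑ χ ∈ Finset.univ.erase (trivIrr G),
        (if χ ∈ Cfsg.principalBlock M G then (1 : ℂ) else 0) *
          ((χ : G → ℂ) 1 * (χ : G → ℂ) y)) := by
      apply memLocalIdeal_sum hMp
      intro χ hχ
      have hne : χ ≠ trivIrr G := (Finset.mem_erase.1 hχ).1
      by_cases hχB : χ ∈ Cfsg.principalBlock M G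
      · rw [if_pos hχB, one_mul]
        have hdiv : p ∣ Cfsg.charDegree (χ : G → ℂ) := by
          by_contra hnd
          apply hne
          apply Subtype.ext
          rw [h χ hχB hnd, trivIrr_coe]
        rw [(irr_apply_one_eq_charDegree χ.2).1]
        apply memLocalIdeal_mul_right hMp ((memLocalIdeal_natCast_iff hM _).2 hdiv)
        exact memLocalRing_char_apply hMp.ne_top (isCharacter_of_irr χ.2) y
      · rw [if_neg hχB, zero_mul]
        exact memLocalIdeal_zero hMp.ne_top
    have h2 : (1 : ℂ) = - ∑ χ ∈ Finset.univ.erase (trivIrr G),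
        (if χ ∈ Cfsg.principalBlock M G then (1 : ℂ) else 0) *
          ((χ : G → ℂ) 1 * (χ : G → ℂ) y) := by
      have : (1 : ℂ) * ((1 : ℂ) * 1) = 1 := by ring
      rw [this] at key
      linear_combination key
    have := memLocalIdeal_neg hJ
    rw [← h2] at this
    exact not_memLocalIdeal_one hMp this
  · intro hnd χ hχ _
    have h1 : ¬ p ∣ Nat.card G / Cfsg.charDegree (trivIrr G : G → ℂ) := by
      rw [charDegree_trivIrr, Nat.div_one]
      exact hnd
    have h2 := blockOf_eq_singleton_of_not_dvd hM (trivIrr G) h1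
    rw [hprinc, h2, Set.mem_singleton_iff] at hχ
    rw [hχ, trivIrr_coe]

end Cfsg.Agent.S4916
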