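import Mathlib
import Cfsg.Statements.S4937
import Cfsg.Agent.Lib.Helper8.RelSch5
import Cfsg.Agent.Lib.Helper2.DetChar
-- import your own Cfsg.Agent.* helpers here

set_option autoImplicit false
open Cfsg Cfsg.Agent.Lib.Helper8 Cfsg.Agent.Lib.Helper8.RelSch Cfsg.Agent.Lib.Helper1 Cfsg.Agent.Lib.Helper4

namespace Cfsg.Agent.S4937

/-- Let G be a finite group, p a prime, M a maximal ideal of the algebraic integers containing p, N a normal subgroup of G and P a Sylow p-subgroup of N such that G = N·C_G(P). Let θ be an irreducible character in the principal p-block of N that is the restriction of some irreducible character of G. Then θ is the restriction of an irreducible character χ of G lying in the principal p-block of G such that, for every subgroup J of G containing N, the restriction of χ to J is an irreducible character of J lying in the principal p-block of J. -/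
theorem result {G : Type*} [Group G] [Finite G] (p : ℕ) [Fact p.Prime] (M : Ideal Cfsg.AlgInt) (hM : Cfsg.IsPModular p M) (N : Subgroup G) [N.Normal] (P : Sylow p ↥N)
    (hcov : N ⊔ Subgroup.centralizer (((P : Subgroup ↥N).map N.subtype : Subgroup G) : Set G) = ⊤)
    (θ : Cfsg.IrrCharacter ↥N) (hθ : θ ∈ Cfsg.principalBlock M ↥N)
    (hext : ∃ ψ : Cfsg.IrrCharacter G, ∀ x : ↥N, (ψ : G → ℂ) x = (θ : ↥N → ℂ) x) :
    ∃ χ : Cfsg.IrrCharacter G, χ ∈ Cfsg.principalBlock M G ∧ (∀ x : ↥N, (χ : G → ℂ) x = (θ : ↥N → ℂ) x) ∧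
      ∀ J : Subgroup G, N ≤ J → ∃ ξ : Cfsg.IrrCharacter ↥J, ξ ∈ Cfsg.principalBlock M ↥J ∧ ∀ y : ↥J, (ξ : ↥J → ℂ) y = (χ : G → ℂ) y := by
  classical
  have : Fintype G := Fintype.ofFinite G
  have : Fintype N := Fintype.ofFinite N
  obtain ⟨ψ, hψ⟩ := hext
  obtain ⟨n, ρ, hirr, hρ⟩ := ψ.2
  have hMp := isPModular_isPrime hM
  have hρN : (fun x : N => ρ.character (x : G)) = (θ : N → ℂ) := by
    funext x
    rw [hρ]
    exact hψ x
  have hnorm : NormOneOn ρ N := by
    unfold NormOneOn
    have h1 := classInner_irr_self θ.2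
    rw [classInner_def] at h1
    have hc : IsCharacter N (θ : N → ℂ) := isCharacter_of_irr θ.2
    have h2 : ∑ x : N, ρ.character (x : G) * ρ.character ((x : G)⁻¹)
        = ∑ g : N, (θ : N → ℂ) g * (starRingEnd ℂ) ((θ : N → ℂ) g) := by
      refine Finset.sum_congr rfl fun x _ => ?_
      rw [← isCharacter_inv hc x, ← hρN]
      rfl
    rw [h2]
    have hN0 : (Nat.card N : ℂ) ≠ 0 := Nat.cast_ne_zero.2 Nat.card_pos.ne'
    field_simp at h1
    exact h1
  have hirrN : IsIrrCharacter N (fun x : N => ρ.character (x : G)) := by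
    rw [hρN]; exact θ.2
  have hprin : SameBlock M (fun _ : N => (1 : ℂ)) (fun x : N => ρ.character (x : G)) := by
    rw [hρN]; exact hθ
  have H4 : ∀ κ : G ⧸ N, ∃ f, ZInv N f ∧ ZSupp N f κ ∧ ¬ (p : ℤ) ∣ ∑ x, f x := by
    intro κ
    obtain ⟨g, rfl⟩ := QuotientGroup.mk_surjective κ
    have hg : g ∈ N ⊔ Subgroup.centralizer
        (((P : Subgroup ↥N).map N.subtype : Subgroup G) : Set G) := by
      rw [hcov]; trivial
    obtain ⟨a, ha, c, hc, rfl⟩ := Subgroup.mem_sup_of_normal_left.1 hg
    have hc' : ∀ x ∈ (P : Subgroup N), c * (x : G) = (x : G) * c := by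
      intro x hx
      have := Subgroup.mem_centralizer_iff.1 hc (x : G) ⟨x, hx, rfl⟩
      exact this.symm
    refine ⟨cosetFun N (P : Subgroup N) c hc', zInv_cosetFun N _ c hc', ?_, ?_⟩
    · have := zSupp_cosetFun N (P : Subgroup N) c hc'
      rwa [QuotientGroup.mk_mul, (QuotientGroup.eq_one_iff a).2 ha, one_mul]
    · rw [sum_cosetFun]
      have := P.not_dvd_index
      exact_mod_cast this
  obtain ⟨φ, hφN, hφ⟩ := exists_twist N hM ρ hnorm hirrN hprin H4
  let ρ' : Representation ℂ G (Fin n → ℂ) := Cfsg.Agent.Lib.Helper2.DetChar.twist φ ρ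
  have hρ' : ∀ g, ρ'.character g = ((φ g : ℂˣ) : ℂ) * ρ.character g :=
    Cfsg.Agent.Lib.Helper2.DetChar.twist_character φ ρ
  have hρ'N : ∀ x : N, ρ'.character (x : G) = ρ.character (x : G) := by
    intro x
    rw [hρ', hφN x x.2]
    simp
  have hnorm' : NormOneOn ρ' N := by
    unfold NormOneOn
    have h1 : ∀ x : N, ρ'.character (x : G) * ρ'.character ((x : G)⁻¹)
        = ρ.character (x : G) * ρ.character ((x : G)⁻¹) := by
      intro x
      rw [hρ'N x]
      have := hρ'N x⁻¹
      push_cast at this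
      rw [this]
    rw [Finset.sum_congr rfl fun x _ => h1 x]
    exact hnorm
  have hirr' : IsIrrCharacter G ρ'.character := irr_of_normOne ρ' N hnorm'
  have hcf : IsClassFunction G ρ'.character :=
    isClassFunction_of_isCharacter (isCharacter_of_irr hirr')
  have hcong : ∀ f : G → ℤ, ZInv N f → MemLocalIdeal M
      ((∑ g, (f g : ℂ) * ρ'.character g) / ρ'.character 1 - ((∑ g, f g : ℤ) : ℂ)) := by
    intro f hf
    have h1 := hφ f hf
    have h2 : ρ'.character 1 = ρ.character 1 := by
      rw [hρ', map_one]; simp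
    rw [h2]
    have h3 : ∑ g, (f g : ℂ) * ρ'.character g
        = ∑ g, (f g : ℂ) * (ρ.character g * ((φ g : ℂˣ) : ℂ)) := by
      refine Finset.sum_congr rfl fun g _ => ?_
      rw [hρ', mul_comm ((φ g : ℂˣ) : ℂ)]
    rw [h3]
    exact h1
  refine ⟨⟨ρ'.character, hirr'⟩, ?_, ?_, ?_⟩
  · exact sameBlock_of_cong N ρ'.character hcf hcong
  · intro x
    show ρ'.character (x : G) = _
    rw [hρ'N x, ← hρN]
  · intro J hNJ
    have : Fintype J := Fintype.ofFinite J
    have hnJ : NormOneOn ρ' J := normOneOn_of_le ρ' N J hnorm' hNJ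
    refine ⟨⟨fun j : J => ρ'.character (j : G), irr_restrict ρ' J hnJ⟩, ?_, fun y => rfl⟩
    exact sameBlock_restrict N ρ'.character hcf hcong J hNJ

end Cfsg.Agent.S4937
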