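import Mathlib
import Cfsg.Statements.S4956

set_option autoImplicit false

open Cfsg

namespace Cfsg.Agent.S4956

variable {X : Type*} [Group X]

/-- Lemma A: in a coprime situation a "commutator" `u⁻¹ g u g⁻¹` centralised by `g` is trivial. -/
theorem comm_eq_one [Finite X] (V : Subgroup X) [V.Normal] (G : Subgroup X)
    (hcop : (Nat.card V).Coprime (Nat.card G)) (u g : X) (hu : u ∈ V) (hg : g ∈ G)
    (hb : (u⁻¹ * g * u * g⁻¹) * g = g * (u⁻¹ * g * u * g⁻¹)) : u⁻¹ * g * u * g⁻¹ = 1 := by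
  set b : X := u⁻¹ * g * u * g⁻¹ with hbdef
  have hbV : b ∈ V := by
    have h1 : g * u * g⁻¹ ∈ V := ‹V.Normal›.conj_mem u hu g
    have : b = u⁻¹ * (g * u * g⁻¹) := by rw [hbdef]; group
    rw [this]
    exact V.mul_mem (V.inv_mem hu) h1
  have hgu : g * u * g⁻¹ = u * b := by rw [hbdef]; group
  have hbg : g * b * g⁻¹ = b := by
    rw [← hb]; group
  have hpow : ∀ i : ℕ, g ^ i * u * (g ^ i)⁻¹ = u * b ^ i := by
    intro i
    induction i with
    | zero => simp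
    | succ i ih =>
      have h1 : g ^ (i + 1) * u * (g ^ (i + 1))⁻¹ = g * (g ^ i * u * (g ^ i)⁻¹) * g⁻¹ := by
        rw [pow_succ']; group
      rw [h1, ih]
      have h2 : g * (u * b ^ i) * g⁻¹ = (g * u * g⁻¹) * (g * b * g⁻¹) ^ i := by
        rw [conj_pow]; group
      rw [h2, hgu, hbg, pow_succ', mul_assoc]
  have h1 := hpow (orderOf g)
  rw [pow_orderOf_eq_one, one_mul, inv_one, mul_one] at h1
  have h2 : b ^ orderOf g = 1 := by
    have := mul_left_cancel (a := u) (b := 1) (c := b ^ orderOf g) (by rw [mul_one]; exact h1)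
    exact this.symm
  have h3 : orderOf b ∣ orderOf g := orderOf_dvd_of_pow_eq_one h2
  have h4 : orderOf g ∣ Nat.card G := by
    have := orderOf_dvd_natCard (⟨g, hg⟩ : G)
    rwa [Subgroup.orderOf_mk] at this
  have h5 : orderOf b ∣ Nat.card V := by
    have := orderOf_dvd_natCard (⟨b, hbV⟩ : V)
    rwa [Subgroup.orderOf_mk] at this
  have h6 : orderOf b = 1 := Nat.eq_one_of_dvd_coprimes hcop h5 (h3.trans h4)
  exact orderOf_eq_one_iff.1 h6

/-- The endomorphism `u ↦ u (g u g⁻¹)⁻¹` of the abelian normal subgroup `V`. -/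
def fHom (V : Subgroup X) [hV : V.Normal] (hab : ∀ a ∈ V, ∀ b ∈ V, a * b = b * a) (g : X) :
    V →* V :=
  MonoidHom.mk' (fun u => ⟨(u : X) * (g * u * g⁻¹)⁻¹,
      V.mul_mem u.2 (V.inv_mem (hV.conj_mem u u.2 g))⟩) (by
    intro a b
    apply Subtype.ext
    show ((a * b : V) : X) * (g * ((a * b : V) : X) * g⁻¹)⁻¹
      = ((a : X) * (g * a * g⁻¹)⁻¹) * ((b : X) * (g * b * g⁻¹)⁻¹)
    have ha' : (g * (a : X) * g⁻¹)⁻¹ ∈ V := V.inv_mem (hV.conj_mem a a.2 g)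
    have hb' : (g * (b : X) * g⁻¹)⁻¹ ∈ V := V.inv_mem (hV.conj_mem b b.2 g)
    have h1 : (g * ((a * b : V) : X) * g⁻¹)⁻¹ = (g * (b : X) * g⁻¹)⁻¹ * (g * (a : X) * g⁻¹)⁻¹ := by
      rw [Subgroup.coe_mul]; group
    rw [h1, Subgroup.coe_mul]
    have h2 := hab ((b : X) * (g * (b : X) * g⁻¹)⁻¹) (V.mul_mem b.2 hb') _ ha'
    calc (a : X) * b * ((g * (b : X) * g⁻¹)⁻¹ * (g * (a : X) * g⁻¹)⁻¹)
        = (a : X) * (((b : X) * (g * (b : X) * g⁻¹)⁻¹) * (g * (a : X) * g⁻¹)⁻¹) := by group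
      _ = (a : X) * ((g * (a : X) * g⁻¹)⁻¹ * ((b : X) * (g * (b : X) * g⁻¹)⁻¹)) := by rw [h2]
      _ = _ := by group)

theorem fHom_apply (V : Subgroup X) [hV : V.Normal] (hab : ∀ a ∈ V, ∀ b ∈ V, a * b = b * a) (g : X)
    (u : V) : ((fHom V hab g u : V) : X) = (u : X) * (g * u * g⁻¹)⁻¹ := rfl

/-- (1): every element `w g` is `V`-conjugate to some `c g` with `c ∈ C_V(g)`. -/
theorem exists_conj_comm [Finite X] (V : Subgroup X) [hV : V.Normal]
    (hab : ∀ a ∈ V, ∀ b ∈ V, a * b = b * a) (G : Subgroup X)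
    (hcop : (Nat.card V).Coprime (Nat.card G)) (w g : X) (hw : w ∈ V) (hg : g ∈ G) :
    ∃ c ∈ V, c * g = g * c ∧ ∃ u ∈ V, u * (w * g) * u⁻¹ = c * g := by
  have hdisj : Disjoint (fHom V hab g).ker (fHom V hab g).range := by
    rw [Subgroup.disjoint_def]
    rintro b hbker ⟨u, rfl⟩
    apply Subtype.ext
    rw [MonoidHom.mem_ker] at hbker
    have h1 := congrArg Subtype.val hbker
    rw [fHom_apply, fHom_apply] at h1
    rw [fHom_apply]
    simp only [OneMemClass.coe_one] at h1 ⊢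
    -- `b = u (g u g⁻¹)⁻¹ = (u⁻¹)⁻¹ g u⁻¹ g⁻¹`
    have hb : (u : X) * (g * u * g⁻¹)⁻¹ = ((u : X)⁻¹)⁻¹ * g * (u : X)⁻¹ * g⁻¹ := by group
    rw [hb]
    apply comm_eq_one V G hcop _ g (V.inv_mem u.2) hg
    rw [← hb]
    have h2 : g * ((u : X) * (g * u * g⁻¹)⁻¹) * g⁻¹ = (u : X) * (g * u * g⁻¹)⁻¹ := by
      have := mul_eq_one_iff_eq_inv.1 h1
      rw [inv_inv] at this
      exact this.symm
    calc (u : X) * (g * u * g⁻¹)⁻¹ * g = (g * ((u : X) * (g * u * g⁻¹)⁻¹) * g⁻¹) * g := by rw [h2]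
      _ = g * ((u : X) * (g * u * g⁻¹)⁻¹) := by group
  have hcard : Nat.card (fHom V hab g).ker * Nat.card (fHom V hab g).range = Nat.card V := by
    rw [← Subgroup.index_ker]
    exact Subgroup.card_mul_index _
  have hcompl := Subgroup.isComplement'_of_card_mul_and_disjoint hcard hdisj
  obtain ⟨⟨k, r⟩, hkr, _⟩ := hcompl.existsUnique (⟨w, hw⟩ : V)
  obtain ⟨u₀, hu₀⟩ := r.2
  simp only at hkr
  refine ⟨(k : V), (k : V).2, ?_, ((u₀⁻¹ : V) : X), (u₀⁻¹ : V).2, ?_⟩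
  · have h1 := congrArg Subtype.val (MonoidHom.mem_ker.1 k.2)
    rw [fHom_apply] at h1
    simp only [OneMemClass.coe_one] at h1
    have h2 := mul_eq_one_iff_eq_inv.1 h1
    rw [inv_inv] at h2
    calc ((k : V) : X) * g = (g * ((k : V) : X) * g⁻¹) * g := by rw [← h2]
      _ = g * ((k : V) : X) := by group
  · have h1 : w = ((k : V) : X) * ((r : V) : X) := by
      have := congrArg Subtype.val hkr
      simpa using this.symm
    have h2 : ((r : V) : X) = (u₀ : X) * (g * u₀ * g⁻¹)⁻¹ := by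
      rw [← hu₀, fHom_apply]
    rw [h1, h2]
    have h3 := hab (u₀ : X)⁻¹ (V.inv_mem u₀.2) ((k : V) : X) (k : V).2
    simp only [InvMemClass.coe_inv]
    calc (u₀ : X)⁻¹ * (((k : V) : X) * ((u₀ : X) * (g * u₀ * g⁻¹)⁻¹) * g) * ((u₀ : X)⁻¹)⁻¹
        = ((u₀ : X)⁻¹ * ((k : V) : X)) * (u₀ : X) * g := by group
      _ = (((k : V) : X) * (u₀ : X)⁻¹) * (u₀ : X) * g := by rw [h3]
      _ = ((k : V) : X) * g := by group

/-- (2): conjugate commuting pairs are conjugate under `G`. -/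
theorem conj_pair [Finite X] (V : Subgroup X) [hV : V.Normal]
    (hab : ∀ a ∈ V, ∀ b ∈ V, a * b = b * a) (G : Subgroup X) (hGV : Subgroup.IsComplement' V G)
    (hcop : (Nat.card V).Coprime (Nat.card G)) (c g c' g' : X) (hc : c ∈ V) (hg : g ∈ G)
    (hc' : c' ∈ V) (hg' : g' ∈ G) (hcg : c * g = g * c) (hcg' : c' * g' = g' * c') (y : X)
    (hy : y * (c * g) * y⁻¹ = c' * g') :
    ∃ a ∈ G, a * c * a⁻¹ = c' ∧ a * g * a⁻¹ = g' := by
  obtain ⟨⟨w, a⟩, hwa, _⟩ := hGV.existsUnique y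
  simp only at hwa
  set c₁ : X := (a : X) * c * (a : X)⁻¹ with hc₁
  set g₁ : X := (a : X) * g * (a : X)⁻¹ with hg₁
  have hc₁V : c₁ ∈ V := hV.conj_mem c hc a
  have hg₁G : g₁ ∈ G := G.mul_mem (G.mul_mem a.2 hg) (G.inv_mem a.2)
  have hcg₁ : c₁ * g₁ = g₁ * c₁ := by
    rw [hc₁, hg₁]
    calc (a : X) * c * (a : X)⁻¹ * ((a : X) * g * (a : X)⁻¹) = (a : X) * (c * g) * (a : X)⁻¹ := by group
      _ = (a : X) * (g * c) * (a : X)⁻¹ := by rw [hcg]
      _ = _ := by group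
  set b : X := ((w : X)⁻¹)⁻¹ * g₁ * (w : X)⁻¹ * g₁⁻¹ with hb
  have hbV : b ∈ V := by
    have h1 : g₁ * (w : X)⁻¹ * g₁⁻¹ ∈ V := hV.conj_mem _ (V.inv_mem w.2) g₁
    have : b = ((w : X)⁻¹)⁻¹ * (g₁ * (w : X)⁻¹ * g₁⁻¹) := by rw [hb]; group
    rw [this]
    exact V.mul_mem (V.inv_mem (V.inv_mem w.2)) h1
  have hwc := hab (w : X) w.2 c₁ hc₁V
  have hy2 : (c₁ * b) * g₁ = c' * g' := by
    rw [← hy, ← hwa, hb, hc₁, hg₁]
    rw [hc₁] at hwc
    calc (a : X) * c * (a : X)⁻¹ * (((w : X)⁻¹)⁻¹ * ((a : X) * g * (a : X)⁻¹) * (w : X)⁻¹ * ((a : X) * g * (a : X)⁻¹)⁻¹) * ((a : X) * g * (a : X)⁻¹)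
        = ((a : X) * c * (a : X)⁻¹ * (w : X)) * ((a : X) * g * (a : X)⁻¹) * (w : X)⁻¹ := by group
      _ = ((w : X) * ((a : X) * c * (a : X)⁻¹)) * ((a : X) * g * (a : X)⁻¹) * (w : X)⁻¹ := by rw [hwc]
      _ = (w : X) * (a : X) * (c * g) * ((w : X) * (a : X))⁻¹ := by group
  -- uniqueness of the decomposition
  have hdis : (c')⁻¹ * (c₁ * b) = g' * g₁⁻¹ := by
    calc (c')⁻¹ * (c₁ * b) = (c')⁻¹ * ((c₁ * b) * g₁) * g₁⁻¹ := by group
      _ = (c')⁻¹ * (c' * g') * g₁⁻¹ := by rw [hy2]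
      _ = g' * g₁⁻¹ := by group
  have hmemV : (c')⁻¹ * (c₁ * b) ∈ V := V.mul_mem (V.inv_mem hc') (V.mul_mem hc₁V hbV)
  have hmemG : (c')⁻¹ * (c₁ * b) ∈ G := by
    rw [hdis]
    exact G.mul_mem hg' (G.inv_mem hg₁G)
  have hone : (c')⁻¹ * (c₁ * b) = 1 := by
    have := hGV.disjoint
    rw [Subgroup.disjoint_def] at this
    exact this hmemV hmemG
  have hgg : g' = g₁ := by
    rw [hone] at hdis
    exact (mul_inv_eq_one.1 hdis.symm)
  have hcb : c' = c₁ * b := by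
    have := mul_eq_one_iff_eq_inv.1 hone
    exact inv_injective this
  -- `b` commutes with `g₁`
  have hbg : b * g₁ = g₁ * b := by
    have h1 : b = c₁⁻¹ * c' := by rw [hcb]; group
    have h2 : c' * g₁ = g₁ * c' := by rw [← hgg]; exact hcg'
    have h3 : c₁⁻¹ * g₁ = g₁ * c₁⁻¹ := by
      calc c₁⁻¹ * g₁ = c₁⁻¹ * (g₁ * c₁) * c₁⁻¹ := by group
        _ = c₁⁻¹ * (c₁ * g₁) * c₁⁻¹ := by rw [hcg₁]
        _ = g₁ * c₁⁻¹ := by group
    rw [h1]
    calc c₁⁻¹ * c' * g₁ = c₁⁻¹ * (c' * g₁) := by group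
      _ = c₁⁻¹ * (g₁ * c') := by rw [h2]
      _ = (c₁⁻¹ * g₁) * c' := by group
      _ = (g₁ * c₁⁻¹) * c' := by rw [h3]
      _ = g₁ * (c₁⁻¹ * c') := by group
  have hb1 : b = 1 := comm_eq_one V G hcop (w : X)⁻¹ g₁ (V.inv_mem w.2) hg₁G hbg
  refine ⟨a, a.2, ?_, hgg.symm⟩
  rw [hcb, hb1, mul_one]

theorem mem_cent_iff (G : Subgroup X) (s a : X) :
    a ∈ G ⊓ Subgroup.centralizer ({s} : Set X) ↔ a ∈ G ∧ s * a = a * s := by
  rw [Subgroup.mem_inf, Subgroup.mem_centralizer_iff]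
  simp

/-- The map from pairs (orbit representative, class of its centralizer in `G`) to classes of `X`. -/
noncomputable def Phi (G : Subgroup X) (S : Finset X) :
    (Σ s : S, ConjClasses ↥(G ⊓ Subgroup.centralizer ({(s : X)} : Set X))) → ConjClasses X :=
  fun q => Quotient.liftOn q.2 (fun h => ConjClasses.mk ((q.1 : X) * (h : X))) (by
    intro h h' hh
    rw [ConjClasses.mk_eq_mk_iff_isConj]
    obtain ⟨a, ha⟩ := isConj_iff.1 hh
    rw [isConj_iff]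
    refine ⟨(a : X), ?_⟩
    have h1 := ((mem_cent_iff G (q.1 : X) (a : X)).1 a.2).2
    have h2 : (h' : X) = (a : X) * h * (a : X)⁻¹ := by
      rw [← ha]; simp
    rw [h2]
    calc (a : X) * ((q.1 : X) * (h : X)) * (a : X)⁻¹ = ((a : X) * (q.1 : X)) * (h : X) * (a : X)⁻¹ := by group
      _ = ((q.1 : X) * (a : X)) * (h : X) * (a : X)⁻¹ := by rw [h1]
      _ = _ := by group)

theorem Phi_mk (G : Subgroup X) (S : Finset X) (s : S)
    (h : ↥(G ⊓ Subgroup.centralizer ({(s : X)} : Set X))) :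
    Phi G S ⟨s, ConjClasses.mk h⟩ = ConjClasses.mk ((s : X) * (h : X)) := rfl

theorem result {X : Type*} [Group X] [Finite X] (V : Subgroup X) [V.Normal] (hab : ∀ a ∈ V, ∀ b ∈ V, a * b = b * a) (G : Subgroup X) (hGV : Subgroup.IsComplement' V G) (hcop : (Nat.card V).Coprime (Nat.card G)) (S : Finset X) (hSV : ∀ s ∈ S, s ∈ V) (hrep : ∀ v ∈ V, ∃! s, s ∈ S ∧ ∃ g ∈ G, g * v * g⁻¹ = s) : Nat.card (ConjClasses X) = ∑ s ∈ S, Nat.card (ConjClasses ↥(G ⊓ Subgroup.centralizer ({s} : Set X))) := by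
  classical
  have hbij : Function.Bijective (Phi G S) := by
    constructor
    · rintro ⟨s, cl⟩ ⟨s', cl'⟩ heq
      obtain ⟨h, rfl⟩ := ConjClasses.exists_rep cl
      obtain ⟨h', rfl⟩ := ConjClasses.exists_rep cl'
      rw [Phi_mk, Phi_mk, ConjClasses.mk_eq_mk_iff_isConj, isConj_iff] at heq
      obtain ⟨y, hy⟩ := heq
      have hh := (mem_cent_iff G (s : X) (h : X)).1 h.2
      have hh' := (mem_cent_iff G (s' : X) (h' : X)).1 h'.2
      obtain ⟨a, haG, hac, hag⟩ := conj_pair V hab G hGV hcop (s : X) (h : X) (s' : X) (h' : X)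
        (hSV _ s.2) hh.1 (hSV _ s'.2) hh'.1 hh.2 hh'.2 y hy
      -- `s = s'`
      have hss : (s : X) = (s' : X) := by
        obtain ⟨t, _, htuniq⟩ := hrep (s : X) (hSV _ s.2)
        have h1 := htuniq (s : X) ⟨s.2, 1, G.one_mem, by simp⟩
        have h2 := htuniq (s' : X) ⟨s'.2, a, haG, hac⟩
        rw [h1, h2]
      have hss' : s = s' := Subtype.ext hss
      subst hss'
      congr 1
      rw [ConjClasses.mk_eq_mk_iff_isConj, isConj_iff]
      have haC : a ∈ G ⊓ Subgroup.centralizer ({(s : X)} : Set X) := by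
        rw [mem_cent_iff]
        refine ⟨haG, ?_⟩
        calc (s : X) * a = (a * (s : X) * a⁻¹) * a := by rw [hac]
          _ = a * (s : X) := by group
      refine ⟨⟨a, haC⟩, ?_⟩
      apply Subtype.ext
      simpa using hag
    · intro cl
      obtain ⟨x, rfl⟩ := ConjClasses.exists_rep cl
      obtain ⟨⟨w, g⟩, hwg, _⟩ := hGV.existsUnique x
      simp only at hwg
      obtain ⟨c, hcV, hcg, u, _, hu⟩ := exists_conj_comm V hab G hcop (w : X) (g : X) w.2 g.2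
      obtain ⟨t, ⟨htS, a, haG, hat⟩, _⟩ := hrep c hcV
      have hC : (a : X) * g * a⁻¹ ∈ G ⊓ Subgroup.centralizer ({t} : Set X) := by
        rw [mem_cent_iff]
        refine ⟨G.mul_mem (G.mul_mem haG g.2) (G.inv_mem haG), ?_⟩
        rw [← hat]
        calc a * c * a⁻¹ * (a * (g : X) * a⁻¹) = a * (c * g) * a⁻¹ := by group
          _ = a * (g * c) * a⁻¹ := by rw [hcg]
          _ = _ := by group
      refine ⟨⟨⟨t, htS⟩, ConjClasses.mk ⟨(a : X) * g * a⁻¹, hC⟩⟩, ?_⟩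
      rw [Phi_mk, ConjClasses.mk_eq_mk_iff_isConj, isConj_iff]
      refine ⟨(a * u)⁻¹, ?_⟩
      simp only
      rw [← hwg, ← hat]
      have : a * c * a⁻¹ * (a * (g : X) * a⁻¹) = a * (c * g) * a⁻¹ := by group
      rw [this, ← hu]
      group
  rw [← Nat.card_eq_of_bijective _ hbij, Nat.card_sigma, Finset.sum_coe_sort S
    (fun s => Nat.card (ConjClasses ↥(G ⊓ Subgroup.centralizer ({s} : Set X))))]

end Cfsg.Agent.S4956
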