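import Mathlib
import Cfsg.Statements.S4964
import Cfsg.Agent.Lib.Helper8.Inf3
import Cfsg.Agent.Lib.Helper8.BlockNormalP
import Cfsg.Agent.Lib.Helper7.FrattiniAct

set_option autoImplicit false
open Cfsg

namespace Cfsg.Agent.S4964

open scoped ComplexConjugate
open Cfsg.Agent.Lib.Helper1 Cfsg.Agent.Lib.Helper4 Cfsg.Agent.Lib.Helper8

/-- Let D be a normal p-subgroup of the finite group G, let D′ be its commutator subgroup (normal in G), and fix a maximal ideal M of the algebraic integers containing p. Then (i) two irreducible characters of G ⧸ D′ lie in the same p-block if and only if their inflations to G do, and (ii) every p-block of G contains the inflation of some irreducible character of G ⧸ D′; so inflation induces a bijection between the p-blocks of G ⧸ D′ and the p-blocks of G. -/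
theorem result {G : Type*} [Group G] [Finite G] (p : ℕ) [Fact p.Prime] (M : Ideal Cfsg.AlgInt) (hM : Cfsg.IsPModular p M) (D : Subgroup G) [D.Normal] (hD : IsPGroup p D) : (∀ χ ψ : Cfsg.IrrCharacter (G ⧸ ⁅D, D⁆), Cfsg.SameBlock M (χ : G ⧸ ⁅D, D⁆ → ℂ) (ψ : G ⧸ ⁅D, D⁆ → ℂ) ↔ Cfsg.SameBlock M ((χ : G ⧸ ⁅D, D⁆ → ℂ) ∘ QuotientGroup.mk) ((ψ : G ⧸ ⁅D, D⁆ → ℂ) ∘ QuotientGroup.mk)) ∧ ∀ B : Set (Cfsg.IrrCharacter G), Cfsg.IsPBlock M B → ∃ χ : Cfsg.IrrCharacter (G ⧸ ⁅D, D⁆), ∃ θ ∈ B, (θ : G → ℂ) = (χ : G ⧸ ⁅D, D⁆ → ℂ) ∘ QuotientGroup.mk := by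
  classical
  have hMp := isPModular_isPrime hM
  have hp : p.Prime := Fact.out
  haveI : Fintype G := Fintype.ofFinite G
  haveI : Fintype (G ⧸ ⁅D, D⁆) := Fintype.ofFinite _
  have hND : ⁅D, D⁆ ≤ D := Subgroup.commutator_le_left D D
  have hN : IsPGroup p (⁅D, D⁆ : Subgroup G) := hD.to_le hND
  -- the derived subgroup lies in the image of the Frattini subgroup
  have hfr : (⁅D, D⁆ : Subgroup G) ≤ (frattini D).map D.subtype := by
    have h1 : commutator D ≤ frattini D :=
      Cfsg.Agent.Lib.Lead.commutator_le_frattini_of_isPGroup hD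
    have h2 : (⁅D, D⁆ : Subgroup G) = (commutator D).map D.subtype := by
      rw [commutator_def, Subgroup.map_commutator, ← MonoidHom.range_eq_map, Subgroup.range_subtype]
    rw [h2]
    exact Subgroup.map_mono h1
  constructor
  · intro χ ψ
    constructor
    · intro h
      exact sameBlock_inflation (⁅D, D⁆ : Subgroup G) hMp h
    · intro h
      apply sameBlock_of_regular hM χ ψ
      intro q hq
      obtain ⟨g, rfl, hg⟩ := exists_regular_lift (⁅D, D⁆ : Subgroup G) q hq
      by_cases hgN : g ∈ Subgroup.centralizer ((⁅D, D⁆ : Subgroup G) : Set G)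
      · have h1 := h g
        have e : ∀ φ : G ⧸ ⁅D, D⁆ → ℂ, centralChar (φ ∘ QuotientGroup.mk) g =
            centralChar φ (QuotientGroup.mk g : G ⧸ ⁅D, D⁆) := by
          intro φ
          have := centralChar_inflation (⁅D, D⁆ : Subgroup G) φ g
          rw [comap_centralizer_mk_of_regular (⁅D, D⁆ : Subgroup G) hN hgN hg,
            Subgroup.relIndex_self, Nat.cast_one, one_mul] at this
          exact this
        rw [e, e] at h1
        exact h1
      · -- the image of g does not centralize the image of D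
        set Dbar : Subgroup (G ⧸ ⁅D, D⁆) := D.map (QuotientGroup.mk' (⁅D, D⁆ : Subgroup G)) with hDbar
        haveI : Dbar.Normal :=
          Subgroup.Normal.map inferInstance _ (QuotientGroup.mk'_surjective _)
        have hDbarp : IsPGroup p Dbar := hD.map _
        have hq' : (QuotientGroup.mk g : G ⧸ ⁅D, D⁆) ∉ Subgroup.centralizer (Dbar : Set (G ⧸ ⁅D, D⁆)) := by
          intro hcen
          apply hgN
          have hgD : g ∈ Subgroup.centralizer (D : Set G) := by
            apply Cfsg.Agent.Lib.Helper7.mem_centralizer_of_mem_trivOnFrattini D hD g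
            · rw [Cfsg.Agent.Lib.Helper7.mem_trivOnFrattini]
              refine ⟨?_, ?_⟩
              · rw [Subgroup.normalizer_eq_top_iff.2 inferInstance]
                exact Subgroup.mem_top g
              · intro k hk
                apply hfr
                rw [← QuotientGroup.eq_one_iff]
                have hk' : (QuotientGroup.mk k : G ⧸ ⁅D, D⁆) ∈ Dbar := ⟨k, hk, rfl⟩
                have hc := (Subgroup.mem_centralizer_iff.1 hcen) _ hk'
                have : ((g * k * g⁻¹ * k⁻¹ : G) : G ⧸ ⁅D, D⁆) =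
                    (QuotientGroup.mk g : G ⧸ ⁅D, D⁆) * QuotientGroup.mk k *
                      (QuotientGroup.mk g)⁻¹ * (QuotientGroup.mk k)⁻¹ := by
                  simp
                rw [this, ← hc]
                group
            · exact (Nat.Coprime.symm ((Nat.Prime.coprime_iff_not_dvd hp).2 hg))
          exact Subgroup.centralizer_le (by exact_mod_cast hND) hgD
        have h1 := memLocalIdeal_centralChar_of_not_mem_centralizer hM Dbar hDbarp χ hq'
        have h2 := memLocalIdeal_centralChar_of_not_mem_centralizer hM Dbar hDbarp ψ hq'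
        exact memLocalIdeal_sub hMp h1 h2
  · intro B hB
    obtain ⟨θ, hθ, hker⟩ := exists_mem_block_trivial_on_normal hM (⁅D, D⁆ : Subgroup G) hN hB
    obtain ⟨χ, hχ, hχθ⟩ := exists_deflation (⁅D, D⁆ : Subgroup G) θ.2 hker
    refine ⟨⟨χ, hχ⟩, θ, hθ, ?_⟩
    funext g
    exact (hχθ g).symm

end Cfsg.Agent.S4964
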