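import Mathlib
import Cfsg.Statements.S4965

set_option autoImplicit false
open Cfsg

namespace Cfsg.Agent.S4965

section aux

variable {X : Type*} [Group X] (V : Subgroup X) [V.Normal]

/-- base point of a fibre of commuting pairs -/
noncomputable def base (st : (X ⧸ V) × (X ⧸ V)) : X × X :=
  open Classical in
  if h : ∃ p : X × X, Commute p.1 p.2 ∧ (QuotientGroup.mk p.1 : X ⧸ V) = st.1 ∧
      (QuotientGroup.mk p.2 : X ⧸ V) = st.2 then h.choose else (1, 1)

theorem base_spec (x y : X) (hxy : Commute x y) :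
    Commute (base V (QuotientGroup.mk x, QuotientGroup.mk y)).1
        (base V (QuotientGroup.mk x, QuotientGroup.mk y)).2 ∧
      (QuotientGroup.mk (base V (QuotientGroup.mk x, QuotientGroup.mk y)).1 : X ⧸ V)
        = QuotientGroup.mk x ∧
      (QuotientGroup.mk (base V (QuotientGroup.mk x, QuotientGroup.mk y)).2 : X ⧸ V)
        = QuotientGroup.mk y := by
  have h : ∃ p : X × X, Commute p.1 p.2 ∧
      (QuotientGroup.mk p.1 : X ⧸ V) = ((QuotientGroup.mk x : X ⧸ V), (QuotientGroup.mk y : X ⧸ V)).1 ∧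
      (QuotientGroup.mk p.2 : X ⧸ V) = ((QuotientGroup.mk x : X ⧸ V), (QuotientGroup.mk y : X ⧸ V)).2 :=
    ⟨(x, y), hxy, rfl, rfl⟩
  unfold base
  rw [dif_pos h]
  exact h.choose_spec

theorem mul_inv_mem_of_mk_eq {x x0 : X} (h : (QuotientGroup.mk x0 : X ⧸ V) = QuotientGroup.mk x) :
    x * x0⁻¹ ∈ V := by
  have h1 : (QuotientGroup.mk (x * x0⁻¹) : X ⧸ V) = 1 := by
    rw [QuotientGroup.mk_mul, QuotientGroup.mk_inv, h, mul_inv_cancel]
  exact (QuotientGroup.eq_one_iff _).mp h1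

end aux

theorem result {X : Type*} [Group X] [Finite X] (V : Subgroup X) [V.Normal] (hab : ∀ a ∈ V, ∀ b ∈ V, a * b = b * a) (φ : X ⧸ V →* MulAut ↥V) (hφ : ∀ (x : X) (v : ↥V), ((φ (QuotientGroup.mk x) v : ↥V) : X) = x * v * x⁻¹) : Nat.card (ConjClasses X) ≤ Nat.card (ConjClasses (SemidirectProduct ↥V (X ⧸ V) φ)) := by
  classical
  set S := SemidirectProduct ↥V (X ⧸ V) φ with hS
  have hcardS : Nat.card S = Nat.card X := by
    rw [hS, SemidirectProduct.card, mul_comm]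
    exact (Subgroup.card_eq_card_quotient_mul_card_subgroup V).symm
  haveI : Finite S := Nat.finite_of_card_ne_zero (by rw [hcardS]; exact Nat.card_pos.ne')
  have h1 := card_comm_eq_card_conjClasses_mul_card X
  have h2 := card_comm_eq_card_conjClasses_mul_card S
  -- the key injection
  have key : Nat.card { p : X × X // Commute p.1 p.2 } ≤ Nat.card { p : S × S // Commute p.1 p.2 } := by
    -- define the map
    have hF : ∀ p : { p : X × X // Commute p.1 p.2 },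
        ∃ q : { q : S × S // Commute q.1 q.2 },
          q.1.1.right = QuotientGroup.mk p.1.1 ∧ q.1.2.right = QuotientGroup.mk p.1.2 ∧
          (q.1.1.left : X) = p.1.1 * (base V (QuotientGroup.mk p.1.1, QuotientGroup.mk p.1.2)).1⁻¹ ∧
          (q.1.2.left : X) = p.1.2 * (base V (QuotientGroup.mk p.1.1, QuotientGroup.mk p.1.2)).2⁻¹ := by
      rintro ⟨⟨x, y⟩, hxy⟩
      obtain ⟨hc, hx0, hy0⟩ := base_spec V x y hxy
      set x0 := (base V (QuotientGroup.mk x, QuotientGroup.mk y)).1 with hx0def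
      set y0 := (base V (QuotientGroup.mk x, QuotientGroup.mk y)).2 with hy0def
      have ha : x * x0⁻¹ ∈ V := mul_inv_mem_of_mk_eq V hx0
      have hb : y * y0⁻¹ ∈ V := mul_inv_mem_of_mk_eq V hy0
      refine ⟨⟨(⟨⟨x * x0⁻¹, ha⟩, QuotientGroup.mk x⟩, ⟨⟨y * y0⁻¹, hb⟩, QuotientGroup.mk y⟩), ?_⟩,
        rfl, rfl, rfl, rfl⟩
      -- commuting in S
      show (⟨⟨x * x0⁻¹, ha⟩, QuotientGroup.mk x⟩ : S) * ⟨⟨y * y0⁻¹, hb⟩, QuotientGroup.mk y⟩
        = ⟨⟨y * y0⁻¹, hb⟩, QuotientGroup.mk y⟩ * ⟨⟨x * x0⁻¹, ha⟩, QuotientGroup.mk x⟩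
      apply SemidirectProduct.ext
      · rw [SemidirectProduct.mul_left, SemidirectProduct.mul_left]
        apply Subtype.ext
        rw [Subgroup.coe_mul, Subgroup.coe_mul]
        show x * x0⁻¹ * ((φ (QuotientGroup.mk x) ⟨y * y0⁻¹, hb⟩ : ↥V) : X)
          = y * y0⁻¹ * ((φ (QuotientGroup.mk y) ⟨x * x0⁻¹, ha⟩ : ↥V) : X)
        rw [hφ, hφ]
        show x * x0⁻¹ * (x * (y * y0⁻¹) * x⁻¹) = y * y0⁻¹ * (y * (x * x0⁻¹) * y⁻¹)
        -- use x = a x0, y = b y0, a b commute with everything in V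
        have hxy' : x * y = y * x := hxy
        have hc' : x0 * y0 = y0 * x0 := hc
        -- a := x x0⁻¹, b := y y0⁻¹
        -- LHS = a * (x b x⁻¹); RHS = b * (y a y⁻¹)
        -- x b x⁻¹ = a x0 b x0⁻¹ a⁻¹ = x0 b x0⁻¹ (since V abelian & normal)
        have hn1 : x0 * (y * y0⁻¹) * x0⁻¹ ∈ V := ‹V.Normal›.conj_mem _ hb x0
        have hn2 : y0 * (x * x0⁻¹) * y0⁻¹ ∈ V := ‹V.Normal›.conj_mem _ ha y0
        have e1 : x * (y * y0⁻¹) * x⁻¹ = x0 * (y * y0⁻¹) * x0⁻¹ := by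
          have : x * (y * y0⁻¹) * x⁻¹
              = (x * x0⁻¹) * (x0 * (y * y0⁻¹) * x0⁻¹) * (x * x0⁻¹)⁻¹ := by group
          rw [this, hab _ ha _ hn1]; group
        have e2 : y * (x * x0⁻¹) * y⁻¹ = y0 * (x * x0⁻¹) * y0⁻¹ := by
          have : y * (x * x0⁻¹) * y⁻¹
              = (y * y0⁻¹) * (y0 * (x * x0⁻¹) * y0⁻¹) * (y * y0⁻¹)⁻¹ := by group
          rw [this, hab _ hb _ hn2]; group
        rw [e1, e2]
        -- goal: a * (x0 b x0⁻¹) = b * (y0 a y0⁻¹)
        -- i.e. x * y * y0⁻¹ * x0⁻¹ = y * x * x0⁻¹ * y0⁻¹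
        have l : x * x0⁻¹ * (x0 * (y * y0⁻¹) * x0⁻¹) = (x * y) * (x0 * y0)⁻¹ := by group
        have r : y * y0⁻¹ * (y0 * (x * x0⁻¹) * y0⁻¹) = (y * x) * (y0 * x0)⁻¹ := by group
        rw [l, r, hxy', hc']
      · rw [SemidirectProduct.mul_right, SemidirectProduct.mul_right]
        show (QuotientGroup.mk x : X ⧸ V) * QuotientGroup.mk y = QuotientGroup.mk y * QuotientGroup.mk x
        rw [← QuotientGroup.mk_mul, ← QuotientGroup.mk_mul, hxy.eq]
    choose F hF1 hF2 hF3 hF4 using hF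
    apply Nat.card_le_card_of_injective F
    intro p p' hpp
    have r1 : (QuotientGroup.mk p.1.1 : X ⧸ V) = QuotientGroup.mk p'.1.1 := by
      rw [← hF1 p, ← hF1 p', hpp]
    have r2 : (QuotientGroup.mk p.1.2 : X ⧸ V) = QuotientGroup.mk p'.1.2 := by
      rw [← hF2 p, ← hF2 p', hpp]
    have l1 := hF3 p
    have l1' := hF3 p'
    have l2 := hF4 p
    have l2' := hF4 p'
    rw [← r1, ← r2, ← hpp, l1] at l1'
    rw [← r1, ← r2, ← hpp, l2] at l2'
    apply Subtype.ext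
    apply Prod.ext
    · exact mul_right_cancel l1'
    · exact mul_right_cancel l2'
  rw [h1, h2, hcardS] at key
  exact Nat.le_of_mul_le_mul_right key Nat.card_pos

end Cfsg.Agent.S4965
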