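import Mathlib
import Cfsg.Statements.S4969
import Cfsg.Agent.Lib.Helper1.CharFound5

set_option autoImplicit false

open Cfsg

namespace Cfsg.Agent.S4969

open Cfsg.Agent.Lib.Helper1
open scoped ComplexConjugate

theorem result {G : Type*} [Group G] [Finite G] (g : G) (N : ℝ) (hN : 0 < N) :
    ∑ᶠ χ : Cfsg.IrrCharacter G, (if N ≤ ‖(χ : G → ℂ) 1‖ then ‖(χ : G → ℂ) g‖ / ‖(χ : G → ℂ) 1‖ else 0) ≤
      Real.sqrt ((Nat.card (ConjClasses G) : ℝ) * (Nat.card ↥(Subgroup.centralizer ({g} : Set G)) : ℝ)) / N := by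
  classical
  have : Fintype G := Fintype.ofFinite G
  have : Fintype (Cfsg.IrrCharacter G) := Fintype.ofFinite _
  rw [finsum_eq_sum_of_fintype]
  -- termwise bound
  have h1 : ∀ χ : Cfsg.IrrCharacter G,
      (if N ≤ ‖(χ : G → ℂ) 1‖ then ‖(χ : G → ℂ) g‖ / ‖(χ : G → ℂ) 1‖ else 0)
        ≤ ‖(χ : G → ℂ) g‖ / N := by
    intro χ
    split_ifs with h
    · exact div_le_div_of_nonneg_left (norm_nonneg _) hN h
    · exact div_nonneg (norm_nonneg _) hN.le
  have h2 : ∑ χ : Cfsg.IrrCharacter G,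
      (if N ≤ ‖(χ : G → ℂ) 1‖ then ‖(χ : G → ℂ) g‖ / ‖(χ : G → ℂ) 1‖ else 0)
        ≤ (∑ χ : Cfsg.IrrCharacter G, ‖(χ : G → ℂ) g‖) / N := by
    rw [Finset.sum_div]
    exact Finset.sum_le_sum fun χ _ => h1 χ
  refine h2.trans ?_
  apply div_le_div_of_nonneg_right _ hN.le
  apply Real.le_sqrt_of_sq_le
  -- Cauchy–Schwarz
  have h3 := sq_sum_le_card_mul_sum_sq (s := (Finset.univ : Finset (Cfsg.IrrCharacter G)))
    (f := fun χ => ‖(χ : G → ℂ) g‖)
  refine h3.trans ?_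
  have h4 : ((Finset.univ : Finset (Cfsg.IrrCharacter G)).card : ℝ) = (Nat.card (ConjClasses G) : ℝ) := by
    rw [Finset.card_univ, ← Nat.card_eq_fintype_card, card_irr_eq_card_conjClasses]
  have h5 : ∑ χ : Cfsg.IrrCharacter G, ‖(χ : G → ℂ) g‖ ^ 2
      = (Nat.card ↥(Subgroup.centralizer ({g} : Set G)) : ℝ) := by
    have hco := column_orthogonality (G := G) g g
    have hci : classIndicator g g = 1 := by
      unfold classIndicator
      rw [if_pos (IsConj.refl g)]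
    rw [hci, mul_one] at hco
    have h6 : ∀ χ : Cfsg.IrrCharacter G, (χ : G → ℂ) g * conj ((χ : G → ℂ) g)
        = ((‖(χ : G → ℂ) g‖ ^ 2 : ℝ) : ℂ) := by
      intro χ
      rw [Complex.mul_conj, Complex.normSq_eq_norm_sq]
    simp only [h6] at hco
    rw [← Complex.ofReal_sum] at hco
    exact_mod_cast hco
  rw [h4, h5]

end Cfsg.Agent.S4969
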