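import Mathlib
import Cfsg.Statements.S4989
import Cfsg.Agent.Lib.Helper8.GaloisAvg

set_option autoImplicit false

open Cfsg

namespace Cfsg.Agent.S4989

open Cfsg.Agent.Lib.Helper8 Cfsg.Agent.Lib.Helper1 Cfsg.Agent.Lib.Helper4
open scoped ComplexConjugate

theorem result {G : Type*} [Group G] [Finite G] (H : Subgroup G) (χ : Cfsg.IrrCharacter G) : (Nat.card ↥H : ℝ)⁻¹ * ∑ᶠ h : ↥H, ‖(χ : G → ℂ) h‖ ^ 2 ≤ 1 + (Set.ncard ({x : G | (χ : G → ℂ) x = 0} \ (H : Set G)) : ℝ) / (Nat.card ↥H : ℝ) := by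
  classical
  have : Fintype G := Fintype.ofFinite G
  have : Fintype H := Fintype.ofFinite H
  have hH : (0 : ℝ) < Nat.card H := by exact_mod_cast Nat.card_pos
  rw [finsum_eq_sum_of_fintype]
  -- total sum
  have htot : ∑ g : G, ‖(χ : G → ℂ) g‖ ^ 2 = (Nat.card G : ℝ) := by
    have h1 := classInner_irr_self χ.2
    rw [classInner_def] at h1
    have hG : (Nat.card G : ℂ) ≠ 0 := Nat.cast_ne_zero.2 Nat.card_pos.ne'
    have h2 : ∑ g : G, (χ : G → ℂ) g * conj ((χ : G → ℂ) g) = (Nat.card G : ℂ) := by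
      have := (inv_mul_eq_iff_eq_mul₀ hG).mp h1
      rwa [mul_one] at this
    have h3 : ∀ g : G, (χ : G → ℂ) g * conj ((χ : G → ℂ) g)
        = ((‖(χ : G → ℂ) g‖ ^ 2 : ℝ) : ℂ) := by
      intro g
      rw [Complex.mul_conj, Complex.normSq_eq_norm_sq]
    simp only [h3] at h2
    rw [← Complex.ofReal_sum] at h2
    exact_mod_cast h2
  -- split into `H` and its complement
  let SH : Finset G := Finset.univ.filter (fun g => g ∈ H)
  let SC : Finset G := Finset.univ.filter (fun g => g ∉ H)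
  have hsplit : ∑ g ∈ SH, ‖(χ : G → ℂ) g‖ ^ 2 + ∑ g ∈ SC, ‖(χ : G → ℂ) g‖ ^ 2
      = ∑ g : G, ‖(χ : G → ℂ) g‖ ^ 2 :=
    Finset.sum_filter_add_sum_filter_not _ _ _
  have hSH : ∑ g ∈ SH, ‖(χ : G → ℂ) g‖ ^ 2 = ∑ h : H, ‖(χ : G → ℂ) h‖ ^ 2 := by
    rw [Finset.sum_subtype SH (p := fun g => g ∈ H) (fun g => by simp [SH])]
  -- the complement is closed under coprime powers
  have hclosed : ∀ g ∈ SC, ∀ k : ℕ, k.Coprime (Nat.card G) → g ^ k ∈ SC := by
    intro g hg k hk
    simp only [SC, Finset.mem_filter, Finset.mem_univ, true_and] at hg ⊢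
    intro hgk
    apply hg
    have := (powCoprime hk.symm).symm_apply_apply g
    rw [← this]
    rw [powCoprime_symm_apply]
    exact H.zpow_mem hgk _
  have hgal := card_nonzero_le_sum_norm_sq (isCharacter_of_irr χ.2) SC hclosed
  -- count
  have hcount : (SC.card : ℝ) = (SC.filter (fun g => (χ : G → ℂ) g ≠ 0)).card
      + (SC.filter (fun g => ¬ (χ : G → ℂ) g ≠ 0)).card := by
    rw [← Nat.cast_add, Finset.card_filter_add_card_filter_not]
  have hZ : ((SC.filter (fun g => ¬ (χ : G → ℂ) g ≠ 0)).card : ℝ)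
      = (Set.ncard ({x : G | (χ : G → ℂ) x = 0} \ (H : Set G)) : ℝ) := by
    congr 1
    rw [← Set.ncard_coe_finset]
    congr 1
    ext g
    simp [SC, and_comm]
  have hSCcard : (SC.card : ℝ) = (Nat.card G : ℝ) - (Nat.card H : ℝ) := by
    have h1 : SH.card + SC.card = Fintype.card G := by
      rw [Finset.card_filter_add_card_filter_not, Finset.card_univ]
    have h2 : SH.card = Nat.card H := by
      rw [Nat.card_eq_fintype_card, Fintype.card_subtype]
    rw [Nat.card_eq_fintype_card (α := G), ← h1, ← h2]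
    push_cast; ring
  rw [← hSH]
  rw [inv_mul_le_iff₀ hH, mul_add, mul_one, mul_div_cancel₀ _ hH.ne']
  rw [← hZ]
  linarith

end Cfsg.Agent.S4989
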