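import Cfsg.Statements.S5005
import Cfsg.Agent.Lib.Helper4.M22B.Classes4

set_option autoImplicit false
open Cfsg

namespace Cfsg.Agent.S5005

open Cfsg.Agent.Lib.Helper4.M22B in
/-- All irreducible complex characters of the Mathieu group `M₂₂` lie in a single 2-block: any two of them lie in the same block relative to every maximal ideal of the algebraic integers containing 2. -/
theorem result (M : Ideal Cfsg.AlgInt) (hM : Cfsg.IsPModular 2 M)
    (χ ψ : Cfsg.IrrCharacter ↥Cfsg.Spor.M22) : Cfsg.SameBlock M (χ : ↥Cfsg.Spor.M22 → ℂ) (ψ : ↥Cfsg.Spor.M22 → ℂ) := by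
  refine sameBlock_of_counts (G := GG) hM cls ev cpar cls_conj cls_eq_zero_iff (by decide) ?_ hodd ?_
    hpar 1 3 hsing hpar12 χ ψ
  · intro t ht x y hx hy
    exact (ev_conj ht hx).symm.trans (ev_conj ht hy)
  · intro i _
    unfold cpar
    rcases Nat.mod_two_eq_zero_or_one (nT i) with h | h
    · left; rw [h]; rfl
    · right; rw [h]; rfl

end Cfsg.Agent.S5005
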