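import Cfsg.Statements.S5011

set_option autoImplicit false

open Cfsg

namespace Cfsg.Agent.S5011

theorem result {G : Type*} [Group G] [Finite G] [IsSimpleGroup G]
    (hG : ¬ IsMulCommutative G) {V : Type*} [AddCommGroup V] [Module ℂ V] [FiniteDimensional ℂ V]
    (ρ : Representation ℂ G V)
    (hirr : ∀ W : Submodule ℂ V, (∀ x : G, ∀ v ∈ W, ρ x v ∈ W) → W = ⊥ ∨ W = ⊤)
    (hdim : 1 < Module.finrank ℂ V) (g : G) (hg : g ≠ 1) :
    ∃ W : Submodule ℂ V, W ≠ ⊥ ∧ W ≠ ⊤ ∧ ∀ c ∈ Subgroup.centralizer ({g} : Set G), ∀ v ∈ W, ρ c v ∈ W := by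
  have hnt : Nontrivial V := Module.nontrivial_of_finrank_pos (R := ℂ) (by omega)
  obtain ⟨μ, hμ⟩ := Module.End.exists_eigenvalue (ρ g)
  refine ⟨Module.End.eigenspace (ρ g) μ, ?_, ?_, ?_⟩
  · exact Module.End.hasEigenvalue_iff.mp hμ
  · intro htop
    -- ρ g is the scalar μ
    have hscalar : ∀ v : V, ρ g v = μ • v := by
      intro v
      have : v ∈ Module.End.eigenspace (ρ g) μ := by rw [htop]; exact Submodule.mem_top
      exact Module.End.mem_eigenspace_iff.mp this
    -- kernel of ρ
    have hker : ρ.ker = ⊥ ∨ ρ.ker = ⊤ := (MonoidHom.normal_ker ρ).eq_bot_or_eq_top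
    rcases hker with hk | hk
    · -- ρ injective, so g is central
      have hinj : Function.Injective ρ := (MonoidHom.ker_eq_bot_iff ρ).mp hk
      have hcentral : g ∈ Subgroup.center G := by
        rw [Subgroup.mem_center_iff]
        intro x
        apply hinj
        rw [map_mul, map_mul]
        ext v
        simp only [Module.End.mul_apply]
        rw [hscalar, hscalar, map_smul]
      have hcen : Subgroup.center G = ⊥ ∨ Subgroup.center G = ⊤ :=
        (inferInstance : (Subgroup.center G).Normal).eq_bot_or_eq_top
      rcases hcen with hc | hc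
      · rw [hc, Subgroup.mem_bot] at hcentral
        exact hg hcentral
      · exact hG (Subgroup.center_eq_top_iff.mp hc)
    · -- ρ trivial: every subspace is invariant, contradiction with dim > 1
      have htriv : ∀ x : G, ρ x = 1 := by
        intro x
        have : x ∈ ρ.ker := by rw [hk]; exact Subgroup.mem_top x
        exact MonoidHom.mem_ker.mp this
      obtain ⟨v, hv⟩ := exists_ne (0 : V)
      have hspan := hirr (Submodule.span ℂ {v}) (by
        intro x w hw
        rw [htriv x]; exact hw)
      rcases hspan with h0 | h1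
      · have : v ∈ Submodule.span ℂ {v} := Submodule.mem_span_singleton_self v
        rw [h0, Submodule.mem_bot] at this
        exact hv this
      · have h2 : Module.finrank ℂ (Submodule.span ℂ {v}) = 1 := finrank_span_singleton hv
        rw [h1, finrank_top] at h2
        omega
  · intro c hc v hv
    rw [Module.End.mem_eigenspace_iff] at hv ⊢
    rw [Subgroup.mem_centralizer_iff] at hc
    have h1 : g * c = c * g := hc g rfl
    have h2 : ρ g (ρ c v) = ρ c (ρ g v) := by
      rw [← Module.End.mul_apply, ← map_mul, h1, map_mul, Module.End.mul_apply]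
    rw [h2, hv, map_smul]

end Cfsg.Agent.S5011
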