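import Cfsg.Statements.S5013
import Cfsg.Agent.Lib.Helper8.ConjBy

set_option autoImplicit false

open Cfsg

namespace Cfsg.Agent.S5013

open Cfsg.Agent.Lib.Helper8

variable {G : Type*} [Group G]

theorem inf_normalizer_eq_bot {A B : Subgroup G} (hne : A ≠ B) (hc : Cfsg.RankOneCondition A B) :
    A ⊓ Subgroup.normalizer (B : Set G) = ⊥ := by
  rw [eq_bot_iff]
  intro a ha
  rw [Subgroup.mem_bot]
  by_contra ha1
  obtain ⟨haA, haN⟩ := Subgroup.mem_inf.mp ha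
  obtain ⟨b, hbB, hb1, hEq⟩ := hc a haA ha1
  have h1 : Cfsg.conjBy B a⁻¹ = B := conjBy_eq_self_iff.mpr (Subgroup.inv_mem _ haN)
  have h2 : Cfsg.conjBy B b⁻¹ = B := conjBy_eq_self_of_mem (B.inv_mem hbB)
  rw [h1, ← h2] at hEq
  exact hne (conjBy_injective _ hEq)

theorem unique_of_conj_eq {A B : Subgroup G} (hbot : B ⊓ Subgroup.normalizer (A : Set G) = ⊥)
    {b b' : G} (hb : b ∈ B) (hb' : b' ∈ B) (hEq : Cfsg.conjBy A b⁻¹ = Cfsg.conjBy A b'⁻¹) :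
    b' = b := by
  have h1 : Cfsg.conjBy A (b' * b⁻¹) = A := by
    rw [← conjBy_conjBy, hEq, conjBy_conjBy]; simp
  have h2 : b' * b⁻¹ ∈ B ⊓ Subgroup.normalizer (A : Set G) :=
    Subgroup.mem_inf.mpr ⟨B.mul_mem hb' (B.inv_mem hb), conjBy_eq_self_iff.mp h1⟩
  rw [hbot, Subgroup.mem_bot] at h2
  exact mul_inv_eq_one.mp h2

theorem result {G : Type*} [Group G] {A B : Subgroup G} (h : Cfsg.IsRankOnePair A B) :
    (∀ a ∈ A, a ≠ 1 → ∃! b : G, b ∈ B ∧ b ≠ 1 ∧ Cfsg.conjBy A b⁻¹ = Cfsg.conjBy B a⁻¹) ∧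
    (∀ b ∈ B, b ≠ 1 → ∃! a : G, a ∈ A ∧ a ≠ 1 ∧ Cfsg.conjBy A b⁻¹ = Cfsg.conjBy B a⁻¹) ∧
    A ⊓ Subgroup.normalizer (B : Set G) = ⊥ ∧ B ⊓ Subgroup.normalizer (A : Set G) = ⊥ := by
  have hAB : A ⊓ Subgroup.normalizer (B : Set G) = ⊥ := inf_normalizer_eq_bot h.ne h.cond_left
  have hBA : B ⊓ Subgroup.normalizer (A : Set G) = ⊥ := inf_normalizer_eq_bot h.ne.symm h.cond_right
  refine ⟨?_, ?_, hAB, hBA⟩
  · intro a haA ha1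
    obtain ⟨b, hbB, hb1, hEq⟩ := h.cond_left a haA ha1
    refine ⟨b, ⟨hbB, hb1, hEq⟩, ?_⟩
    rintro b' ⟨hb'B, _, hEq'⟩
    exact unique_of_conj_eq hBA hbB hb'B (hEq.trans hEq'.symm)
  · intro b hbB hb1
    obtain ⟨a, haA, ha1, hEq⟩ := h.cond_right b hbB hb1
    refine ⟨a, ⟨haA, ha1, hEq.symm⟩, ?_⟩
    rintro a' ⟨ha'A, _, hEq'⟩
    exact unique_of_conj_eq hAB haA ha'A (hEq.trans hEq')

end Cfsg.Agent.S5013
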