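import Cfsg.Statements.S5014
import Cfsg.Agent.Lib.Helper8.RankOne

set_option autoImplicit false

open Cfsg

namespace Cfsg.Agent.S5014

open Cfsg.Agent.Lib.Helper8

theorem result {G : Type*} [Group G] {A B : Subgroup G} (h : Cfsg.IsRankOnePair A B) :
    (∃ C₁ ∈ Cfsg.unipotentSubgroups A B, ∃ C₂ ∈ Cfsg.unipotentSubgroups A B, ∃ C₃ ∈ Cfsg.unipotentSubgroups A B,
      C₁ ≠ C₂ ∧ C₁ ≠ C₃ ∧ C₂ ≠ C₃) ∧
    (∀ C₁ ∈ Cfsg.unipotentSubgroups A B, ∀ C₂ ∈ Cfsg.unipotentSubgroups A B, ∀ D₁ ∈ Cfsg.unipotentSubgroups A B,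
      ∀ D₂ ∈ Cfsg.unipotentSubgroups A B, C₁ ≠ C₂ → D₁ ≠ D₂ →
        ∃ x ∈ A ⊔ B, Cfsg.conjBy C₁ x = D₁ ∧ Cfsg.conjBy C₂ x = D₂) ∧
    (∀ C ∈ Cfsg.unipotentSubgroups A B, ∀ D ∈ Cfsg.unipotentSubgroups A B, C ≠ A → D ≠ A →
      ∃! a : G, a ∈ A ∧ Cfsg.conjBy C a = D) := by
  refine ⟨?_, ?_, ?_⟩
  · obtain ⟨a, ha, ha1⟩ := rankOnePair_exists_left h
    have hB := rankOnePair_right_mem_unipotentSubgroups h
    refine ⟨A, mem_unipotentSubgroups_self A B, B, hB, Cfsg.conjBy B a,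
      conjBy_mem_unipotentSubgroups hB (Subgroup.mem_sup_left ha), h.ne,
      (rankOnePair_conjBy_right_ne h ha).symm, ?_⟩
    intro hEq
    have h1 : (1 : G) = a := by
      apply rankOnePair_conjBy_right_injective h A.one_mem ha
      rw [conjBy_one]; exact hEq
    exact ha1 h1.symm
  · intro C₁ hC₁ C₂ hC₂ D₁ hD₁ D₂ hD₂ hC hD
    obtain ⟨x, hx, rfl⟩ := hC₁
    obtain ⟨y, hy, rfl⟩ := hD₁
    have hx' : x⁻¹ ∈ A ⊔ B := Subgroup.inv_mem _ hx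
    have hy' : y⁻¹ ∈ A ⊔ B := Subgroup.inv_mem _ hy
    have hC₂' : Cfsg.conjBy C₂ x⁻¹ ∈ Cfsg.unipotentSubgroups A B :=
      conjBy_mem_unipotentSubgroups hC₂ hx'
    have hD₂' : Cfsg.conjBy D₂ y⁻¹ ∈ Cfsg.unipotentSubgroups A B :=
      conjBy_mem_unipotentSubgroups hD₂ hy'
    have hCne : Cfsg.conjBy C₂ x⁻¹ ≠ A := by
      intro hEq
      apply hC
      rw [conjBy_eq_iff, inv_inv] at hEq
      exact hEq.symm
    have hDne : Cfsg.conjBy D₂ y⁻¹ ≠ A := by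
      intro hEq
      apply hD
      rw [conjBy_eq_iff, inv_inv] at hEq
      exact hEq.symm
    obtain ⟨a, ⟨ha, hEq⟩, -⟩ := rankOnePair_regular h hC₂' hD₂' hCne hDne
    refine ⟨y * a * x⁻¹, Subgroup.mul_mem _ (Subgroup.mul_mem _ hy (Subgroup.mem_sup_left ha)) hx', ?_, ?_⟩
    · rw [conjBy_conjBy]
      have : y * a * x⁻¹ * x = y * a := by group
      rw [this, ← conjBy_conjBy, conjBy_eq_self_of_mem ha]
    · rw [← conjBy_conjBy, ← conjBy_conjBy, hEq, conjBy_conjBy]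
      simp
  · intro C hC D hD hCA hDA
    exact rankOnePair_regular h hC hD hCA hDA

end Cfsg.Agent.S5014
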