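import Cfsg.Statements.S5015
import Cfsg.Agent.Lib.Helper8.ConjBy

set_option autoImplicit false

open Cfsg

namespace Cfsg.Agent.S5015

open Cfsg.Agent.Lib.Helper8

section

variable {Y Ω : Type*} [Group Y] [MulAction Y Ω] {α : Ω} {A : Subgroup Y}

/-- conjugates of `A` only depend on the image of `α`. -/
theorem conjBy_eq_of_smul_eq (hAn : ∀ y ∈ MulAction.stabilizer Y α, Cfsg.conjBy A y = A)
    {g g' : Y} (h : g • α = g' • α) : Cfsg.conjBy A g = Cfsg.conjBy A g' := by
  have hmem : g'⁻¹ * g ∈ MulAction.stabilizer Y α := by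
    rw [MulAction.mem_stabilizer_iff, mul_smul, h, inv_smul_smul]
  have h1 := hAn _ hmem
  have h2 : g = g' * (g'⁻¹ * g) := by group
  rw [h2, ← conjBy_conjBy, h1]

theorem isNilpotent_conjBy' (hA : Group.IsNilpotent A) (g : Y) :
    Group.IsNilpotent (Cfsg.conjBy A g) := by
  unfold Cfsg.conjBy
  exact Group.nilpotent_of_surjective ((MulAut.conj g).toMonoidHom.subgroupMap A)
    (MonoidHom.subgroupMap_surjective _ _)

end

theorem result {Y Ω : Type*} [Group Y] [MulAction Y Ω]
    (h2 : MulAction.IsMultiplyPretransitive Y Ω 2) (hΩ : 3 ≤ ENat.card Ω) (α : Ω) (A : Subgroup Y)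
    (hA : A ≤ MulAction.stabilizer Y α) (hAn : ∀ y ∈ MulAction.stabilizer Y α, Cfsg.conjBy A y = A)
    (hnil : Group.IsNilpotent A) (hreg : ∀ β γ : Ω, β ≠ α → γ ≠ α → ∃! a : Y, a ∈ A ∧ a • β = γ)
    (y : Y) (hy : y ∉ MulAction.stabilizer Y α) :
    Cfsg.IsRankOnePair A (Cfsg.conjBy A y) ∧ Subgroup.normalClosure (A : Set Y) = A ⊔ Cfsg.conjBy A y := by
  have hβ : y • α ≠ α := fun h => hy (MulAction.mem_stabilizer_iff.mpr h)
  have hβ' : y⁻¹ • α ≠ α := by
    intro h
    apply hβ
    rw [← h, smul_inv_smul, h]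
  have hfixA : ∀ a ∈ A, a • α = α := fun a ha => MulAction.mem_stabilizer_iff.mp (hA ha)
  -- an element of A fixing a point other than α is trivial
  have hfree : ∀ a ∈ A, ∀ ω : Ω, ω ≠ α → a • ω = ω → a = 1 := by
    intro a ha ω hω hfix
    obtain ⟨a₀, -, huniq⟩ := hreg ω ω hω hω
    rw [huniq a ⟨ha, hfix⟩, huniq 1 ⟨A.one_mem, one_smul _ _⟩]
  -- a third point
  obtain ⟨γ, hγα, hγβ⟩ : ∃ γ : Ω, γ ≠ α ∧ γ ≠ y • α := by
    by_contra hcon
    push Not at hcon
    have hsub : (Set.univ : Set Ω) ⊆ {α, y • α} := by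
      intro ω _
      by_cases h : ω = α
      · left; exact h
      · right; exact hcon ω h
    have h1 := Set.encard_le_encard hsub
    rw [Set.encard_univ] at h1
    have h3 : (3 : ℕ∞) ≤ 2 := by
      rw [Set.encard_pair hβ.symm] at h1
      exact hΩ.trans h1
    exact absurd h3 (by norm_num)
  -- a non-identity element of A
  obtain ⟨a₀, ⟨ha₀, ha₀γ⟩, -⟩ := hreg (y • α) γ hβ hγα
  have ha₀1 : a₀ ≠ 1 := by
    intro h
    rw [h, one_smul] at ha₀γ
    exact hγβ ha₀γ.symm
  -- elements of B fix β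
  have hfixB : ∀ b ∈ Cfsg.conjBy A y, b • (y • α) = y • α := by
    intro b hb
    rw [mem_conjBy] at hb
    have := hfixA _ hb
    have h3 : b = y * (y⁻¹ * b * y) * y⁻¹ := by group
    rw [h3, mul_smul, mul_smul, inv_smul_smul, this]
  -- transitivity of B on the points other than β, in the form we need
  have htransB : ∀ ω : Ω, ω ≠ y • α → ∃ b ∈ Cfsg.conjBy A y, b • α = ω := by
    intro ω hω
    have hω' : y⁻¹ • ω ≠ α := by
      intro h
      apply hω
      rw [← h, smul_inv_smul]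
    obtain ⟨a, ⟨ha, haω⟩, -⟩ := hreg (y⁻¹ • α) (y⁻¹ • ω) hβ' hω'
    refine ⟨y * a * y⁻¹, conj_mem_conjBy ha, ?_⟩
    rw [mul_smul, mul_smul, haω, smul_inv_smul]
  have hpair : Cfsg.IsRankOnePair A (Cfsg.conjBy A y) := by
    refine ⟨?_, hnil, isNilpotent_conjBy' hnil y, ?_, ?_⟩
    · intro hEq
      have : a₀ ∈ Cfsg.conjBy A y := by rw [← hEq]; exact ha₀
      have h3 := hfixB a₀ this
      exact ha₀1 (hfree a₀ ha₀ _ hβ h3)
    · -- cond_left
      intro a ha ha1
      have ha1' : a⁻¹ ≠ 1 := fun h => ha1 (inv_eq_one.mp h)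
      have hne : a⁻¹ • (y • α) ≠ y • α := fun h => ha1' (hfree _ (A.inv_mem ha) _ hβ h)
      obtain ⟨b', hb', hb'α⟩ := htransB _ hne
      refine ⟨b'⁻¹, Subgroup.inv_mem _ hb', ?_, ?_⟩
      · intro h
        rw [inv_eq_one] at h
        rw [h, one_smul] at hb'α
        -- α = a⁻¹ • y • α, so a • α = y • α, but a • α = α
        apply hβ
        have := congrArg (fun ω => a • ω) hb'α
        simp only [smul_inv_smul] at this
        rw [← this, hfixA a ha]
      · rw [inv_inv, conjBy_conjBy]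
        apply conjBy_eq_of_smul_eq hAn
        rw [hb'α, mul_smul]
    · -- cond_right
      intro b hb hb1
      have hb1' : b⁻¹ ≠ 1 := fun h => hb1 (inv_eq_one.mp h)
      have hbinv : b⁻¹ ∈ Cfsg.conjBy A y := Subgroup.inv_mem _ hb
      -- b⁻¹ • α ≠ α
      have hne : b⁻¹ • α ≠ α := by
        intro h
        apply hb1'
        rw [mem_conjBy] at hbinv
        have h3 : (y⁻¹ * b⁻¹ * y) • (y⁻¹ • α) = y⁻¹ • α := by
          rw [mul_smul, mul_smul, smul_inv_smul, h]
        have h4 := hfree _ hbinv _ hβ' h3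
        have h5 : b⁻¹ = y * (y⁻¹ * b⁻¹ * y) * y⁻¹ := by group
        rw [h5, h4]; group
      obtain ⟨a', ⟨ha', ha'β⟩, -⟩ := hreg (y • α) (b⁻¹ • α) hβ hne
      refine ⟨a'⁻¹, A.inv_mem ha', ?_, ?_⟩
      · intro h
        rw [inv_eq_one] at h
        rw [h, one_smul] at ha'β
        -- y • α = b⁻¹ • α, so b • y • α = α, but b fixes y • α
        apply hβ
        have := congrArg (fun ω => b • ω) ha'β
        simp only [smul_inv_smul] at this
        exact (hfixB b hb).symm.trans this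
      · rw [inv_inv, conjBy_conjBy]
        apply conjBy_eq_of_smul_eq hAn
        rw [mul_smul, ha'β]
  refine ⟨hpair, ?_⟩
  apply le_antisymm
  · unfold Subgroup.normalClosure
    rw [Subgroup.closure_le]
    intro x hx
    rw [Group.mem_conjugatesOfSet_iff] at hx
    obtain ⟨a, ha, hconj⟩ := hx
    rw [isConj_iff] at hconj
    obtain ⟨g, rfl⟩ := hconj
    have hmem : g * a * g⁻¹ ∈ Cfsg.conjBy A g := conj_mem_conjBy ha
    by_cases hg : g • α = α
    · have : Cfsg.conjBy A g = A := hAn g (MulAction.mem_stabilizer_iff.mpr hg)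
      rw [this] at hmem
      exact Subgroup.mem_sup_left hmem
    · obtain ⟨a', ⟨ha', ha'β⟩, -⟩ := hreg (y • α) (g • α) hβ hg
      have : Cfsg.conjBy A g = Cfsg.conjBy (Cfsg.conjBy A y) a' := by
        rw [conjBy_conjBy]
        apply conjBy_eq_of_smul_eq hAn
        rw [mul_smul, ha'β]
      rw [this] at hmem
      exact conjBy_le_of_mem le_sup_right (Subgroup.mem_sup_left ha') hmem
  · apply sup_le
    · exact Subgroup.le_normalClosure
    · intro x hx
      rw [mem_conjBy] at hx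
      have h3 : x = y * (y⁻¹ * x * y) * y⁻¹ := by group
      rw [h3]
      exact (Subgroup.normalClosure_normal).conj_mem _ (Subgroup.le_normalClosure hx) y

end Cfsg.Agent.S5015
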