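import Mathlib
import Cfsg.Statements.S5016
import Cfsg.Agent.Lib.Helper8.ConjBy

set_option autoImplicit false

open Cfsg

namespace Cfsg.Agent.S5016

open Cfsg.Agent.Lib.Helper8 Matrix

variable {k : Type*} [Field k]

local notation "SL2" => Matrix.SpecialLinearGroup (Fin 2) k

/-- upper unitriangular -/
def U (s : k) : Matrix.SpecialLinearGroup (Fin 2) k := ⟨!![1, s; 0, 1], by simp [Matrix.det_fin_two]⟩
/-- lower unitriangular -/
def L (t : k) : Matrix.SpecialLinearGroup (Fin 2) k := ⟨!![1, 0; t, 1], by simp [Matrix.det_fin_two]⟩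

theorem sl2_ext {g h : Matrix.SpecialLinearGroup (Fin 2) k} (h00 : g.1 0 0 = h.1 0 0) (h01 : g.1 0 1 = h.1 0 1)
    (h10 : g.1 1 0 = h.1 1 0) (h11 : g.1 1 1 = h.1 1 1) : g = h := by
  apply Subtype.ext
  ext i j
  fin_cases i <;> fin_cases j <;> assumption

theorem mul_entries (g h : Matrix.SpecialLinearGroup (Fin 2) k) (i j : Fin 2) :
    (g * h).1 i j = g.1 i 0 * h.1 0 j + g.1 i 1 * h.1 1 j := by
  show (g.1 * h.1) i j = _
  rw [Matrix.mul_apply, Fin.sum_univ_two]

theorem inv_entries (g : Matrix.SpecialLinearGroup (Fin 2) k) :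
    (g⁻¹).1 0 0 = g.1 1 1 ∧ (g⁻¹).1 0 1 = - g.1 0 1 ∧ (g⁻¹).1 1 0 = - g.1 1 0 ∧ (g⁻¹).1 1 1 = g.1 0 0 := by
  have : (g⁻¹).1 = Matrix.adjugate g.1 := Matrix.SpecialLinearGroup.coe_inv g
  rw [this, Matrix.adjugate_fin_two]
  simp

theorem det_eq (g : Matrix.SpecialLinearGroup (Fin 2) k) : g.1 0 0 * g.1 1 1 - g.1 0 1 * g.1 1 0 = 1 := by
  have := g.2
  rw [Matrix.det_fin_two] at this
  exact this

theorem mem_upper {g : Matrix.SpecialLinearGroup (Fin 2) k} :
    g ∈ Cfsg.upperUnipotentSL2 k ↔ g.1 1 0 = 0 ∧ g.1 0 0 = 1 ∧ g.1 1 1 = 1 := by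
  constructor
  · intro hg
    unfold Cfsg.upperUnipotentSL2 at hg
    induction hg using Subgroup.closure_induction with
    | mem x hx => exact hx
    | one => simp
    | mul x y _ _ hx hy =>
      obtain ⟨a1, a2, a3⟩ := hx
      obtain ⟨b1, b2, b3⟩ := hy
      refine ⟨?_, ?_, ?_⟩
      · rw [mul_entries, a1, b1]; simp
      · rw [mul_entries, a2, b1, b2]; simp
      · rw [mul_entries, a1, b3, a3]; simp
    | inv x _ hx =>
      obtain ⟨a1, a2, a3⟩ := hx
      obtain ⟨i1, i2, i3, i4⟩ := inv_entries x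
      exact ⟨by rw [i3, a1, neg_zero], by rw [i1, a3], by rw [i4, a2]⟩
  · intro h
    exact Subgroup.subset_closure h

theorem mem_lower {g : Matrix.SpecialLinearGroup (Fin 2) k} :
    g ∈ Cfsg.lowerUnipotentSL2 k ↔ g.1 0 1 = 0 ∧ g.1 0 0 = 1 ∧ g.1 1 1 = 1 := by
  constructor
  · intro hg
    unfold Cfsg.lowerUnipotentSL2 at hg
    induction hg using Subgroup.closure_induction with
    | mem x hx => exact hx
    | one => simp
    | mul x y _ _ hx hy =>
      obtain ⟨a1, a2, a3⟩ := hx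
      obtain ⟨b1, b2, b3⟩ := hy
      refine ⟨?_, ?_, ?_⟩
      · rw [mul_entries, a1, b1]; simp
      · rw [mul_entries, a2, b2, a1]; simp
      · rw [mul_entries, a3, b1, b3]; simp
    | inv x _ hx =>
      obtain ⟨a1, a2, a3⟩ := hx
      obtain ⟨i1, i2, i3, i4⟩ := inv_entries x
      exact ⟨by rw [i2, a1, neg_zero], by rw [i1, a3], by rw [i4, a2]⟩
  · intro h
    exact Subgroup.subset_closure h

theorem U_mem (s : k) : U s ∈ Cfsg.upperUnipotentSL2 k := by
  rw [mem_upper]; simp [U]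

theorem L_mem (t : k) : L t ∈ Cfsg.lowerUnipotentSL2 k := by
  rw [mem_lower]; simp [L]

theorem eq_U_of_mem {g : Matrix.SpecialLinearGroup (Fin 2) k} (hg : g ∈ Cfsg.upperUnipotentSL2 k) :
    g = U (g.1 0 1) := by
  obtain ⟨h1, h2, h3⟩ := mem_upper.mp hg
  apply sl2_ext <;> simp [U, h1, h2, h3]

theorem eq_L_of_mem {g : Matrix.SpecialLinearGroup (Fin 2) k} (hg : g ∈ Cfsg.lowerUnipotentSL2 k) :
    g = L (g.1 1 0) := by
  obtain ⟨h1, h2, h3⟩ := mem_lower.mp hg
  apply sl2_ext <;> simp [L, h1, h2, h3]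

theorem U_entries (s : k) : (U s).1 0 0 = 1 ∧ (U s).1 0 1 = s ∧ (U s).1 1 0 = 0 ∧ (U s).1 1 1 = 1 := by
  simp [U]

theorem L_entries (t : k) : (L t).1 0 0 = 1 ∧ (L t).1 0 1 = 0 ∧ (L t).1 1 0 = t ∧ (L t).1 1 1 = 1 := by
  simp [L]

theorem U_inv (s : k) : (U s)⁻¹ = U (-s) := by
  obtain ⟨i1, i2, i3, i4⟩ := inv_entries (U s)
  apply sl2_ext
  · rw [i1]; simp [U]
  · rw [i2]; simp [U]
  · rw [i3]; simp [U]
  · rw [i4]; simp [U]

theorem L_inv (t : k) : (L t)⁻¹ = L (-t) := by
  obtain ⟨i1, i2, i3, i4⟩ := inv_entries (L t)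
  apply sl2_ext
  · rw [i1]; simp [L]
  · rw [i2]; simp [L]
  · rw [i3]; simp [L]
  · rw [i4]; simp [L]

theorem core {s t : k} (hst : s * t = 1) :
    Cfsg.conjBy (Cfsg.lowerUnipotentSL2 k) (U s)⁻¹ = Cfsg.conjBy (Cfsg.upperUnipotentSL2 k) (L t)⁻¹ := by
  ext x
  rw [mem_conjBy, mem_conjBy, inv_inv, inv_inv, U_inv, L_inv, mem_lower, mem_upper]
  have hd := det_eq x
  simp only [mul_entries, U_entries, L_entries]
  generalize x.1 0 0 = p at *
  generalize x.1 0 1 = q at *
  generalize x.1 1 0 = r at *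
  generalize x.1 1 1 = w at *
  constructor
  · rintro ⟨h1, h2, h3⟩
    have hp : p = 1 - s * r := by linear_combination h2
    have hw : w = 1 + s * r := by linear_combination h3
    have hq : q = - s ^ 2 * r := by linear_combination h1 + s * h2 - s * h3
    subst hp hw hq
    refine ⟨?_, ?_, ?_⟩
    · linear_combination (r * (s * t - 1)) * hst
    · linear_combination (s * r) * hst
    · linear_combination (-(s * r)) * hst
  · rintro ⟨h1, h2, h3⟩
    have hp : p = 1 + t * q := by linear_combination h2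
    have hw : w = 1 - t * q := by linear_combination h3
    have hr : r = - t ^ 2 * q := by linear_combination h1 - t * h2 + t * h3
    subst hp hw hr
    refine ⟨?_, ?_, ?_⟩
    · linear_combination (q * (s * t - 1)) * hst
    · linear_combination (-(t * q)) * hst
    · linear_combination (t * q) * hst

theorem mem_sup_of_ne {g : Matrix.SpecialLinearGroup (Fin 2) k} (hc : g.1 1 0 ≠ 0) :
    g ∈ Cfsg.lowerUnipotentSL2 k ⊔ Cfsg.upperUnipotentSL2 k := by
  have hd := det_eq g
  have key : g = U ((g.1 0 0 - 1) / g.1 1 0) * L (g.1 1 0) * U ((g.1 1 1 - 1) / g.1 1 0) := by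
    generalize hp : g.1 0 0 = p at *
    generalize hq : g.1 0 1 = q at *
    generalize hr : g.1 1 0 = r at *
    generalize hw : g.1 1 1 = w at *
    apply sl2_ext
    · simp only [mul_entries, U_entries, L_entries, hp]
      field_simp
      ring
    · simp only [mul_entries, U_entries, L_entries, hq]
      field_simp
      linear_combination (-1 : k) * hd
    · simp only [mul_entries, U_entries, L_entries, hr]
      ring
    · simp only [mul_entries, U_entries, L_entries, hw]
      field_simp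
      ring
  rw [key]
  exact Subgroup.mul_mem _ (Subgroup.mul_mem _ (Subgroup.mem_sup_right (U_mem _))
    (Subgroup.mem_sup_left (L_mem _))) (Subgroup.mem_sup_right (U_mem _))

theorem sup_eq_top : Cfsg.lowerUnipotentSL2 k ⊔ Cfsg.upperUnipotentSL2 k = ⊤ := by
  rw [eq_top_iff]
  intro g _
  by_cases hc : g.1 1 0 = 0
  · have hd := det_eq g
    rw [hc, mul_zero, sub_zero] at hd
    have ha : g.1 0 0 ≠ 0 := left_ne_zero_of_mul_eq_one hd
    have h1 : (L 1 * g).1 1 0 ≠ 0 := by
      simp only [mul_entries, L_entries, hc]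
      simpa using ha
    have h2 := mem_sup_of_ne h1
    have h3 : g = (L 1)⁻¹ * (L 1 * g) := by group
    rw [h3]
    exact Subgroup.mul_mem _ (Subgroup.inv_mem _ (Subgroup.mem_sup_left (L_mem _))) h2
  · exact mem_sup_of_ne hc

theorem L_ne_one {t : k} (ht : t ≠ 0) : L t ≠ 1 := by
  intro h
  have : (L t).1 1 0 = (1 : Matrix.SpecialLinearGroup (Fin 2) k).1 1 0 := by rw [h]
  rw [(L_entries t).2.2.1] at this
  simp at this
  exact ht this

theorem U_ne_one {s : k} (hs : s ≠ 0) : U s ≠ 1 := by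
  intro h
  have : (U s).1 0 1 = (1 : Matrix.SpecialLinearGroup (Fin 2) k).1 0 1 := by rw [h]
  rw [(U_entries s).2.1] at this
  simp at this
  exact hs this

theorem L_zero : L (0 : k) = 1 := by
  apply sl2_ext <;> simp [L]

theorem U_zero : U (0 : k) = 1 := by
  apply sl2_ext <;> simp [U]

theorem lower_comm : IsMulCommutative (Cfsg.lowerUnipotentSL2 k) := by
  constructor
  constructor
  intro a b
  apply Subtype.ext
  show (a : Matrix.SpecialLinearGroup (Fin 2) k) * b = b * a
  rw [eq_L_of_mem a.2, eq_L_of_mem b.2]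
  apply sl2_ext <;> simp only [mul_entries, L_entries] <;> ring

theorem upper_comm : IsMulCommutative (Cfsg.upperUnipotentSL2 k) := by
  constructor
  constructor
  intro a b
  apply Subtype.ext
  show (a : Matrix.SpecialLinearGroup (Fin 2) k) * b = b * a
  rw [eq_U_of_mem a.2, eq_U_of_mem b.2]
  apply sl2_ext <;> simp only [mul_entries, U_entries] <;> ring

theorem pair : Cfsg.IsRankOnePair (Cfsg.lowerUnipotentSL2 k) (Cfsg.upperUnipotentSL2 k) where
  ne := by
    intro h
    have h1 : L (1 : k) ∈ Cfsg.upperUnipotentSL2 k := h ▸ L_mem 1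
    rw [mem_upper, (L_entries 1).2.2.1] at h1
    exact one_ne_zero h1.1
  nilpotent_left := by
    have := lower_comm (k := k)
    let _ : CommGroup (Cfsg.lowerUnipotentSL2 k) := { (inferInstance : Group _) with
      mul_comm := fun a b => mul_comm' a b }
    exact CommGroup.isNilpotent
  nilpotent_right := by
    have := upper_comm (k := k)
    let _ : CommGroup (Cfsg.upperUnipotentSL2 k) := { (inferInstance : Group _) with
      mul_comm := fun a b => mul_comm' a b }
    exact CommGroup.isNilpotent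
  cond_left := by
    intro a ha ha1
    rw [eq_L_of_mem ha] at ha1 ⊢
    have ht : a.1 1 0 ≠ 0 := by
      intro h0
      rw [h0, L_zero] at ha1
      exact ha1 rfl
    refine ⟨U (a.1 1 0)⁻¹, U_mem _, U_ne_one (inv_ne_zero ht), ?_⟩
    exact core (inv_mul_cancel₀ ht)
  cond_right := by
    intro b hb hb1
    rw [eq_U_of_mem hb] at hb1 ⊢
    have hs : b.1 0 1 ≠ 0 := by
      intro h0
      rw [h0, U_zero] at hb1
      exact hb1 rfl
    refine ⟨L (b.1 0 1)⁻¹, L_mem _, L_ne_one (inv_ne_zero hs), ?_⟩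
    exact (core (mul_inv_cancel₀ hs)).symm

theorem special : Cfsg.IsSpecialRankOnePair (Cfsg.lowerUnipotentSL2 k) (Cfsg.upperUnipotentSL2 k) := by
  refine ⟨pair, ?_⟩
  intro a ha ha1 b hb hb1 hconj
  rw [eq_L_of_mem ha] at ha1 hconj ⊢
  rw [eq_U_of_mem hb] at hb1 hconj ⊢
  generalize a.1 1 0 = t at *
  generalize b.1 0 1 = s at *
  have ht : t ≠ 0 := by
    intro h0
    rw [h0, L_zero] at ha1
    exact ha1 rfl
  -- derive `s * t = 1`
  have hmem : (L t)⁻¹ * U 1 * L t ∈ Cfsg.conjBy (Cfsg.upperUnipotentSL2 k) (L t)⁻¹ := by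
    rw [mem_conjBy, inv_inv]
    have : L t * ((L t)⁻¹ * U 1 * L t) * (L t)⁻¹ = U 1 := by group
    rw [this]
    exact U_mem 1
  rw [← hconj, mem_conjBy, inv_inv, mem_lower, U_inv, L_inv] at hmem
  obtain ⟨-, h00, -⟩ := hmem
  simp only [mul_entries, U_entries, L_entries] at h00
  have hst : s * t = 1 := by
    have h1 : t * (1 - s * t) = 0 := by linear_combination h00
    have h2 := (mul_eq_zero.mp h1).resolve_left ht
    linear_combination -h2
  rw [U_inv, L_inv]
  apply sl2_ext <;> simp only [mul_entries, U_entries, L_entries] <;>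
    first
    | ring1
    | linear_combination hst
    | linear_combination (-1 : k) * hst
    | linear_combination s * hst
    | linear_combination (-s) * hst
    | linear_combination t * hst
    | linear_combination (-t) * hst

theorem result (k : Type*) [Field k] :
    Cfsg.IsRankOneGroup (Matrix.SpecialLinearGroup (Fin 2) k) (Cfsg.lowerUnipotentSL2 k) (Cfsg.upperUnipotentSL2 k) ∧
    Cfsg.IsSpecialRankOnePair (Cfsg.lowerUnipotentSL2 k) (Cfsg.upperUnipotentSL2 k) ∧
    Cfsg.HasAbelianUnipotents (Cfsg.lowerUnipotentSL2 k) (Cfsg.upperUnipotentSL2 k) :=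
  ⟨⟨sup_eq_top, pair⟩, special, lower_comm, upper_comm⟩

end Cfsg.Agent.S5016
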