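import Cfsg.Statements.S5017
import Cfsg.Agent.Lib.Helper8.RankOne

set_option autoImplicit false

open Cfsg

namespace Cfsg.Agent.S5017

open Cfsg.Agent.Lib.Helper8

theorem result {X : Type*} [Group X] {A B : Subgroup X} (h : Cfsg.IsRankOneGroup X A B) :
    (∀ N : Subgroup X, N.Normal → N ⊔ A = ⊤ ∨ N ≤ Subgroup.center X) ∧
    (Group.IsPerfect X → Cfsg.IsQuasisimple X) := by
  refine ⟨fun N hN => rankOneGroup_normal_dichotomy h N hN, ?_⟩
  intro hperf
  refine ⟨hperf, ?_⟩
  have hnt : Nontrivial (X ⧸ Subgroup.center X) := by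
    rw [QuotientGroup.nontrivial_iff]
    exact rankOneGroup_center_ne_top h
  refine { exists_pair_ne := hnt.exists_pair_ne, eq_bot_or_eq_top_of_normal := ?_ }
  intro M hM
  set N : Subgroup X := M.comap (QuotientGroup.mk' (Subgroup.center X)) with hNdef
  have hNn : N.Normal := hM.comap _
  have hMN : M = N.map (QuotientGroup.mk' (Subgroup.center X)) := by
    rw [hNdef, Subgroup.map_comap_eq_self_of_surjective (QuotientGroup.mk'_surjective _)]
  rcases rankOneGroup_normal_dichotomy h N hNn with hNA | hNZ
  · right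
    -- X/N is perfect and nilpotent, hence trivial
    have hnil : Group.IsNilpotent A := h.2.nilpotent_left
    have hsurj : Function.Surjective ((QuotientGroup.mk' N).comp A.subtype) := by
      intro q
      obtain ⟨x, rfl⟩ := QuotientGroup.mk'_surjective N q
      have hx : x ∈ N ⊔ A := by rw [hNA]; exact Subgroup.mem_top x
      obtain ⟨n, hn, a, ha, rfl⟩ := Subgroup.mem_sup_of_normal_left.mp hx
      refine ⟨⟨a, ha⟩, ?_⟩
      simp only [MonoidHom.coe_comp, Function.comp_apply, Subgroup.subtype_apply,
        QuotientGroup.mk'_apply]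
      rw [QuotientGroup.eq]
      have : a⁻¹ * (n * a) = a⁻¹ * n * a := by group
      rw [this]
      exact hNn.conj_mem' n hn a
    have hnilq : Group.IsNilpotent (X ⧸ N) := Group.nilpotent_of_surjective _ hsurj
    have hsub : Subsingleton (X ⧸ N) := by
      by_contra hns
      rw [not_subsingleton_iff_nontrivial] at hns
      exact Group.IsPerfect.not_isNilpotent (G := X ⧸ N) hnilq
    have hNtop : N = ⊤ := by
      rwa [QuotientGroup.subsingleton_iff] at hsub
    rw [hMN, hNtop, ← MonoidHom.range_eq_map]
    exact MonoidHom.range_eq_top.mpr (QuotientGroup.mk'_surjective _)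
  · left
    rw [hMN, eq_bot_iff]
    calc N.map (QuotientGroup.mk' (Subgroup.center X))
        ≤ (Subgroup.center X).map (QuotientGroup.mk' (Subgroup.center X)) := Subgroup.map_mono hNZ
      _ = ⊥ := by rw [QuotientGroup.map_mk'_self]

end Cfsg.Agent.S5017
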