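import Cfsg.Statements.S5018
import Cfsg.Agent.Lib.Helper8.RankOne

set_option autoImplicit false

open Cfsg

namespace Cfsg.Agent.S5018

open Cfsg.Agent.Lib.Helper8

theorem result {X : Type*} [Group X] {A B : Subgroup X} (h : Cfsg.IsRankOneGroup X A B) :
    Subgroup.upperCentralSeries X 2 = Subgroup.center X ∧ ¬ Group.IsNilpotent X := by
  have h2 : Subgroup.upperCentralSeries X 2 = Subgroup.center X := by
    apply le_antisymm
    · have hn : (Subgroup.upperCentralSeries X 2).Normal := inferInstance
      rcases rankOneGroup_normal_dichotomy h _ hn with h1 | h1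
      · exfalso
        refine rankOneGroup_sup_ne_top_of_commutator_le_center h _ hn ?_ h1
        intro n hn x
        have := (Subgroup.mem_upperCentralSeries_succ_iff (n := 1)).mp hn x
        rw [Subgroup.upperCentralSeries_one] at this
        simpa [commutatorElement_def] using this
      · exact h1
    · rw [← Subgroup.upperCentralSeries_one]
      exact Subgroup.upperCentralSeries_mono X (by norm_num)
  refine ⟨h2, ?_⟩
  intro hnil
  have hall : ∀ n : ℕ, Subgroup.upperCentralSeries X (n + 1) = Subgroup.center X := by
    intro n
    induction n with
    | zero => exact Subgroup.upperCentralSeries_one X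
    | succ k ih =>
      rw [← h2]
      ext x
      rw [Subgroup.mem_upperCentralSeries_succ_iff, Subgroup.mem_upperCentralSeries_succ_iff, ih,
        Subgroup.upperCentralSeries_one]
  obtain ⟨n, hn⟩ := hnil.nilpotent'
  apply rankOneGroup_center_ne_top h
  cases n with
  | zero =>
    rw [Subgroup.upperCentralSeries_zero] at hn
    rw [eq_top_iff, ← hn]
    exact bot_le
  | succ k => rw [← hall k, hn]

end Cfsg.Agent.S5018
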