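import Cfsg.Statements.S5020
import Mathlib
import Cfsg.Agent.Lib.Helper8.RZ1
import Cfsg.Agent.Lib.Helper8.RZ2
import Cfsg.Agent.Lib.Helper8.RZ3
import Cfsg.Agent.Lib.Helper3.Components1
import Cfsg.Agent.S5017

set_option autoImplicit false
open Cfsg

namespace Cfsg.Agent.S5020

/-- Let X be a special rank one group with abelian unipotent subgroups A and B, and H = N(A) ∩ N(B) its diagonal subgroup. Then either A has at most three elements and X is isomorphic to SL₂(2), SL₂(3) or PSL₂(3); or X = X' A with the commutator subgroup X' quasisimple and the commutator subgroup ⁅A, H⁆ having more than three elements. -/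
theorem result {X : Type*} [Group X] {A B : Subgroup X} (h : Cfsg.IsRankOneGroup X A B)
    (hs : Cfsg.IsSpecialRankOnePair A B) (hab : Cfsg.HasAbelianUnipotents A B) :
    (ENat.card A ≤ 3 ∧ (Nonempty (X ≃* Matrix.SpecialLinearGroup (Fin 2) (ZMod 2)) ∨
        Nonempty (X ≃* Matrix.SpecialLinearGroup (Fin 2) (ZMod 3)) ∨
        Nonempty (X ≃* Matrix.ProjectiveSpecialLinearGroup (Fin 2) (ZMod 3)))) ∨
    (commutator X ⊔ A = ⊤ ∧ Cfsg.IsQuasisimple (commutator X) ∧
      3 < ENat.card ↥(⁅A, Cfsg.rankOneDiagonal A B⁆ : Subgroup X)) := by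
  classical
  open Cfsg.Agent.Lib.Helper8 Cfsg.Agent.Lib.Helper8.RZ in
  by_cases hcard : 3 < ENat.card ↥A
  · right
    have hA : A ≤ commutator X := by
      have h1 := RY.le_commutator hs hab hcard
      rw [h.1] at h1
      rwa [commutator_def]
    have hB : B ≤ commutator X := by
      obtain ⟨x, -, hx⟩ := rankOnePair_right_mem_unipotentSubgroups h.2
      rw [hx]
      intro g hg
      have h1 : x⁻¹ * g * x ∈ A := mem_conjBy.mp hg
      have h2 : x * (x⁻¹ * g * x) * x⁻¹ ∈ commutator X :=
        (inferInstance : (commutator X).Normal).conj_mem _ (hA h1) x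
      have h3 : x * (x⁻¹ * g * x) * x⁻¹ = g := by group
      rwa [h3] at h2
    have hperf : commutator X = ⊤ := by
      rw [eq_top_iff, ← h.1]
      exact sup_le hA hB
    have hqs : Cfsg.IsQuasisimple X := (Cfsg.Agent.S5017.result h).2 ⟨hperf⟩
    have e : X ≃* ↥(commutator X) := by
      rw [hperf]
      exact Subgroup.topEquiv.symm
    refine ⟨?_, Cfsg.Agent.Lib.Helper3.isQuasisimple_of_mulEquiv e hqs, ?_⟩
    · rw [hperf]; exact top_sup_eq _
    · rw [commutator_diagonal_eq hs hab hcard]
      exact hcard
  · left
    rw [not_lt] at hcard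
    refine ⟨hcard, ?_⟩
    have hfin : Finite ↥A := by
      by_contra hinf
      rw [not_finite_iff_infinite] at hinf
      have : ENat.card ↥A = ⊤ := ENat.card_eq_top.mpr hinf
      rw [this] at hcard
      exact absurd hcard (by decide)
    have hle3 : Nat.card ↥A ≤ 3 := by
      have h1 : ENat.card ↥A = (Nat.card ↥A : ℕ∞) := ENat.card_eq_coe_natCard ↥A
      rw [h1] at hcard
      exact_mod_cast hcard
    have hge2 : 2 ≤ Nat.card ↥A := by
      obtain ⟨a, ha, ha1⟩ := rankOnePair_exists_left h.2
      have hnt : Nontrivial ↥A := ⟨⟨⟨a, ha⟩, 1, fun h0 => ha1 (congrArg Subtype.val h0)⟩⟩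
      exact Finite.one_lt_card
    have h23 : Nat.card ↥A = 2 ∨ Nat.card ↥A = 3 := by omega
    rcases h23 with h2 | h3
    · left
      have : Fact (Nat.Prime 2) := ⟨Nat.prime_two⟩
      obtain ⟨a, y, ha, hy, hbr, hne, hgen⟩ := small_data h hs h2
      obtain ⟨f, hfu, hfv, hinj⟩ := exists_hom2 ha hy hbr hne
      have hsurj : Function.Surjective f := by
        rw [← MonoidHom.range_eq_top, eq_top_iff, ← hgen, Subgroup.closure_le]
        intro x hx
        rcases hx with rfl | rfl
        · exact ⟨u2, hfu⟩
        · exact ⟨v2, hfv⟩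
      exact ⟨(MulEquiv.ofBijective f ⟨hinj, hsurj⟩).symm⟩
    · right
      have : Fact (Nat.Prime 3) := ⟨Nat.prime_three⟩
      obtain ⟨a, y, ha, hy, hbr, hne, hgen⟩ := small_data h hs h3
      obtain ⟨f, hfu, hfv, hfz, hker⟩ := exists_hom3 ha hy hbr hne
      have hsurj : Function.Surjective f := by
        rw [← MonoidHom.range_eq_top, eq_top_iff, ← hgen, Subgroup.closure_le]
        intro x hx
        rcases hx with rfl | rfl
        · exact ⟨u3, hfu⟩
        · exact ⟨v3, hfv⟩
      by_cases hz : (a * y * a) * (a * y * a) = 1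
      · right
        have hcen : ∀ g : S3, g ∈ Subgroup.center S3 ↔ (g = 1 ∨ g = -1) := by
          intro g
          rw [Subgroup.mem_center_iff]
          exact center_S3_iff g
        have hk : f.ker = Subgroup.center S3 := by
          ext g
          rw [MonoidHom.mem_ker, hcen]
          constructor
          · exact hker g
          · rintro (rfl | rfl)
            · exact map_one f
            · rw [hfz, hz]
        exact ⟨((QuotientGroup.quotientKerEquivOfSurjective f hsurj).symm).trans
          (QuotientGroup.quotientMulEquivOfEq hk)⟩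
      · left
        have hinj : Function.Injective f := by
          rw [injective_iff_map_eq_one]
          intro g hg
          rcases hker g hg with rfl | rfl
          · rfl
          · exfalso
            rw [hfz] at hg
            exact hz hg
        exact ⟨(MulEquiv.ofBijective f ⟨hinj, hsurj⟩).symm⟩

end Cfsg.Agent.S5020
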