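import Cfsg.Statements.S5022
import Mathlib
import Cfsg.Agent.Lib.Helper8.St5

set_option autoImplicit false
open Cfsg

namespace Cfsg.Agent.S5022

/-- Let X be a special rank one group with abelian unipotent subgroups A and B, where A is an elementary abelian p-group for the prime p. Then for every non-identity a in A and the non-identity b in B with b⁻¹ A b = a⁻¹ B a, the subgroup generated by a and b is isomorphic to SL₂(p) or to PSL₂(p). -/
theorem result {X : Type*} [Group X] {A B : Subgroup X} (h : Cfsg.IsRankOneGroup X A B)
    (hs : Cfsg.IsSpecialRankOnePair A B) (hab : Cfsg.HasAbelianUnipotents A B)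
    {p : ℕ} [Fact p.Prime] (hA : Cfsg.IsElementaryAbelian p A)
    {a b : X} (ha : a ∈ A) (ha1 : a ≠ 1) (hb : b ∈ B) (hb1 : b ≠ 1) (hab' : Cfsg.conjBy A b⁻¹ = Cfsg.conjBy B a⁻¹) :
    Nonempty (↥(Subgroup.closure ({a, b} : Set X)) ≃* Matrix.SpecialLinearGroup (Fin 2) (ZMod p)) ∨
    Nonempty (↥(Subgroup.closure ({a, b} : Set X)) ≃* Matrix.ProjectiveSpecialLinearGroup (Fin 2) (ZMod p)) := by
  classical
  open Cfsg.Agent.Lib.Helper8 Cfsg.Agent.Lib.Helper8.St Cfsg.Agent.H9SR in
  have S : SpecAb A B :=
    { pair := hs.1
      special := fun a ha ha1 b hb hb1 h => hs.2 a ha ha1 b hb hb1 h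
      commA := fun a ha a' ha' => by
        have := hab.1.is_comm.comm ⟨a, ha⟩ ⟨a', ha'⟩
        exact congrArg Subtype.val this
      commB := fun b hb b' hb' => by
        have := hab.2.is_comm.comm ⟨b, hb⟩ ⟨b', hb'⟩
        exact congrArg Subtype.val this }
  have hchi : Chi A B a b := ⟨ha, ha1, hb, hb1, hab'⟩
  have hC := DX_mult S hA.2 hchi
  have hrange : hC.phi.range = Subgroup.closure ({a, b} : Set X) := by
    rw [hC.range_phi, closure_DX S hA.2 hchi]
  have hker := hC.ker_phi (DX_K1 S hA.2 hchi) (DX_K2 S hA.2 hchi) (DX_K3 S hA.2 hchi)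
  let e0 : ↥(Subgroup.closure ({a, b} : Set X)) ≃* ↥hC.phi.range := MulEquiv.subgroupCongr hrange.symm
  have hdiag : (Matrix.diagonal fun _ : Fin 2 => (-1 : ZMod p)) = -1 := by
    ext i j
    fin_cases i <;> fin_cases j <;> simp
  by_cases hz : hC.phi (-1) = 1
  · right
    have hk : hC.phi.ker = Subgroup.center (Matrix.SpecialLinearGroup (Fin 2) (ZMod p)) := by
      ext g
      rw [MonoidHom.mem_ker]
      constructor
      · intro hg
        rcases hker g hg with rfl | rfl
        · exact Subgroup.one_mem _
        · rw [Matrix.SpecialLinearGroup.mem_center_iff]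
          refine ⟨-1, by simp, ?_⟩
          simp only [Matrix.scalar_apply, Matrix.SpecialLinearGroup.coe_neg,
            Matrix.SpecialLinearGroup.coe_one]
          exact hdiag
      · intro hg
        rw [Matrix.SpecialLinearGroup.mem_center_iff] at hg
        obtain ⟨r, hr, hg⟩ := hg
        have hr2 : r * r = 1 := by
          rw [Fintype.card_fin] at hr
          rw [← pow_two]; exact hr
        rcases mul_self_eq_one_iff.mp hr2 with h1 | h1
        · have : g = 1 := by
            apply Subtype.ext
            rw [← hg, h1]
            simp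
          rw [this, map_one]
        · have : g = -1 := by
            apply Subtype.ext
            rw [← hg, h1]
            simp only [Matrix.scalar_apply, Matrix.SpecialLinearGroup.coe_neg,
              Matrix.SpecialLinearGroup.coe_one]
            exact hdiag
          rw [this, hz]
    exact ⟨e0.trans ((QuotientGroup.quotientKerEquivRange hC.phi).symm.trans
      (QuotientGroup.quotientMulEquivOfEq hk))⟩
  · left
    have hinj : Function.Injective hC.phi := by
      rw [injective_iff_map_eq_one]
      intro g hg
      rcases hker g hg with rfl | rfl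
      · rfl
      · exact absurd hg hz
    exact ⟨e0.trans (MonoidHom.ofInjective hinj).symm⟩

end Cfsg.Agent.S5022
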