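import Cfsg.Statements.S5024
import Cfsg.Agent.Lib.Helper8.RootSet

set_option autoImplicit false

open Cfsg

namespace Cfsg.Agent.S5024

open Cfsg.Agent.Lib.Helper8

theorem result {G : Type*} [Group G] {S : Set (Subgroup G)} (hS : Cfsg.IsRootSubgroupSet S)
    {A B C D : Subgroup G} (hA : A ∈ S) (hC : C ∈ S) (hB : B ∈ Cfsg.rankOnePartners S A) (hD : D ∈ Cfsg.rankOnePartners S C)
    (hle : A ⊔ B ≤ C ⊔ D) : A ⊔ B = C ⊔ D ∧ C ∈ Cfsg.unipotentSubgroups A B ∧ D ∈ Cfsg.unipotentSubgroups A B := by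
  obtain ⟨hBS, hAB⟩ := hB
  obtain ⟨hDS, hCD⟩ := hD
  have hAΩ := mem_unipotentSubgroups_of_le hS hA hC hDS hAB hCD hle
  have hBΩ := mem_unipotentSubgroups_of_le hS hBS hC hDS (Cfsg.RankOnePair_symm hAB) hCD
    (by rw [sup_comm]; exact hle)
  obtain ⟨-, hsup, y, hy, hAy, hBy⟩ := rankOnePair_of_mem_unipotentSubgroups hCD hAΩ hBΩ hAB.ne
  have hΩ : Cfsg.unipotentSubgroups A B = Cfsg.unipotentSubgroups C D := by
    rw [hAy, hBy]; exact unipotentSubgroups_eq_of_conj hy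
  refine ⟨hsup, ?_, ?_⟩
  · rw [hΩ]; exact mem_unipotentSubgroups_self C D
  · rw [hΩ]; exact rankOnePair_right_mem_unipotentSubgroups hCD

end Cfsg.Agent.S5024
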