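import Cfsg.Statements.S5026
import Cfsg.Agent.Lib.Helper8.RootSet

set_option autoImplicit false

open Cfsg

namespace Cfsg.Agent.S5026

open Cfsg.Agent.Lib.Helper8

theorem result {G : Type*} [Group G] {S : Set (Subgroup G)} (hS : Cfsg.IsRootSubgroupSet S) (hdeg : Cfsg.IsDegenerateRootSet S)
    {a b : G} (ha : a ∈ Cfsg.rootElements S) (hb : b ∈ Cfsg.rootElements S) (hab : a * b = b * a) (hab1 : a * b ≠ 1) :
    Cfsg.centralizingMembers S (Subgroup.zpowers (a * b)) =
      Cfsg.centralizingMembers S (Subgroup.zpowers a) ∩ Cfsg.centralizingMembers S (Subgroup.zpowers b) := by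
  obtain ⟨ha1, A, hA, haA⟩ := ha
  obtain ⟨hb1, B, hB, hbB⟩ := hb
  ext E
  constructor
  · rintro ⟨hE, hEab⟩
    rw [le_centralizer_zpowers_iff] at hEab
    -- it suffices that E commutes with a
    suffices hEa : ∀ e ∈ E, e * a = a * e by
      refine ⟨⟨hE, le_centralizer_zpowers_iff.mpr hEa⟩, ⟨hE, le_centralizer_zpowers_iff.mpr ?_⟩⟩
      intro e he
      have h1 := hEab e he
      have h2 := hEa e he
      have : a * (e * b) = a * (b * e) := by
        calc a * (e * b) = (a * e) * b := by rw [mul_assoc]
          _ = (e * a) * b := by rw [h2]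
          _ = e * (a * b) := by rw [mul_assoc]
          _ = a * b * e := h1
          _ = a * (b * e) := by rw [mul_assoc]
      exact mul_left_cancel this
    by_contra hEa
    -- (A, E) is a rank one pair
    have hAE : Cfsg.IsRankOnePair A E := by
      rcases hS.pair A hA E hE with h1 | h2 | h3
      · exfalso
        apply hEa
        rw [Subgroup.commutator_eq_bot_iff_le_centralizer] at h1
        intro e he
        have := h1 haA
        rw [Subgroup.mem_centralizer_iff] at this
        exact this e he
      · exact h2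
      · exact absurd h3 (hdeg A hA E hE)
    -- (B, E) is a rank one pair
    have hBE : Cfsg.IsRankOnePair B E := by
      rcases hS.pair B hB E hE with h1 | h2 | h3
      · exfalso
        apply hEa
        rw [Subgroup.commutator_eq_bot_iff_le_centralizer] at h1
        intro e he
        have h4 := h1 hbB
        rw [Subgroup.mem_centralizer_iff] at h4
        have h5 := h4 e he
        have h6 := hEab e he
        -- e * (a*b) = (a*b) * e, e * b = b * e
        have : (e * a) * b = (a * e) * b := by
          rw [mul_assoc, h6, mul_assoc, mul_assoc, h5]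
        exact mul_right_cancel this
      · exact h2
      · exact absurd h3 (hdeg B hB E hE)
    have habN : a * b ∈ Subgroup.normalizer (E : Set G) := by
      apply Subgroup.centralizer_le_normalizer
      rw [Subgroup.mem_centralizer_iff]
      exact hEab
    have h1 : Cfsg.conjBy E b = Cfsg.conjBy E a⁻¹ := by
      have h2 : Cfsg.conjBy E (a * b) = E := conjBy_eq_self_iff.mpr habN
      rw [← conjBy_conjBy] at h2
      rw [conjBy_eq_iff] at h2
      exact h2
    obtain ⟨e, he, -, hEq⟩ := hAE.cond_left a haA ha1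
    have hb1' : b⁻¹ ≠ 1 := fun hh => hb1 (inv_eq_one.mp hh)
    obtain ⟨e', he', -, hEq'⟩ := hBE.cond_left b⁻¹ (B.inv_mem hbB) hb1'
    rw [inv_inv, h1, ← hEq] at hEq'
    have hBA : B = Cfsg.conjBy A (e' * e⁻¹) := by
      rw [← conjBy_conjBy, ← hEq', conjBy_conjBy]; simp
    have hBΩ : B ∈ Cfsg.unipotentSubgroups A E :=
      ⟨e' * e⁻¹, Subgroup.mem_sup_right (E.mul_mem he' (E.inv_mem he)), hBA⟩
    by_cases hne : A = B
    · have : a * b ∈ A ⊓ Subgroup.normalizer (E : Set G) :=
        Subgroup.mem_inf.mpr ⟨A.mul_mem haA (hne ▸ hbB), habN⟩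
      rw [rankOnePair_inf_normalizer hAE, Subgroup.mem_bot] at this
      exact hab1 this
    · obtain ⟨hp, -, -⟩ := rankOnePair_of_mem_unipotentSubgroups hAE
        (mem_unipotentSubgroups_self A E) hBΩ hne
      exact rankOnePair_not_commute hp haA ha1 hbB hb1 hab
  · rintro ⟨⟨hE, hEa⟩, ⟨-, hEb⟩⟩
    refine ⟨hE, ?_⟩
    rw [le_centralizer_zpowers_iff] at hEa hEb ⊢
    intro e he
    rw [← mul_assoc, hEa e he, mul_assoc, hEb e he, mul_assoc]

end Cfsg.Agent.S5026
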