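import Mathlib
import Cfsg.Statements.S5029
import Cfsg.Agent.Lib.Helper8.RT3

set_option autoImplicit false
open Cfsg

namespace Cfsg.Agent.S5029

open scoped ComplexConjugate
open Cfsg.Agent.Lib.Helper8

/-- Let S be a set of abstract root subgroups of G, A ∈ S having a rank one partner in S, and B ∈ S with C = ⁅A, B⁆ ∈ S. Then the members of S contained in AC are the conjugates of A by elements of B together with C, they partition AC, the members of S inside AC partition AC so that A is a line partner of C, and for every non-identity a ∈ A the map b ↦ a⁻¹ b⁻¹ a b is an isomorphism from B onto C. -/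
theorem result {G : Type*} [Group G] {S : Set (Subgroup G)} (hS : Cfsg.IsRootSubgroupSet S)
    {A B : Subgroup G} (hA : ¬ Cfsg.IsIsolatedIn (Cfsg.FAdj S) S A) (hAS : A ∈ S) (hB : B ∈ S) (hC : ⁅A, B⁆ ∈ S) :
    Cfsg.membersIn S (A ⊔ ⁅A, B⁆) = (fun b : G => Cfsg.conjBy A b) '' (B : Set G) ∪ {⁅A, B⁆} ∧
    Cfsg.IsSubgroupPartition (A ⊔ ⁅A, B⁆) (Cfsg.membersIn S (A ⊔ ⁅A, B⁆)) ∧
    A ∈ Cfsg.linePartners S ⁅A, B⁆ ∧
    ∀ a ∈ A, a ≠ 1 → ∃ φ : ↥B ≃* ↥⁅A, B⁆, ∀ b : ↥B, (φ b : G) = a⁻¹ * (b : G)⁻¹ * a * b := by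
  obtain ⟨D, hD, hAD⟩ := exists_rankOnePartner_of_not_isolated hA hAS
  have h := commCase_of_commutator_mem hS hAS hB hC
  refine ⟨membersIn_sup_commutator hS hAS hD hAD h,
    isSubgroupPartition_sup_commutator hS hAS hD hAD h, ?_, ?_⟩
  · refine ⟨⟨hAS, commCase_ne_left hS h, ?_⟩, ?_⟩
    · rw [Subgroup.commutator_eq_bot_iff_le_centralizer]
      intro c hc
      rw [Subgroup.mem_centralizer_iff]
      intro a ha
      exact (commCase_central_left h hc ha).symm
    · rw [sup_comm]
      exact isSubgroupPartition_sup_commutator hS hAS hD hAD h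
  · intro a ha ha1
    let f : ↥B →* ↥⁅A, B⁆ :=
      { toFun := fun b => ⟨a⁻¹ * (b : G)⁻¹ * a * b, by
          rw [commCase_comm_eq h ha b.2]; exact comm_mem_commutator ha b.2⟩
        map_one' := by
          apply Subtype.ext
          simp
        map_mul' := by
          intro b b'
          apply Subtype.ext
          show a⁻¹ * ((b * b' : ↥B) : G)⁻¹ * a * ((b * b' : ↥B) : G) =
            (a⁻¹ * (b : G)⁻¹ * a * b) * (a⁻¹ * (b' : G)⁻¹ * a * b')
          rw [commCase_comm_eq h ha b.2, commCase_comm_eq h ha b'.2, Subgroup.coe_mul,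
            commCase_comm_eq h ha (B.mul_mem b.2 b'.2)]
          exact commCase_map_mul_right h ha b.2 b'.2 }
    have hf : ∀ b : ↥B, ((f b : ↥⁅A, B⁆) : G) = a⁻¹ * (b : G)⁻¹ * a * b := fun b => rfl
    have hbij : Function.Bijective f := by
      constructor
      · rw [injective_iff_map_eq_one]
        intro b hb
        have h1 : a⁻¹ * (b : G)⁻¹ * a * b = 1 := by
          rw [← hf b, hb]; rfl
        rw [commCase_comm_eq h ha b.2] at h1
        apply Subtype.ext
        exact commCase_injective_right hS hAS hD hAD h ha ha1 b.2 h1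
      · intro c
        obtain ⟨b, hb, hbc⟩ := commCase_surj_right h ha ha1 c.2
        refine ⟨⟨b, hb⟩, ?_⟩
        apply Subtype.ext
        rw [hf]
        show a⁻¹ * b⁻¹ * a * b = c
        rw [commCase_comm_eq h ha hb, hbc]
    exact ⟨MulEquiv.ofBijective f hbij, fun b => rfl⟩

end Cfsg.Agent.S5029
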