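import Cfsg.Statements.S5033
import Mathlib
import Cfsg.Agent.Lib.Helper8.RY3
import Cfsg.Agent.Lib.Helper3.Components1

set_option autoImplicit false
open Cfsg

namespace Cfsg.Agent.S5033

/-- Quasisimplicity criterion for groups generated by abstract root subgroups. Let S be a set of abstract root subgroups of G with more than one member such that: the graph of rank one pairs on S is connected; no two different members of S have the same set of commuting members of S; if S is degenerate then every member of S has more than three elements; and every rank one pair in S is special. Then for every A ∈ S one has G = G' A with A ∩ G' ≠ 1, and the commutator subgroup G' is quasisimple. Moreover G is perfect if S is non-degenerate, or if some rank one pair A, B in S generates a perfect group. -/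
theorem result {G : Type*} [Group G] {S : Set (Subgroup G)} (hS : Cfsg.IsRootSubgroupSet S) (h2 : ∃ A ∈ S, ∃ B ∈ S, A ≠ B)
    (h1 : Cfsg.IsConnectedFamily (Cfsg.FAdj S) S)
    (h2' : ∀ A ∈ S, ∀ C ∈ S, A ≠ C → Cfsg.centralizingMembers S A ≠ Cfsg.centralizingMembers S C)
    (h3 : Cfsg.IsDegenerateRootSet S → ∀ A ∈ S, 3 < ENat.card A)
    (h4 : ∀ A ∈ S, ∀ B ∈ Cfsg.rankOnePartners S A, Cfsg.IsSpecialRankOnePair A B) :
    (∀ A ∈ S, commutator G ⊔ A = ⊤ ∧ A ⊓ commutator G ≠ ⊥) ∧ Cfsg.IsQuasisimple ↥(commutator G) ∧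
    (Cfsg.IsNondegenerateRootSet S → commutator G = ⊤) ∧
    ((∃ A ∈ S, ∃ B ∈ Cfsg.rankOnePartners S A, Group.IsPerfect ↥(A ⊔ B)) → commutator G = ⊤) := by
  classical
  obtain ⟨A₀, hA₀, B₀, hB₀, hne₀⟩ := h2
  have h32 := (Cfsg.Agent.S5032.result hS ⟨A₀, hA₀, B₀, hB₀, hne₀⟩).mp h1
  have hclass : Cfsg.IsRootSubgroupClass S := ⟨hS, h32.1⟩
  obtain ⟨A₁, hA₁, hniso⟩ := h32.2
  obtain ⟨D₁, hD₁, hAD₁⟩ :=
    Cfsg.Agent.Lib.Helper8.exists_rankOnePartner_of_not_isolated hniso hA₁
  have hall := Cfsg.Agent.Lib.Helper8.exists_rankOnePartner_of_class hclass hA₁ hD₁ hAD₁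
  have hcommS : ∀ A ∈ S, ∀ a ∈ A, ∀ a' ∈ A, a * a' = a' * a := fun A hA a ha a' ha' =>
    Cfsg.Agent.Lib.Helper8.mul_comm_of_mem_commutative (hS.commutative A hA) ha ha'
  have hRP : ∀ A ∈ S, ∀ D ∈ S, Cfsg.IsRankOnePair A D → ∀ N : Subgroup G, N.Normal →
      ⁅A, D⁆ ≤ N → N = ⊤ := by
    intro A hA D hD hAD N hN hle
    by_cases hc : ∃ P ∈ S, ∃ Q ∈ S, Cfsg.RootCommutatorCase S P Q
    · obtain ⟨T, -, hTD, -, cfg⟩ :=
        Cfsg.Agent.Lib.Helper8.exists_config_of_nondegenerate hclass hc hA hD hAD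
      have hle' : ⁅⁅A, T⁆, D⁆ ≤ N := by
        haveI := hN
        exact Cfsg.Agent.Lib.Helper8.RY.commutator_commutator_le hTD hle
      exact Cfsg.Agent.Lib.Helper8.RY.normal_eq_top_of_member_le hclass hN cfg.hA hle'
    · push Not at hc
      have hdeg : Cfsg.IsDegenerateRootSet S := fun P hP Q hQ => hc P hP Q hQ
      have hcard := h3 hdeg A hA
      have hsp := h4 A hA D ⟨hD, hAD⟩
      have hab : Cfsg.HasAbelianUnipotents A D := ⟨hS.commutative A hA, hS.commutative D hD⟩
      have h5 := Cfsg.Agent.Lib.Helper8.RY.le_commutator hsp hab hcard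
      have h6 : ⁅A ⊔ D, A ⊔ D⁆ ≤ N := by
        haveI := hN
        exact Cfsg.Agent.Lib.Helper8.RY.commutator_sup_le (hcommS A hA) (hcommS D hD) hle
      exact Cfsg.Agent.Lib.Helper8.RY.normal_eq_top_of_member_le hclass hN hA (le_trans h5 h6)
  have hperf : commutator G = ⊤ := by
    have hNn : (commutator G).Normal := inferInstance
    apply hRP A₁ hA₁ D₁ hD₁ hAD₁ _ hNn
    rw [commutator_def]
    exact Subgroup.commutator_mono le_top le_top
  have hnorm : ∀ N : Subgroup G, N.Normal → ¬ N ≤ Subgroup.center G → N = ⊤ :=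
    fun N hN hNZ => Cfsg.Agent.Lib.Helper8.RY.normal_eq_top hclass h2' hall hRP hN hNZ
  have hqs : Cfsg.IsQuasisimple G := by
    refine ⟨⟨hperf⟩, ?_⟩
    obtain ⟨x, hx⟩ : ∃ x : G, x ∉ Subgroup.center G := by
      obtain ⟨a, ha, ha1⟩ := Cfsg.Agent.Lib.Helper8.rankOnePair_exists_left hAD₁
      obtain ⟨d, hd, hd1⟩ := Cfsg.Agent.Lib.Helper8.rankOnePair_exists_right hAD₁
      refine ⟨a, fun hz => Cfsg.Agent.Lib.Helper8.rankOnePair_not_commute hAD₁ ha ha1 hd hd1 ?_⟩
      rw [Subgroup.mem_center_iff] at hz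
      exact (hz d).symm
    refine { exists_pair_ne := ⟨(x : G ⧸ Subgroup.center G), 1,
      fun h0 => hx ((QuotientGroup.eq_one_iff x).mp h0)⟩, eq_bot_or_eq_top_of_normal := ?_ }
    intro H hH
    by_cases hle : H.comap (QuotientGroup.mk' (Subgroup.center G)) ≤ Subgroup.center G
    · left
      rw [eq_bot_iff]
      intro y hy
      obtain ⟨g, rfl⟩ := QuotientGroup.mk_surjective y
      have hg : g ∈ H.comap (QuotientGroup.mk' (Subgroup.center G)) := hy
      rw [Subgroup.mem_bot]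
      exact (QuotientGroup.eq_one_iff g).mpr (hle hg)
    · right
      have htop := hnorm _ (hH.comap _) hle
      rw [eq_top_iff]
      intro y _
      obtain ⟨g, rfl⟩ := QuotientGroup.mk_surjective y
      have hg : g ∈ H.comap (QuotientGroup.mk' (Subgroup.center G)) := by rw [htop]; trivial
      exact hg
  have e : G ≃* ↥(commutator G) := by
    rw [hperf]
    exact Subgroup.topEquiv.symm
  refine ⟨fun A hA => ⟨?_, ?_⟩, Cfsg.Agent.Lib.Helper3.isQuasisimple_of_mulEquiv e hqs,
    fun _ => hperf, fun _ => hperf⟩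
  · rw [hperf]; exact top_sup_eq _
  · rw [hperf, inf_top_eq]; exact hS.ne_bot A hA

end Cfsg.Agent.S5033
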