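import Mathlib
import Cfsg.Statements.S5035
import Cfsg.Agent.Lib.Helper8.RT6

set_option autoImplicit false
open Cfsg

namespace Cfsg.Agent.S5035

open Cfsg.Agent.Lib.Helper8

/-- Let S be a set of abstract root subgroups of G whose graph of rank one pairs is connected, and f a homomorphism from G onto a group H. Then either the images of the members of S form a set of abstract root subgroups of H whose graph of rank one pairs is again connected, or H equals the image of a member of S. -/
theorem result {G H : Type*} [Group G] [Group H] {S : Set (Subgroup G)} (hS : Cfsg.IsRootSubgroupSet S)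
    (hc : Cfsg.IsConnectedFamily (Cfsg.FAdj S) S) (f : G →* H) (hf : Function.Surjective f) :
    (Cfsg.IsRootSubgroupSet ((fun A : Subgroup G => A.map f) '' S) ∧
      Cfsg.IsConnectedFamily (Cfsg.FAdj ((fun A : Subgroup G => A.map f) '' S)) ((fun A : Subgroup G => A.map f) '' S)) ∨
    ∃ A ∈ S, A.map f = ⊤ := by
  by_cases hbot : ∃ A ∈ S, A.map f = ⊥
  · right
    obtain ⟨A, hA, hAbot⟩ := hbot
    refine ⟨A, hA, ?_⟩
    have hall : ∀ B ∈ S, B.map f = ⊥ := by
      intro B hB
      obtain ⟨g, rfl⟩ := reach_exists_conj (hc A hA B hB)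
      rw [map_conjBy, hAbot]
      unfold Cfsg.conjBy
      rw [Subgroup.map_bot]
    have h1 : (⨆ A ∈ S, A).map f = ⊤ := by
      rw [hS.generates, ← MonoidHom.range_eq_map, MonoidHom.range_eq_top]
      exact hf
    rw [hAbot, ← h1, Subgroup.map_iSup]
    symm
    rw [eq_bot_iff]
    apply iSup_le
    intro B
    rw [Subgroup.map_iSup]
    apply iSup_le
    intro hB
    rw [hall B hB]
  · left
    push Not at hbot
    refine ⟨isRootSubgroupSet_map hS f hf hbot, ?_⟩
    rintro _ ⟨A, hA, rfl⟩ _ ⟨B, hB, rfl⟩
    exact reach_map f (hc A hA B hB)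

end Cfsg.Agent.S5035
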