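import Cfsg.Statements.S5037
import Mathlib
import Cfsg.Agent.Lib.Helper8.RX2

set_option autoImplicit false
open Cfsg

namespace Cfsg.Agent.S5037

/-- Let S be a class of abstract root subgroups of G that is either degenerate or non-degenerate (so either the commutator case never occurs, or all three cases occur), and A ≠ C members of S. If every member of S commuting with A commutes with C, then A and C have the same commuting members of S; and if every rank one partner of A is a rank one partner of C, then A and C commute and have the same rank one partners. -/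
theorem result {G : Type*} [Group G] {S : Set (Subgroup G)} (hS : Cfsg.IsRootSubgroupClass S)
    (hdn : Cfsg.IsDegenerateRootSet S ∨ Cfsg.IsNondegenerateRootSet S)
    {A C : Subgroup G} (hA : A ∈ S) (hC : C ∈ S) (hAC : A ≠ C) :
    (Cfsg.centralizingMembers S A ⊆ Cfsg.centralizingMembers S C →
      Cfsg.centralizingMembers S A = Cfsg.centralizingMembers S C) ∧
    (Cfsg.rankOnePartners S A ⊆ Cfsg.rankOnePartners S C →
      ⁅A, C⁆ = ⊥ ∧ Cfsg.rankOnePartners S A = Cfsg.rankOnePartners S C) := by
  classical
  have hS1 := hS.1
  -- some rank one pair exists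
  have hex : ∃ X ∈ S, ∃ Y ∈ S, Cfsg.IsRankOnePair X Y := by
    rcases hdn with hdeg | hnd
    · by_contra hcon
      push Not at hcon
      -- all pairs commute
      have hcomm : ∀ X ∈ S, ∀ Y ∈ S, ∀ x ∈ X, ∀ y ∈ Y, x * y = y * x := by
        intro X hX Y hY x hx y hy
        rcases hS1.pair X hX Y hY with h1 | h2 | h3
        · exact Cfsg.Agent.Lib.Helper8.comm_of_commutator_eq_bot h1 hx hy
        · exact absurd h2 (hcon X hX Y hY)
        · exact absurd h3 (hdeg X hX Y hY)
      obtain ⟨g, hg⟩ := hS.2.2 A hA C hC
      apply hAC
      rw [hg]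
      symm
      apply Cfsg.Agent.Lib.Helper8.conjBy_eq_self_of_comm
      intro a ha
      have hgtop : g ∈ (⨆ X ∈ S, X : Subgroup G) := by rw [hS1.generates]; trivial
      have hle : (⨆ X ∈ S, X : Subgroup G) ≤ Subgroup.centralizer ({a} : Set G) := by
        apply iSup₂_le
        intro X hX x hx
        rw [Subgroup.mem_centralizer_iff]
        intro y hy
        rw [Set.mem_singleton_iff] at hy
        rw [hy]
        exact hcomm A hA X hX a ha x hx
      have := hle hgtop
      rw [Subgroup.mem_centralizer_iff] at this
      exact (this a rfl).symm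
    · exact hnd.2.1
  obtain ⟨X, hX, Y, hY, hXY⟩ := hex
  have hall := Cfsg.Agent.Lib.Helper8.exists_rankOnePartner_of_class hS hX hY hXY
  constructor
  · intro h
    exact Set.Subset.antisymm h
      (Cfsg.Agent.Lib.Helper8.centralizing_subset_symm hS1 hall hA hC hAC h)
  · intro h
    obtain ⟨h1, h2⟩ := Cfsg.Agent.Lib.Helper8.omega_subset_symm hS1 hall hA hC hAC h
    exact ⟨Cfsg.Agent.Lib.Helper8.commutator_eq_bot_of_comm h1, Set.Subset.antisymm h h2⟩

end Cfsg.Agent.S5037
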