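import Cfsg.Statements.S5045
import Mathlib
import Cfsg.Agent.Lib.Helper7.RootInv6
-- import your own Cfsg.Agent.* helpers here

set_option autoImplicit false
open Cfsg

namespace Cfsg.Agent.S5045

open Cfsg.Agent.Lib.Helper7.RootInv

/-- Let G be a finite group generated by a set D of root involutions, and W the set of members of D whose product with every other member of D has even order or is trivial (the isolated vertices of the odd-order-product graph on D). Then W is conjugation-invariant and generates a normal 2-subgroup of G meeting D in exactly W; the commutator of two members of D lying in different connected components of that graph, each with more than one member, lies in the subgroup generated by W; and for a in such a component, every member of D commuting with a, different from a and with product with a in D, lies in that component or in W. -/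
theorem result {G : Type*} [Group G] [Finite G] {D : Set G} (hD : Cfsg.IsRootInvolutionSet D) :
    (∀ w ∈ {w | Cfsg.IsIsolatedElem (Cfsg.OddAdj D) D w}, ∀ g : G, g * w * g⁻¹ ∈ {w | Cfsg.IsIsolatedElem (Cfsg.OddAdj D) D w}) ∧
    (Subgroup.closure {w | Cfsg.IsIsolatedElem (Cfsg.OddAdj D) D w}).Normal ∧
    IsPGroup 2 ↥(Subgroup.closure {w | Cfsg.IsIsolatedElem (Cfsg.OddAdj D) D w}) ∧
    (Subgroup.closure {w | Cfsg.IsIsolatedElem (Cfsg.OddAdj D) D w} : Set G) ∩ D = {w | Cfsg.IsIsolatedElem (Cfsg.OddAdj D) D w} ∧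
    (∀ a ∈ D, ∀ b ∈ D, (∃ a' ∈ Cfsg.elemComponentOf (Cfsg.OddAdj D) D a, a' ≠ a) →
      (∃ b' ∈ Cfsg.elemComponentOf (Cfsg.OddAdj D) D b, b' ≠ b) →
      Cfsg.elemComponentOf (Cfsg.OddAdj D) D a ≠ Cfsg.elemComponentOf (Cfsg.OddAdj D) D b →
        a * b * a⁻¹ * b⁻¹ ∈ Subgroup.closure {w | Cfsg.IsIsolatedElem (Cfsg.OddAdj D) D w}) ∧
    (∀ a ∈ D, (∃ a' ∈ Cfsg.elemComponentOf (Cfsg.OddAdj D) D a, a' ≠ a) →
      Cfsg.productPartners D a ⊆ Cfsg.elemComponentOf (Cfsg.OddAdj D) D a ∪ {w | Cfsg.IsIsolatedElem (Cfsg.OddAdj D) D w}) := by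
  classical
  have hWconj : ∀ w ∈ {w | Cfsg.IsIsolatedElem (Cfsg.OddAdj D) D w}, ∀ g : G,
      g * w * g⁻¹ ∈ {w | Cfsg.IsIsolatedElem (Cfsg.OddAdj D) D w} := by
    intro w hw g
    have key : ∀ b, ¬ Cfsg.OddAdj D (g * w * g⁻¹) b := by
      intro b hb
      have h1 := oddAdj_conj hD hb g⁻¹
      have e : g⁻¹ * (g * w * g⁻¹) * g⁻¹⁻¹ = w := by group
      rw [e] at h1
      exact (hw.2 _).1 h1
    exact ⟨hD.conj_mem w hw.1 g, fun b => ⟨key b, fun h => key b (oddAdj_symm h)⟩⟩
  have hWle : Subgroup.closure {w | Cfsg.IsIsolatedElem (Cfsg.OddAdj D) D w} ≤ Cfsg.pCore 2 G := by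
    rw [Subgroup.closure_le]
    intro w hw
    exact isolated_mem_pCore hD hw
  have h6 : ∀ a ∈ D, (∃ a' ∈ Cfsg.elemComponentOf (Cfsg.OddAdj D) D a, a' ≠ a) →
      Cfsg.productPartners D a ⊆ Cfsg.elemComponentOf (Cfsg.OddAdj D) D a ∪
        {w | Cfsg.IsIsolatedElem (Cfsg.OddAdj D) D w} := by
    intro a _ hcomp e he
    obtain ⟨⟨heD, hea, _⟩, hprod⟩ := he
    obtain ⟨s, hs⟩ := exists_adj_of_comp hcomp
    by_cases hiso : Cfsg.IsIsolatedElem (Cfsg.OddAdj D) D e
    · exact Or.inr hiso
    · obtain ⟨f, hf⟩ := exists_adj_of_not_isolated heD hiso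
      exact Or.inl ⟨heD, partner_mem_comp hD hea hprod hs hf⟩
  refine ⟨hWconj, ?_, ?_, ?_, ?_, h6⟩
  · -- normality
    constructor
    intro n hn g
    induction hn using Subgroup.closure_induction with
    | mem x hx => exact Subgroup.subset_closure (hWconj x hx g)
    | one => simp
    | mul x y _ _ hx hy =>
      have e : g * (x * y) * g⁻¹ = (g * x * g⁻¹) * (g * y * g⁻¹) := by group
      rw [e]
      exact Subgroup.mul_mem _ hx hy
    | inv x _ hx =>
      have e : g * x⁻¹ * g⁻¹ = (g * x * g⁻¹)⁻¹ := by group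
      rw [e]
      exact Subgroup.inv_mem _ hx
  · exact (Cfsg.Agent.Lib.Lead.pCore_isPGroup 2).to_le hWle
  · ext x
    constructor
    · rintro ⟨hx, hxD⟩
      exact isolated_of_mem_pCore hD hxD (hWle hx)
    · intro hx
      exact ⟨Subgroup.subset_closure hx, hx.1⟩
  · intro a ha b hb hca hcb hne
    have haa := sq_one hD ha
    have hbb := sq_one hD hb
    have hainv := inv_self hD ha
    have hbinv := inv_self hD hb
    have hab : a ≠ b := by
      intro h
      apply hne
      rw [h]
    rcases hD.pair a ha b hb with h | h | h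
    · have e : a * b * a⁻¹ * b⁻¹ = 1 := by rw [h]; group
      rw [e]
      exact Subgroup.one_mem _
    · exfalso
      apply hne
      exact comp_eq_of_reach (Relation.ReflTransGen.single ⟨ha, hb, hab, h⟩)
    · obtain ⟨h4, hcD⟩ := h
      have e : a * b * a⁻¹ * b⁻¹ = (a * b) ^ 2 := by
        rw [hainv, hbinv, pow_two]
        group
      rw [e]
      obtain ⟨c, hc⟩ : ∃ c, c = (a * b) ^ 2 := ⟨_, rfl⟩
      rw [← hc] at hcD ⊢
      have hpow4 : (a * b) ^ 4 = 1 := by rw [← h4, pow_orderOf_eq_one]
      -- `c a = a c = b a b`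
      have hca1 : c * a = b * a * b⁻¹ := by
        rw [hc, hbinv, pow_two]
        have : a * b * (a * b) * (a * b) * (a * b) = 1 := by
          have := hpow4
          rw [show (4 : ℕ) = 3 + 1 from rfl, pow_succ, pow_succ, pow_succ, pow_one] at this
          exact this
        calc a * b * (a * b) * a = (a * b * (a * b) * (a * b) * (a * b)) * (b⁻¹ * a⁻¹ * b⁻¹) := by
              group
          _ = b * a * b := by rw [this, one_mul, hainv, hbinv]
      have hac1 : a * c = b * a * b⁻¹ := by
        rw [hc, hbinv, pow_two]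
        calc a * (a * b * (a * b)) = (a * a) * b * a * b := by group
          _ = b * a * b := by rw [haa, one_mul]
      have hcb1 : c * b = a * b * a⁻¹ := by
        rw [hc, hainv, pow_two]
        calc a * b * (a * b) * b = a * b * a * (b * b) := by group
          _ = a * b * a := by rw [hbb, mul_one]
      have hcinv := inv_self hD hcD
      have hbc1 : b * c = a * b * a⁻¹ := by
        have h1 : b * c = (c * b)⁻¹ := by rw [mul_inv_rev, hbinv, hcinv]
        rw [h1, hcb1, hainv, mul_inv_rev, mul_inv_rev, hainv, hbinv, mul_assoc]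
      have hcXa : c ∈ Cfsg.productPartners D a := by
        refine ⟨⟨hcD, by rw [hca1, hac1], ?_⟩, ?_⟩
        · intro h
          rw [h, haa] at hac1
          have : b * a * b⁻¹ ∈ D := hD.conj_mem a ha b
          rw [← hac1] at this
          exact ne_one_of_mem hD this rfl
        · rw [hca1]
          exact hD.conj_mem a ha b
      have hcXb : c ∈ Cfsg.productPartners D b := by
        refine ⟨⟨hcD, by rw [hcb1, hbc1], ?_⟩, ?_⟩
        · intro h
          rw [h, hbb] at hbc1
          have : a * b * a⁻¹ ∈ D := hD.conj_mem b hb a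
          rw [← hbc1] at this
          exact ne_one_of_mem hD this rfl
        · rw [hcb1]
          exact hD.conj_mem b hb a
      rcases h6 a ha hca hcXa with h1 | h1
      · rcases h6 b hb hcb hcXb with h2 | h2
        · exfalso
          apply hne
          rw [comp_eq_of_reach h1.2, comp_eq_of_reach h2.2]
        · exact Subgroup.subset_closure h2
      · exact Subgroup.subset_closure h1

end Cfsg.Agent.S5045
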