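import Cfsg.Statements.S5049

set_option autoImplicit false

open Cfsg

namespace Cfsg.Agent.S5049

open scoped commutatorElement

variable {G : Type*} [Group G]

theorem pCore_normal (p : ℕ) : (Cfsg.pCore p G).Normal :=
  Subgroup.sSup_normal _ (fun _ hH => hH.1)

theorem pCore_isPGroup (p : ℕ) : IsPGroup p (Cfsg.pCore p G) :=
  Sylow.sSup_of_normal _ (fun _ hH => hH.2) (fun _ hH => hH.1)

/-- an element of odd order in `O₂(G)` is trivial -/
theorem eq_one_of_mem_pCore_of_odd {x : G} (hx : x ∈ Cfsg.pCore 2 G) (hodd : Odd (orderOf x)) :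
    x = 1 := by
  obtain ⟨k, hk⟩ := pCore_isPGroup (G := G) 2 ⟨x, hx⟩
  have hk' : x ^ 2 ^ k = 1 := by
    have := congrArg Subtype.val hk
    simpa using this
  have hdvd : orderOf x ∣ 2 ^ k := orderOf_dvd_of_pow_eq_one hk'
  have hcop : Nat.Coprime (orderOf x) (2 ^ k) :=
    Nat.Coprime.pow_right k hodd.coprime_two_right
  exact orderOf_eq_one_iff.mp (Nat.Coprime.eq_one_of_dvd hcop hdvd)

theorem eq_one_of_odd_of_sq {x : G} (hodd : Odd (orderOf x)) (hsq : x ^ 2 = 1) : x = 1 := by
  have hdvd : orderOf x ∣ 2 := orderOf_dvd_of_pow_eq_one hsq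
  rcases (Nat.dvd_prime Nat.prime_two).mp hdvd with h | h
  · exact orderOf_eq_one_iff.mp h
  · rw [h] at hodd; exact absurd hodd (by decide)

/-- `q x q⁻¹ x⁻¹ ∈ Q` for `q ∈ Q` normal -/
theorem conj_mul_inv_mem {Q : Subgroup G} (hQ : Q.Normal) {q : G} (hq : q ∈ Q) (x : G) :
    q * x * q⁻¹ * x⁻¹ ∈ Q := by
  have h1 : q * x * q⁻¹ * x⁻¹ = q * (x * q⁻¹ * x⁻¹) := by group
  rw [h1]
  exact Q.mul_mem hq (hQ.conj_mem _ (Q.inv_mem hq) x)

theorem zpow_of_sq {a : G} (haa : a * a = 1) (n : ℤ) : a ^ n = 1 ∨ a ^ n = a := by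
  have h2 : a ^ (2 : ℤ) = 1 := by
    rw [zpow_two]; exact haa
  rcases Int.emod_two_eq_zero_or_one n with h | h
  · left
    have : n = 2 * (n / 2) := by omega
    rw [this, zpow_mul, h2, one_zpow]
  · right
    have : n = 2 * (n / 2) + 1 := by omega
    rw [this, zpow_add, zpow_mul, h2, one_zpow, one_mul, zpow_one]

section

variable {D : Set G} (hD : Cfsg.IsOddTranspositionSet D)
include hD

theorem sq_eq_one {d : G} (hd : d ∈ D) : d * d = 1 := by
  have h := hD.1.orderOf_eq d hd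
  have := pow_orderOf_eq_one d
  rw [h, pow_two] at this
  exact this

theorem inv_eq_self {d : G} (hd : d ∈ D) : d⁻¹ = d :=
  inv_eq_of_mul_eq_one_right (sq_eq_one hD hd)

theorem comm_or_odd {x y : G} (hx : x ∈ D) (hy : y ∈ D) : x * y = y * x ∨ Odd (orderOf (x * y)) := by
  rcases hD.1.pair x hx y hy with h | h | h
  · exact Or.inl h
  · exact Or.inr h
  · exact absurd h.1 (hD.2 x hx y hy)

/-- `d` commutes with its `Q`-conjugates -/
theorem comm_conj {d q : G} (hd : d ∈ D) (hq : q ∈ Cfsg.pCore 2 G) :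
    (q * d * q⁻¹) * d = d * (q * d * q⁻¹) := by
  have hd' : q * d * q⁻¹ ∈ D := hD.1.conj_mem d hd q
  rcases comm_or_odd hD hd' hd with h | h
  · exact h
  · have hmem : (q * d * q⁻¹) * d ∈ Cfsg.pCore 2 G := by
      have := conj_mul_inv_mem (pCore_normal 2) hq d
      rwa [inv_eq_self hD hd] at this
    have h1 := eq_one_of_mem_pCore_of_odd hmem h
    have h2 : q * d * q⁻¹ = d := by
      have := eq_inv_of_mul_eq_one_left h1
      rw [this, inv_eq_self hD hd]
    rw [h2]

/-- if `e ∈ D` commutes with `a ∈ D`, then it commutes with all `Q`-conjugates of `a` -/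
theorem comm_conj_of_comm {a e q : G} (ha : a ∈ D) (he : e ∈ D) (hea : e * a = a * e)
    (hq : q ∈ Cfsg.pCore 2 G) : e * (q * a * q⁻¹) = (q * a * q⁻¹) * e := by
  have haa : a * a = 1 := sq_eq_one hD ha
  have hee : e * e = 1 := sq_eq_one hD he
  have hainv : a⁻¹ = a := inv_eq_self hD ha
  have heinv : e⁻¹ = e := inv_eq_self hD he
  have ha' : q * a * q⁻¹ ∈ D := hD.1.conj_mem a ha q
  obtain ⟨a', ha'def⟩ : ∃ a', a' = q * a * q⁻¹ := ⟨_, rfl⟩
  rw [← ha'def] at ha' ⊢
  rcases comm_or_odd hD he ha' with h | h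
  · exact h
  · -- x = a * a' ∈ Q
    have hx : a * a' ∈ Cfsg.pCore 2 G := by
      have h1 : a * a' = (a * q * a⁻¹) * q⁻¹ := by rw [ha'def, hainv]; group
      rw [h1]
      exact Subgroup.mul_mem _ ((pCore_normal 2).conj_mem _ hq a) (Subgroup.inv_mem _ hq)
    have hea2 : (e * a) * (e * a) = 1 := by
      calc e * a * (e * a) = e * (a * e) * a := by group
        _ = e * (e * a) * a := by rw [hea]
        _ = (e * e) * (a * a) := by group
        _ = 1 := by rw [hee, haa, one_mul]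
    have hsq : (e * a') ^ 2 ∈ Cfsg.pCore 2 G := by
      have h1 : (e * a') ^ 2 = ((e * a)⁻¹ * (a * a') * (e * a)) * (a * a') := by
        have h2 : e * a' = (e * a) * (a * a') := by
          rw [mul_assoc, ← mul_assoc a a a', haa, one_mul]
        have h3 : (e * a)⁻¹ = e * a := inv_eq_of_mul_eq_one_right hea2
        rw [pow_two, h2, h3]
        group
      rw [h1]
      exact Subgroup.mul_mem _ ((pCore_normal 2).conj_mem' _ hx (e * a)) hx
    have hodd2 : Odd (orderOf ((e * a') ^ 2)) := Odd.of_dvd_nat h (orderOf_pow_dvd 2)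
    have h1 := eq_one_of_mem_pCore_of_odd hsq hodd2
    have h2 := eq_one_of_odd_of_sq h h1
    have h3 : a' = e := by
      have := eq_inv_of_mul_eq_one_right h2
      rw [this, heinv]
    rw [h3]

/-- If `q ∈ Q` centralizes `a b` of odd order with `b ≠ a`, then `q` centralizes `a`. -/
theorem comm_of_comm_mul {a b q : G} (ha : a ∈ D) (hb : b ∈ D) (hba : b ≠ a)
    (hodd : Odd (orderOf (a * b))) (hq : q ∈ Cfsg.pCore 2 G) (hqab : a * b * q = q * (a * b)) :
    a * q = q * a := by
  have haa : a * a = 1 := sq_eq_one hD ha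
  have hbb : b * b = 1 := sq_eq_one hD hb
  have hainv : a⁻¹ = a := inv_eq_self hD ha
  have ha' : q * a * q⁻¹ ∈ D := hD.1.conj_mem a ha q
  have hcomm := comm_conj hD ha hq
  obtain ⟨a', ha'def⟩ : ∃ a', a' = q * a * q⁻¹ := ⟨_, rfl⟩
  rw [← ha'def] at ha' hcomm
  have ha'a' : a' * a' = 1 := sq_eq_one hD ha'
  obtain ⟨t, htdef⟩ : ∃ t, t = a' * a := ⟨_, rfl⟩
  have htQ : t ∈ Cfsg.pCore 2 G := by
    have := conj_mul_inv_mem (pCore_normal 2) hq a
    rw [hainv, ← ha'def, ← htdef] at this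
    exact this
  have htt : t * t = 1 := by
    rw [htdef]
    calc a' * a * (a' * a) = a' * (a * a') * a := by group
      _ = a' * (a' * a) * a := by rw [hcomm]
      _ = (a' * a') * (a * a) := by group
      _ = 1 := by rw [ha'a', haa, one_mul]
  have hinv_a : a * (a * b) * a⁻¹ = (a * b)⁻¹ := by
    rw [hainv, mul_inv_rev, inv_eq_self hD hb, hainv, ← mul_assoc, haa, one_mul]
  have hinv_a' : a' * (a * b) * a'⁻¹ = (a * b)⁻¹ := by
    have h1 : a' * (a * b) * a'⁻¹ = q * (a * (q⁻¹ * (a * b) * q) * a⁻¹) * q⁻¹ := by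
      rw [ha'def]; group
    have h2 : q⁻¹ * (a * b) * q = a * b := by
      rw [mul_assoc, hqab]; group
    rw [h1, h2, hinv_a]
    have h3 : q * (a * b)⁻¹ * q⁻¹ = (q * (a * b) * q⁻¹)⁻¹ := by group
    rw [h3]
    congr 1
    rw [← hqab]; group
  have htab : t * (a * b) = (a * b) * t := by
    have h1 : t * (a * b) * t⁻¹ = a * b := by
      rw [htdef]
      calc a' * a * (a * b) * (a' * a)⁻¹ = a' * (a * (a * b) * a⁻¹) * a'⁻¹ := by group
        _ = a' * (a * b)⁻¹ * a'⁻¹ := by rw [hinv_a]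
        _ = (a' * (a * b) * a'⁻¹)⁻¹ := by group
        _ = a * b := by rw [hinv_a', inv_inv]
    calc t * (a * b) = (t * (a * b) * t⁻¹) * t := by group
      _ = (a * b) * t := by rw [h1]
  have ha'b : a' * b = t * (a * b) := by
    rw [htdef, mul_assoc, ← mul_assoc a a b, haa, one_mul]
  have hpow : ∀ n : ℕ, (t * (a * b)) ^ n = t ^ n * (a * b) ^ n := by
    intro n
    exact (Commute.mul_pow htab n)
  have ht1 : t = 1 := by
    rcases comm_or_odd hD ha' hb with h | h
    · exfalso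
      have h1 : (a' * b) ^ 2 = 1 := by
        rw [pow_two]
        calc a' * b * (a' * b) = a' * (b * a') * b := by group
          _ = a' * (a' * b) * b := by rw [h]
          _ = (a' * a') * (b * b) := by group
          _ = 1 := by rw [ha'a', hbb, one_mul]
      rw [ha'b, hpow 2, pow_two t, htt, one_mul] at h1
      have h2 := eq_one_of_odd_of_sq hodd h1
      apply hba
      have := eq_inv_of_mul_eq_one_right h2
      rw [this, hainv]
    · have h1 : (a' * b) ^ (orderOf (a * b)) = t := by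
        rw [ha'b, hpow, pow_orderOf_eq_one, mul_one]
        obtain ⟨k, hk⟩ := hodd
        rw [hk, pow_succ, pow_mul, pow_two, htt, one_pow, one_mul]
      have h2 : Odd (orderOf t) := by
        rw [← h1]
        exact Odd.of_dvd_nat h (orderOf_pow_dvd _)
      exact eq_one_of_mem_pCore_of_odd htQ h2
  have h1 : a' = a := by
    have : a' = t * a := by rw [htdef, mul_assoc, haa, mul_one]
    rw [this, ht1, one_mul]
  rw [ha'def] at h1
  calc a * q = (q * a * q⁻¹) * q := by rw [h1]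
    _ = q * a := by group

end

theorem result {G : Type*} [Group G] [Finite G] {D : Set G} (hD : Cfsg.IsOddTranspositionSet D) {a : G} (ha : a ∈ D) :
    (∀ e ∈ Cfsg.commutingMembers D a, ∀ q ∈ ⁅Cfsg.pCore 2 G, Subgroup.zpowers a⁆, e * q = q * e) ∧
    (∀ b ∈ Cfsg.oddPartners D a,
      Cfsg.pCore 2 G ⊓ Subgroup.centralizer {a * b} = Cfsg.pCore 2 G ⊓ Subgroup.centralizer {a} ⊓ Subgroup.centralizer {b}) := by
  have haa : a * a = 1 := sq_eq_one hD ha
  have hainv : a⁻¹ = a := inv_eq_self hD ha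
  constructor
  · rintro e ⟨heD, hea⟩
    have hle : ⁅Cfsg.pCore 2 G, Subgroup.zpowers a⁆ ≤ Subgroup.centralizer ({e} : Set G) := by
      rw [Subgroup.commutator_le]
      intro q hq z hz
      rw [Subgroup.mem_centralizer_iff]
      intro m hm
      rw [Set.mem_singleton_iff.mp hm]
      obtain ⟨n, rfl⟩ := hz
      show e * ⁅q, a ^ n⁆ = ⁅q, a ^ n⁆ * e
      rcases zpow_of_sq haa n with h | h
      · rw [h]; simp
      · rw [h, commutatorElement_def, hainv]
        have h1 := comm_conj_of_comm hD ha heD hea hq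
        calc e * (q * a * q⁻¹ * a) = (e * (q * a * q⁻¹)) * a := by group
          _ = (q * a * q⁻¹) * e * a := by rw [h1]
          _ = (q * a * q⁻¹) * (a * e) := by rw [mul_assoc, hea]
          _ = q * a * q⁻¹ * a * e := by rw [← mul_assoc]
    intro q hq
    have := hle hq
    rw [Subgroup.mem_centralizer_iff] at this
    exact this e rfl
  · rintro b ⟨hbD, hba, hodd⟩
    ext q
    simp only [Subgroup.mem_inf, Subgroup.mem_centralizer_iff, Set.mem_singleton_iff, forall_eq]
    constructor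
    · rintro ⟨hq, hqab⟩
      have hqa := comm_of_comm_mul hD ha hbD hba hodd hq hqab
      refine ⟨⟨hq, hqa⟩, ?_⟩
      have hb : b = a * (a * b) := by rw [← mul_assoc, haa, one_mul]
      rw [hb, mul_assoc, hqab, ← mul_assoc, hqa, mul_assoc]
    · rintro ⟨⟨hq, hqa⟩, hqb⟩
      refine ⟨hq, ?_⟩
      rw [mul_assoc, hqb, ← mul_assoc, hqa, mul_assoc]

end Cfsg.Agent.S5049
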