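import Cfsg.Statements.S5057

set_option autoImplicit false

open Cfsg

namespace Cfsg.Agent.S5057

open Equiv Equiv.Perm

theorem multiset_cases (m : Multiset ℕ) (h2 : ∀ n ∈ m, 2 ≤ n) (hsum : m.sum ≤ 6)
    (hev : Even (m.sum + Multiset.card m)) :
    m = 0 ∨ m = {3} ∨ m = {5} ∨ m = {2, 2} ∨ m = {2, 4} ∨ m = {3, 3} := by
  have hcard : Multiset.card m ≤ 3 := by
    have := Multiset.card_nsmul_le_sum h2
    simp only [smul_eq_mul] at this
    omega
  obtain ⟨c, hc⟩ : ∃ c, Multiset.card m = c := ⟨_, rfl⟩
  rw [hc] at hcard hev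
  interval_cases c
  · left; exact Multiset.card_eq_zero.mp hc
  · obtain ⟨a, rfl⟩ := Multiset.card_eq_one.mp hc
    have ha := h2 a (by simp)
    simp only [Multiset.sum_singleton] at hsum hev
    have : a = 3 ∨ a = 5 := by
      rcases hev with ⟨r, hr⟩
      omega
    rcases this with rfl | rfl
    · right; left; rfl
    · right; right; left; rfl
  · obtain ⟨a, b, rfl⟩ := Multiset.card_eq_two.mp hc
    have ha := h2 a (by simp)
    have hb := h2 b (by simp)
    simp only [Multiset.insert_eq_cons, Multiset.sum_cons, Multiset.sum_singleton] at hsum hev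
    have : (a = 2 ∧ b = 2) ∨ (a = 2 ∧ b = 4) ∨ (a = 4 ∧ b = 2) ∨ (a = 3 ∧ b = 3) := by
      rcases hev with ⟨r, hr⟩
      omega
    rcases this with ⟨rfl, rfl⟩ | ⟨rfl, rfl⟩ | ⟨rfl, rfl⟩ | ⟨rfl, rfl⟩
    · right; right; right; left; rfl
    · right; right; right; right; left; rfl
    · right; right; right; right; left; exact Multiset.pair_comm 4 2
    · right; right; right; right; right; rfl
  · exfalso
    obtain ⟨a, b, d, rfl⟩ := Multiset.card_eq_three.mp hc
    have ha := h2 a (by simp)
    have hb := h2 b (by simp)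
    have hd := h2 d (by simp)
    simp only [Multiset.insert_eq_cons, Multiset.sum_cons, Multiset.sum_singleton] at hsum hev
    rcases hev with ⟨r, hr⟩
    omega

theorem cycleType_cases (g : Perm (Fin 6)) (hg : Perm.sign g = 1) :
    g.cycleType = 0 ∨ g.cycleType = {3} ∨ g.cycleType = {5} ∨ g.cycleType = {2, 2} ∨
      g.cycleType = {2, 4} ∨ g.cycleType = {3, 3} := by
  apply multiset_cases
  · intro n hn; exact two_le_of_mem_cycleType hn
  · have := sum_cycleType_le g
    simpa using this
  · have h := sign_of_cycleType g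
    rw [hg] at h
    by_contra hodd
    rw [Nat.not_even_iff_odd] at hodd
    rw [hodd.neg_one_pow] at h
    exact absurd h (by decide)

theorem orderOf_cases' (g : Perm (Fin 6)) (hg : Perm.sign g = 1) :
    orderOf g = 1 ∨ orderOf g = 3 ∨ orderOf g = 5 ∨ (orderOf g = 2 ∧ g.cycleType = {2, 2}) ∨
      orderOf g = 4 := by
  rw [← lcm_cycleType]
  rcases cycleType_cases g hg with h | h | h | h | h | h <;> rw [h]
  · left; simp
  · right; left; simp
  · right; right; left; simp
  · right; right; right; left; refine ⟨?_, rfl⟩; decide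
  · right; right; right; right; decide
  · right; left; decide

theorem orderOf_cases (g : ↥(alternatingGroup (Fin 6))) :
    orderOf g = 1 ∨ orderOf g = 3 ∨ orderOf g = 5 ∨
      (orderOf g = 2 ∧ (g : Perm (Fin 6)).cycleType = {2, 2}) ∨ orderOf g = 4 := by
  have := orderOf_cases' (g : Perm (Fin 6)) (mem_alternatingGroup.mp g.2)
  rwa [Subgroup.orderOf_coe] at this

theorem sq_eq_one_of_orderOf {G : Type*} [Group G] {d : G} (hd : orderOf d = 2) : d * d = 1 := by
  have := pow_orderOf_eq_one d
  rwa [hd, pow_two] at this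

/-- any two involutions of `A₆` are conjugate in `A₆` -/
theorem conj_of_involutions (a b : ↥(alternatingGroup (Fin 6))) (ha : orderOf a = 2)
    (hb : orderOf b = 2) : ∃ g : ↥(alternatingGroup (Fin 6)), b = g * a * g⁻¹ := by
  have hta : (a : Perm (Fin 6)).cycleType = {2, 2} := by
    rcases orderOf_cases a with h | h | h | h | h
    · omega
    · omega
    · omega
    · exact h.2
    · omega
  have htb : (b : Perm (Fin 6)).cycleType = {2, 2} := by
    rcases orderOf_cases b with h | h | h | h | h
    · omega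
    · omega
    · omega
    · exact h.2
    · omega
  have hconj : IsConj (a : Perm (Fin 6)) (b : Perm (Fin 6)) := by
    rw [isConj_iff_cycleType_eq, hta, htb]
  rw [isConj_iff] at hconj
  obtain ⟨c, hc⟩ := hconj
  rcases Int.units_eq_one_or (Perm.sign c) with hs | hs
  · refine ⟨⟨c, mem_alternatingGroup.mpr hs⟩, ?_⟩
    apply Subtype.ext
    simp [hc]
  · -- adjust by a transposition commuting with a
    have ha1 : (a : Perm (Fin 6)) ≠ 1 := by
      intro h
      have : orderOf (a : Perm (Fin 6)) = 1 := by rw [h, orderOf_one]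
      rw [Subgroup.orderOf_coe, ha] at this
      omega
    obtain ⟨x, hx⟩ : ∃ x, (a : Perm (Fin 6)) x ≠ x := by
      by_contra hcon
      push Not at hcon
      exact ha1 (Perm.ext hcon)
    have haa : (a : Perm (Fin 6)) * (a : Perm (Fin 6)) = 1 := by
      apply sq_eq_one_of_orderOf
      rw [Subgroup.orderOf_coe, ha]
    have hax : (a : Perm (Fin 6)) ((a : Perm (Fin 6)) x) = x := by
      have := congrArg (fun f : Perm (Fin 6) => f x) haa
      simpa using this
    set t : Perm (Fin 6) := swap x ((a : Perm (Fin 6)) x) with ht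
    have hcomm : (a : Perm (Fin 6)) * t * (a : Perm (Fin 6))⁻¹ = t := by
      rw [ht, ← swap_apply_apply, hax, swap_comm]
    have hst : Perm.sign t = -1 := by
      rw [ht]; exact sign_swap (Ne.symm hx)
    refine ⟨⟨c * t, mem_alternatingGroup.mpr (by rw [Perm.sign_mul, hs, hst]; decide)⟩, ?_⟩
    apply Subtype.ext
    simp only [Subgroup.coe_mul, Subgroup.coe_inv]
    rw [← hc]
    have h2 : t * (a : Perm (Fin 6)) * t⁻¹ = (a : Perm (Fin 6)) := by
      have h3 : (a : Perm (Fin 6)) * t = t * (a : Perm (Fin 6)) := by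
        calc (a : Perm (Fin 6)) * t = ((a : Perm (Fin 6)) * t * (a : Perm (Fin 6))⁻¹) * (a : Perm (Fin 6)) := by group
          _ = t * (a : Perm (Fin 6)) := by rw [hcomm]
      rw [← h3]; group
    calc c * (a : Perm (Fin 6)) * c⁻¹ = c * (t * (a : Perm (Fin 6)) * t⁻¹) * c⁻¹ := by rw [h2]
      _ = c * t * (a : Perm (Fin 6)) * (c * t)⁻¹ := by group

theorem exists_involution : ∃ g : ↥(alternatingGroup (Fin 6)), orderOf g = 2 := by
  have hmem : (swap (0 : Fin 6) 1 * swap 2 3) ∈ alternatingGroup (Fin 6) := by
    rw [mem_alternatingGroup]; decide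
  refine ⟨⟨_, hmem⟩, ?_⟩
  rw [← Subgroup.orderOf_coe]
  show orderOf (swap (0 : Fin 6) 1 * swap 2 3) = 2
  apply orderOf_eq_prime
  · decide
  · decide

theorem result :
    Cfsg.IsRootInvolutionClass {g : ↥(alternatingGroup (Fin 6)) | orderOf g = 2} ∧
    ∀ d ∈ {g : ↥(alternatingGroup (Fin 6)) | orderOf g = 2}, ∀ e ∈ {g : ↥(alternatingGroup (Fin 6)) | orderOf g = 2},
      orderOf (d * e) ≤ 5 := by
  have hconjmem : ∀ d : ↥(alternatingGroup (Fin 6)), orderOf d = 2 →
      ∀ g : ↥(alternatingGroup (Fin 6)), orderOf (g * d * g⁻¹) = 2 := by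
    intro d hd g
    have := (MulAut.conj g).orderOf_eq d
    rw [MulAut.conj_apply] at this
    rw [this, hd]
  refine ⟨⟨⟨?_, ?_, ?_, ?_⟩, ?_, ?_⟩, ?_⟩
  · intro d hd; exact hd
  · -- generation
    set D : Set ↥(alternatingGroup (Fin 6)) := {g | orderOf g = 2} with hD
    have hsub : Group.conjugatesOfSet D ⊆ D := by
      intro x hx
      rw [Group.mem_conjugatesOfSet_iff] at hx
      obtain ⟨a, ha, hconj⟩ := hx
      rw [isConj_iff] at hconj
      obtain ⟨c, rfl⟩ := hconj
      exact hconjmem a ha c
    have heq : Subgroup.closure D = Subgroup.normalClosure D := by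
      apply le_antisymm
      · exact Subgroup.closure_le_normalClosure
      · exact Subgroup.closure_mono hsub
    have hsimple : IsSimpleGroup ↥(alternatingGroup (Fin 6)) :=
      alternatingGroup.isSimpleGroup (by simp)
    rw [heq]
    apply (Subgroup.normalClosure_normal).eq_bot_or_eq_top.resolve_left
    intro hbot
    obtain ⟨g, hg⟩ := exists_involution
    have hmem : g ∈ Subgroup.normalClosure D := Subgroup.subset_normalClosure hg
    rw [hbot, Subgroup.mem_bot] at hmem
    rw [hmem, orderOf_one] at hg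
    omega
  · intro d hd g; exact hconjmem d hd g
  · intro a ha b hb
    have haa := sq_eq_one_of_orderOf ha
    have hbb := sq_eq_one_of_orderOf hb
    rcases orderOf_cases (a * b) with h | h | h | h | h
    · right; left; rw [h]; decide
    · right; left; rw [h]; decide
    · right; left; rw [h]; decide
    · left
      have h2 := sq_eq_one_of_orderOf h.1
      -- a b a b = 1 → a b = b a
      have h3 : a * b = (a * b)⁻¹ := eq_inv_of_mul_eq_one_left h2
      rw [mul_inv_rev, inv_eq_of_mul_eq_one_right haa, inv_eq_of_mul_eq_one_right hbb] at h3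
      exact h3
    · right; right
      refine ⟨h, ?_⟩
      show orderOf ((a * b) ^ 2) = 2
      rw [orderOf_pow_of_dvd (by norm_num) (by rw [h]; norm_num), h]
  · exact exists_involution
  · intro a ha b hb
    exact conj_of_involutions a b ha hb
  · intro d _ e _
    rcases orderOf_cases (d * e) with h | h | h | h | h
    · omega
    · omega
    · omega
    · omega
    · omega

end Cfsg.Agent.S5057
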