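import Cfsg.Statements.S5059

set_option autoImplicit false

open Cfsg

namespace Cfsg.Agent.S5059

universe u

section

variable {k : Type u} [Field k] {M : Type u} [AddCommGroup M] [Module k M]

local notation "GLM" => LinearMap.GeneralLinearGroup k M
local notation "EndM" => (M →ₗ[k] M)

/-- the nilpotent part `τ - 1` -/
def nil (τ : LinearMap.GeneralLinearGroup k M) : M →ₗ[k] M := (τ : M →ₗ[k] M) - 1

theorem val_eq (τ : LinearMap.GeneralLinearGroup k M) : (τ : M →ₗ[k] M) = 1 + nil τ := by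
  unfold nil; abel

/-- the unit `1 + n` for `n * n = 0` -/
def unitOfSq (n : M →ₗ[k] M) (hn : n * n = 0) : LinearMap.GeneralLinearGroup k M where
  val := 1 + n
  inv := 1 - n
  val_inv := by
    have : (1 + n) * (1 - n) = 1 - n * n := by noncomm_ring
    rw [this, hn, sub_zero]
  inv_val := by
    have : (1 - n) * (1 + n) = 1 - n * n := by noncomm_ring
    rw [this, hn, sub_zero]

theorem mul_eq_zero_of_range_le_ker {f g : M →ₗ[k] M}
    (h : LinearMap.range g ≤ LinearMap.ker f) : f * g = 0 := by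
  ext m
  have : g m ∈ LinearMap.ker f := h (LinearMap.mem_range_self g m)
  simpa [Module.End.mul_apply] using this

theorem range_le_ker_of_sq {f : M →ₗ[k] M} (h : f * f = 0) :
    LinearMap.range f ≤ LinearMap.ker f := by
  rintro _ ⟨m, rfl⟩
  rw [LinearMap.mem_ker]
  have := congrArg (fun g : M →ₗ[k] M => g m) h
  simpa [Module.End.mul_apply] using this

end

section Main

variable {k : Type u} [Field k] {M : Type u} [AddCommGroup M] [Module k M] [FiniteDimensional k M]
  {G : Subgroup (LinearMap.GeneralLinearGroup k M)} {σ : LinearMap.GeneralLinearGroup k M}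

theorem nil_mul_nil (hσ : σ ∈ Cfsg.minimalQuadraticElements G)
    {τ τ' : LinearMap.GeneralLinearGroup k M}
    (hτ : τ ∈ Cfsg.sameActionClass G σ) (hτ' : τ' ∈ Cfsg.sameActionClass G σ) :
    nil τ * nil τ' = 0 := by
  apply mul_eq_zero_of_range_le_ker
  have h1 : LinearMap.range (nil τ') = LinearMap.range (nil σ) := hτ'.2.2
  have h2 : LinearMap.ker (nil τ) = LinearMap.ker (nil σ) := hτ.2.1
  rw [h1, h2]
  exact range_le_ker_of_sq hσ.1.2.1.1

theorem mem_scalarFamily_subset (hσ : σ ∈ Cfsg.minimalQuadraticElements G)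
    {τ : LinearMap.GeneralLinearGroup k M} (hτ : τ ∈ Cfsg.sameActionClass G σ) (c : k) :
    ∃ ρ ∈ G, (ρ : M →ₗ[k] M) = 1 + c • nil τ := by
  have hsq : nil τ * nil τ = 0 := nil_mul_nil hσ hτ hτ
  have hsq' : (c • nil τ) * (c • nil τ) = 0 := by
    rw [smul_mul_smul_comm, hsq, smul_zero]
  refine ⟨unitOfSq (c • nil τ) hsq', ?_, rfl⟩
  apply hτ.1.1.2.2
  exact ⟨c, rfl⟩

/-- products of two members of the class -/
theorem mul_mem (hσ : σ ∈ Cfsg.minimalQuadraticElements G)
    {τ τ' : LinearMap.GeneralLinearGroup k M}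
    (hτ : τ ∈ Cfsg.sameActionClass G σ) (hτ' : τ' ∈ Cfsg.sameActionClass G σ) :
    τ * τ' ∈ Cfsg.sameActionClass G σ ∪ {1} := by
  by_cases h1 : τ * τ' = 1
  · right; exact h1
  left
  have hnn := nil_mul_nil hσ hτ hτ'
  have hnn' := nil_mul_nil hσ hτ' hτ
  have hn1 := nil_mul_nil hσ hτ hτ
  have hn2 := nil_mul_nil hσ hτ' hτ'
  have hval : ((τ * τ' : LinearMap.GeneralLinearGroup k M) : M →ₗ[k] M) = 1 + (nil τ + nil τ') := by
    rw [Units.val_mul, val_eq τ, val_eq τ']
    have : (1 + nil τ) * (1 + nil τ') = 1 + (nil τ + nil τ') + nil τ * nil τ' := by noncomm_ring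
    rw [this, hnn, add_zero]
  have hnil : nil (τ * τ') = nil τ + nil τ' := by
    unfold nil at *
    rw [hval]; abel
  have hne : nil (τ * τ') ≠ 0 := by
    intro h0
    apply h1
    apply Units.ext
    rw [val_eq, h0, add_zero]; rfl
  have hsq : nil (τ * τ') * nil (τ * τ') = 0 := by
    rw [hnil]
    have : (nil τ + nil τ') * (nil τ + nil τ') =
        nil τ * nil τ + nil τ * nil τ' + nil τ' * nil τ + nil τ' * nil τ' := by noncomm_ring
    rw [this, hn1, hnn, hnn', hn2]; simp
  have hrange : LinearMap.range (nil (τ * τ')) ≤ LinearMap.range (nil σ) := by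
    rw [hnil]
    rintro _ ⟨m, rfl⟩
    rw [LinearMap.add_apply]
    apply Submodule.add_mem
    · have : LinearMap.range (nil τ) = LinearMap.range (nil σ) := hτ.2.2
      rw [← this]; exact LinearMap.mem_range_self _ m
    · have : LinearMap.range (nil τ') = LinearMap.range (nil σ) := hτ'.2.2
      rw [← this]; exact LinearMap.mem_range_self _ m
  have hker : LinearMap.ker (nil σ) ≤ LinearMap.ker (nil (τ * τ')) := by
    rw [hnil]
    intro m hm
    have h2 : LinearMap.ker (nil τ) = LinearMap.ker (nil σ) := hτ.2.1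
    have h3 : LinearMap.ker (nil τ') = LinearMap.ker (nil σ) := hτ'.2.1
    have hm2 : nil τ m = 0 := by rw [← h2] at hm; exact hm
    have hm3 : nil τ' m = 0 := by rw [← h3] at hm; exact hm
    rw [LinearMap.mem_ker, LinearMap.add_apply, hm2, hm3, add_zero]
  -- membership in quadraticElements
  have hQ : τ * τ' ∈ Cfsg.quadraticElements G := by
    refine ⟨G.mul_mem hτ.1.1.1 hτ'.1.1.1, ⟨hsq, hne⟩, ?_⟩
    rintro ρ ⟨c, hc⟩
    obtain ⟨ρ₁, hρ₁G, hρ₁⟩ := mem_scalarFamily_subset hσ hτ c
    obtain ⟨ρ₂, hρ₂G, hρ₂⟩ := mem_scalarFamily_subset hσ hτ' c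
    have : ρ = ρ₁ * ρ₂ := by
      apply Units.ext
      rw [Units.val_mul, hρ₁, hρ₂, hc]
      change 1 + c • nil (τ * τ') = _
      rw [hnil]
      have key : ∀ u v : M →ₗ[k] M, (1 + u) * (1 + v) = 1 + (u + v) + u * v := by
        intro u v; noncomm_ring
      rw [key, smul_mul_smul_comm, hnn, smul_zero, add_zero, smul_add]
    rw [this]
    exact G.mul_mem hρ₁G hρ₂G
  have hrk_le : Cfsg.commutatorRank (τ * τ') ≤ Cfsg.commutatorRank σ :=
    Submodule.finrank_mono hrange
  have hrk_ge : Cfsg.commutatorRank σ ≤ Cfsg.commutatorRank (τ * τ') := hσ.2 _ hQ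
  have hrange_eq : LinearMap.range (nil (τ * τ')) = LinearMap.range (nil σ) :=
    Submodule.eq_of_le_of_finrank_le hrange hrk_ge
  refine ⟨⟨hQ, fun ρ hρ => hrk_le.trans (hσ.2 ρ hρ)⟩, ?_, hrange_eq⟩
  symm
  apply Submodule.eq_of_le_of_finrank_le hker
  have e1 := LinearMap.finrank_range_add_finrank_ker (nil σ)
  have e2 := LinearMap.finrank_range_add_finrank_ker (nil (τ * τ'))
  rw [hrange_eq] at e2
  omega

theorem inv_mem (hσ : σ ∈ Cfsg.minimalQuadraticElements G)
    {τ : LinearMap.GeneralLinearGroup k M} (hτ : τ ∈ Cfsg.sameActionClass G σ) :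
    τ⁻¹ ∈ Cfsg.sameActionClass G σ := by
  have hn1 := nil_mul_nil hσ hτ hτ
  have hval : ((τ⁻¹ : LinearMap.GeneralLinearGroup k M) : M →ₗ[k] M) = 1 - nil τ := by
    apply Units.inv_eq_of_mul_eq_one_right
    rw [val_eq τ]
    have : (1 + nil τ) * (1 - nil τ) = 1 - nil τ * nil τ := by noncomm_ring
    rw [this, hn1, sub_zero]
  have hnil : nil τ⁻¹ = - nil τ := by
    unfold nil at *
    rw [hval]; abel
  have hrange : LinearMap.range (nil τ⁻¹) = LinearMap.range (nil τ) := by
    rw [hnil, LinearMap.range_neg]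
  have hker : LinearMap.ker (nil τ⁻¹) = LinearMap.ker (nil τ) := by
    rw [hnil, LinearMap.ker_neg]
  have hQ : τ⁻¹ ∈ Cfsg.quadraticElements G := by
    refine ⟨G.inv_mem hτ.1.1.1, ⟨?_, ?_⟩, ?_⟩
    · change nil τ⁻¹ * nil τ⁻¹ = 0
      rw [hnil, neg_mul_neg, hn1]
    · change nil τ⁻¹ ≠ 0
      rw [hnil, neg_ne_zero]
      exact hτ.1.1.2.1.2
    · rintro ρ ⟨c, hc⟩
      apply hτ.1.1.2.2
      refine ⟨-c, ?_⟩
      rw [hc]
      change 1 + c • nil τ⁻¹ = 1 + (-c) • nil τ
      rw [hnil, smul_neg, neg_smul]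
  have hrk : Cfsg.commutatorRank τ⁻¹ = Cfsg.commutatorRank τ := by
    unfold Cfsg.commutatorRank
    change Module.finrank k (LinearMap.range (nil τ⁻¹)) = Module.finrank k (LinearMap.range (nil τ))
    rw [hrange]
  refine ⟨⟨hQ, fun ρ hρ => ?_⟩, ?_, ?_⟩
  · rw [hrk]; exact hτ.1.2 ρ hρ
  · exact hker.trans hτ.2.1
  · exact hrange.trans hτ.2.2

theorem coe_eq (hσ : σ ∈ Cfsg.minimalQuadraticElements G) :
    (Cfsg.sameActionSubgroup G σ : Set (LinearMap.GeneralLinearGroup k M)) =
      Cfsg.sameActionClass G σ ∪ {1} := by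
  apply Set.Subset.antisymm
  · intro x hx
    have hx' : x ∈ Subgroup.closure (Cfsg.sameActionClass G σ) := hx
    clear hx
    induction hx' using Subgroup.closure_induction with
    | mem y hy => exact Or.inl hy
    | one => exact Or.inr rfl
    | mul y z _ _ ihy ihz =>
      rcases ihy with hy | hy
      · rcases ihz with hz | hz
        · exact mul_mem hσ hy hz
        · rw [Set.mem_singleton_iff.mp hz, mul_one]; exact Or.inl hy
      · rw [Set.mem_singleton_iff.mp hy, one_mul]; exact ihz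
    | inv y _ ihy =>
      rcases ihy with hy | hy
      · exact Or.inl (inv_mem hσ hy)
      · rw [Set.mem_singleton_iff.mp hy, inv_one]; exact Or.inr rfl
  · rintro x (hx | hx)
    · exact Subgroup.subset_closure hx
    · rw [Set.mem_singleton_iff.mp hx]; exact Subgroup.one_mem _

end Main

theorem result {k : Type u} [Field k] (hk2 : ringChar k ≠ 2) (hk3 : Nat.card k ≠ 3)
    {M : Type u} [AddCommGroup M] [Module k M] [FiniteDimensional k M]
    {G : Subgroup (LinearMap.GeneralLinearGroup k M)} (hG : Cfsg.IsQuadraticPair G)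
    {σ : LinearMap.GeneralLinearGroup k M} (hσ : σ ∈ Cfsg.minimalQuadraticElements G) :
    (Cfsg.sameActionSubgroup G σ : Set (LinearMap.GeneralLinearGroup k M)) = Cfsg.sameActionClass G σ ∪ {1} ∧
    IsMulCommutative ↥(Cfsg.sameActionSubgroup G σ) ∧
    (∀ p : ℕ, p.Prime → ringChar k = p → ∀ x ∈ Cfsg.sameActionSubgroup G σ, x ^ p = 1) := by
  have hcoe := coe_eq hσ
  have hmem : ∀ x, x ∈ Cfsg.sameActionSubgroup G σ → x ∈ Cfsg.sameActionClass G σ ∨ x = 1 := by
    intro x hx
    have : x ∈ (Cfsg.sameActionSubgroup G σ : Set (LinearMap.GeneralLinearGroup k M)) := hx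
    rw [hcoe] at this
    exact this
  refine ⟨hcoe, ?_, ?_⟩
  · refine ⟨⟨?_⟩⟩
    rintro ⟨x, hx⟩ ⟨y, hy⟩
    apply Subtype.ext
    change x * y = y * x
    rcases hmem x hx with hx' | hx'
    · rcases hmem y hy with hy' | hy'
      · apply Units.ext
        rw [Units.val_mul, Units.val_mul, val_eq x, val_eq y]
        have h1 := nil_mul_nil hσ hx' hy'
        have h2 := nil_mul_nil hσ hy' hx'
        have e1 : (1 + nil x) * (1 + nil y) = 1 + (nil x + nil y) + nil x * nil y := by noncomm_ring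
        have e2 : (1 + nil y) * (1 + nil x) = 1 + (nil x + nil y) + nil y * nil x := by noncomm_ring
        rw [e1, e2, h1, h2]
      · rw [hy']; simp
    · rw [hx']; simp
  · intro p hp hchar x hx
    rcases hmem x hx with hx' | hx'
    · have hn := nil_mul_nil hσ hx' hx'
      have hpow : ∀ j : ℕ, ((x ^ j : LinearMap.GeneralLinearGroup k M) : M →ₗ[k] M) = 1 + j • nil x := by
        intro j
        induction j with
        | zero => simp
        | succ j ih =>
          rw [pow_succ, Units.val_mul, ih, val_eq x]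
          have : (1 + j • nil x) * (1 + nil x) = 1 + (j • nil x + nil x) + j • (nil x * nil x) := by
            rw [mul_add, add_mul, add_mul, smul_mul_assoc]; simp; abel
          rw [this, hn, smul_zero, add_zero, succ_nsmul]
      apply Units.ext
      rw [hpow p]
      have : CharP k p := ringChar.of_eq hchar
      have h0 : (p : k) = 0 := CharP.cast_eq_zero k p
      have : p • nil x = (p : k) • nil x := (Nat.cast_smul_eq_nsmul k p (nil x)).symm
      rw [this, h0, zero_smul, add_zero]; rfl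
    · rw [hx', one_pow]

end Cfsg.Agent.S5059
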