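import Cfsg.Statements.S5060
import Mathlib
import Cfsg.Agent.Lib.Helper8.Sr7

set_option autoImplicit false
open Cfsg

namespace Cfsg.Agent.S5060

/-- Let k ⊆ K be fields with the characteristic of k not 2 and k not of order 3, and let α ∈ K be a non-zero element algebraic over k. Then the subgroup of SL₂(K) generated by the upper unitriangular matrices with entry c and the lower unitriangular matrices with entry cα, c ranging over k, is exactly the group of matrices of SL₂(K) with all entries in k(α). -/
theorem result {k K : Type*} [Field k] [Field K] [Algebra k K] (hk2 : ringChar k ≠ 2) (hk3 : Nat.card k ≠ 3)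
    (α : K) (hα : IsAlgebraic k α) (hα0 : α ≠ 0) :
    (Subgroup.closure ({g : Matrix.SpecialLinearGroup (Fin 2) K | ∃ c : k, (g : Matrix (Fin 2) (Fin 2) K) = !![1, algebraMap k K c; 0, 1]} ∪
        {g : Matrix.SpecialLinearGroup (Fin 2) K | ∃ c : k, (g : Matrix (Fin 2) (Fin 2) K) = !![1, 0; algebraMap k K c * α, 1]}) :
      Set (Matrix.SpecialLinearGroup (Fin 2) K)) =
    {g : Matrix.SpecialLinearGroup (Fin 2) K | ∀ i j : Fin 2, (g : Matrix (Fin 2) (Fin 2) K) i j ∈ IntermediateField.adjoin k ({α} : Set K)} := by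
  classical
  open Cfsg.Agent.Lib.Helper8.Sr in
  have h2 : (2 : k) ≠ 0 := Ring.two_ne_zero hk2
  have hint : IsIntegral k α := hα.isIntegral
  have hgen : (IntermediateField.adjoin.powerBasis hint).gen = IntermediateField.AdjoinSimple.gen k α :=
    IntermediateField.adjoin.powerBasis_gen hint
  have hgen0 : (IntermediateField.adjoin.powerBasis hint).gen ≠ 0 := by
    rw [hgen]
    intro h
    apply hα0
    have := congrArg (fun x : IntermediateField.adjoin k ({α} : Set K) => (x : K)) h
    simpa using this
  have htop := dickson_all h2 hk3 (IntermediateField.adjoin.powerBasis hint) hgen0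
  rw [hgen] at htop
  have himg : (Matrix.SpecialLinearGroup.map (algebraMap (IntermediateField.adjoin k ({α} : Set K)) K)) ''
      (gens k (IntermediateField.AdjoinSimple.gen k α)) =
      ({g : Matrix.SpecialLinearGroup (Fin 2) K | ∃ c : k, (g : Matrix (Fin 2) (Fin 2) K) = !![1, algebraMap k K c; 0, 1]} ∪
        {g : Matrix.SpecialLinearGroup (Fin 2) K | ∃ c : k, (g : Matrix (Fin 2) (Fin 2) K) = !![1, 0; algebraMap k K c * α, 1]}) := by
    rw [gens, Set.image_union]
    have e1 : ∀ c : k, ((Matrix.SpecialLinearGroup.map (algebraMap (IntermediateField.adjoin k ({α} : Set K)) K)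
        (xR (algebraMap k (IntermediateField.adjoin k ({α} : Set K)) c)) : Matrix.SpecialLinearGroup (Fin 2) K) :
          Matrix (Fin 2) (Fin 2) K) = !![1, algebraMap k K c; 0, 1] := by
      intro c
      rw [xR_eq_xS, Cfsg.Agent.Lib.Helper8.Dk.map_xS, ← IsScalarTower.algebraMap_apply]
      rfl
    have e2 : ∀ c : k, ((Matrix.SpecialLinearGroup.map (algebraMap (IntermediateField.adjoin k ({α} : Set K)) K)
        (yR (algebraMap k (IntermediateField.adjoin k ({α} : Set K)) c * IntermediateField.AdjoinSimple.gen k α)) :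
          Matrix.SpecialLinearGroup (Fin 2) K) :
          Matrix (Fin 2) (Fin 2) K) = !![1, 0; algebraMap k K c * α, 1] := by
      intro c
      rw [yR_eq_yS, Cfsg.Agent.Lib.Helper8.Dk.map_yS, map_mul, ← IsScalarTower.algebraMap_apply,
        IntermediateField.AdjoinSimple.algebraMap_gen]
      rfl
    congr 1
    · ext g
      constructor
      · rintro ⟨_, ⟨c, rfl⟩, rfl⟩
        exact ⟨c, e1 c⟩
      · rintro ⟨c, hc⟩
        refine ⟨xR (algebraMap k _ c), ⟨c, rfl⟩, ?_⟩
        apply Subtype.ext
        rw [hc, e1 c]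
    · ext g
      constructor
      · rintro ⟨_, ⟨c, rfl⟩, rfl⟩
        exact ⟨c, e2 c⟩
      · rintro ⟨c, hc⟩
        refine ⟨yR (algebraMap k _ c * IntermediateField.AdjoinSimple.gen k α), ⟨c, rfl⟩, ?_⟩
        apply Subtype.ext
        rw [hc, e2 c]
  rw [← himg, ← MonoidHom.map_closure]
  have hG : Subgroup.closure (gens k (IntermediateField.AdjoinSimple.gen k α)) = ⊤ := htop
  rw [hG]
  ext g
  simp only [Subgroup.coe_map, Subgroup.coe_top, Set.image_univ, Set.mem_range, Set.mem_ofPred_eq]
  constructor
  · rintro ⟨g₀, rfl⟩ i j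
    have := Cfsg.Agent.Lib.Helper8.Dk.map_entry (algebraMap (IntermediateField.adjoin k ({α} : Set K)) K) g₀ i j
    rw [this]
    exact (g₀.1 i j).2
  · intro h
    have hdet : (Matrix.of fun i j => (⟨g.1 i j, h i j⟩ : IntermediateField.adjoin k ({α} : Set K))).det = 1 := by
      apply (algebraMap (IntermediateField.adjoin k ({α} : Set K)) K).injective
      rw [RingHom.map_det, map_one]
      have : (algebraMap (IntermediateField.adjoin k ({α} : Set K)) K).mapMatrix
          (Matrix.of fun i j => (⟨g.1 i j, h i j⟩ : IntermediateField.adjoin k ({α} : Set K))) = g.1 := by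
        ext i j
        simp
      rw [this]
      exact g.2
    refine ⟨⟨_, hdet⟩, ?_⟩
    apply Subtype.ext
    ext i j
    exact Cfsg.Agent.Lib.Helper8.Dk.map_entry (algebraMap (IntermediateField.adjoin k ({α} : Set K)) K) ⟨_, hdet⟩ i j

end Cfsg.Agent.S5060
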