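import Cfsg.Statements.S5062
import Mathlib
import Cfsg.Agent.Lib.Helper8.Qr27

set_option autoImplicit false
universe u
open Cfsg

namespace Cfsg.Agent.S5062

/-- Let k be a field of characteristic not 2 with k not of order 3, M a finite-dimensional k-vector space and G ≤ GL(M) such that (G, M) is a quadratic pair (M irreducible for G, and G generated by its quadratically acting elements σ whose scalar family 1 + c(σ − 1), c ∈ k, lies in G). Write 𝒬_d for the quadratic elements of G of minimal commutator rank, E(σ) for the subgroup generated by the members of 𝒬_d with the same fixed space and commutator space as σ, and Σ for the set of these subgroups. Then, inside the subgroup G₀ generated by Σ, the members of Σ form a set of abstract root subgroups of G₀ in which every member has a rank one partner; and whenever a member A and a rank one partner B of A lie in a connected component of the rank-one-pair graph that is degenerate (no commutator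 case among its members), there are subgroups A₀ ≤ A, B₀ ≤ B generating an image of SL₂(k₁) with central kernel on unitriangular subgroups, for some field k₁ with at least four elements. -/
theorem result {k : Type u} [Field k] (hk2 : ringChar k ≠ 2) (hk3 : Nat.card k ≠ 3)
    {M : Type u} [AddCommGroup M] [Module k M] [FiniteDimensional k M]
    {G : Subgroup (LinearMap.GeneralLinearGroup k M)} (hG : Cfsg.IsQuadraticPair G) :
    Cfsg.IsRootSubgroupSet ((fun A : Subgroup (LinearMap.GeneralLinearGroup k M) => A.subgroupOf (⨆ B ∈ Cfsg.quadraticRootSubgroups G, B)) ''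
      Cfsg.quadraticRootSubgroups G) ∧
    (∀ A ∈ Cfsg.quadraticRootSubgroups G, ¬ Cfsg.IsIsolatedIn (Cfsg.FAdj (Cfsg.quadraticRootSubgroups G)) (Cfsg.quadraticRootSubgroups G) A) ∧
    (∀ A ∈ Cfsg.quadraticRootSubgroups G, ∀ B ∈ Cfsg.rankOnePartners (Cfsg.quadraticRootSubgroups G) A,
      (∀ C ∈ Cfsg.componentOf (Cfsg.FAdj (Cfsg.quadraticRootSubgroups G)) (Cfsg.quadraticRootSubgroups G) A,
        ∀ D ∈ Cfsg.componentOf (Cfsg.FAdj (Cfsg.quadraticRootSubgroups G)) (Cfsg.quadraticRootSubgroups G) A,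
          ¬ Cfsg.RootCommutatorCase (Cfsg.quadraticRootSubgroups G) C D) →
      ∃ A₀ B₀ : Subgroup (LinearMap.GeneralLinearGroup k M), A₀ ≤ A ∧ B₀ ≤ B ∧
        ∃ (k₁ : Type u) (_ : Field k₁), 3 < ENat.card k₁ ∧ Cfsg.IsPSL2PairOver k₁ A₀ B₀) := by
  open Cfsg.Agent.Lib.Helper8.Qr in
  have h2' : (2 : k) ≠ 0 := Ring.two_ne_zero hk2
  have hle : ∀ A ∈ Cfsg.quadraticRootSubgroups G, A ≤ ⨆ B ∈ Cfsg.quadraticRootSubgroups G, B :=
    fun A hA => le_biSup (fun X => X) hA
  have hG0 : (⨆ B ∈ Cfsg.quadraticRootSubgroups G, B) ≤ G := by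
    apply iSup₂_le
    rintro _ ⟨σ, hσ, rfl⟩
    exact sameActionSubgroup_le σ
  refine ⟨⟨?_, ?_, ?_, ?_, ?_⟩, ?_, ?_⟩
  · rintro _ ⟨_, ⟨σ, hσ, rfl⟩, rfl⟩
    beta_reduce
    refine ⟨⟨fun a b => ?_⟩⟩
    apply Subtype.ext
    apply Subtype.ext
    exact sameActionSubgroup_comm hσ a.1.1 a.2 b.1.1 b.2
  · rintro _ ⟨_, ⟨σ, hσ, rfl⟩, rfl⟩ hbot
    beta_reduce at hbot
    have hσE := self_mem_sameActionSubgroup hσ
    have hmem : (⟨σ, hle _ ⟨σ, hσ, rfl⟩ hσE⟩ : ↥(⨆ B ∈ Cfsg.quadraticRootSubgroups G, B)) ∈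
        (Cfsg.sameActionSubgroup G σ).subgroupOf (⨆ B ∈ Cfsg.quadraticRootSubgroups G, B) := hσE
    rw [hbot, Subgroup.mem_bot] at hmem
    exact ne_one_of_mem_class (self_mem_sameActionClass hσ) (congrArg Subtype.val hmem)
  · exact iSup_subgroupOf_eq_top _
  · rintro _ ⟨_, ⟨σ, hσ, rfl⟩, rfl⟩ g
    beta_reduce
    rw [conjBy_subgroupOf]
    refine ⟨_, ⟨g.1 * σ * g.1⁻¹, conj_mem_Qd (hG0 g.2) hσ, ?_⟩, rfl⟩
    exact conjBy_sameActionSubgroup (hG0 g.2) σ
  · rintro _ ⟨_, ⟨σ, hσ, rfl⟩, rfl⟩ _ ⟨_, ⟨τ, hτ, rfl⟩, rfl⟩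
    have hA := hle _ ⟨σ, hσ, rfl⟩
    have hB := hle _ ⟨τ, hτ, rfl⟩
    beta_reduce
    rcases pair_cases hG h2' hk3 hσ hτ with h | h | h
    · left
      rw [commutator_subgroupOf hA hB, h, Subgroup.bot_subgroupOf]
    · right; left
      exact isRankOnePair_subgroupOf hA hB h
    · right; right
      exact rootCommutatorCase_subgroupOf hA hB h
  · rintro _ ⟨σ, hσ, rfl⟩ ⟨_, hiso⟩
    obtain ⟨B, hB, hr⟩ := exists_rankOne_partner hG h2' hk3 hσ
    exact (hiso B).1 ⟨⟨σ, hσ, rfl⟩, hB, hr⟩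
  · rintro _ ⟨σ, hσ, rfl⟩ B ⟨⟨τ, hτ, rfl⟩, hr⟩ _
    have hopp := opp_of_rankOneCondition hG h2' hk3 hσ hτ hr.ne hr.cond_left
    obtain ⟨A₀, B₀, hA₀, hB₀, hp⟩ := psl2_of_opp h2' hk3 hσ hτ hopp
    exact ⟨A₀, B₀, hA₀, hB₀, k, inferInstance, three_lt_card h2' hk3, hp⟩

end Cfsg.Agent.S5062
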