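import Cfsg.Statements.S5063
import Mathlib
import Cfsg.Agent.Lib.Helper8.Qr46

set_option autoImplicit false
universe u
open Cfsg

namespace Cfsg.Agent.S5063

/-- Let k be a field of characteristic not 2 with k not of order 3, M a finite-dimensional k-vector space and G ≤ GL(M) such that (G, M) is a quadratic pair (M irreducible for G, and G generated by its quadratically acting elements σ whose scalar family 1 + c(σ − 1), c ∈ k, lies in G). Write 𝒬_d for the quadratic elements of G of minimal commutator rank, E(σ) for the subgroup generated by the members of 𝒬_d with the same fixed space and commutator space as σ, and Σ for the set of these subgroups. Then G is a central product of finitely many quasisimple normal subgroups G₁, …, G_s (pairwise commuting and together generating G), each generated by the quadratic elements of G it contains, and every quadratic element of G lies in one of them. -/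
theorem result {k : Type u} [Field k] (hk2 : ringChar k ≠ 2) (hk3 : Nat.card k ≠ 3)
    {M : Type u} [AddCommGroup M] [Module k M] [FiniteDimensional k M]
    {G : Subgroup (LinearMap.GeneralLinearGroup k M)} (hG : Cfsg.IsQuadraticPair G) :
    ∃ (s : ℕ) (Gi : Fin s → Subgroup (LinearMap.GeneralLinearGroup k M)),
      (∀ i, Gi i ≤ G ∧ ∀ g ∈ G, Cfsg.conjBy (Gi i) g = Gi i) ∧ (∀ i j, i ≠ j → ⁅Gi i, Gi j⁆ = ⊥) ∧ (⨆ i, Gi i) = G ∧
      (∀ i, Cfsg.IsQuasisimple ↥(Gi i) ∧ Subgroup.closure (Cfsg.quadraticElements G ∩ (Gi i : Set (LinearMap.GeneralLinearGroup k M))) = Gi i) ∧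
      Cfsg.quadraticElements G ⊆ ⋃ i, (Gi i : Set (LinearMap.GeneralLinearGroup k M)) := by
  open Cfsg.Agent.Lib.Helper8.Qr Cfsg.Agent.Lib.Helper8 in
  have h2' : (2 : k) ≠ 0 := Ring.two_ne_zero hk2
  have hfin := finite_ncl hG h2' hk3
  obtain ⟨e⟩ : Nonempty ({H : Subgroup (LinearMap.GeneralLinearGroup k M) //
      ∃ ρ ∈ Cfsg.quadraticElements G, H = ncl G ρ} ≃
      Fin (Nat.card {H : Subgroup (LinearMap.GeneralLinearGroup k M) //
        ∃ ρ ∈ Cfsg.quadraticElements G, H = ncl G ρ})) := ⟨Finite.equivFin _⟩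
  refine ⟨_, fun i => (e.symm i).1, ?_, ?_, ?_, ?_, ?_⟩
  · intro i
    beta_reduce
    obtain ⟨ρ, hρ, hH⟩ := (e.symm i).2
    rw [hH]
    exact ⟨ncl_le hρ, fun g hg => conjBy_eq_self_iff.mpr (ncl_normal ρ hg)⟩
  · intro i j hij
    beta_reduce
    obtain ⟨ρ, hρ, hH⟩ := (e.symm i).2
    obtain ⟨τ, hτ, hH'⟩ := (e.symm j).2
    have hne : (e.symm i).1 ≠ (e.symm j).1 := fun h => hij (e.symm.injective (Subtype.ext h))
    rw [hH, hH'] at hne ⊢
    exact ncl_comm_of_ne hG h2' hk3 hρ hτ hne
  · apply le_antisymm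
    · apply iSup_le
      intro i
      beta_reduce
      obtain ⟨ρ, hρ, hH⟩ := (e.symm i).2
      rw [hH]
      exact ncl_le hρ
    · have key : Subgroup.closure (Cfsg.quadraticElements G) ≤ ⨆ i, (e.symm i).1 := by
        rw [Subgroup.closure_le]
        intro ρ hρ
        have h1 : ncl G ρ ≤ ⨆ i, (e.symm i).1 := by
          have := le_iSup (fun i => (e.symm i).1) (e ⟨ncl G ρ, ρ, hρ, rfl⟩)
          rw [Equiv.symm_apply_apply] at this
          exact this
        exact h1 (self_mem_ncl ρ)
      rw [hG.2] at key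
      exact key
  · intro i
    beta_reduce
    obtain ⟨ρ, hρ, hH⟩ := (e.symm i).2
    rw [hH]
    exact ⟨ncl_quasisimple hG h2' hk3 hρ, ncl_eq_closure_inter hρ⟩
  · intro ρ hρ
    apply Set.mem_iUnion.mpr
    refine ⟨e ⟨ncl G ρ, ρ, hρ, rfl⟩, ?_⟩
    beta_reduce
    rw [Equiv.symm_apply_apply]
    exact self_mem_ncl ρ

end Cfsg.Agent.S5063
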