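import Cfsg.Statements.S5064
import Mathlib
import Cfsg.Agent.Lib.Helper8.Qp10

set_option autoImplicit false
universe u
open Cfsg

namespace Cfsg.Agent.S5064

/-- Let k be a field of characteristic not 2 with k not of order 3, M a finite-dimensional k-vector space and G ≤ GL(M) such that (G, M) is a quadratic pair (M irreducible for G, and G generated by its quadratically acting elements σ whose scalar family 1 + c(σ − 1), c ∈ k, lies in G). Write 𝒬_d for the quadratic elements of G of minimal commutator rank, E(σ) for the subgroup generated by the members of 𝒬_d with the same fixed space and commutator space as σ, and Σ for the set of these subgroups. If σ, τ ∈ 𝒬_d and the subgroup H generated by their two scalar families does not act unipotently on M, then H is isomorphic to SL₂ over a simple algebraic extension k(λ) of k. -/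
theorem result {k : Type u} [Field k] (hk2 : ringChar k ≠ 2) (hk3 : Nat.card k ≠ 3)
    {M : Type u} [AddCommGroup M] [Module k M] [FiniteDimensional k M]
    {G : Subgroup (LinearMap.GeneralLinearGroup k M)} (hG : Cfsg.IsQuadraticPair G)
    {σ τ : LinearMap.GeneralLinearGroup k M} (hσ : σ ∈ Cfsg.minimalQuadraticElements G) (hτ : τ ∈ Cfsg.minimalQuadraticElements G)
    (hH : ¬ Cfsg.IsUnipotentOn (Subgroup.closure (Cfsg.scalarFamily σ ∪ Cfsg.scalarFamily τ))) :
    ∃ (K : Type u) (_ : Field K) (_ : Algebra k K) (lam : K), IsAlgebraic k lam ∧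
      IntermediateField.adjoin k ({lam} : Set K) = ⊤ ∧
      Nonempty (↥(Subgroup.closure (Cfsg.scalarFamily σ ∪ Cfsg.scalarFamily τ)) ≃* Matrix.SpecialLinearGroup (Fin 2) K) := by
  classical
  open Cfsg.Agent.Lib.Helper8.Qp in
  have h2 : (2 : k) ≠ 0 := Ring.two_ne_zero hk2
  have hs : ((σ : M →ₗ[k] M) - 1) * ((σ : M →ₗ[k] M) - 1) = 0 := hσ.1.2.1.1
  have ht : ((τ : M →ₗ[k] M) - 1) * ((τ : M →ₗ[k] M) - 1) = 0 := hτ.1.2.1.1
  have key : ∀ (ρ : LinearMap.GeneralLinearGroup k M)
      (hr : ((ρ : M →ₗ[k] M) - 1) * ((ρ : M →ₗ[k] M) - 1) = 0),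
      Cfsg.scalarFamily ρ = Set.range (sc ((ρ : M →ₗ[k] M) - 1) hr) := by
    intro ρ hr
    ext g
    constructor
    · rintro ⟨c, hc⟩
      exact ⟨c, Units.ext hc.symm⟩
    · rintro ⟨c, rfl⟩
      exact ⟨c, rfl⟩
  have hHH : Subgroup.closure (Cfsg.scalarFamily σ ∪ Cfsg.scalarFamily τ) = HH hs ht := by
    rw [key σ hs, key τ ht]
    rfl
  have hle : HH hs ht ≤ G := by
    rw [← hHH, Subgroup.closure_le]
    rintro g (hg | hg)
    · exact hσ.1.2.2 hg
    · exact hτ.1.2.2 hg
  have hmin : ∀ ρ ∈ Cfsg.minimalQuadraticElements G,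
      MinRank (HH hs ht) ((ρ : M →ₗ[k] M) - 1) := by
    intro ρ hρ h hh hq hne hsc
    have hmem : h ∈ Cfsg.quadraticElements G := by
      refine ⟨hle hh, ⟨hq, hne⟩, ?_⟩
      rintro g ⟨c, hc⟩
      obtain ⟨h', hh', e⟩ := hsc c
      have : g = h' := Units.ext (hc.trans e.symm)
      rw [this]
      exact hle hh'
    exact hρ.2 h hmem
  obtain ⟨n, hn, hc⟩ := exists_fitting (zz ((σ : M →ₗ[k] M) - 1) ((τ : M →ₗ[k] M) - 1))
  have hV : M1 (zz ((σ : M →ₗ[k] M) - 1) ((τ : M →ₗ[k] M) - 1)) n ≠ ⊥ := by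
    intro hV
    apply hH
    rw [hHH]
    obtain ⟨N, hN⟩ := unip_of_M1_eq_bot hs ht n hc hV
    refine ⟨N, fun l hl hlen => ?_⟩
    have e := hN l hl hlen
    simp only [bind_pure_comp, List.map_eq_map, List.map_map]
    exact e
  obtain ⟨K, iK, iA, lam, h1, h2', ⟨e⟩⟩ := exists_iso hs ht n hn hc h2 hk3 (hmin σ hσ) (hmin τ hτ) hV
  exact ⟨K, iK, iA, lam, h1, h2', ⟨(MulEquiv.subgroupCongr hHH).trans e⟩⟩

end Cfsg.Agent.S5064
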