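import Cfsg.Statements.S5067

set_option autoImplicit false

open Cfsg

namespace Cfsg.Agent.S5067

open scoped commutatorElement

variable {P : Type*} [Group P]

/-- `[E P', E P'] ≤ γ₃(P)` for `E` abelian. -/
theorem commutator_sup_commutator_le (E : Subgroup P) (hE : IsMulCommutative ↥E) :
    ⁅E ⊔ commutator P, E ⊔ commutator P⁆ ≤ (⊤ : Subgroup P).lowerCentralSeries 2 := by
  set K : Subgroup P := (⊤ : Subgroup P).lowerCentralSeries 2 with hK
  have hKn : K.Normal := inferInstance
  set π := QuotientGroup.mk' K with hπ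
  have hker : π.ker = K := QuotientGroup.ker_mk' K
  rw [← hker, ← Subgroup.map_eq_bot_iff, Subgroup.map_commutator,
    Subgroup.commutator_eq_bot_iff_le_centralizer, Subgroup.map_sup]
  -- D' central
  have hD : (commutator P).map π ≤ Subgroup.center (P ⧸ K) := by
    rintro _ ⟨d, hd, rfl⟩
    rw [Subgroup.mem_center_iff]
    intro q
    obtain ⟨g, rfl⟩ := QuotientGroup.mk'_surjective K q
    have h1 : ⁅d, g⁆ ∈ K := by
      rw [hK, Subgroup.lowerCentralSeries_succ]
      exact Subgroup.commutator_mem_commutator hd (Subgroup.mem_top g)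
    have h2 : π ⁅d, g⁆ = 1 := by
      rw [← MonoidHom.mem_ker, hker]; exact h1
    rw [map_commutatorElement, commutatorElement_eq_one_iff_mul_comm] at h2
    exact h2.symm
  have hE' : IsMulCommutative ↥(E.map π) := Subgroup.map_isMulCommutative E π
  have hEE : E.map π ≤ Subgroup.centralizer (E.map π : Set (P ⧸ K)) :=
    Subgroup.le_centralizer_iff_isMulCommutative.mpr hE'
  have hDc : ∀ (H : Subgroup (P ⧸ K)), (commutator P).map π ≤ Subgroup.centralizer (H : Set (P ⧸ K)) :=
    fun H => hD.trans (Subgroup.center_le_centralizer _)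
  rw [Subgroup.le_centralizer_iff]
  apply sup_le
  · rw [Subgroup.le_centralizer_iff]
    exact sup_le hEE (hDc _)
  · rw [Subgroup.le_centralizer_iff]
    exact sup_le (Subgroup.le_centralizer_iff.mp (hDc _)) (hDc _)

theorem lcs_normalClosure_le (E : Subgroup P) (hE : IsMulCommutative ↥E) (k : ℕ) :
    (Subgroup.normalClosure (E : Set P)).lowerCentralSeries (k + 1) ≤
      (⊤ : Subgroup P).lowerCentralSeries (k + 2) := by
  have hMn : (E ⊔ commutator P).Normal := Subgroup.Normal.of_commutator_le (G := P) le_sup_right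
  have hNM : Subgroup.normalClosure (E : Set P) ≤ E ⊔ commutator P :=
    Subgroup.normalClosure_le_normal (le_sup_left (a := E) (b := commutator P))
  induction k with
  | zero =>
    rw [Subgroup.lowerCentralSeries_succ, Subgroup.lowerCentralSeries_zero]
    exact (Subgroup.commutator_mono hNM hNM).trans (commutator_sup_commutator_le E hE)
  | succ k ih =>
    rw [Subgroup.lowerCentralSeries_succ, Subgroup.lowerCentralSeries_succ (⊤ : Subgroup P) (k + 2)]
    exact Subgroup.commutator_mono ih le_top

theorem nilpotencyClass_normalClosure_lt [Group.IsNilpotent P] (hna : ¬ IsMulCommutative P)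
    (E : Subgroup P) (hE : IsMulCommutative ↥E) :
    Group.nilpotencyClass ↥(Subgroup.normalClosure (E : Set P)) < Group.nilpotencyClass P := by
  have hc : 2 ≤ Group.nilpotencyClass P := by
    by_contra h
    push Not at h
    exact hna (Group.IsNilpotent.nilpotencyClass_le_one_iff.mp (by omega))
  obtain ⟨k, hk⟩ : ∃ k, Group.nilpotencyClass P = k + 2 := ⟨Group.nilpotencyClass P - 2, by omega⟩
  have h1 := lcs_normalClosure_le E hE k
  rw [← hk, Subgroup.lowerCentralSeries_nilpotencyClass, le_bot_iff] at h1
  have h2 : (⊤ : Subgroup ↥(Subgroup.normalClosure (E : Set P))).lowerCentralSeries (k + 1) = ⊥ := by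
    have := Subgroup.top_subtype_lowerCentralSeries (Subgroup.normalClosure (E : Set P)) (k + 1)
    rw [h1] at this
    exact (Subgroup.map_eq_bot_iff_of_injective _ (Subgroup.subtype_injective _)).mp this
  have h3 := Subgroup.lowerCentralSeries_eq_bot_iff_nilpotencyClass_le.mp h2
  omega

theorem result {P : Type*} [Group P] {p : ℕ} [Fact p.Prime] (hP : IsPGroup p P) [Group.IsNilpotent P]
    (hna : ¬ IsMulCommutative P) {E F : Subgroup P} (hE : IsMulCommutative ↥E) (hF : IsMulCommutative ↥F) (hgen : E ⊔ F = ⊤) :
    Group.nilpotencyClass ↥(Subgroup.normalClosure (E : Set P)) < Group.nilpotencyClass P ∧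
    Group.nilpotencyClass ↥(Subgroup.normalClosure (F : Set P)) < Group.nilpotencyClass P :=
  ⟨nilpotencyClass_normalClosure_lt hna E hE, nilpotencyClass_normalClosure_lt hna F hF⟩

end Cfsg.Agent.S5067
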