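import Cfsg.Statements.S5075
import Mathlib
import Cfsg.Agent.Lib.Helper8.ML18

set_option autoImplicit false
open Cfsg

namespace Cfsg.Agent.S5075

/-- Let p be an odd prime, V a finite-dimensional vector space over the field with p elements, and H a group of linear automorphisms of V generated by transvections (elements of order p fixing a hyperplane pointwise) and having no nontrivial normal p-subgroup. Then for some n ≥ 1 there are a decomposition V = V₀ ⊕ V₁ ⊕ ⋯ ⊕ Vₙ into H-invariant subspaces and a decomposition of H as the internal direct product of normal subgroups H₁, …, Hₙ such that Hⱼ acts trivially on every Vᵢ with i ≠ j, and Hⱼ induces on Vⱼ exactly the special linear group of Vⱼ or exactly the isometry group of a non-degenerate alternating form on Vⱼ. -/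
theorem result {p : ℕ} [Fact p.Prime] (hp : Odd p) {V : Type*} [AddCommGroup V] [Module (ZMod p) V] [Finite V]
    (H : Subgroup (V ≃ₗ[ZMod p] V)) (T : Set (V ≃ₗ[ZMod p] V)) (hHT : H = Subgroup.closure T)
    (hT : ∀ t ∈ T, orderOf t = p ∧
      Module.finrank (ZMod p) ↥(LinearMap.ker ((t : V →ₗ[ZMod p] V) - LinearMap.id)) + 1 =
        Module.finrank (ZMod p) V)
    (hOp : Cfsg.pCore p ↥H = ⊥) :
    ∃ (n : ℕ) (W : Fin (n + 1) → Submodule (ZMod p) V) (K : Fin n → Subgroup (V ≃ₗ[ZMod p] V)),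
      1 ≤ n ∧ DirectSum.IsInternal W ∧
      (∀ h ∈ H, ∀ i, (W i).map (h : V →ₗ[ZMod p] V) = W i) ∧
      (∀ j, K j ≤ H ∧ ((K j).subgroupOf H).Normal) ∧ ⨆ j, K j = H ∧
      (∀ j, K j ⊓ (⨆ j' ∈ {j' : Fin n | j' ≠ j}, K j') = ⊥) ∧
      (∀ j j', j ≠ j' → ∀ a ∈ K j, ∀ b ∈ K j', a * b = b * a) ∧
      (∀ j, ∀ h ∈ K j, ∀ i : Fin (n + 1), i ≠ j.succ → ∀ v ∈ W i, h v = v) ∧
      (∀ j, ∃ ρ : ↥(K j) →* (↥(W j.succ) ≃ₗ[ZMod p] ↥(W j.succ)),
        (∀ (h : ↥(K j)) (v : ↥(W j.succ)), ((ρ h v : ↥(W j.succ)) : V) = (h : V ≃ₗ[ZMod p] V) (v : V)) ∧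
        ((ρ.range : Set (↥(W j.succ) ≃ₗ[ZMod p] ↥(W j.succ))) =
            {f : ↥(W j.succ) ≃ₗ[ZMod p] ↥(W j.succ) | LinearMap.det (f : ↥(W j.succ) →ₗ[ZMod p] ↥(W j.succ)) = 1} ∨
          ∃ B : LinearMap.BilinForm (ZMod p) ↥(W j.succ), B.IsAlt ∧ B.Nondegenerate ∧
            (ρ.range : Set (↥(W j.succ) ≃ₗ[ZMod p] ↥(W j.succ))) = {f : ↥(W j.succ) ≃ₗ[ZMod p] ↥(W j.succ) | ∀ x y, B (f x) (f y) = B x y})) := by
  classical
  open Cfsg.Agent.Lib.Helper8.ML in
  have hgenH : H ≤ Subgroup.closure (tset H) := le_closure_tset H T hHT hT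
  open Cfsg.Agent.Lib.Helper8.ML in
  have hoppH : (rootRelOf hp H).Opp := opp_of_pCore hp H hOp
  have hfinG : Finite (V ≃ₗ[ZMod p] V) := Finite.of_injective (fun e => (e : V → V))
    (fun a b h => LinearEquiv.ext (congrFun h))
  open Cfsg.Agent.Lib.Helper8.ML in
  by_cases hemp : tset H = ∅
  · -- the trivial case
    have hH : H = ⊥ := by
      rw [eq_bot_iff]
      refine le_trans hgenH ?_
      rw [hemp, Subgroup.closure_empty]
    have hfix : fixSub (⊥ : Subgroup (V ≃ₗ[ZMod p] V)) = ⊤ := by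
      rw [eq_top_iff]
      intro v _ k hk
      rw [Subgroup.mem_bot] at hk
      rw [hk, one_app]
    refine assemble H 1 le_rfl (fun _ => ⊥) (fun _ => ⊥) (fun _ => bot_le) ?_ ?_ ?_ ?_ ?_ ?_ ?_
    · intro j h _ k hk
      rw [Subgroup.mem_bot] at hk ⊢
      rw [hk, mul_one, mul_inv_cancel]
    · rw [hH]
      exact iSup_bot
    · intro j j' _ a ha b hb
      rw [Subgroup.mem_bot] at ha hb
      rw [ha, hb]
    · intro j
      rw [hfix]
      exact isCompl_bot_top
    · intro i j _
      exact bot_le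
    · intro j k hk v hv
      rw [Subgroup.mem_bot] at hk
      rw [hk, one_app]
      exact hv
    · intro j
      left
      have hsub : ∀ f : ↥(⊥ : Submodule (ZMod p) V) ≃ₗ[ZMod p] ↥(⊥ : Submodule (ZMod p) V),
          f = 1 := by
        intro f
        apply LinearEquiv.ext
        intro x
        exact Subsingleton.elim _ _
      apply Set.eq_of_subset_of_subset
      · rintro f -
        show LinearMap.det ((f : ↥(⊥ : Submodule (ZMod p) V) ≃ₗ[ZMod p]
          ↥(⊥ : Submodule (ZMod p) V)) : ↥(⊥ : Submodule (ZMod p) V) →ₗ[ZMod p]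
          ↥(⊥ : Submodule (ZMod p) V)) = 1
        rw [hsub f]
        exact LinearMap.det_id
      · intro f _
        refine ⟨1, ?_⟩
        rw [map_one, hsub f]
  · -- the main case
    have hne : (tset H).Nonempty := Set.nonempty_iff_ne_empty.mpr hemp
    set J : Set (Subgroup (V ≃ₗ[ZMod p] V)) := {K | ∃ t ∈ tset H, K = Kof H t} with hJ
    have hJne : Nonempty ↥J := by
      obtain ⟨t, ht⟩ := hne
      exact ⟨⟨Kof H t, t, ht, rfl⟩⟩
    have hJfin : Finite ↥J := inferInstance
    set n := Nat.card ↥J with hn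
    have hnpos : 1 ≤ n := Nat.card_pos
    let e : ↥J ≃ Fin n := Finite.equivFin ↥J
    have hrep : ∀ j : Fin n, ∃ t, t ∈ tset H ∧ (e.symm j : Subgroup (V ≃ₗ[ZMod p] V)) = Kof H t := by
      intro j
      obtain ⟨t, ht, h⟩ := (e.symm j).2
      exact ⟨t, ht, h⟩
    choose tt htt using hrep
    have hdist : ∀ j j', j ≠ j' → tt j' ∉ comp H (tt j) := by
      intro j j' hjj' hmem
      apply hjj'
      have h1 : comp H (tt j') = comp H (tt j) := comp_eq_of_mem (htt j).1 hmem
      have h2 : (e.symm j' : Subgroup (V ≃ₗ[ZMod p] V)) = e.symm j := by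
        rw [(htt j').2, (htt j).2, Kof, Kof, h1]
      exact (e.symm.injective (Subtype.ext h2)).symm
    have hcover : ∀ t ∈ tset H, ∃ j, t ∈ Kof H (tt j) := by
      intro t ht
      refine ⟨e ⟨Kof H t, t, ht, rfl⟩, ?_⟩
      have h1 := (htt (e ⟨Kof H t, t, ht, rfl⟩)).2
      rw [Equiv.symm_apply_apply] at h1
      rw [← h1]
      exact comp_le_Kof t (self_mem_comp t)
    have hgenK : ∀ j, Kof H (tt j) ≤ Subgroup.closure (tset (Kof H (tt j))) := by
      intro j
      apply Subgroup.closure_mono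
      intro s hs
      exact ⟨comp_le_Kof _ hs, (comp_subset (htt j).1 hs).2⟩
    have hstruct := fun j => component_structure hp (Kof H (tt j)) (hgenK j)
      (opp_Kof hp hoppH (htt j).1) (conn_Kof hp hoppH (htt j).1) (exNT_Kof hp (htt j).1)
    choose W' hcompl hcent hinv hρ using hstruct
    refine assemble H n hnpos (fun j => Kof H (tt j)) W' (fun j => Kof_le (htt j).1) ?_ ?_ ?_
      hcompl ?_ hinv hρ
    · intro j h hh k hk
      exact conj_mem_Kof hgenH hh hk
    · apply le_antisymm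
      · exact iSup_le (fun j => Kof_le (htt j).1)
      · refine le_trans hgenH ?_
        rw [Subgroup.closure_le]
        intro t ht
        obtain ⟨j, hj⟩ := hcover t ht
        exact Subgroup.mem_iSup_of_mem j hj
    · intro j j' hjj' a ha b hb
      exact (commute_Kof_Kof (htt j).1 (htt j').1 (hdist j j' hjj') ha hb).eq
    · intro i j hij v hv
      have h1 := hcent j v hv
      refine (Submodule.span_le (p := fixSub (Kof H (tt i)))).mpr ?_ h1
      rintro w ⟨g, hgT, φ, hφ, o, tv⟩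
      show w ∈ fixSub (Kof H (tt i))
      apply mem_fixSub_closure
      intro r hr
      obtain ⟨_, ψ, u, hψ, hu, o', tv'⟩ := comp_subset (htt i).1 hr
      by_cases hw0 : w = 0
      · rw [hw0, map_zero]
      · have hc : Commute r g :=
          commute_Kof_Kof (htt i).1 (htt j).1 (hdist i j hij) (comp_le_Kof _ hr) hgT.1
        have h2 := (tv'.of_commute tv o' o hψ hφ hu hw0 hc).1
        rw [tv' w, h2, zero_smul, add_zero]

end Cfsg.Agent.S5075
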