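import Cfsg.Statements.S5078
import Mathlib

set_option autoImplicit false
open Cfsg Cfsg.FusionSystem

namespace Cfsg.Agent.S5078

theorem result {Ω : Type*} [Group Ω] {S : Subgroup Ω} [Finite S] (F : Cfsg.FusionSystem S) (P : Subgroup Ω) (hP : F.IsReceptive P) : F.IsFullyCentralized P := by
  obtain ⟨hPS, hrec⟩ := hP
  refine ⟨hPS, ?_⟩
  rintro Q ⟨φ, hφ, rfl⟩
  obtain ⟨ψ, hψ, hψφ⟩ := F.inv_mem hφ
  have hψrange : ψ.range = P := by
    ext y; constructor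
    · rintro ⟨⟨_, x, rfl⟩, rfl⟩
      rw [hψφ]; exact x.2
    · intro hy
      exact ⟨⟨φ ⟨y, hy⟩, ⟨_, rfl⟩⟩, hψφ ⟨y, hy⟩⟩
  obtain ⟨χ, hχ, hχψ⟩ := hrec φ.range ψ hψ hψrange
  have hQS : φ.range ≤ S := (F.le_of_mem hψ).1
  have hCN : centralizerIn S φ.range ≤ extender S φ.range ψ := by
    intro g hg
    apply Subgroup.subset_closure
    refine ⟨hg.1, ?_, 1, S.one_mem, ?_⟩
    · exact Subgroup.centralizer_le_normalizer _ hg.2
    · intro x hx
      have hgx : g * (x : Ω) * g⁻¹ = x := by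
        have := (Subgroup.mem_centralizer_iff.mp hg.2) x x.2
        rw [← this]; group
      have : (⟨g * x * g⁻¹, hx⟩ : φ.range) = x := Subtype.ext hgx
      rw [this]; simp
  have hQN : φ.range ≤ extender S φ.range ψ := by
    intro g hg
    apply Subgroup.subset_closure
    refine ⟨hQS hg, Subgroup.le_normalizer hg, ψ ⟨g, hg⟩, (F.le_of_mem hψ).2 _, ?_⟩
    intro x hx
    have : (⟨g * x * g⁻¹, hx⟩ : φ.range) = ⟨g, hg⟩ * x * ⟨g, hg⟩⁻¹ := by
      apply Subtype.ext; simp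
    rw [this, map_mul, map_mul, map_inv]
  have hfmem : ∀ c : centralizerIn S φ.range, χ ⟨c, hCN c.2⟩ ∈ centralizerIn S P := by
    intro c
    refine ⟨(F.le_of_mem hχ).2 _, Subgroup.mem_centralizer_iff.mpr ?_⟩
    intro y hy
    have hy' : y = χ ⟨φ ⟨y, hy⟩, hQN ⟨_, rfl⟩⟩ := by
      rw [hχψ _ ⟨_, rfl⟩ _, hψφ]
    have hcomm : (⟨φ ⟨y, hy⟩, hQN ⟨_, rfl⟩⟩ : extender S φ.range ψ) * ⟨c, hCN c.2⟩
        = ⟨c, hCN c.2⟩ * ⟨φ ⟨y, hy⟩, hQN ⟨_, rfl⟩⟩ := by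
      apply Subtype.ext
      exact (Subgroup.mem_centralizer_iff.mp c.2.2) _ ⟨_, rfl⟩
    conv_lhs => rw [hy']
    conv_rhs => rw [hy']
    rw [← map_mul, ← map_mul, hcomm]
  have hfin : Finite (centralizerIn S P) :=
    Finite.of_injective (fun c : centralizerIn S P => (⟨c.1, c.2.1⟩ : S))
      (fun a b h => Subtype.ext (congrArg (fun t : S => (t : Ω)) h))
  apply Nat.card_le_card_of_injective
    (fun c : centralizerIn S φ.range => (⟨χ ⟨c, hCN c.2⟩, hfmem c⟩ : centralizerIn S P))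
  intro a b hab
  have h1 : χ ⟨a, hCN a.2⟩ = χ ⟨b, hCN b.2⟩ := congrArg Subtype.val hab
  have h2 := F.injective_of_mem hχ h1
  exact Subtype.ext (congrArg (fun t : extender S φ.range ψ => (t : Ω)) h2)

end Cfsg.Agent.S5078
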