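import Mathlib
import Cfsg.Statements.S5089
import Cfsg.Agent.Lib.Helper9.FusionNormal5

set_option autoImplicit false
open Cfsg

namespace Cfsg.Agent.S5089

open Cfsg.Agent.Lib.Helper9
open scoped commutatorElement

/-- A saturated fusion system over a finite p-group has a nontrivial subgroup that is normal in the system (O_p(F) ≠ 1) if and only if some nontrivial abelian subgroup is strongly closed in the system. -/
theorem result {Ω : Type*} [Group Ω] {S : Subgroup Ω} [Finite S] (p : ℕ) [Fact p.Prime] (hS : IsPGroup p S) (F : Cfsg.FusionSystem S) (hF : F.IsSaturated p) : F.core ≠ ⊥ ↔ ∃ Q : Subgroup Ω, Q ≠ ⊥ ∧ IsMulCommutative Q ∧ F.StronglyClosed Q := by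
  constructor
  · intro hO
    have hOn : F.IsNormal F.core := Cfsg.Agent.S5145.result F
    have hOS : F.core ≤ S := hOn.1
    haveI : Finite F.core := fs_finite_of_le hOS
    have hOp : IsPGroup p F.core := hS.to_le hOS
    haveI : Nontrivial F.core := (Subgroup.nontrivial_iff_ne_bot _).mpr hO
    haveI := hOp.center_nontrivial
    refine ⟨(Subgroup.center F.core).map F.core.subtype, ?_, ?_, ?_⟩
    · intro h
      rw [Subgroup.map_eq_bot_iff_of_injective _ F.core.subtype_injective] at h
      exact (Subgroup.nontrivial_iff_ne_bot _).mp inferInstance h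
    · refine ⟨⟨?_⟩⟩
      rintro ⟨_, a, ha, rfl⟩ ⟨_, b, hb, rfl⟩
      apply Subtype.ext
      show (a : Ω) * b = b * a
      have := (Subgroup.mem_center_iff.mp ha) b
      exact (congrArg Subtype.val this).symm
    · apply fs_stronglyClosed_of_isNormal
      apply Cfsg.Agent.S5085.result F F.core _ hOn (Subgroup.map_subtype_le _)
      have : ((Subgroup.center F.core).map F.core.subtype).subgroupOf F.core = Subgroup.center F.core :=
        Subgroup.comap_map_eq_self_of_injective F.core.subtype_injective _
      rw [this]
      infer_instance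
  · rintro ⟨Q, hQne, hQab, hQsc⟩
    have hQn : F.IsNormal Q := by
      refine fs_isNormal_of_series p hS F hF Q 1 (fun i => if i = 0 then ⊥ else Q) rfl rfl ?_ ?_
      · intro i j hij
        by_cases hi : i = 0
        · simp [hi]
        · have hj : j ≠ 0 := by
            intro hj; apply hi; rw [hj] at hij; exact Fin.le_zero_iff.mp hij
          simp [hi, hj]
      · intro i
        have hi : i = 0 := Subsingleton.elim _ _
        subst hi
        refine ⟨hQsc, ?_⟩
        show ⁅Q, Q⁆ ≤ ⊥
        rw [Subgroup.commutator_le]
        intro a ha b hb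
        rw [Subgroup.mem_bot, commutatorElement_eq_one_iff_mul_comm]
        have := hQab.is_comm.comm ⟨a, ha⟩ ⟨b, hb⟩
        exact congrArg Subtype.val this
    intro h
    apply hQne
    rw [← le_bot_iff, ← h]
    exact le_sSup hQn

end Cfsg.Agent.S5089
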