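import Cfsg.Statements.S5091
import Cfsg.Agent.Lib.Helper9.ModelUniq3

set_option autoImplicit false
open Cfsg

namespace Cfsg.Agent.S5091

/-- Model Theorem, uniqueness: two models of a constrained saturated fusion system over a finite p-group S are isomorphic by an isomorphism compatible with the two embeddings of S. -/
theorem result {Ω : Type*} [Group Ω] {S : Subgroup Ω} [Finite S] (p : ℕ) [Fact p.Prime] (hS : IsPGroup p S) (F : Cfsg.FusionSystem S) (hF : F.IsConstrained p) {G₁ G₂ : Type*} [Group G₁] [Group G₂] (ι₁ : S →* G₁) (ι₂ : S →* G₂) (h₁ : F.IsModel p G₁ ι₁) (h₂ : F.IsModel p G₂ ι₂) : ∃ φ : G₁ ≃* G₂, ∀ x : S, φ (ι₁ x) = ι₂ x := by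
  obtain ⟨hfin₁, hι₁, ⟨T₁, hT₁⟩, hcent₁⟩ := h₁
  obtain ⟨hfin₂, hι₂, ⟨T₂, hT₂⟩, hcent₂⟩ := h₂
  haveI := hfin₁
  haveI := hfin₂
  obtain ⟨hn₁, hc₁⟩ := Cfsg.Agent.H9MU.core_image_facts p F ι₁ hι₁ T₁ hT₁ hcent₁
  obtain ⟨hn₂, hc₂⟩ := Cfsg.Agent.H9MU.core_image_facts p F ι₂ hι₂ T₂ hT₂ hcent₂
  exact Cfsg.Agent.H9MU.model_unique p ι₁ ι₂ hι₁.1 hι₂.1 T₁ hT₁ T₂ hT₂ (F.core.subgroupOf S)
    hn₁ hn₂ hc₁ hc₂
    (fun g₁ => Cfsg.Agent.H9MU.same_fusion F ι₁ ι₂ hι₁ hι₂ g₁)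
    (fun g₂ => Cfsg.Agent.H9MU.same_fusion F ι₂ ι₁ hι₂ hι₁ g₂)

end Cfsg.Agent.S5091
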