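import Cfsg.Statements.S5101
import Mathlib
import Cfsg.Agent.Lib.Helper9.GroupFusion

set_option autoImplicit false
open Cfsg Cfsg.FusionSystem Cfsg.Agent.Lib.Helper9

namespace Cfsg.Agent.S5101

/-- In the fusion system of a finite group G on a Sylow p-subgroup S, a subgroup P ≤ S is fully centralized if and only if C_S(P) is a Sylow p-subgroup of C_G(P). -/
theorem result {G : Type*} [Group G] [Finite G] (p : ℕ) [Fact p.Prime] (S : Sylow p G) (P : Subgroup G) (hP : P ≤ S) : (Cfsg.groupFusionSystem (S : Subgroup G)).IsFullyCentralized P ↔ ∃ R : Sylow p ↥(Subgroup.centralizer (P : Set G)), (R : Subgroup ↥(Subgroup.centralizer (P : Set G))) = (Cfsg.FusionSystem.centralizerIn (S : Subgroup G) P).subgroupOf (Subgroup.centralizer (P : Set G)) := by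
  have hNK : centralizerIn (S : Subgroup G) P ≤ Subgroup.centralizer (P : Set G) := inf_le_right
  rw [exists_sylow_eq_subgroupOf_iff hNK]
  constructor
  · rintro ⟨-, hfn⟩
    have hNp : IsPGroup p (centralizerIn (S : Subgroup G) P) := S.isPGroup'.to_le inf_le_left
    obtain ⟨T, hNT, hTK, hTp, hTcard⟩ := exists_isPGroup_card_eq hNp hNK
    have hPp : IsPGroup p P := S.isPGroup'.to_le hP
    have hTP : IsPGroup p (T ⊔ P : Subgroup G) :=
      hTp.to_sup_of_normal_right' hPp (hTK.trans (Subgroup.centralizer_le_normalizer _))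
    obtain ⟨g, hg⟩ := exists_map_conj_le_sylow S hTP
    have hQS : P.map (MulAut.conj g).toMonoidHom ≤ (S : Subgroup G) :=
      (Subgroup.map_mono le_sup_right).trans hg
    have hconj : (Cfsg.groupFusionSystem (S : Subgroup G)).IsConj P (P.map (MulAut.conj g).toMonoidHom) :=
      (gfs_isConj_iff _ _ _).mpr ⟨hP, hQS, g, rfl⟩
    have h1 := hfn _ hconj
    have h2 : T.map (MulAut.conj g).toMonoidHom ≤
        centralizerIn (S : Subgroup G) (P.map (MulAut.conj g).toMonoidHom) := by
      refine le_inf ((Subgroup.map_mono le_sup_left).trans hg) ?_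
      rw [centralizer_map_conj]
      exact Subgroup.map_mono hTK
    have h3 : Nat.card T ≤ Nat.card (centralizerIn (S : Subgroup G) (P.map (MulAut.conj g).toMonoidHom)) := by
      rw [← card_map_conj T g]
      exact Subgroup.card_le_of_le h2
    have h4 : Nat.card (centralizerIn (S : Subgroup G) P) ≤ Nat.card T := Subgroup.card_le_of_le hNT
    omega
  · intro hcard
    refine ⟨hP, ?_⟩
    intro Q hQ
    obtain ⟨-, hQS, g, rfl⟩ := (gfs_isConj_iff _ _ _).mp hQ
    rw [hcard]
    have hNp : IsPGroup p (centralizerIn (S : Subgroup G) (P.map (MulAut.conj g).toMonoidHom)) :=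
      S.isPGroup'.to_le inf_le_left
    have := card_le_of_isPGroup_of_le hNp
      (inf_le_right : centralizerIn (S : Subgroup G) (P.map (MulAut.conj g).toMonoidHom) ≤ _)
    rw [centralizer_map_conj, card_map_conj] at this
    exact this

end Cfsg.Agent.S5101
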