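import Cfsg.Statements.S5102
import Mathlib

set_option autoImplicit false
open Cfsg Cfsg.FusionSystem

namespace Cfsg.Agent.S5102

/-- A normal p-subgroup of a finite group G is normal in the fusion system of G on a Sylow p-subgroup. -/
theorem result {G : Type*} [Group G] [Finite G] (p : ℕ) [Fact p.Prime] (S : Sylow p G) (R : Subgroup G) [R.Normal] (hR : IsPGroup p R) : (Cfsg.groupFusionSystem (S : Subgroup G)).IsNormal R := by
  have hRS : R ≤ (S : Subgroup G) := hR.le_sylow_of_normal S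
  refine ⟨hRS, ?_⟩
  rintro P φ ⟨hPS, hφS, g, hg⟩
  have hPR : P ⊔ R ≤ (S : Subgroup G) := sup_le hPS hRS
  have hconj : ∀ x ∈ P ⊔ R, g * x * g⁻¹ ∈ (S : Subgroup G) := by
    have hle : P ⊔ R ≤ (S : Subgroup G).comap (MulAut.conj g).toMonoidHom := by
      apply sup_le
      · intro x hx
        have := hφS ⟨x, hx⟩
        rw [hg] at this
        simpa [Subgroup.mem_comap] using this
      · intro x hx
        have : g * x * g⁻¹ ∈ R := ‹R.Normal›.conj_mem x hx g
        simpa [Subgroup.mem_comap] using hRS this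
    intro x hx
    have := hle hx
    simpa [Subgroup.mem_comap] using this
  refine ⟨conjHom (P ⊔ R) g, ⟨hPR, fun x => hconj x x.2, g, fun x => rfl⟩, ?_, ?_⟩
  · intro x
    rw [hg]
    rfl
  · ext y
    constructor
    · rintro ⟨x, hx, rfl⟩
      have hxR : (x : G) ∈ R := hx
      exact ‹R.Normal›.conj_mem x hxR g
    · intro hy
      have hy' : g⁻¹ * y * g⁻¹⁻¹ ∈ R := ‹R.Normal›.conj_mem y hy g⁻¹
      refine ⟨⟨g⁻¹ * y * g⁻¹⁻¹, (le_sup_right : R ≤ P ⊔ R) hy'⟩, hy', ?_⟩
      show g * (g⁻¹ * y * g⁻¹⁻¹) * g⁻¹ = y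
      group

end Cfsg.Agent.S5102
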