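import Cfsg.Statements.S5104
import Mathlib
import Cfsg.Agent.Lib.Helper9.FusionReceptive

set_option autoImplicit false
open Cfsg Cfsg.FusionSystem Cfsg.Agent.Lib.Helper9

namespace Cfsg.Agent.S5104

/-- In a saturated fusion system over a finite p-group S, a fully centralized subgroup U with C_S(U) ≤ U is centric. -/
theorem result {Ω : Type*} [Group Ω] {S : Subgroup Ω} [Finite S] (p : ℕ) [Fact p.Prime] (hS : IsPGroup p S) (F : Cfsg.FusionSystem S) (hF : F.IsSaturated p) (U : Subgroup Ω) (hU : F.IsFullyCentralized U) (hC : Cfsg.FusionSystem.centralizerIn S U ≤ U) : F.IsCentric U := by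
  obtain ⟨hUS, hUfc⟩ := hU
  refine ⟨hUS, ?_⟩
  obtain ⟨V, hUV, -, hVrec⟩ := hF U hUS
  -- Step 1: C_S(V) ≤ V
  have hCV : centralizerIn S V ≤ V := by
    obtain ⟨ψ, hψ, hψr⟩ := hUV
    obtain ⟨χ, hχ, hQN, hCN, hχψ, hχC⟩ := fs_receptive_extend F hVrec hψ hψr
    have hfinV : Finite (centralizerIn S V) := fs_finite_of_le (fs_centralizerIn_le S V)
    have hfinU : Finite (centralizerIn S U) := fs_finite_of_le (fs_centralizerIn_le S U)
    let f : centralizerIn S U → centralizerIn S V := fun c => ⟨χ ⟨c, hCN c.2⟩, hχC c⟩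
    have hfinj : Function.Injective f := by
      intro a b hab
      have h1 : χ ⟨a, hCN a.2⟩ = χ ⟨b, hCN b.2⟩ := congrArg Subtype.val hab
      have h2 := F.injective_of_mem hχ h1
      exact Subtype.ext (congrArg (fun t : extender S U ψ => (t : Ω)) h2)
    have hcard : Nat.card (centralizerIn S V) ≤ Nat.card (centralizerIn S U) :=
      hUfc V ⟨ψ, hψ, hψr⟩
    have hfsurj : Function.Surjective f := (hfinj.bijective_of_nat_card_le hcard).2
    intro c' hc'
    obtain ⟨c, hc⟩ := hfsurj ⟨c', hc'⟩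
    have h1 : χ ⟨c, hCN c.2⟩ = c' := congrArg Subtype.val hc
    have hcU : (c : Ω) ∈ U := hC c.2
    have h2 : χ ⟨c, hCN c.2⟩ = ψ ⟨c, hcU⟩ := hχψ ⟨c, hcU⟩
    rw [← h1, h2, ← hψr]
    exact ⟨_, rfl⟩
  -- Step 2
  intro Q hUQ
  have hQV : F.IsConj Q V := fs_isConj_trans F (fs_isConj_symm F hUQ) hUV
  obtain ⟨ψ, hψ, hψr⟩ := hQV
  obtain ⟨χ, hχ, hQN, hCN, hχψ, hχC⟩ := fs_receptive_extend F hVrec hψ hψr
  intro c hc
  have h1 : χ ⟨c, hCN hc⟩ ∈ V := hCV (hχC ⟨c, hc⟩)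
  rw [← hψr] at h1
  obtain ⟨q, hq⟩ := h1
  rw [← hχψ q] at hq
  have h2 := F.injective_of_mem hχ hq
  have h3 : (q : Ω) = c := congrArg (fun t : extender S Q ψ => (t : Ω)) h2
  rw [← h3]
  exact q.2

end Cfsg.Agent.S5104
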