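import Mathlib
import Cfsg.Statements.S5107
import Cfsg.Agent.S5076
import Cfsg.Agent.Lib.Helper9.FusionNormal5

set_option autoImplicit false
open Cfsg

namespace Cfsg.Agent.S5107

open Cfsg.FusionSystem Cfsg.Agent.Lib.Helper9
open scoped commutatorElement

/-- If a Sylow p-subgroup S of a finite group G has nilpotency class at most two and its centre is strongly closed in S with respect to G, then every map of the fusion system of G on S is conjugation by an element of N_G(S), and S is the largest subgroup normal in that fusion system. -/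
theorem result {G : Type*} [Group G] [Finite G] (p : ℕ) [Fact p.Prime] (S : Sylow p G) (hcl : ⁅(S : Subgroup G), (S : Subgroup G)⁆ ≤ (S : Subgroup G) ⊓ Subgroup.centralizer ((S : Subgroup G) : Set G)) (hZ : Cfsg.IsStronglyClosed ((S : Subgroup G) ⊓ Subgroup.centralizer ((S : Subgroup G) : Set G)) (S : Subgroup G)) : (∀ (P : Subgroup G) (φ : P →* G), φ ∈ (Cfsg.groupFusionSystem (S : Subgroup G)).Hom P → ∃ g ∈ Subgroup.normalizer ((S : Subgroup G) : Set G), ∀ x : P, φ x = g * (x : G) * g⁻¹) ∧ (Cfsg.groupFusionSystem (S : Subgroup G)).core = S := by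
  obtain ⟨T, hTdef⟩ : ∃ T : Subgroup G, T = (S : Subgroup G) := ⟨_, rfl⟩
  rw [← hTdef] at hcl hZ ⊢
  haveI : Finite T := inferInstance
  have hTp : IsPGroup p T := by rw [hTdef]; exact S.isPGroup'
  have hsat : (groupFusionSystem T).IsSaturated p := by
    rw [hTdef]; exact Cfsg.Agent.S5076.result p S
  obtain ⟨F, hFdef⟩ : ∃ F : FusionSystem T, F = groupFusionSystem T := ⟨_, rfl⟩
  rw [← hFdef] at hsat ⊢
  have hZsc : F.StronglyClosed (T ⊓ Subgroup.centralizer (T : Set G)) := by
    refine ⟨inf_le_left, ?_⟩
    intro R hR φ hφ x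
    rw [hFdef] at hφ
    obtain ⟨-, hφS, g, hg⟩ := hφ
    have h1 := hφS x
    rw [hg] at h1 ⊢
    exact hZ.2 x (hR x.2) g h1
  have hTsc : F.StronglyClosed T := fs_stronglyClosed_top F
  have hTn : F.IsNormal T := by
    refine fs_isNormal_of_chain p hTp F hsat T hTsc
      (fun i => match i with
        | 0 => ⊥
        | 1 => T ⊓ Subgroup.centralizer (T : Set G)
        | _ => T) rfl 2 rfl ?_ ?_ ?_
    · apply monotone_nat_of_le_succ
      intro n
      rcases n with _ | _ | n
      · exact bot_le
      · exact inf_le_left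
      · exact le_rfl
    · intro i
      rcases i with _ | i
      · exact hZsc
      · exact hTsc
    · intro i
      rcases i with _ | _ | i
      · show ⁅T, T ⊓ Subgroup.centralizer (T : Set G)⁆ ≤ ⊥
        rw [Subgroup.commutator_le]
        intro a ha b hb
        rw [Subgroup.mem_bot, commutatorElement_eq_one_iff_mul_comm]
        exact ((Subgroup.mem_centralizer_iff.mp hb.2) a ha)
      · exact hcl
      · show ⁅T, T⁆ ≤ T
        rw [Subgroup.commutator_le]
        intro a ha b hb
        rw [commutatorElement_def]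
        exact T.mul_mem (T.mul_mem (T.mul_mem ha hb) (T.inv_mem ha)) (T.inv_mem hb)
  constructor
  · intro P φ hφ
    obtain ⟨ψ, hψ, hψφ, hψT⟩ := hTn.2 P φ hφ
    rw [hFdef] at hψ
    obtain ⟨-, -, g, hg⟩ := hψ
    refine ⟨g, ?_, fun x => ?_⟩
    · rw [Subgroup.mem_normalizer_iff]
      intro h
      constructor
      · intro hh
        have h1 : ψ ⟨h, (le_sup_right : T ≤ P ⊔ T) hh⟩ ∈ (T.subgroupOf (P ⊔ T)).map ψ :=
          ⟨_, by simpa [Subgroup.mem_subgroupOf] using hh, rfl⟩
        rw [hψT, hg] at h1
        exact h1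
      · intro hh
        rw [← hψT] at hh
        obtain ⟨y, hy, hyh⟩ := hh
        have hyT : (y : G) ∈ T := hy
        rw [hg] at hyh
        have : (y : G) = h := mul_left_cancel (mul_right_cancel hyh)
        rw [← this]; exact hyT
    · rw [← hψφ x, hg]
      rfl
  · apply le_antisymm
    · exact sSup_le fun Q hQ => hQ.1
    · exact le_sSup hTn

end Cfsg.Agent.S5107
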