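import Mathlib
import Cfsg.Statements.S5111
import Cfsg.Agent.S5083
import Cfsg.Agent.Lib.Helper9.FusionSat1
import Cfsg.Agent.Lib.Helper9.FusionSat2
import Cfsg.Agent.Lib.Helper9.FusionSat3
import Cfsg.Agent.Lib.Helper9.FusionRS

set_option autoImplicit false
open Cfsg

namespace Cfsg.Agent.S5111

open Cfsg.Agent.Lib.Helper9

/-- A fusion system over a finite p-group S is saturated if and only if the inner automorphisms of S form a Sylow p-subgroup of Aut_F(S) and every fully normalized subgroup of S is receptive. -/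
theorem result {Ω : Type*} [Group Ω] {S : Subgroup Ω} [Finite S] (p : ℕ) [Fact p.Prime] (hS : IsPGroup p S) (F : Cfsg.FusionSystem S) : F.IsSaturated p ↔ (F.IsFullyAutomized p S ∧ ∀ P : Subgroup Ω, F.IsFullyNormalized P → F.IsReceptive P) := by
  constructor
  · intro hF
    refine ⟨(fs_sylow_axiom p hS F hF (Cfsg.Agent.S5083.top_fullyNormalized F)).2, fun P hP => ?_⟩
    exact fs_extension_axiom p hS F hF (fs_sylow_axiom p hS F hF hP).1
  · rintro ⟨h1, h2⟩ P hP
    obtain ⟨Q, hPQ, hQ⟩ := fs_exists_fullyNormalized F hP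
    exact ⟨Q, hPQ, fs_fullyAutomized_of_normalized_receptive p hS F h1 h2 _ Q hQ rfl, h2 Q hQ⟩

end Cfsg.Agent.S5111
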