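import Mathlib
import Cfsg.Statements.S5112
import Cfsg.Agent.Lib.Helper9.CyclicMax2
import Cfsg.Agent.Lib.Helper9.FusionAbelian

set_option autoImplicit false
open Cfsg

namespace Cfsg.Agent.S5112

open Cfsg.FusionSystem Cfsg.Agent.Lib.Helper9

/-- Transport of the "no odd-order automorphisms" property along an isomorphism. -/
theorem aut_trivial_transport {G H : Type*} [Group G] [Group H] (e : G ≃* H)
    (hH : ∀ (β : MulAut H) (m : ℕ), Odd m → β ^ m = 1 → ∀ x, β x = x)
    (α : MulAut G) (m : ℕ) (hm : Odd m) (hα : α ^ m = 1) : α = 1 := by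
  have h1 : (MulAut.congr e α) ^ m = 1 := by
    rw [← map_pow, hα, map_one]
  have h2 := hH _ m hm h1
  apply MulEquiv.ext
  intro s
  have h3 := h2 (e s)
  have h4 : e (α (e.symm (e s))) = e s := h3
  rw [MulEquiv.symm_apply_apply] at h4
  exact e.injective h4

/-- If S is a dihedral or generalized quaternion 2-group of order at least 16, then in every saturated fusion system over S (at the prime 2) the automorphism group Aut_F(S) consists of the inner automorphisms of S. -/
theorem result {Ω : Type*} [Group Ω] {S : Subgroup Ω} [Finite S] (n : ℕ) (hn : 4 ≤ n) (hshape : Nonempty (S ≃* DihedralGroup (2 ^ (n - 1))) ∨ Nonempty (S ≃* QuaternionGroup (2 ^ (n - 2)))) (F : Cfsg.FusionSystem S) (hF : F.IsSaturated 2) : F.autGroup S = Cfsg.Inn S := by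
  haveI : Fact (Nat.Prime 2) := ⟨Nat.prime_two⟩
  have hkey : IsPGroup 2 S ∧ ∀ (α : MulAut S) (m : ℕ), Odd m → α ^ m = 1 → α = 1 := by
    rcases hshape with ⟨⟨e⟩⟩ | ⟨⟨e⟩⟩
    · refine ⟨IsPGroup.of_injective (dihedral_isPGroup (n - 1)) e.toMonoidHom e.injective, ?_⟩
      intro α m hm hα
      exact aut_trivial_transport e (dihedral_odd_aut_trivial (n - 1) (by omega)) α m hm hα
    · refine ⟨IsPGroup.of_injective (quaternion_isPGroup (n - 2)) e.toMonoidHom e.injective, ?_⟩
      intro α m hm hα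
      exact aut_trivial_transport e (quaternion_odd_aut_trivial (n - 2) (by omega)) α m hm hα
  obtain ⟨hS, hodd⟩ := hkey
  -- Aut_F(S) is a 2-group
  have hA2 : IsPGroup 2 (F.autGroup S) := by
    rintro ⟨α, hα⟩
    have hpos : orderOf α ≠ 0 := (orderOf_pos α).ne'
    obtain ⟨k, m, hm, hkm⟩ := Nat.exists_eq_two_pow_mul_odd hpos
    refine ⟨k, ?_⟩
    apply Subtype.ext
    show ((⟨α, hα⟩ : F.autGroup S) ^ (2 ^ k) : F.autGroup S).1 = 1
    rw [Subgroup.coe_pow]
    show α ^ 2 ^ k = 1
    apply hodd (α ^ 2 ^ k) m hm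
    rw [← pow_mul, ← hkm, pow_orderOf_eq_one]
  obtain ⟨-, T, hT⟩ := (fs_sylow_axiom 2 hS F hF (Cfsg.Agent.S5083.top_fullyNormalized F)).2
  have htop : (⊤ : Subgroup (F.autGroup S)) = T :=
    T.is_maximal' (IsPGroup.to_subgroup hA2 ⊤) le_top
  rw [← autInducedBy_self_eq_inn]
  apply le_antisymm
  · intro α hα
    have h1 : (⟨α, hα⟩ : F.autGroup S) ∈ (T : Subgroup (F.autGroup S)) := by
      rw [← htop]
      exact Subgroup.mem_top _
    rw [hT, Subgroup.mem_subgroupOf] at h1
    exact h1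
  · exact autInducedBy_le_autGroup F le_rfl

end Cfsg.Agent.S5112
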