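import Mathlib
import Cfsg.Statements.S5114
import Cfsg.Agent.Lib.Helper9.PrimeIdx3
import Cfsg.Agent.Lib.Helper9.SylowAux
import Cfsg.Agent.Lib.Helper9.FusionSat2
import Cfsg.Agent.Lib.Helper9.Radical1

set_option autoImplicit false
open Cfsg

namespace Cfsg.Agent.S5114

open Cfsg.FusionSystem Cfsg.Agent.Lib.Helper9

/-- If every map of `F` is an element of `Aut_F(S)` composed with a map of `E`, then `Aut_E(P)` contains all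
elements of `p`-power order of `Aut_F(P)`. -/
theorem pelement_mem {Ω : Type*} [Group Ω] {S : Subgroup Ω} [Finite S] (p : ℕ) [Fact p.Prime]
    (hS : IsPGroup p S) (F : FusionSystem S) (hF : F.IsSaturated p) (E : FusionSystem S)
    (NF : ∀ (P : Subgroup Ω) (φ : P →* Ω), φ ∈ F.Hom P → FrattiniFact F E P φ)
    {P : Subgroup Ω} (hP : P ≤ S) (γ : F.autGroup P) (k : ℕ) (hk : orderOf γ = p ^ k) :
    (γ : MulAut P) ∈ E.autGroup P := by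
  haveI : Finite P := fs_finite_of_le hP
  obtain ⟨R, hPR, hRn⟩ := fs_exists_fullyNormalized F hP
  have hRS : R ≤ S := hRn.1
  haveI : Finite R := fs_finite_of_le hRS
  obtain ⟨-, -, Sy, hSy⟩ := fs_sylow_axiom p hS F hF hRn
  obtain ⟨e₁, he₁⟩ := exists_isFIso_of_isConj F hPR
  obtain ⟨γ', hγ'⟩ : ∃ γ' : F.autGroup R, γ' = autGroupEquiv F e₁ he₁ γ := ⟨_, rfl⟩
  have hB : IsPGroup p (Subgroup.zpowers γ') := by
    apply IsPGroup.of_card (n := k)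
    rw [Nat.card_zpowers, hγ', MulEquiv.orderOf_eq, hk]
  obtain ⟨δ, -, Hδ⟩ := exists_conj_mem_sylow_of_le Sy ⊤ le_top _ hB le_top
  have h1 : δ * γ' * δ⁻¹ ∈ (Sy : Subgroup (F.autGroup R)) := Hδ γ' (Subgroup.mem_zpowers γ')
  rw [hSy, Subgroup.mem_subgroupOf, mem_autInducedBy_iff] at h1
  obtain ⟨s, hs, Hs⟩ := h1
  have hδiso : IsFIso F ((δ : MulAut R) : R ≃* R) := isFIso_of_mem_autGroup F hRS δ.2
  have he : IsFIso F (e₁.trans ((δ : MulAut R) : R ≃* R)) := he₁.trans hδiso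
  obtain ⟨α, hα, ψ₀, hψ₀, H⟩ := NF P _ he
  have hψ₀S : ∀ x : P, ψ₀ x ∈ S := (E.le_of_mem hψ₀).2
  have hrel : ∀ x : P, (((δ : MulAut R) (e₁ ((γ : MulAut P) x)) : R) : Ω) =
      s * (((δ : MulAut R) (e₁ x) : R) : Ω) * s⁻¹ := by
    intro x
    rw [← Hs ((δ : MulAut R) (e₁ x))]
    congr 1
    rw [hγ']
    simp only [Subgroup.coe_mul, Subgroup.coe_inv, MulAut.mul_apply, MulAut.inv_apply_self,
      autGroupEquiv_coe, congr_apply, MulEquiv.symm_apply_apply]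
  have H' : ∀ x : P, (((δ : MulAut R) (e₁ x) : R) : Ω) = ((α ⟨ψ₀ x, hψ₀S x⟩ : S) : Ω) :=
    fun x => H x (hψ₀S x)
  obtain ⟨s', hs'⟩ : ∃ s' : S, s' = α⁻¹ ⟨s, hs⟩ := ⟨_, rfl⟩
  have hαs' : α s' = ⟨s, hs⟩ := by rw [hs', MulAut.apply_inv_self]
  have hconj : ∀ x : P, ψ₀ ((γ : MulAut P) x) = (s' : Ω) * ψ₀ x * (s' : Ω)⁻¹ := by
    intro x
    have e1 : α ⟨ψ₀ ((γ : MulAut P) x), hψ₀S _⟩ = ⟨s, hs⟩ * α ⟨ψ₀ x, hψ₀S x⟩ * ⟨s, hs⟩⁻¹ := by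
      apply Subtype.ext
      rw [← H' ((γ : MulAut P) x), hrel x, H' x]
      rfl
    have e2 : (⟨ψ₀ ((γ : MulAut P) x), hψ₀S _⟩ : S) = s' * ⟨ψ₀ x, hψ₀S x⟩ * s'⁻¹ := by
      apply α.injective
      rw [e1, map_mul, map_mul, map_inv, hαs']
    exact congrArg Subtype.val e2
  rw [mem_autGroup_iff E hP]
  refine fs_mem_of_conj_decomp E (a := ψ₀) (b := ψ₀) (ρ := conjHom S (s' : Ω)) hψ₀ hψ₀
    (E.conj_mem le_rfl s'.2) (fun x => ((γ : MulAut P) x).2) hψ₀S ?_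
  intro x
  exact hconj x

theorem result {Ω : Type*} [Group Ω] {S : Subgroup Ω} [Finite S] (p : ℕ) [Fact p.Prime] (hS : IsPGroup p S) (F : Cfsg.FusionSystem S) (hF : F.IsSaturated p) (E : Cfsg.FusionSystem S) (hEF : E.IsSubsystemOf F) (h : ∀ P : Subgroup Ω, F.IsCentric P → (Subgroup.closure {α : ↥(F.autGroup P) | ∃ k : ℕ, orderOf α = p ^ k}).map (F.autGroup P).subtype ≤ E.autGroup P) : E.HasPrimeToPIndexIn F p ∧ (∀ (P : Subgroup Ω) (φ : P →* Ω), φ ∈ F.Hom P → ∃ α ∈ F.autGroup S, ∃ φ₀ ∈ E.Hom P, ∀ (x : P) (hx : φ₀ x ∈ S), φ x = ((α ⟨φ₀ x, hx⟩ : S) : Ω)) ∧ ∀ P : Subgroup Ω, E.IsCentric P ↔ F.IsCentric P := by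
  have NF : ∀ (P : Subgroup Ω) (φ : P →* Ω), φ ∈ F.Hom P → FrattiniFact F E P φ :=
    fs_frattiniFact_of_Opp_le p hS F E hF h
  refine ⟨⟨hEF, ?_⟩, NF, ?_⟩
  · intro P hP
    rw [Subgroup.map_le_iff_le_comap, Subgroup.closure_le]
    rintro γ ⟨k, hk⟩
    exact pelement_mem p hS F hF E NF hP γ k hk
  · intro P
    constructor
    · intro hPc
      refine ⟨hPc.1, ?_⟩
      rintro Q ⟨φ, hφ, rfl⟩
      obtain ⟨α, hα, φ₀, hφ₀, H⟩ := NF P φ hφ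
      have hφ₀S : ∀ x : P, φ₀ x ∈ S := (E.le_of_mem hφ₀).2
      have hφS : ∀ x : P, φ x ∈ S := (F.le_of_mem hφ).2
      have hc := hPc.2 φ₀.range ⟨φ₀, hφ₀, rfl⟩
      rintro z ⟨hzS, hzC⟩
      have hφ₀eq : ∀ x : P, (⟨φ₀ x, hφ₀S x⟩ : S) = α⁻¹ ⟨φ x, hφS x⟩ := by
        intro x
        have : (⟨φ x, hφS x⟩ : S) = α ⟨φ₀ x, hφ₀S x⟩ := Subtype.ext (H x (hφ₀S x))
        rw [this, MulAut.inv_apply_self]
      have hz' : ((α⁻¹ ⟨z, hzS⟩ : S) : Ω) ∈ centralizerIn S φ₀.range := by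
        refine ⟨(α⁻¹ _).2, ?_⟩
        show ((α⁻¹ ⟨z, hzS⟩ : S) : Ω) ∈ Subgroup.centralizer (φ₀.range : Set Ω)
        rw [Subgroup.mem_centralizer_iff]
        rintro _ ⟨x, rfl⟩
        have h1 : φ x * z = z * φ x := Subgroup.mem_centralizer_iff.mp hzC (φ x) ⟨x, rfl⟩
        have h2 : (⟨φ x, hφS x⟩ : S) * ⟨z, hzS⟩ = ⟨z, hzS⟩ * ⟨φ x, hφS x⟩ := Subtype.ext h1
        have h3 := congrArg (α⁻¹ : MulAut S) h2
        rw [map_mul, map_mul, ← hφ₀eq x] at h3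
        exact congrArg Subtype.val h3
      obtain ⟨x, hx⟩ := hc hz'
      refine ⟨x, ?_⟩
      rw [H x (hφ₀S x)]
      have e : (⟨φ₀ x, hφ₀S x⟩ : S) = α⁻¹ ⟨z, hzS⟩ := Subtype.ext hx
      rw [e, MulAut.apply_inv_self]
    · intro hPc
      exact ⟨hPc.1, fun Q ⟨φ, hφ, hr⟩ => hPc.2 Q ⟨φ, hEF P hφ, hr⟩⟩

end Cfsg.Agent.S5114
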