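import Mathlib
import Cfsg.Statements.S5118
import Cfsg.Agent.S5076
import Cfsg.Agent.Lib.Helper9.NormalSubsys1
import Cfsg.Agent.Lib.Helper9.FusionSubgroupSat
import Cfsg.Agent.Lib.Helper9.Hyperfocal1
import Cfsg.Agent.Lib.Helper9.Hyperfocal2
import Cfsg.Agent.Lib.Helper9.FusionAG3

set_option autoImplicit false
open Cfsg
open Cfsg.Agent.Lib.Helper9

namespace Cfsg.Agent.S5118

/-- For a finite group G with Sylow p-subgroup S and a normal subgroup H, the fusion system of H on S ∩ H is a normal subsystem of the fusion system of G on S. -/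
theorem result {G : Type*} [Group G] [Finite G] (p : ℕ) [Fact p.Prime] (S : Sylow p G) (H : Subgroup G) [H.Normal] : (Cfsg.fusionSystemOfSubgroup H ((S : Subgroup G) ⊓ H) inf_le_right).IsNormalIn (Cfsg.groupFusionSystem (S : Subgroup G)) p := by
  have hHn : H.Normal := inferInstance
  obtain ⟨T', hT'⟩ := exists_sylow_map_eq_inf S H
  have hEsat := fsos_isSaturated p H ((S : Subgroup G) ⊓ H) inf_le_right T' hT'
  have hFsat := Cfsg.Agent.S5076.result p S
  have hTS : (S : Subgroup G) ⊓ H ≤ (S : Subgroup G) := inf_le_left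
  have hTH : (S : Subgroup G) ⊓ H ≤ H := inf_le_right
  have hfrat : Subgroup.normalizer ((((S : Subgroup G) ⊓ H : Subgroup G)) : Set G) ⊔ H = ⊤ := by
    rw [← hT']
    exact Sylow.normalizer_sup_eq_top T'
  -- automorphisms of T in F are conjugations by elements normalizing T
  have haut : ∀ α ∈ (groupFusionSystem (S : Subgroup G)).autGroup ((S : Subgroup G) ⊓ H),
      ∃ g : G, g ∈ Subgroup.normalizer ((((S : Subgroup G) ⊓ H : Subgroup G)) : Set G) ∧
        ∀ x : ((S : Subgroup G) ⊓ H : Subgroup G), ((α x : ((S : Subgroup G) ⊓ H : Subgroup G)) : G) = g * x * g⁻¹ := by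
    intro α hα
    rw [mem_groupFusion_autGroup_iff _ _ hTS] at hα
    obtain ⟨g, hg⟩ := hα
    exact ⟨g, mem_normalizer_of_induces α g hg, hg⟩
  refine ⟨⟨hEsat, hFsat, ?_, ?_, ?_, ?_⟩, ?_⟩
  · -- subsystem
    rintro P φ ⟨hP, hφ, g, -, hg⟩
    exact ⟨hP.trans hTS, fun x => hTS (hφ x), g, hg⟩
  · -- strongly closed
    refine ⟨hTS, ?_⟩
    rintro R hR φ ⟨-, hφ, g, hg⟩ x
    refine ⟨hφ x, ?_⟩
    rw [hg]
    exact hHn.conj_mem _ (hTH (hR x.2)) g
  · -- invariance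
    rintro P hPT φ ⟨-, hφ, n, hnH, hn⟩ α hα
    obtain ⟨g, hgN, hg⟩ := haut α hα
    refine ⟨conjHom _ (g * n * g⁻¹), ⟨?_, ?_, g * n * g⁻¹, hHn.conj_mem _ hnH g, fun y => rfl⟩, ?_⟩
    · rintro _ ⟨y, -, rfl⟩
      exact (α y).2
    · rintro ⟨_, y, hy, rfl⟩
      rw [SetLike.mem_coe, Subgroup.mem_subgroupOf] at hy
      show g * n * g⁻¹ * ((α y : ((S : Subgroup G) ⊓ H : Subgroup G)) : G) * (g * n * g⁻¹)⁻¹ ∈ _
      rw [hg]
      have h1 : g * n * g⁻¹ * (g * (y : G) * g⁻¹) * (g * n * g⁻¹)⁻¹ = g * (n * (y : G) * n⁻¹) * g⁻¹ := by group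
      rw [h1]
      have h2 : n * (y : G) * n⁻¹ ∈ (S : Subgroup G) ⊓ H := by
        have := hφ ⟨y, hy⟩
        rw [hn] at this
        exact this
      exact (Subgroup.mem_normalizer_iff.mp hgN _).mp h2
    · intro x hφx hαx
      show g * n * g⁻¹ * ((α ⟨x, hPT x.2⟩ : ((S : Subgroup G) ⊓ H : Subgroup G)) : G) * (g * n * g⁻¹)⁻¹ = _
      rw [hg, hg]
      show g * n * g⁻¹ * (g * (x : G) * g⁻¹) * (g * n * g⁻¹)⁻¹ = g * φ x * g⁻¹
      rw [hn]
      group
  · -- Frattini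
    rintro P hPT φ ⟨-, hφ, g, hg⟩
    have hgtop : g ∈ Subgroup.normalizer ((((S : Subgroup G) ⊓ H : Subgroup G)) : Set G) ⊔ H := by
      rw [hfrat]; exact Subgroup.mem_top g
    rw [Subgroup.mem_sup_of_normal_right] at hgtop
    obtain ⟨a, ha, n, hn, rfl⟩ := hgtop
    have hφT : ∀ x : P, φ x ∈ (S : Subgroup G) ⊓ H := by
      intro x
      refine ⟨hφ x, ?_⟩
      rw [hg]
      exact hHn.conj_mem _ (hTH (hPT x.2)) _
    have hnT : ∀ x : P, n * (x : G) * n⁻¹ ∈ (S : Subgroup G) ⊓ H := by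
      intro x
      have h1 : n * (x : G) * n⁻¹ = a⁻¹ * (φ x) * a⁻¹⁻¹ := by
        rw [hg]; group
      rw [h1]
      have ha' : a⁻¹ ∈ Subgroup.normalizer ((((S : Subgroup G) ⊓ H : Subgroup G)) : Set G) :=
        Subgroup.inv_mem _ ha
      exact (Subgroup.mem_normalizer_iff.mp ha' _).mp (hφT x)
    refine ⟨((S : Subgroup G) ⊓ H).normalizerMonoidHom ⟨a, ha⟩, ?_, conjHom P n,
      ⟨hPT, hnT, n, hn, fun x => rfl⟩, ?_⟩
    · rw [mem_groupFusion_autGroup_iff _ _ hTS]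
      exact ⟨a, fun x => rfl⟩
    · intro x hx
      show φ x = a * (n * (x : G) * n⁻¹) * a⁻¹
      rw [hg]
      group
  · -- extension condition
    intro α hα
    rw [mem_autGroup_iff _ le_rfl] at hα
    obtain ⟨-, -, g, hgH, hg⟩ := hα
    have hg' : ∀ x : ((S : Subgroup G) ⊓ H : Subgroup G),
        ((α x : ((S : Subgroup G) ⊓ H : Subgroup G)) : G) = g * x * g⁻¹ := hg
    have hgN := mem_normalizer_of_induces α g hg'
    obtain ⟨h, hhH, hhN, hhD, hval⟩ := exists_adjust_normalizer S H hgH hgN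
    have hDS : ((S : Subgroup G) ⊓ H) ⊔ FusionSystem.centralizerIn (S : Subgroup G) ((S : Subgroup G) ⊓ H) ≤
        (S : Subgroup G) := sup_le hTS inf_le_left
    refine ⟨(((S : Subgroup G) ⊓ H) ⊔
      FusionSystem.centralizerIn (S : Subgroup G) ((S : Subgroup G) ⊓ H)).normalizerMonoidHom ⟨h, hhD⟩, ?_, ?_, ?_⟩
    · rw [mem_groupFusion_autGroup_iff _ _ hDS]
      exact ⟨h, fun x => rfl⟩
    · intro x
      show h * (x : G) * h⁻¹ = _
      rw [hval _ x.2, hg']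
    · intro c hc
      show (c : G)⁻¹ * (h * (c : G) * h⁻¹) ∈ _
      have hcc : h * (c : G) * h⁻¹ ∈ Subgroup.centralizer ((((S : Subgroup G) ⊓ H : Subgroup G)) : Set G) :=
        conj_mem_centralizer_of_mem_normalizer hhN hc.2
      have hcS : h * (c : G) * h⁻¹ ∈ (S : Subgroup G) := by
        apply hDS
        exact (Subgroup.mem_normalizer_iff.mp hhD _).mp c.2
      refine ⟨⟨Subgroup.mul_mem _ (Subgroup.inv_mem _ hc.1) hcS, ?_⟩,
        Subgroup.mul_mem _ (Subgroup.inv_mem _ hc.2) hcc⟩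
      have h1 : (c : G)⁻¹ * (h * (c : G) * h⁻¹) = ((c : G)⁻¹ * h * (c : G)⁻¹⁻¹) * h⁻¹ := by group
      rw [h1]
      exact Subgroup.mul_mem _ (hHn.conj_mem _ hhH _) (Subgroup.inv_mem _ hhH)

end Cfsg.Agent.S5118
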