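import Mathlib
import Cfsg.Statements.S5124
import Cfsg.Agent.Lib.Helper9.FusionFocal

set_option autoImplicit false
open Cfsg

namespace Cfsg.Agent.S5124

open Cfsg.FusionSystem Cfsg.Agent.Lib.Helper9

/-- In a saturated fusion system over a finite p-group S the hyperfocal subgroup is strongly closed in the system. -/
theorem result {Ω : Type*} [Group Ω] {S : Subgroup Ω} [Finite S] (p : ℕ) [Fact p.Prime] (hS : IsPGroup p S) (F : Cfsg.FusionSystem S) (hF : F.IsSaturated p) : F.StronglyClosed (F.hyperfocalSubgroup p) := by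
  have hN := hyperfocalSubgroup_normalized F p
  have hle : ∀ (P : Subgroup Ω) (φ : P →* Ω), φ ∈ F.Hom P →
      φ ∈ (closedSystem F (F.hyperfocalSubgroup p) hN).Hom P := by
    intro P φ hφ
    refine fs_le_of_autGroup_le p hS F (closedSystem F (F.hyperfocalSubgroup p) hN) hF ?_ _ P φ hφ rfl
    intro R hRn _ α hα
    have hRS : R ≤ S := hRn.1
    rw [mem_autGroup_iff _ hRS]
    have hα' := hα
    rw [mem_autGroup_iff F hRS] at hα'
    refine ⟨hα', fun x => ?_⟩
    obtain ⟨β, hβ, s, hs, γ, Hγ, hαβγ⟩ := fs_aut_decomp p hS F hF hRn ⟨α, hα⟩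
    have hαeq : α = (β : MulAut R) * (γ : MulAut R) := by
      have := congrArg Subtype.val hαβγ
      simpa using this
    show (x : Ω) ∈ F.hyperfocalSubgroup p ↔ ((α x : R) : Ω) ∈ F.hyperfocalSubgroup p
    rw [hαeq, MulAut.mul_apply]
    have h1 : (x : Ω) ∈ F.hyperfocalSubgroup p ↔ (((γ : MulAut R) x : R) : Ω) ∈ F.hyperfocalSubgroup p := by
      rw [Hγ]
      exact Subgroup.mem_normalizer_iff.mp (hN hs) x
    rw [h1]
    -- β moves elements by hyperfocal elements
    have h2 : ∀ y : R, (y : Ω)⁻¹ * (((β : MulAut R) y : R) : Ω) ∈ F.hyperfocalSubgroup p := by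
      intro y
      apply Subgroup.subset_closure
      exact ⟨R, β, y, hRS, hβ, rfl⟩
    have h3 := h2 ((γ : MulAut R) x)
    constructor
    · intro h
      have := Subgroup.mul_mem _ h h3
      rwa [mul_inv_cancel_left] at this
    · intro h
      have := Subgroup.mul_mem _ h (Subgroup.inv_mem _ h3)
      rw [mul_inv_rev, inv_inv, ← mul_assoc, mul_inv_cancel, one_mul] at this
      exact this
  refine ⟨hyperfocalSubgroup_le F p, ?_⟩
  intro R hR φ hφ x
  exact ((hle R φ hφ).2 x).mp (hR x.2)

end Cfsg.Agent.S5124
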