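import Mathlib
import Cfsg.Statements.S5125
import Cfsg.Agent.Lib.Helper9.FusionNormal6

set_option autoImplicit false
open Cfsg

namespace Cfsg.Agent.S5125

open Cfsg.FusionSystem Cfsg.Agent.Lib.Helper9
open scoped commutatorElement

variable {Ω : Type*} [Group Ω]

/-- the descending series `L 0 = Q₁`, `L (i+1) = [L i, S]` -/
def lser (S Q₁ : Subgroup Ω) : ℕ → Subgroup Ω
  | 0 => Q₁
  | n + 1 => ⁅lser S Q₁ n, S⁆

theorem lser_normalized (S Q₁ : Subgroup Ω) (h : S ≤ Subgroup.normalizer (Q₁ : Set Ω)) :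
    ∀ i, S ≤ Subgroup.normalizer (lser S Q₁ i : Set Ω) := by
  intro i
  induction i with
  | zero => exact h
  | succ i ih =>
    intro s hs
    rw [Subgroup.mem_normalizer_iff_map_conj_eq]
    show (⁅lser S Q₁ i, S⁆).map (MulAut.conj s).toMonoidHom = ⁅lser S Q₁ i, S⁆
    have h1 : (lser S Q₁ i).map (MulAut.conj s).toMonoidHom = lser S Q₁ i :=
      Subgroup.mem_normalizer_iff_map_conj_eq.mp (ih hs)
    have h2 : S.map (MulAut.conj s).toMonoidHom = S :=
      Subgroup.mem_normalizer_iff_map_conj_eq.mp (Subgroup.le_normalizer hs)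
    rw [Subgroup.map_commutator, h1, h2]

theorem lser_succ_le (S Q₁ : Subgroup Ω) (h : S ≤ Subgroup.normalizer (Q₁ : Set Ω)) (i : ℕ) :
    lser S Q₁ (i + 1) ≤ lser S Q₁ i :=
  commutator_le_of_le_normalizer (lser_normalized S Q₁ h i)

theorem lser_le_lcs (S Q₁ : Subgroup Ω) (h : Q₁ ≤ S) : ∀ i, lser S Q₁ i ≤ S.lowerCentralSeries i := by
  intro i
  induction i with
  | zero => exact h
  | succ i ih => exact Subgroup.commutator_mono ih le_rfl

/-- Let F be a saturated fusion system over a finite p-group S and Q a subgroup strongly closed in F. If Q has a subgroup Q₁ that is normal in F, with Q/Q₁ abelian and Aut_F(Q₁) a p-group, then Q is normal in F. -/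
theorem result {Ω : Type*} [Group Ω] {S : Subgroup Ω} [Finite S] (p : ℕ) [Fact p.Prime] (hS : IsPGroup p S) (F : Cfsg.FusionSystem S) (hF : F.IsSaturated p) (Q Q₁ : Subgroup Ω) (hQ : F.StronglyClosed Q) (hQ₁Q : Q₁ ≤ Q) (hQ₁ : F.IsNormal Q₁) (hab : ⁅Q, Q⁆ ≤ Q₁) (hAut : IsPGroup p ↥(F.autGroup Q₁)) : F.IsNormal Q := by
  have hQ₁sc := fs_stronglyClosed_of_isNormal F hQ₁
  have hQ₁N := fs_stronglyClosed_le_normalizer F hQ₁sc
  have hQN := fs_stronglyClosed_le_normalizer F hQ
  have hQ₁S : Q₁ ≤ S := hQ₁.1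
  haveI : Group.IsNilpotent S := hS.isNilpotent
  obtain ⟨c, hc⟩ := (Subgroup.isNilpotent_iff_lowerCentralSeries S).mp inferInstance
  have hLle : ∀ i, lser S Q₁ i ≤ Q₁ := by
    intro i
    induction i with
    | zero => exact le_rfl
    | succ i ih => exact (lser_succ_le S Q₁ hQ₁N i).trans ih
  have hLsc : ∀ i, F.StronglyClosed (lser S Q₁ i) := by
    intro i
    refine ⟨(hLle i).trans hQ₁S, ?_⟩
    intro R hR φ hφ x
    obtain ⟨s, hs, Hs⟩ := fs_conj_of_isNormal_of_isPGroup p hS F hF hQ₁ hAut (hR.trans (hLle i)) hφ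
    rw [Hs]
    exact (Subgroup.mem_normalizer_iff.mp (lser_normalized S Q₁ hQ₁N i hs) x).mp (hR x.2)
  refine fs_isNormal_of_descending_chain p hS F hF Q hQ
    (fun i => match i with
      | 0 => S
      | 1 => Q
      | (i + 2) => lser S Q₁ i) rfl (c + 2) ?_ ?_ ?_ ?_
  · show lser S Q₁ c = ⊥
    have := lser_le_lcs S Q₁ hQ₁S c
    rw [hc] at this
    exact le_bot_iff.mp this
  · apply antitone_nat_of_succ_le
    intro n
    rcases n with _ | _ | n
    · exact hQ.1
    · exact hQ₁Q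
    · exact lser_succ_le S Q₁ hQ₁N n
  · intro i
    rcases i with _ | _ | i
    · exact fs_stronglyClosed_top F
    · exact hQ
    · exact hLsc i
  · intro i
    rcases i with _ | _ | i
    · exact commutator_le_of_le_normalizer hQN
    · exact hab
    · show ⁅Q, lser S Q₁ i⁆ ≤ ⁅lser S Q₁ i, S⁆
      rw [Subgroup.commutator_comm]
      exact Subgroup.commutator_mono le_rfl hQ.1

end Cfsg.Agent.S5125
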