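import Cfsg.Statements.S5126
import Mathlib
import Cfsg.Agent.Lib.Helper9.NormSys1
import Cfsg.Agent.Lib.Helper9.Model1
import Cfsg.Agent.Lib.Helper9.FusionNormal2

set_option autoImplicit false
open Cfsg

namespace Cfsg.Agent.S5126

open Cfsg.FusionSystem Cfsg.Agent.Lib.Helper9

/-- In a saturated fusion system over a finite p-group S, the normalizer system of a fully normalized, centric, radical subgroup R is constrained, and in every model of that normalizer system the largest normal p-subgroup is the image of R. -/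
theorem result {Ω : Type*} [Group Ω] {S : Subgroup Ω} [Finite S] (p : ℕ) [Fact p.Prime] (hS : IsPGroup p S) (F : Cfsg.FusionSystem S) (hF : F.IsSaturated p) (R : Subgroup Ω) (hRn : F.IsFullyNormalized R) (hRc : F.IsCentric R) (hRr : F.IsRadical p R) (E : Cfsg.FusionSystem (Cfsg.FusionSystem.normalizerIn S R)) (hE : F.IsNormalizerSystem R E) {G : Type*} [Group G] (ι : ↥(Cfsg.FusionSystem.normalizerIn S R) →* G) : E.IsConstrained p ∧ (E.IsModel p G ι → (Cfsg.pCore p G : Subgroup G) = (R.subgroupOf (Cfsg.FusionSystem.normalizerIn S R)).map ι) := by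
  have hRS : R ≤ S := hRn.1
  have hC : centralizerIn S R ≤ R := hRc.2 R (fs_isConj_refl F hRS)
  have hEn : E.IsNormal R := normalizerSystem_isNormal F hRS E hE
  have hEc : E.IsCentric R := normalizerSystem_isCentric F hRS hC E hE
  have hsat : E.IsSaturated p := normalizerSystem_saturated p hS F hF hRn E hE
  refine ⟨⟨hsat, R, hEn, hEc⟩, ?_⟩
  rintro ⟨hfin, hι, ⟨T, hT⟩, hCG⟩
  haveI := hfin
  haveI : Finite (normalizerIn S R) := fs_finite_of_le (fs_normalizerIn_le S R)
  have hSN : IsPGroup p (normalizerIn S R) := hS.to_le (fs_normalizerIn_le S R)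
  have hEr : E.IsRadical p R := by
    refine ⟨le_normalizerIn_self hRS, ?_⟩
    have := hRr.2
    rw [normalizerSystem_autGroup_eq F hRS E hE]
    exact this
  haveI : (Cfsg.pCore p G).Normal := pCore_normal' p
  have hU : Cfsg.pCore p G ≤ ι.range := by
    rw [← hT]
    exact pCore_le_sylow T
  have hU₀n : E.IsNormal (preimageAlong ι (Cfsg.pCore p G)) :=
    realized_isNormal_preimage E ι hι (Cfsg.pCore p G) hU
  have hU₀R : preimageAlong ι (Cfsg.pCore p G) ≤ R :=
    fs_le_of_isNormal_of_centric_radical p hSN E hU₀n hEc hEr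
  have hnorm : (imageAlong ι R).Normal :=
    realized_normal_image E ι hι (Cfsg.pCore p G) hU hCG hEn hU₀R
  apply le_antisymm
  · intro u hu
    obtain ⟨s, rfl⟩ := hU hu
    refine ⟨s, ?_, rfl⟩
    show (s : Ω) ∈ R
    apply hU₀R
    rw [mem_preimageAlong_iff]
    exact ⟨s.2, hu⟩
  · apply le_pCore hnorm
    have h1 : IsPGroup p (R.subgroupOf (normalizerIn S R)) := hSN.to_subgroup _
    exact h1.map ι

end Cfsg.Agent.S5126
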