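import Mathlib
import Cfsg.Statements.S5128
import Cfsg.Agent.Lib.Helper9.FusionLift3
import Cfsg.Agent.Lib.Helper9.FusionNormal4

set_option autoImplicit false
open Cfsg
open Cfsg.FusionSystem Cfsg.Agent.Lib.Helper9

namespace Cfsg.Agent.S5128

/-- In a saturated fusion system over a finite p-group S, the product of two strongly closed subgroups is strongly closed. -/
theorem result {Ω : Type*} [Group Ω] {S : Subgroup Ω} [Finite S] (p : ℕ) [Fact p.Prime] (hS : IsPGroup p S) (F : Cfsg.FusionSystem S) (hF : F.IsSaturated p) (T₁ T₂ : Subgroup Ω) (h₁ : F.StronglyClosed T₁) (h₂ : F.StronglyClosed T₂) : F.StronglyClosed (T₁ ⊔ T₂) := by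
  refine ⟨sup_le h₁.1 h₂.1, ?_⟩
  intro P hP φ hφ x
  obtain ⟨ψ, hψ, Hψ⟩ := fs_exists_lift p hS F hF T₁ h₁ hφ
  -- decompose x = t₁ t₂
  have hN : T₂ ≤ Subgroup.normalizer (T₁ : Set Ω) :=
    h₂.1.trans (fs_stronglyClosed_le_normalizer F h₁)
  have hx : (x : Ω) ∈ T₂ ⊔ T₁ := by rw [sup_comm]; exact hP x.2
  obtain ⟨t₂, ht₂, t₁, ht₁, hxt⟩ := mem_sup_of_le_normalizer' hN hx
  have ht₁' : t₁ ∈ P ⊔ T₁ := Subgroup.mem_sup_right ht₁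
  have ht₂' : t₂ ∈ P ⊔ T₁ := by
    have : t₂ = x * t₁⁻¹ := by rw [← hxt]; group
    rw [this]
    exact Subgroup.mul_mem _ (Subgroup.mem_sup_left x.2) (Subgroup.inv_mem _ ht₁')
  have e1 : Subgroup.inclusion (le_sup_left : P ≤ P ⊔ T₁) x = ⟨t₂, ht₂'⟩ * ⟨t₁, ht₁'⟩ := by
    apply Subtype.ext
    exact hxt.symm
  have hψ1 : ψ ⟨t₁, ht₁'⟩ ∈ T₁ := fs_stronglyClosed_mem F h₁ hψ ⟨t₁, ht₁'⟩ ht₁
  have hψ2 : ψ ⟨t₂, ht₂'⟩ ∈ T₂ := fs_stronglyClosed_mem F h₂ hψ ⟨t₂, ht₂'⟩ ht₂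
  have h3 := Hψ x
  rw [e1, map_mul] at h3
  have h4 : φ x = (ψ ⟨t₂, ht₂'⟩ * ψ ⟨t₁, ht₁'⟩) * ((φ x)⁻¹ * (ψ ⟨t₂, ht₂'⟩ * ψ ⟨t₁, ht₁'⟩))⁻¹ := by group
  rw [h4]
  exact Subgroup.mul_mem _ (Subgroup.mul_mem _ (Subgroup.mem_sup_right hψ2) (Subgroup.mem_sup_left hψ1))
    (Subgroup.inv_mem _ (Subgroup.mem_sup_left h3))

end Cfsg.Agent.S5128
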