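import Mathlib
import Cfsg.Statements.S5130
import Cfsg.Agent.S5119
import Cfsg.Agent.Lib.Helper9.DirProd4
import Cfsg.Agent.Lib.Helper9.FusionNormal5

set_option autoImplicit false
open Cfsg
open Cfsg.FusionSystem Cfsg.Agent.Lib.Helper9 Cfsg.Agent.Lib.Helper9.H9DirProd

namespace Cfsg.Agent.S5130

/-- Let F be a saturated fusion system over a finite p-group S that is the direct product of two subgroups S₁ and S₂, each strongly closed in F. Let R be the full subsystem of F over S₁ (all maps of F between subgroups of S₁) and R′ the subsystem over S₁ of those maps that extend to the subgroup generated with S₂ fixing S₂ elementwise. Then R and R′ are saturated, R′ is normal in F and in R, and R is weakly normal in F. -/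
theorem result {Ω : Type*} [Group Ω] {S : Subgroup Ω} [Finite S] (p : ℕ) [Fact p.Prime] (hS : IsPGroup p S) (F : Cfsg.FusionSystem S) (hF : F.IsSaturated p) (S₁ S₂ : Subgroup Ω) (hprod : Cfsg.IsInternalDirectProduct S₁ S₂ S) (h₁ : F.StronglyClosed S₁) (h₂ : F.StronglyClosed S₂) (R R' : Cfsg.FusionSystem S₁) (hR : ∀ P : Subgroup Ω, P ≤ S₁ → R.Hom P = F.Hom P) (hR' : ∀ P : Subgroup Ω, P ≤ S₁ → R'.Hom P = F.centralizerHom S₂ P) : R.IsSaturated p ∧ R'.IsSaturated p ∧ R'.IsNormalIn F p ∧ R'.IsNormalIn R p ∧ R.IsWeaklyNormalIn F p := by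
  obtain ⟨h₁S, h₂S, hcomm, -, hsup⟩ := hprod
  haveI : Finite S₁ := fs_finite_of_le h₁S
  have hS₁ : IsPGroup p S₁ := hS.to_le h₁S
  have hRsat : R.IsSaturated p := full_factor_saturated p F hF S₁ S₂ hcomm hsup h₁ R hR
  have hR'sat : R'.IsSaturated p := centHom_saturated p hS F hF S₁ S₂ hcomm hsup h₁ h₂ R' hR'
  have hstrong := centHom_strongInv p hS F hF S₁ S₂ hcomm h₁ h₂ R' hR'
  have hsubF : R'.IsSubsystemOf F := by
    intro P φ hφ
    have hP : P ≤ S₁ := (R'.le_of_mem hφ).1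
    rw [hR' P hP] at hφ
    exact hφ.1
  have hsubRF : R.IsSubsystemOf F := by
    intro P φ hφ
    have hP : P ≤ S₁ := (R.le_of_mem hφ).1
    rw [hR P hP] at hφ
    exact hφ
  have hsubR : R'.IsSubsystemOf R := by
    intro P φ hφ
    have hP : P ≤ S₁ := (R'.le_of_mem hφ).1
    rw [hR P hP]
    exact hsubF P hφ
  have hinvF : R'.IsInvariantIn F := (Cfsg.Agent.S5119.result p hS F hF R' hsubF h₁).mpr hstrong
  have hinvR : R'.IsInvariantIn R := by
    apply (Cfsg.Agent.S5119.result p hS₁ R hRsat R' hsubR (fs_stronglyClosed_top R)).mpr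
    intro P Q hPQ hQ φ hφ hφQ ψ hψ
    rw [hR Q hQ] at hψ
    exact hstrong P Q hPQ hQ φ hφ hφQ ψ hψ
  have hinvRF : R.IsInvariantIn F := by
    apply (Cfsg.Agent.S5119.result p hS F hF R hsubRF h₁).mpr
    intro P Q hPQ hQ φ hφ hφQ ψ hψ
    rw [hR P (hPQ.trans hQ)] at hφ
    obtain ⟨χ, hχ, Hχ⟩ := fs_conj_map F hPQ hφ hφQ hψ
    refine ⟨χ, ?_, Hχ⟩
    have hle : (P.subgroupOf Q).map ψ ≤ S₁ := by
      rintro _ ⟨v, -, rfl⟩
      exact h₁.2 Q hQ ψ hψ v
    rw [hR _ hle]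
    exact hχ
  exact ⟨hRsat, hR'sat, ⟨⟨hR'sat, hF, hinvF⟩, centHom_ext_F F S₁ S₂ hcomm hsup R' hR'⟩,
    ⟨⟨hR'sat, hRsat, hinvR⟩, centHom_ext_R F S₁ S₂ h₁S R R' hR hR'⟩, ⟨hRsat, hF, hinvRF⟩⟩


end Cfsg.Agent.S5130
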