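import Cfsg.Statements.S5135
import Mathlib
import Cfsg.Agent.Lib.Helper9.FusionFactor
import Cfsg.Agent.Lib.Helper9.SylowAux

set_option autoImplicit false
open Cfsg Cfsg.FusionSystem Cfsg.Agent.Lib.Helper9

namespace Cfsg.Agent.S5135

/-- Let G be a finite group, S a Sylow p-subgroup and H a normal subgroup of G. Then the fusion system of G/H on the image SH/H of S is the factor system of the fusion system of G on S modulo S ∩ H, read through the quotient map restricted to S: for each subgroup P' of SH/H, the conjugation maps by elements of G/H defined on P' with values in SH/H are exactly the homomorphisms induced by the conjugation maps by elements of G defined on the full preimage of P' in S with values in S. -/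
theorem result {G : Type*} [Group G] [Finite G] (p : ℕ) [Fact p.Prime] (S : Sylow p G) (H : Subgroup G) [H.Normal] : (Cfsg.groupFusionSystem (S : Subgroup G)).IsFactorSystem ((S : Subgroup G) ⊓ H) ((QuotientGroup.mk' H).comp (S : Subgroup G).subtype) (Cfsg.groupFusionSystem ((S : Subgroup G).map (QuotientGroup.mk' H))) := by
  refine ⟨inf_le_left, ?_, ?_, ?_⟩
  · intro s
    show (QuotientGroup.mk (s : G) : G ⧸ H) = 1 ↔ _
    rw [QuotientGroup.eq_one_iff]
    exact ⟨fun h => ⟨s.2, h⟩, fun h => h.2⟩
  · rw [MonoidHom.range_comp, Subgroup.range_subtype]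
  · intro P' φ'
    constructor
    · rintro ⟨hP'S', hφ'S', g', hg'⟩
      refine ⟨hP'S', ?_⟩
      obtain ⟨g, rfl⟩ := QuotientGroup.mk_surjective g'
      have hPS := preimageAlong_le ((QuotientGroup.mk' H).comp (S : Subgroup G).subtype) P'
      have hRp : IsPGroup p ((preimageAlong ((QuotientGroup.mk' H).comp (S : Subgroup G).subtype) P').map
          (MulAut.conj g).toMonoidHom) := (S.isPGroup'.to_le hPS).map _
      have hRK : (preimageAlong ((QuotientGroup.mk' H).comp (S : Subgroup G).subtype) P').map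
          (MulAut.conj g).toMonoidHom ≤ (S : Subgroup G) ⊔ H := by
        rintro _ ⟨x, hx, rfl⟩
        have hx' := apply_mem_of_mem_preimageAlong _ P' ⟨x, hx⟩
        have h1 := hφ'S' ⟨_, hx'⟩
        rw [hg'] at h1
        obtain ⟨s, hs, hsx⟩ := h1
        have h2 : (QuotientGroup.mk s : G ⧸ H) = QuotientGroup.mk (g * x * g⁻¹) := by
          rw [QuotientGroup.mk_mul, QuotientGroup.mk_mul, QuotientGroup.mk_inv]
          exact hsx
        have h3 : s⁻¹ * (g * x * g⁻¹) ∈ H := QuotientGroup.eq.mp h2
        have h4 : g * x * g⁻¹ = s * (s⁻¹ * (g * x * g⁻¹)) := by group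
        show g * x * g⁻¹ ∈ _
        rw [h4]
        exact Subgroup.mul_mem_sup hs h3
      obtain ⟨k, hk, hkS⟩ := exists_conj_mem_sylow_of_le S _ le_sup_left _ hRp hRK
      obtain ⟨s, hs, h, hh, rfl⟩ := Subgroup.mem_sup_of_normal_right.mp hk
      have hval : ∀ x : preimageAlong ((QuotientGroup.mk' H).comp (S : Subgroup G).subtype) P',
          (h * g) * (x : G) * (h * g)⁻¹ ∈ (S : Subgroup G) := by
        intro x
        have h1 := hkS (g * x * g⁻¹) ⟨x, x.2, rfl⟩
        have h2 : h * g * x * (h * g)⁻¹ = s⁻¹ * (s * h * (g * x * g⁻¹) * (s * h)⁻¹) * s := by group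
        rw [h2]
        exact (S : Subgroup G).mul_mem ((S : Subgroup G).mul_mem ((S : Subgroup G).inv_mem hs) h1) hs
      refine ⟨conjHom _ (h * g), ⟨hPS, hval, h * g, fun x => rfl⟩, hPS, hval,
        fun x => apply_mem_of_mem_preimageAlong _ P' x, ?_⟩
      intro x
      rw [hg']
      have hh1 : (QuotientGroup.mk h : G ⧸ H) = 1 := (QuotientGroup.eq_one_iff h).mpr hh
      show (QuotientGroup.mk g : G ⧸ H) * QuotientGroup.mk (x : G) * (QuotientGroup.mk g)⁻¹ =
        QuotientGroup.mk (h * g * x * (h * g)⁻¹)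
      simp only [QuotientGroup.mk_mul, QuotientGroup.mk_inv, hh1, one_mul]
    · rintro ⟨hP'S', φ, ⟨hPS, hφS, g, hg⟩, hind⟩
      have key : ∀ x' : P', ∃ s : preimageAlong ((QuotientGroup.mk' H).comp (S : Subgroup G).subtype) P',
          (QuotientGroup.mk (s : G) : G ⧸ H) = x' ∧ φ' x' = QuotientGroup.mk (φ s) := by
        intro x'
        obtain ⟨s, hs, hsx⟩ := hP'S' x'.2
        have hsP : s ∈ preimageAlong ((QuotientGroup.mk' H).comp (S : Subgroup G).subtype) P' := by
          rw [mem_preimageAlong_iff]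
          refine ⟨hs, ?_⟩
          show QuotientGroup.mk' H s ∈ P'
          rw [hsx]; exact x'.2
        refine ⟨⟨s, hsP⟩, hsx, ?_⟩
        have e1 := inducedAlong_apply hind ⟨s, hsP⟩ hs (by show QuotientGroup.mk' H s ∈ P'; rw [hsx]; exact x'.2)
          (hφS _)
        have : x' = ⟨((QuotientGroup.mk' H).comp (S : Subgroup G).subtype) ⟨s, hs⟩,
            by show QuotientGroup.mk' H s ∈ P'; rw [hsx]; exact x'.2⟩ := Subtype.ext hsx.symm
        rw [this, e1]
        rfl
      refine ⟨hP'S', ?_, QuotientGroup.mk g, ?_⟩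
      · intro x'
        obtain ⟨s, -, hs⟩ := key x'
        rw [hs]
        exact ⟨φ s, hφS s, rfl⟩
      · intro x'
        obtain ⟨s, hsx, hs⟩ := key x'
        rw [hs, hg, ← hsx]
        simp only [QuotientGroup.mk_mul, QuotientGroup.mk_inv]

end Cfsg.Agent.S5135
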