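import Cfsg.Statements.S5136
import Mathlib
import Cfsg.Agent.Lib.Helper9.FusionBasic

set_option autoImplicit false
open Cfsg Cfsg.FusionSystem Cfsg.Agent.Lib.Helper9

namespace Cfsg.Agent.S5136

variable {Ω₁ Ω₂ : Type*} [Group Ω₁] [Group Ω₂] {S₁ : Subgroup Ω₁} {S₂ : Subgroup Ω₂}

/-- The candidate set of maps of the product system with source `P`. -/
def prodHom (F₁ : Cfsg.FusionSystem S₁) (F₂ : Cfsg.FusionSystem S₂) (P : Subgroup (Ω₁ × Ω₂)) :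
    Set (P →* Ω₁ × Ω₂) :=
  {φ | P ≤ S₁.prod S₂ ∧
      ∃ φ₁ ∈ F₁.Hom (P.map (MonoidHom.fst Ω₁ Ω₂)), ∃ φ₂ ∈ F₂.Hom (P.map (MonoidHom.snd Ω₁ Ω₂)),
        ∀ (x : P) (h₁ : (x : Ω₁ × Ω₂).1 ∈ P.map (MonoidHom.fst Ω₁ Ω₂))
          (h₂ : (x : Ω₁ × Ω₂).2 ∈ P.map (MonoidHom.snd Ω₁ Ω₂)),
          φ x = (φ₁ ⟨(x : Ω₁ × Ω₂).1, h₁⟩, φ₂ ⟨(x : Ω₁ × Ω₂).2, h₂⟩)}

theorem fst_mem (P : Subgroup (Ω₁ × Ω₂)) (x : P) : (x : Ω₁ × Ω₂).1 ∈ P.map (MonoidHom.fst Ω₁ Ω₂) :=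
  ⟨x, x.2, rfl⟩

theorem snd_mem (P : Subgroup (Ω₁ × Ω₂)) (x : P) : (x : Ω₁ × Ω₂).2 ∈ P.map (MonoidHom.snd Ω₁ Ω₂) :=
  ⟨x, x.2, rfl⟩

theorem map_fst_le {P : Subgroup (Ω₁ × Ω₂)} (h : P ≤ S₁.prod S₂) : P.map (MonoidHom.fst Ω₁ Ω₂) ≤ S₁ := by
  rintro _ ⟨x, hx, rfl⟩
  exact (h hx).1

theorem map_snd_le {P : Subgroup (Ω₁ × Ω₂)} (h : P ≤ S₁.prod S₂) : P.map (MonoidHom.snd Ω₁ Ω₂) ≤ S₂ := by
  rintro _ ⟨x, hx, rfl⟩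
  exact (h hx).2

theorem le_of_mem_aux (F₁ : Cfsg.FusionSystem S₁) (F₂ : Cfsg.FusionSystem S₂) {P : Subgroup (Ω₁ × Ω₂)}
    {φ : P →* Ω₁ × Ω₂} (hφ : φ ∈ prodHom F₁ F₂ P) : P ≤ S₁.prod S₂ ∧ ∀ x : P, φ x ∈ S₁.prod S₂ := by
  obtain ⟨hP, φ₁, hφ₁, φ₂, hφ₂, h⟩ := hφ
  refine ⟨hP, fun x => ?_⟩
  rw [h x (fst_mem P x) (snd_mem P x)]
  exact ⟨(F₁.le_of_mem hφ₁).2 _, (F₂.le_of_mem hφ₂).2 _⟩

theorem injective_aux (F₁ : Cfsg.FusionSystem S₁) (F₂ : Cfsg.FusionSystem S₂) {P : Subgroup (Ω₁ × Ω₂)}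
    {φ : P →* Ω₁ × Ω₂} (hφ : φ ∈ prodHom F₁ F₂ P) : Function.Injective φ := by
  obtain ⟨hP, φ₁, hφ₁, φ₂, hφ₂, h⟩ := hφ
  intro x y hxy
  rw [h x (fst_mem P x) (snd_mem P x), h y (fst_mem P y) (snd_mem P y)] at hxy
  have h1 := F₁.injective_of_mem hφ₁ (congrArg Prod.fst hxy)
  have h2 := F₂.injective_of_mem hφ₂ (congrArg Prod.snd hxy)
  apply Subtype.ext
  exact Prod.ext (congrArg Subtype.val h1) (congrArg Subtype.val h2)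

theorem conj_mem_aux (F₁ : Cfsg.FusionSystem S₁) (F₂ : Cfsg.FusionSystem S₂) {P : Subgroup (Ω₁ × Ω₂)}
    {g : Ω₁ × Ω₂} (hP : P ≤ S₁.prod S₂) (hg : g ∈ S₁.prod S₂) : conjHom P g ∈ prodHom F₁ F₂ P := by
  refine ⟨hP, conjHom _ g.1, F₁.conj_mem (map_fst_le hP) hg.1, conjHom _ g.2,
    F₂.conj_mem (map_snd_le hP) hg.2, ?_⟩
  intro x h₁ h₂
  rfl

theorem comp_mem_aux (F₁ : Cfsg.FusionSystem S₁) (F₂ : Cfsg.FusionSystem S₂) {P Q : Subgroup (Ω₁ × Ω₂)}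
    {φ : P →* Ω₁ × Ω₂} {ψ : Q →* Ω₁ × Ω₂} (hφ : φ ∈ prodHom F₁ F₂ P) (hψ : ψ ∈ prodHom F₁ F₂ Q)
    (h : ∀ x : P, φ x ∈ Q) : ψ.comp (φ.codRestrict Q h) ∈ prodHom F₁ F₂ P := by
  obtain ⟨hP, φ₁, hφ₁, φ₂, hφ₂, hφe⟩ := hφ
  obtain ⟨hQ, ψ₁, hψ₁, ψ₂, hψ₂, hψe⟩ := hψ
  have h1 : ∀ x : P.map (MonoidHom.fst Ω₁ Ω₂), φ₁ x ∈ Q.map (MonoidHom.fst Ω₁ Ω₂) := by
    rintro ⟨_, x, hx, rfl⟩
    refine ⟨φ ⟨x, hx⟩, h ⟨x, hx⟩, ?_⟩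
    rw [hφe ⟨x, hx⟩ (fst_mem P ⟨x, hx⟩) (snd_mem P ⟨x, hx⟩)]
    rfl
  have h2 : ∀ x : P.map (MonoidHom.snd Ω₁ Ω₂), φ₂ x ∈ Q.map (MonoidHom.snd Ω₁ Ω₂) := by
    rintro ⟨_, x, hx, rfl⟩
    refine ⟨φ ⟨x, hx⟩, h ⟨x, hx⟩, ?_⟩
    rw [hφe ⟨x, hx⟩ (fst_mem P ⟨x, hx⟩) (snd_mem P ⟨x, hx⟩)]
    rfl
  refine ⟨hP, _, F₁.comp_mem hφ₁ hψ₁ h1, _, F₂.comp_mem hφ₂ hψ₂ h2, ?_⟩
  intro x hx₁ hx₂
  show ψ ⟨φ x, h x⟩ = _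
  have e := hφe x hx₁ hx₂
  rw [hψe ⟨φ x, h x⟩ (fst_mem Q _) (snd_mem Q _)]
  apply Prod.ext
  · show ψ₁ _ = ψ₁ _
    congr 1
    apply Subtype.ext
    exact congrArg Prod.fst e
  · show ψ₂ _ = ψ₂ _
    congr 1
    apply Subtype.ext
    exact congrArg Prod.snd e

theorem inv_mem_aux (F₁ : Cfsg.FusionSystem S₁) (F₂ : Cfsg.FusionSystem S₂) {P : Subgroup (Ω₁ × Ω₂)}
    {φ : P →* Ω₁ × Ω₂} (hφ : φ ∈ prodHom F₁ F₂ P) :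
    ∃ ψ ∈ prodHom F₁ F₂ φ.range, ∀ x : P, ψ ⟨φ x, ⟨x, rfl⟩⟩ = (x : Ω₁ × Ω₂) := by
  have hle := le_of_mem_aux F₁ F₂ hφ
  obtain ⟨hP, φ₁, hφ₁, φ₂, hφ₂, hφe⟩ := hφ
  obtain ⟨χ₁, hχ₁, hχφ₁⟩ := F₁.inv_mem hφ₁
  obtain ⟨χ₂, hχ₂, hχφ₂⟩ := F₂.inv_mem hφ₂
  have hR₁ : φ.range.map (MonoidHom.fst Ω₁ Ω₂) ≤ φ₁.range := by
    rintro _ ⟨_, ⟨x, rfl⟩, rfl⟩
    refine ⟨⟨(x : Ω₁ × Ω₂).1, fst_mem P x⟩, ?_⟩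
    rw [hφe x (fst_mem P x) (snd_mem P x)]
    rfl
  have hR₂ : φ.range.map (MonoidHom.snd Ω₁ Ω₂) ≤ φ₂.range := by
    rintro _ ⟨_, ⟨x, rfl⟩, rfl⟩
    refine ⟨⟨(x : Ω₁ × Ω₂).2, snd_mem P x⟩, ?_⟩
    rw [hφe x (fst_mem P x) (snd_mem P x)]
    rfl
  have hχ₁' := fs_restrict_mem F₁ hχ₁ hR₁
  have hχ₂' := fs_restrict_mem F₂ hχ₂ hR₂
  refine ⟨((χ₁.comp (Subgroup.inclusion hR₁)).comp ((MonoidHom.fst Ω₁ Ω₂).subgroupMap φ.range)).prod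
      ((χ₂.comp (Subgroup.inclusion hR₂)).comp ((MonoidHom.snd Ω₁ Ω₂).subgroupMap φ.range)),
    ⟨?_, _, hχ₁', _, hχ₂', ?_⟩, ?_⟩
  · rintro _ ⟨x, rfl⟩
    exact hle.2 x
  · intro x h₁ h₂
    rfl
  · intro x
    have e := hφe x (fst_mem P x) (snd_mem P x)
    apply Prod.ext
    · show χ₁ _ = _
      refine Eq.trans ?_ (hχφ₁ ⟨(x : Ω₁ × Ω₂).1, fst_mem P x⟩)
      congr 1
      apply Subtype.ext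
      exact congrArg Prod.fst e
    · show χ₂ _ = _
      refine Eq.trans ?_ (hχφ₂ ⟨(x : Ω₁ × Ω₂).2, snd_mem P x⟩)
      congr 1
      apply Subtype.ext
      exact congrArg Prod.snd e

/-- Let F₁ and F₂ be fusion systems over finite p-groups S₁ and S₂ (inside ambient groups Ω₁ and Ω₂). Then their direct product exists: there is a fusion system over S₁ × S₂ inside Ω₁ × Ω₂ whose maps with source P ≤ S₁ × S₂ are exactly the restrictions to P of the homomorphisms (x₁, x₂) ↦ (φ₁ x₁, φ₂ x₂) with φ₁ a map of F₁ on the first projection of P and φ₂ a map of F₂ on the second projection. -/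
theorem result {Ω₁ Ω₂ : Type*} [Group Ω₁] [Group Ω₂] {S₁ : Subgroup Ω₁} {S₂ : Subgroup Ω₂} [Finite S₁] [Finite S₂] (p : ℕ) [Fact p.Prime] (h₁ : IsPGroup p S₁) (h₂ : IsPGroup p S₂) (F₁ : Cfsg.FusionSystem S₁) (F₂ : Cfsg.FusionSystem S₂) : ∃ E : Cfsg.FusionSystem (S₁.prod S₂), Cfsg.FusionSystem.IsProductSystem F₁ F₂ E := by
  refine ⟨{ Hom := fun P => prodHom F₁ F₂ P
            le_of_mem := fun h => le_of_mem_aux F₁ F₂ h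
            injective_of_mem := fun h => injective_aux F₁ F₂ h
            conj_mem := fun hP hg => conj_mem_aux F₁ F₂ hP hg
            comp_mem := fun hφ hψ h => comp_mem_aux F₁ F₂ hφ hψ h
            inv_mem := fun hφ => inv_mem_aux F₁ F₂ hφ }, fun P φ => Iff.rfl⟩

end Cfsg.Agent.S5136
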