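import Mathlib
import Cfsg.Statements.S5139
import Cfsg.Agent.S5093
import Cfsg.Agent.Lib.Helper9.PPowerIndex1
import Cfsg.Agent.Lib.Helper9.FusionSubgroupSat
import Cfsg.Agent.Lib.Helper9.Hyperfocal1
import Cfsg.Agent.Lib.Helper9.Hyperfocal2
import Cfsg.Agent.Lib.Helper9.FusionAG3

set_option autoImplicit false
open Cfsg
open Cfsg.FusionSystem Cfsg.Agent.Lib.Helper9

namespace Cfsg.Agent.S5139

/-- Let G be a finite group with Sylow p-subgroup S and O^p(G) the subgroup generated by the elements of order prime to p. Then the p-residual subsystem of the fusion system of G on S — the saturated subsystem of p-power index over the hyperfocal subgroup — is the fusion system of O^p(G) on S ∩ O^p(G): its maps are exactly the conjugation maps by elements of O^p(G) between subgroups of S ∩ O^p(G). -/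
theorem result {G : Type*} [Group G] [Finite G] (p : ℕ) [Fact p.Prime] (S : Sylow p G) (E : Cfsg.FusionSystem ((Cfsg.groupFusionSystem (S : Subgroup G)).hyperfocalSubgroup p)) (hE : (Cfsg.groupFusionSystem (S : Subgroup G)).IsPResidual p E) : ∃ h : (S : Subgroup G) ⊓ Cfsg.pResidual p G ≤ Cfsg.pResidual p G, ∀ P : Subgroup G, E.Hom P = (Cfsg.fusionSystemOfSubgroup (Cfsg.pResidual p G) ((S : Subgroup G) ⊓ Cfsg.pResidual p G) h).Hom P := by
  refine ⟨inf_le_right, ?_⟩
  have hhyp := Cfsg.Agent.S5093.result p S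
  have hTS : (Cfsg.groupFusionSystem (S : Subgroup G)).hyperfocalSubgroup p ≤ (S : Subgroup G) := by
    rw [hhyp]; exact inf_le_left
  have hT'S : (S : Subgroup G) ⊓ Cfsg.pResidual p G ≤ (S : Subgroup G) := inf_le_left
  have hsat : (Cfsg.fusionSystemOfSubgroup (Cfsg.pResidual p G) ((S : Subgroup G) ⊓ Cfsg.pResidual p G)
      inf_le_right).IsSaturated p := by
    obtain ⟨T', hT'⟩ := exists_sylow_map_eq_inf S (Cfsg.pResidual p G)
    exact fsos_isSaturated p _ _ inf_le_right T' hT'
  have hidx : (Cfsg.fusionSystemOfSubgroup (Cfsg.pResidual p G) ((S : Subgroup G) ⊓ Cfsg.pResidual p G)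
      inf_le_right).HasPPowerIndexIn (Cfsg.groupFusionSystem (S : Subgroup G)) p := by
    refine ⟨?_, le_of_eq hhyp, ?_⟩
    · rintro P φ ⟨hP, hφ, g, -, hg⟩
      exact ⟨hP.trans hT'S, fun x => hT'S (hφ x), g, hg⟩
    · intro P hPT'
      have hPS : P ≤ (S : Subgroup G) := hPT'.trans hT'S
      obtain ⟨ν, hν⟩ : ∃ ν : (Subgroup.normalizer (P : Set G)) →* (Cfsg.groupFusionSystem (S : Subgroup G)).autGroup P,
          ∀ n x, (((ν n : MulAut P) x : P) : G) = n * x * (n : G)⁻¹ := by
        refine ⟨(P.normalizerMonoidHom).codRestrict _ (fun n => ?_), fun n x => rfl⟩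
        rw [mem_groupFusion_autGroup_iff _ _ hPS]
        exact ⟨n, fun x => rfl⟩
      have hsurj : Function.Surjective ν := by
        rintro ⟨α, hα⟩
        have hα' := hα
        rw [mem_groupFusion_autGroup_iff _ _ hPS] at hα'
        obtain ⟨g, hg⟩ := hα'
        refine ⟨⟨g, mem_normalizer_of_induces α g hg⟩, ?_⟩
        apply Subtype.ext
        apply MulEquiv.ext
        intro x
        apply Subtype.ext
        rw [hν, hg]
      have hmap := Cfsg.Agent.Lib.Helper6.pResidual_map_of_surjective (p := p) ν hsurj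
      rintro _ ⟨β, hβ, rfl⟩
      rw [← hmap] at hβ
      obtain ⟨n, hn, rfl⟩ := hβ
      have hnO : (n : G) ∈ Cfsg.pResidual p G :=
        Cfsg.Agent.Lib.Helper6.pResidual_map_le p (Subgroup.normalizer (P : Set G)).subtype ⟨n, hn, rfl⟩
      rw [mem_autGroup_iff _ hPT']
      exact ⟨hPT', fun x => hPT' ((ν n : MulAut P) x).2, n, hnO, fun x => hν n x⟩
  intro P
  exact ppowerIndex_unique p S.isPGroup' (Cfsg.groupFusionSystem (S : Subgroup G)) hhyp hTS E _ hE.1 hsat
    hE.2 hidx P

end Cfsg.Agent.S5139
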