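import Cfsg.Statements.S5140
import Cfsg.Agent.S5110
import Cfsg.Agent.S5114
import Cfsg.Agent.Lib.Helper9.PPR6

set_option autoImplicit false
open Cfsg

namespace Cfsg.Agent.S5140

open Cfsg.FusionSystem Cfsg.Agent.Lib.Helper9 Cfsg.Agent.H9PPR

/-- Let F be a saturated fusion system over a finite p-group S. Then F has a p'-residual subsystem: a saturated subsystem over S of index prime to p contained in every saturated subsystem over S of index prime to p. -/
theorem result {Ω : Type*} [Group Ω] {S : Subgroup Ω} [Finite S] (p : ℕ) [Fact p.Prime] (hS : IsPGroup p S) (F : Cfsg.FusionSystem S) (hF : F.IsSaturated p) : ∃ E : Cfsg.FusionSystem S, F.IsPPrimeResidual p E := by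
  have hEF : (resSys F p).IsSubsystemOf F := fun P => resSys_le F p P
  have hOpp : ∀ P : Subgroup Ω, F.IsCentric P →
      (Subgroup.closure {α : ↥(F.autGroup P) | ∃ k : ℕ, orderOf α = p ^ k}).map (F.autGroup P).subtype ≤
        (resSys F p).autGroup P := fun P hP => Opp_le_resSys F p hP
  obtain ⟨hidx, -, hcen⟩ := Cfsg.Agent.S5114.result p hS F hF (resSys F p) hEF hOpp
  have hsat : (resSys F p).IsSaturated p := by
    refine Cfsg.Agent.S5110.result p hS (resSys F p) {P | F.IsCentric P} (fun P hP => hP.1) ?_ ?_ ?_ ?_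
    · intro P hP Q hPQ
      obtain ⟨φ, hφ, hr⟩ := hPQ
      exact centric_of_isConj F ⟨φ, resSys_le F p P hφ, hr⟩ hP
    · intro P hP
      exact resSys_hsat p hS F hF hP
    · intro D hD
      exact resSys_gen F p D hD
    · intro P hP hnot
      exact absurd ((hcen P).mp hP) hnot
  refine ⟨resSys F p, hsat, hidx, ?_⟩
  intro D hDs hD
  have hDF : D ≤ F := fun P => hD.1 P
  have h := resSys_le_saturated p hS F hF D hDs hDF (fun P hP => hD.2 P hP.1)
  exact fun P => h P

end Cfsg.Agent.S5140
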