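import Cfsg.Statements.S5142
import Cfsg.Agent.S5110
import Cfsg.Agent.S5114
import Cfsg.Agent.Lib.Helper9.LN3

set_option autoImplicit false
open Cfsg

namespace Cfsg.Agent.S5142

open Cfsg.FusionSystem Cfsg.Agent.Lib.Helper9 Cfsg.Agent.H9PPR Cfsg.Agent.H9LN

/-- Let F be a saturated fusion system over a finite p-group S and E a normal subsystem of F over T. Then the p'-residual subsystem of E (the least saturated subsystem of E over T of index prime to p) is contained in every normal subsystem of F over T; together with its normality in F (the case of a weakly normal E) this makes it the least normal subsystem of F over T. -/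
theorem result {Ω : Type*} [Group Ω] {S : Subgroup Ω} [Finite S] (p : ℕ) [Fact p.Prime] (hS : IsPGroup p S) (F : Cfsg.FusionSystem S) (hF : F.IsSaturated p) {T : Subgroup Ω} (E : Cfsg.FusionSystem T) (hE : E.IsNormalIn F p) (D : Cfsg.FusionSystem T) (hD : E.IsPPrimeResidual p D) : ∀ D' : Cfsg.FusionSystem T, D'.IsNormalIn F p → D.IsSubsystemOf D' := by
  intro D' hD'
  have hsc : F.StronglyClosed T := hE.1.2.2.2.1
  have hTS : T ≤ S := hsc.1
  haveI : Finite T := fs_finite_of_le hTS
  have hT : IsPGroup p T := hS.to_le hTS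
  have hEs : E.IsSaturated p := hE.1.1
  have hres : resSys E p ≤ D' := resSys_le_normal p hS F hF E D' hE hD'
  have hEE : (resSys E p).IsSubsystemOf E := fun P => resSys_le E p P
  have hOpp : ∀ P : Subgroup Ω, E.IsCentric P →
      (Subgroup.closure {α : ↥(E.autGroup P) | ∃ k : ℕ, orderOf α = p ^ k}).map (E.autGroup P).subtype ≤
        (resSys E p).autGroup P := fun P hP => Opp_le_resSys E p hP
  obtain ⟨hidx, -, hcen⟩ := Cfsg.Agent.S5114.result p hT E hEs (resSys E p) hEE hOpp
  have hsat : (resSys E p).IsSaturated p := by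
    refine Cfsg.Agent.S5110.result p hT (resSys E p) {P | E.IsCentric P} (fun P hP => hP.1) ?_ ?_ ?_ ?_
    · intro P hP Q hPQ
      obtain ⟨φ, hφ, hr⟩ := hPQ
      exact centric_of_isConj E ⟨φ, resSys_le E p P hφ, hr⟩ hP
    · intro P hP
      exact resSys_hsat p hT E hEs hP
    · intro D₀ hD₀
      exact resSys_gen E p D₀ hD₀
    · intro P hP hnot
      exact absurd ((hcen P).mp hP) hnot
  have hDle := hD.2.2 (resSys E p) hsat hidx
  intro P φ hφ
  exact hres P (hDle P hφ)

end Cfsg.Agent.S5142
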