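import Mathlib
import Cfsg.Statements.S5148
import Cfsg.Agent.Lib.Helper9.Grun7
import Cfsg.Agent.Lib.Helper9.FusionAbelian2
import Cfsg.Agent.S5132
import Cfsg.Agent.S5315

set_option autoImplicit false
open Cfsg

namespace Cfsg.Agent.S5148

open Cfsg.Agent.Lib.Helper9 in
/-- A quasisimple fusion system over a finite p-group S (saturated, equal to its p-residual subsystem, with simple — in particular nontrivial — factor system modulo its centre) has S nonabelian. -/
theorem result {Ω : Type*} [Group Ω] {S : Subgroup Ω} [Finite S] (p : ℕ) [Fact p.Prime] (hS : IsPGroup p S) (F : Cfsg.FusionSystem S) (hq : F.Quasisimple p) : ¬ IsMulCommutative S := by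
  intro hcomm
  obtain ⟨hF, hperf, hsimple⟩ := hq
  have hZ : F.IsCentral F.center := Cfsg.Agent.S5144.result F
  have hZsc := stronglyClosed_of_isCentral F hZ
  obtain ⟨E, hE⟩ := Cfsg.Agent.S5132.result p hS F F.center hZsc
  obtain ⟨hEsat, hne, hnorm⟩ := hsimple E hE
  have hcen := Cfsg.Agent.S5315.result p hS F hF hperf E hE
  have hab' : ∀ x ∈ (⊤ : Subgroup (S ⧸ (F.center).subgroupOf S)), ∀ y ∈ (⊤ : Subgroup (S ⧸ (F.center).subgroupOf S)),
      x * y = y * x := by
    intro x _ y _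
    obtain ⟨a, rfl⟩ := QuotientGroup.mk_surjective x
    obtain ⟨b, rfl⟩ := QuotientGroup.mk_surjective y
    rw [← QuotientGroup.mk_mul, ← QuotientGroup.mk_mul, hcomm.is_comm.comm a b]
  have hS' : IsPGroup p (⊤ : Subgroup (S ⧸ (F.center).subgroupOf S)) :=
    (hS.to_quotient _).to_subgroup _
  have hext : ∀ (P : Subgroup (S ⧸ (F.center).subgroupOf S)), P ≤ ⊤ → ∀ (φ : P →* (S ⧸ (F.center).subgroupOf S)),
      φ ∈ E.Hom P → ∃ α ∈ E.autGroup ⊤, ∀ (x : P) (hx : (x : S ⧸ (F.center).subgroupOf S) ∈ (⊤ : Subgroup _)),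
        ((α ⟨x, hx⟩ : (⊤ : Subgroup (S ⧸ (F.center).subgroupOf S))) : S ⧸ (F.center).subgroupOf S) = φ x :=
    fun P _ φ hφ => fs_abelian_extend p hS' E hEsat hab' hφ
  have hN := inner_isNormalIn_of_abelian p hS' E hEsat hab' ⊤
    ⟨le_rfl, fun R _ φ _ x => Subgroup.mem_top _⟩ hext
  rcases hnorm ⊤ _ hN with h | ⟨-, h⟩
  · exact hne h
  · have hcT : E.IsCentral ⊤ := by
      refine ⟨le_rfl, fun P φ hφ => ?_⟩
      refine ⟨Subgroup.subtype _, fs_subtype_mem E le_top, fun x => ?_, fun x => rfl⟩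
      rw [← h P] at hφ
      rw [inner_abelian_apply hab' hφ x]
      rfl
    have hle : (⊤ : Subgroup (S ⧸ (F.center).subgroupOf S)) ≤ E.center := le_sSup hcT
    rw [hcen] at hle
    exact hne (eq_bot_iff.mpr hle)

end Cfsg.Agent.S5148
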