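import Cfsg.Statements.S5154
import Mathlib
import Cfsg.Agent.Lib.Helper9.Iso7

set_option autoImplicit false
open Cfsg

namespace Cfsg.Agent.S5154

open Cfsg.FusionSystem Cfsg.Agent.Lib.Helper9 Cfsg.Agent.H9Iso

variable {Ω : Type*} [Group Ω]

theorem step_aux {T U S : Subgroup Ω} {C : Cfsg.FusionSystem T} {D : Cfsg.FusionSystem U}
    {F : Cfsg.FusionSystem S} {p : ℕ} (hCD : C.IsSubnormalIn D p) (hDF : D.IsNormalIn F p)
    (ih : ∀ [Finite U] [Fact p.Prime] (_ : IsPGroup p U) (_ : D.IsSaturated p) (γ : T →* Ω)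
      (_ : γ ∈ D.Hom T) {T' : Subgroup Ω} (E : Cfsg.FusionSystem T') (_ : IsIso C γ E), E.IsSubnormalIn D p)
    [Finite S] [Fact p.Prime] (hS : IsPGroup p S) (γ : T →* Ω) (hγ : γ ∈ F.Hom T) {T' : Subgroup Ω}
    (E : Cfsg.FusionSystem T') (hE : IsIso C γ E) : E.IsSubnormalIn F p := by
  have hUS : U ≤ S := le_of_isSubsystemOf hDF.1.2.2.1
  have hTU : T ≤ U := le_of_subnormal' hCD
  haveI : Finite U := Finite.of_injective (Subgroup.inclusion hUS) (Subgroup.inclusion_injective hUS)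
  have hU : IsPGroup p U := hS.to_le hUS
  obtain ⟨α, hα, φ₀, hφ₀, H⟩ := hDF.1.2.2.2.2.2 T hTU γ hγ
  have hinj₀ : Function.Injective φ₀ := D.injective_of_mem hφ₀
  have hE₀ := pushSys_isIso C φ₀ hinj₀
  have h1 := ih hU hDF.1.1 φ₀ hφ₀ (pushSys C φ₀ hinj₀) hE₀
  have hDα : IsIso D (U.subtype.comp α.toMonoidHom) D :=
    iso_of_aut D (F.autGroup U) hDF.1.2.2.2.2.1 hα
  have hφ₀U : φ₀.range ≤ U := by
    rintro _ ⟨x, rfl⟩
    exact (D.le_of_mem hφ₀).2 x
  have hE' : IsIso (pushSys C φ₀ hinj₀) ((U.subtype.comp α.toMonoidHom).comp (Subgroup.inclusion hφ₀U)) E := by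
    refine hE₀.cancel hE _ (fun s => ?_)
    exact (H s _).symm
  have h2 := subnormal_push h1 hU hφ₀U hDα (fun a => rfl) hE'
  exact IsSubnormalIn.step h2 hDF

theorem main {T S : Subgroup Ω} {C : Cfsg.FusionSystem T} {F : Cfsg.FusionSystem S} {p : ℕ}
    (hC : C.IsSubnormalIn F p) :
    ∀ [Finite S] [Fact p.Prime] (_ : IsPGroup p S) (_ : F.IsSaturated p) (γ : T →* Ω)
      (_ : γ ∈ F.Hom T) {T' : Subgroup Ω} (E : Cfsg.FusionSystem T') (_ : IsIso C γ E),
      E.IsSubnormalIn F p := by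
  induction hC with
  | refl F p =>
    intro _ _ hS hF γ hγ T' E hE
    exact subnormal_of_iso_eq hE (iso_self_of_mem F hγ) p
  | step hCD hDF ih =>
    intro _ _ hS hF γ hγ T' E hE
    exact step_aux hCD hDF ih hS γ hγ E hE

/-- Let F be a saturated fusion system over a finite p-group S, C a component of F over T, and γ a map of F with source T. Then the image of C under γ — the fusion system over γ(T) whose maps are the homomorphisms induced along γ by the maps of C — is again a component of F. -/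
theorem result {Ω : Type*} [Group Ω] {S : Subgroup Ω} [Finite S] (p : ℕ) [Fact p.Prime] (hS : IsPGroup p S) (F : Cfsg.FusionSystem S) (hF : F.IsSaturated p) {T : Subgroup Ω} (C : Cfsg.FusionSystem T) (hC : C.IsComponentIn F p) (γ : T →* Ω) (hγ : γ ∈ F.Hom T) (E : Cfsg.FusionSystem γ.range) (hE : C.IsFactorSystem ⊥ γ E) : E.IsComponentIn F p := by
  obtain ⟨hsub, hq⟩ := hC
  have hTS : T ≤ S := le_of_subnormal' hsub
  haveI : Finite T := Finite.of_injective (Subgroup.inclusion hTS) (Subgroup.inclusion_injective hTS)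
  have hE' : IsIso C γ E := hE
  exact ⟨main hsub hS hF γ hγ E hE', hE'.quasisimple p (hS.to_le hTS) hq⟩

end Cfsg.Agent.S5154
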