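import Mathlib
import Cfsg.Statements.S5157
import Cfsg.Agent.Lib.Helper9.Solv4

set_option autoImplicit false
open Cfsg

namespace Cfsg.Agent.S5157

open Cfsg.FusionSystem Cfsg.Agent.Lib.Helper9

variable {Ω : Type*} [Group Ω] {S : Subgroup Ω}

/-- A series of strongly closed subgroups with abelian quotients makes the system solvable. -/
theorem solvable_of_chain [Finite S] (p : ℕ) [Fact p.Prime] (hS : IsPGroup p S)
    (F : Cfsg.FusionSystem S) (hF : F.IsSaturated p) (n : ℕ) (T : Fin (n + 1) → Subgroup Ω)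
    (h0 : T 0 = ⊥) (hn : T (Fin.last n) = S) (hsc : ∀ i, F.StronglyClosed (T i))
    (hab : ∀ i : Fin n, ⁅T i.succ, T i.succ⁆ ≤ T (Fin.castSucc i)) : F.IsSolvableSystem := by
  intro R hR hRS _ E hE
  by_contra hcore
  have hall : ∀ i : Fin (n + 1), T i ≤ R := by
    intro i
    induction i using Fin.induction with
    | zero => rw [h0]; exact bot_le
    | succ i ih =>
      by_contra hle
      exact (core_ne_bot_of_step p hS F hF hR (hsc i.succ) ih hle (hab i) _ E hE) hcore
  apply hRS
  apply le_antisymm hR.1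
  rw [← hn]
  exact hall _

/-- A saturated fusion system F over a finite p-group S is solvable (for every subgroup R other than S that is strongly closed in F, the factor system of F modulo R has a nontrivial subgroup normal in it) if and only if there is a chain 1 = S₀ ≤ S₁ ≤ ⋯ ≤ Sₘ = S of subgroups strongly closed in F with every quotient Sᵢ₊₁/Sᵢ abelian. -/
theorem result {Ω : Type*} [Group Ω] {S : Subgroup Ω} [Finite S] (p : ℕ) [Fact p.Prime] (hS : IsPGroup p S) (F : Cfsg.FusionSystem S) (hF : F.IsSaturated p) : F.IsSolvableSystem ↔ ∃ (n : ℕ) (T : Fin (n + 1) → Subgroup Ω), T 0 = ⊥ ∧ T (Fin.last n) = S ∧ Monotone T ∧ (∀ i, F.StronglyClosed (T i)) ∧ ∀ i : Fin n, ⁅T i.succ, T i.succ⁆ ≤ T (Fin.castSucc i) := by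
  constructor
  · intro hsolv
    obtain ⟨T, hT0, hTn, hmono, hsc, hab⟩ := exists_chain_of_solvable p hS F hF hsolv
    refine ⟨Nat.card S, fun i => T i, ?_, ?_, ?_, fun i => hsc i, ?_⟩
    · exact hT0
    · show T (Fin.last (Nat.card S) : ℕ) = S
      rw [Fin.val_last]
      exact hTn
    · have hm : Monotone T := monotone_nat_of_le_succ hmono
      intro i j hij
      exact hm hij
    · intro i
      show ⁅T (i.succ : ℕ), T (i.succ : ℕ)⁆ ≤ T ((Fin.castSucc i : Fin _) : ℕ)
      rw [Fin.val_succ, Fin.val_castSucc]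
      exact hab i
  · rintro ⟨n, T, h0, hn, -, hsc, hab⟩
    exact solvable_of_chain p hS F hF n T h0 hn hsc hab

end Cfsg.Agent.S5157
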