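import Mathlib
import Cfsg.Statements.S5159
import Cfsg.Agent.Lib.Helper9.Solv8

set_option autoImplicit false
open Cfsg

namespace Cfsg.Agent.S5159

open Cfsg.FusionSystem Cfsg.Agent.Lib.Helper9
open scoped commutatorElement

variable {Ω : Type*} [Group Ω] {S T : Subgroup Ω}
variable {Ω' : Type*} [Group Ω'] {S' : Subgroup Ω'}

theorem stronglyClosed_inf_of_subsystem (E : FusionSystem T) (F : FusionSystem S) (hEF : E.IsSubsystemOf F)
    {X : Subgroup Ω} (hX : F.StronglyClosed X) : E.StronglyClosed (X ⊓ T) :=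
  ⟨inf_le_right, fun R hR φ hφ x =>
    ⟨hX.2 R (hR.trans inf_le_left) φ (hEF _ hφ) x, (E.le_of_mem hφ).2 x⟩⟩

theorem commutator_inf_le {A B C : Subgroup Ω} (h : ⁅B, B⁆ ≤ A) : ⁅B ⊓ C, B ⊓ C⁆ ≤ A ⊓ C := by
  rw [Subgroup.commutator_le]
  intro a ha b hb
  refine ⟨h (Subgroup.commutator_mem_commutator ha.1 hb.1), ?_⟩
  exact Subgroup.mul_mem _ (Subgroup.mul_mem _ (Subgroup.mul_mem _ ha.2 hb.2) (Subgroup.inv_mem _ ha.2))
    (Subgroup.inv_mem _ hb.2)

theorem commutator_imageAlong_le (θ : S →* Ω') {A B : Subgroup Ω} (h : ⁅B, B⁆ ≤ A) :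
    ⁅imageAlong θ B, imageAlong θ B⁆ ≤ imageAlong θ A := by
  rw [Subgroup.commutator_le]
  intro a' ha' b' hb'
  rw [mem_imageAlong_iff] at ha' hb'
  obtain ⟨a, ha, rfl⟩ := ha'
  obtain ⟨b, hb, rfl⟩ := hb'
  rw [← map_commutatorElement]
  rw [mem_imageAlong_iff]
  refine ⟨⁅a, b⁆, ?_, rfl⟩
  apply h
  exact Subgroup.commutator_mem_commutator ha hb

theorem commutator_preimageAlong_le (θ : S →* Ω') {A' B' : Subgroup Ω'} (h : ⁅B', B'⁆ ≤ A') :
    ⁅preimageAlong θ B', preimageAlong θ B'⁆ ≤ preimageAlong θ A' := by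
  rw [Subgroup.commutator_le]
  intro a ha b hb
  rw [mem_preimageAlong_iff] at ha hb ⊢
  obtain ⟨haS, ha'⟩ := ha
  obtain ⟨hbS, hb'⟩ := hb
  have hS : ⁅a, b⁆ ∈ S :=
    Subgroup.mul_mem _ (Subgroup.mul_mem _ (Subgroup.mul_mem _ haS hbS) (Subgroup.inv_mem _ haS))
      (Subgroup.inv_mem _ hbS)
  refine ⟨hS, ?_⟩
  have h1 : (⟨⁅a, b⁆, hS⟩ : S) = ⁅(⟨a, haS⟩ : S), ⟨b, hbS⟩⁆ := Subtype.ext rfl
  rw [h1, map_commutatorElement]
  apply h
  exact Subgroup.commutator_mem_commutator ha' hb'

/-- Let F be a saturated fusion system over a finite p-group S, E a normal subsystem over T, and D the factor system of F modulo T (read through any homomorphism on S with kernel T). Then F is solvable if and only if E and D are solvable (solvable, for a system over a subgroup S: for every subgroup R other than S that is strongly closed in F, the factor system of F modulo R has a nontrivial subgroup normal in it). -/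
theorem result {Ω : Type*} [Group Ω] {S : Subgroup Ω} [Finite S] (p : ℕ) [Fact p.Prime] (hS : IsPGroup p S) (F : Cfsg.FusionSystem S) (hF : F.IsSaturated p) {T : Subgroup Ω} (E : Cfsg.FusionSystem T) (hE : E.IsNormalIn F p) {Ω' : Type*} [Group Ω'] {S' : Subgroup Ω'} (θ : S →* Ω') (D : Cfsg.FusionSystem S') (hD : F.IsFactorSystem T θ D) : F.IsSolvableSystem ↔ (E.IsSolvableSystem ∧ D.IsSolvableSystem) := by
  have hEsat : E.IsSaturated p := hE.1.1
  have hinv : E.IsInvariantIn F := hE.1.2.2
  have hTsc : F.StronglyClosed T := hinv.2.1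
  have hTS : T ≤ S := hTsc.1
  have hEF : E.IsSubsystemOf F := hinv.1
  haveI : Finite T := fs_finite_of_le hTS
  have hT : IsPGroup p T := hS.to_le hTS
  have hθ : F.IsSurjectiveMorphism D θ := Cfsg.Agent.S5134.result p hS F hF T hTsc θ D hD
  have hDsat : D.IsSaturated p := Cfsg.Agent.S5133.result p hS F hF D θ hθ
  obtain ⟨-, hker, hrange, -⟩ := hD
  haveI : Finite S' := finite_of_range_eq θ hrange
  have hS' : IsPGroup p S' := isPGroup_of_range_eq p hS θ hrange
  constructor
  · intro hsolv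
    obtain ⟨C, hC0, hCn, -, hCsc, hCab⟩ := exists_chain_of_solvable p hS F hF hsolv
    constructor
    · apply solvable_of_steps p hT E hEsat
      intro R hR hRT
      have h0 : (fun k => C k ⊓ T) 0 ≤ R := by
        show C 0 ⊓ T ≤ R
        rw [hC0, bot_inf_eq]; exact bot_le
      have hn : ¬ (fun k => C k ⊓ T) (Nat.card S) ≤ R := by
        show ¬ C (Nat.card S) ⊓ T ≤ R
        rw [hCn, inf_eq_right.mpr hTS]
        intro h
        exact hRT (le_antisymm hR.1 h)
      obtain ⟨k, hk1, hk2⟩ := exists_step_of_chain (fun k => C k ⊓ T) R (Nat.card S) h0 hn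
      exact ⟨C k ⊓ T, C (k + 1) ⊓ T, stronglyClosed_inf_of_subsystem E F hEF (hCsc _), hk1, hk2,
        commutator_inf_le (hCab k)⟩
    · apply solvable_of_steps p hS' D hDsat
      intro R hR hRS'
      have h0 : (fun k => imageAlong θ (C k)) 0 ≤ R := by
        show imageAlong θ (C 0) ≤ R
        rw [hC0]
        intro y hy
        rw [mem_imageAlong_iff] at hy
        obtain ⟨s, hs, rfl⟩ := hy
        rw [Subgroup.mem_bot] at hs
        have : s = 1 := Subtype.ext hs
        rw [this, map_one]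
        exact Subgroup.one_mem _
      have hn : ¬ (fun k => imageAlong θ (C k)) (Nat.card S) ≤ R := by
        show ¬ imageAlong θ (C (Nat.card S)) ≤ R
        rw [hCn]
        intro h
        apply hRS'
        apply le_antisymm hR.1
        intro y hy
        rw [← hrange] at hy
        obtain ⟨s, rfl⟩ := hy
        exact h ((mem_imageAlong_iff θ S _).mpr ⟨s, s.2, rfl⟩)
      obtain ⟨k, hk1, hk2⟩ := exists_step_of_chain (fun k => imageAlong θ (C k)) R (Nat.card S) h0 hn
      exact ⟨imageAlong θ (C k), imageAlong θ (C (k + 1)), stronglyClosed_imageAlong F D θ hθ (hCsc _),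
        hk1, hk2, commutator_imageAlong_le θ (hCab k)⟩
  · rintro ⟨hEsolv, hDsolv⟩
    obtain ⟨U, hU0, hUn, -, hUsc, hUab⟩ := exists_chain_of_solvable p hT E hEsat hEsolv
    obtain ⟨V, hV0, hVn, -, hVsc, hVab⟩ := exists_chain_of_solvable p hS' D hDsat hDsolv
    apply solvable_of_steps p hS F hF
    intro R hR hRS
    by_cases hTR : T ≤ R
    · have h0 : (fun k => preimageAlong θ (V k)) 0 ≤ R := by
        show preimageAlong θ (V 0) ≤ R
        rw [hV0]
        intro x hx
        rw [mem_preimageAlong_iff] at hx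
        obtain ⟨hxS, hx1⟩ := hx
        rw [Subgroup.mem_bot] at hx1
        exact hTR ((hker _).mp hx1)
      have hn : ¬ (fun k => preimageAlong θ (V k)) (Nat.card S') ≤ R := by
        show ¬ preimageAlong θ (V (Nat.card S')) ≤ R
        rw [hVn]
        intro h
        apply hRS
        apply le_antisymm hR.1
        intro x hx
        apply h
        rw [mem_preimageAlong_iff]
        refine ⟨hx, ?_⟩
        rw [← hrange]
        exact ⟨_, rfl⟩
      obtain ⟨k, hk1, hk2⟩ := exists_step_of_chain (fun k => preimageAlong θ (V k)) R (Nat.card S') h0 hn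
      exact ⟨preimageAlong θ (V k), preimageAlong θ (V (k + 1)),
        stronglyClosed_preimageAlong F D θ hθ.1 (hVsc _), hk1, hk2, commutator_preimageAlong_le θ (hVab k)⟩
    · have h0 : (fun k => invT F T (U k)) 0 ≤ R := by
        show invT F T (U 0) ≤ R
        rw [hU0, invT_bot]; exact bot_le
      have hn : ¬ (fun k => invT F T (U k)) (Nat.card T) ≤ R := by
        show ¬ invT F T (U (Nat.card T)) ≤ R
        rw [hUn, invT_self]
        exact hTR
      obtain ⟨k, hk1, hk2⟩ := exists_step_of_chain (fun k => invT F T (U k)) R (Nat.card T) h0 hn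
      exact ⟨invT F T (U k), invT F T (U (k + 1)), invT_stronglyClosed E F hinv (hUsc _), hk1, hk2,
        invT_commutator_le F (hUsc _).1 (hUab k)⟩

end Cfsg.Agent.S5159
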