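import Cfsg.Statements.S5165
import Cfsg.Agent.Lib.Helper9.AltFus24

set_option autoImplicit false
open Cfsg

namespace Cfsg.Agent.S5165

/-- For n ≥ 6, a prime p with p² ≤ n, and n congruent to 0 or 1 modulo p, the p-fusion system of the alternating group of degree n on a Sylow p-subgroup is simple. -/
theorem result (n p : ℕ) (hn : 6 ≤ n) [Fact p.Prime] (hnp : p ^ 2 ≤ n) (hb : n % p ≤ 1) (S : Sylow p (alternatingGroup (Fin n))) : (Cfsg.groupFusionSystem (S : Subgroup (alternatingGroup (Fin n)))).IsSimple p := by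
  have hp : p.Prime := Fact.out
  by_cases hp2 : p = 2
  · subst hp2
    have h1 := Cfsg.Agent.H9AF.alt_simple_two n (n / 2) (n % 2) (by omega) (by omega)
      (Nat.div_add_mod' n 2).symm S
    exact h1
  · have hpos : 0 < p := hp.pos
    have hk : p ≤ n / p := by
      rw [Nat.le_div_iff_mul_le hpos, ← sq]; exact hnp
    have hk' : 1 ≤ n / p / p := by
      rw [Nat.le_div_iff_mul_le hpos, one_mul]; exact hk
    have hn' : n = (n / p / p * p + n / p % p) * p + n % p := by
      rw [Nat.div_add_mod' (n / p) p, Nat.div_add_mod' n p]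
    exact Cfsg.Agent.H9AF.alt_simple_odd hp2 n (n / p / p) (n / p % p) (n % p) hk'
      (Nat.mod_lt _ hpos) hb hn' S

end Cfsg.Agent.S5165
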