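import Mathlib
import Cfsg.Statements.S5178
import Cfsg.Agent.Lib.Helper9.ExtraIdx5
import Cfsg.Agent.Lib.Helper9.C2b
import Cfsg.Agent.Lib.Helper9.FusionNormal3

set_option autoImplicit false
universe u
open Cfsg
open Cfsg.FusionSystem Cfsg.Agent.Lib.Helper9 Cfsg.Agent.Lib.Helper9.H9AbIdx Cfsg.Agent.Lib.Helper9.H9EI Cfsg.Agent.Lib.Helper9.H9C2

namespace Cfsg.Agent.S5178

/-- Let p be an odd prime, S a finite p-group containing an extraspecial subgroup Q of index p, and F a saturated fusion system over S whose largest subgroup normal in F is trivial. Then the centre of S equals the centre of Q. -/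
theorem result {Ω : Type u} [Group Ω] {S : Subgroup Ω} [Finite S] (p : ℕ) [Fact p.Prime] (hp : Odd p) (hS : IsPGroup p S)
    (Q : Subgroup Ω) (hQS : Q ≤ S) (hQ : Cfsg.IsExtraspecial p ↥Q) (hQi : (Q.subgroupOf S).index = p)
    (F : Cfsg.FusionSystem S) (hF : F.IsSaturated p) (hO : F.core = ⊥) :
    S ⊓ Subgroup.centralizer (S : Set Ω) = Q ⊓ Subgroup.centralizer (Q : Set Ω) := by
  have C : EI p S Q := ⟨hS, hQS, hQ, hQi⟩
  show ZS S = ZS Q
  by_contra hne
  obtain ⟨w, hwZ, hwQ⟩ : ∃ w ∈ ZS S, w ∉ Q := by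
    by_contra hcon
    push Not at hcon
    apply hne
    apply le_antisymm
    · intro z hz
      rw [mem_ZS_iff]
      exact ⟨hcon z hz, fun q hq => (mem_ZS_iff.mp hz).2 q (hQS hq)⟩
    · exact C.ZS_le_ZS
  have hp2 : p ≠ 2 := by
    rintro rfl
    exact absurd hp (by decide)
  obtain ⟨a₀, ha₀, b₀, hb₀, hab₀⟩ := C.hna
  have hnaS : ∃ s ∈ S, ∃ t ∈ S, s * t ≠ t * s := ⟨a₀, hQS ha₀, b₀, hQS hb₀, hab₀⟩
  have hcomm : ∀ s ∈ S, ∀ x ∈ S, x⁻¹ * (s * x * s⁻¹) ∈ ZS Q := fun s hs x hx =>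
    C.comm_mem_of_central hwZ hwQ hs hx
  have hcomm' : ∀ s ∈ S, ∀ t ∈ S, s * t * s⁻¹ * t⁻¹ ∈ ZS Q := by
    intro s hs t ht
    have hc := hcomm s hs t ht
    have h3 := C.conj_ZS' ht hc
    have h4 : s * t * s⁻¹ * t⁻¹ = t * (t⁻¹ * (s * t * s⁻¹)) * t⁻¹ := by group
    rw [h4, h3]
    exact hc
  have hnoess : ∀ E : Subgroup Ω, ¬ F.IsEssential p E := by
    intro E hE
    have hES := ess_le F hE
    have hZE : ZS Q ≤ E := (C.ZS_le_ZS).trans (ess_ZS_le F hE)
    rcases ess_dichotomy p hS F hF hE (ZS Q) hZE C.card_ZS S hES (le_refl S)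
      (fun d hd z hz => C.conj_ZS' hd hz) (fun d hd e he => hcomm d hd e (hES he))
      with h | ⟨hab, hidx⟩
    · exact ess_ne p hS F hF hE (le_antisymm hES h)
    · have C' : Ctx p S E := ⟨hS, hES, hab, hidx, hnaS⟩
      have h3 := Cfsg.Agent.Lib.Helper9.H9EI.Ctx.relIndex_ZS C' (ZS Q) C.card_ZS
        (fun s hs z hz => C.conj_ZS' hs hz) hcomm'
      have D : C2 p S := ⟨hS, hnaS, h3⟩
      have h4 := D.card_ZS_odd F hF hp2 hO
      haveI : Finite (ZS S) := fs_finite_of_le (ZS_le S)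
      apply hne
      exact (Subgroup.eq_of_le_of_card_ge C.ZS_le_ZS (by rw [h4, C.card_ZS])).symm
  have hnorm : F.IsNormal S := by
    rw [fs_isNormal_iff_essential_invariant p hS F hF]
    intro P hP
    rcases hP with rfl | hP
    · refine ⟨le_refl _, fun α _ => ?_⟩
      rw [Subgroup.subgroupOf_self]
      exact Subgroup.map_top_of_surjective _ α.surjective
    · exact absurd hP (hnoess P)
  have h3 : S ≤ F.core := le_sSup hnorm
  rw [hO] at h3
  have h4 := h3 (hQS ha₀)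
  have h5 := h3 (hQS hb₀)
  rw [Subgroup.mem_bot] at h4 h5
  apply hab₀
  rw [h4, h5]


end Cfsg.Agent.S5178
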