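import Mathlib
import Cfsg.Statements.S5179
import Cfsg.Agent.Lib.Helper9.ExtraIdx4

set_option autoImplicit false
universe u
open Cfsg
open Cfsg.FusionSystem Cfsg.Agent.Lib.Helper9 Cfsg.Agent.Lib.Helper9.H9AbIdx Cfsg.Agent.Lib.Helper9.H9EI

namespace Cfsg.Agent.S5179

/-- Let p be an odd prime, S a finite p-group of order at least p⁶ containing an extraspecial subgroup Q of index p, and F a saturated fusion system over S whose largest subgroup normal in F is trivial. Then no proper subgroup of Q is essential in F: an essential subgroup of F contained in Q equals Q. -/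
theorem result {Ω : Type u} [Group Ω] {S : Subgroup Ω} [Finite S] (p : ℕ) [Fact p.Prime] (hp : Odd p) (hS : IsPGroup p S)
    (Q : Subgroup Ω) (hQS : Q ≤ S) (hQ : Cfsg.IsExtraspecial p ↥Q) (hQi : (Q.subgroupOf S).index = p)
    (h6 : p ^ 6 ≤ Nat.card S)
    (F : Cfsg.FusionSystem S) (hF : F.IsSaturated p) (hO : F.core = ⊥)
    (E : Subgroup Ω) (hEQ : E ≤ Q) (hE : F.IsEssential p E) : E = Q := by
  have C : EI p S Q := ⟨hS, hQS, hQ, hQi⟩
  have hZE : ZS Q ≤ E := (C.ZS_le_ZS).trans (ess_ZS_le F hE)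
  rcases ess_dichotomy p hS F hF hE (ZS Q) hZE C.card_ZS Q hEQ hQS
    (fun d hd z hz => C.conj_ZS hd hz) (fun d hd e he => by
      have h := C.comm_mem (Q.inv_mem (hEQ he)) hd
      have h3 : e⁻¹ * (d * e * d⁻¹) = e⁻¹ * d * e⁻¹⁻¹ * d⁻¹ := by group
      rw [h3]; exact h) with h | ⟨hab, hidx⟩
  · exact le_antisymm hEQ h
  · exfalso
    have C' : Ctx p Q E := ⟨hS.to_le hQS, hEQ, hab, hidx, C.hna⟩
    haveI : Finite Q := fs_finite_of_le hQS
    have h3 := Cfsg.Agent.Lib.Helper9.H9EI.Ctx.relIndex_ZS C' (ZS Q) C.card_ZS (fun s hs z hz => C.conj_ZS hs hz)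
      (fun s hs t ht => C.comm_mem hs ht)
    have h4 : Nat.card Q = p ^ 3 := by
      have h5 := Subgroup.card_mul_index ((ZS Q).subgroupOf Q)
      rw [Nat.card_congr (Subgroup.subgroupOfEquivOfLe (ZS_le Q)).toEquiv, C.card_ZS] at h5
      have h6 : ((ZS Q).subgroupOf Q).index = p ^ 2 := h3
      rw [h6] at h5
      rw [← h5]; ring
    have h5 := C.card_S
    rw [h4] at h5
    rw [h5] at h6
    have hp1 := (Fact.out : p.Prime).one_lt
    have h7 : p ^ 3 * p = p ^ 4 := by ring
    rw [h7] at h6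
    have h8 : p ^ 4 < p ^ 6 := Nat.pow_lt_pow_right hp1 (by norm_num)
    omega


end Cfsg.Agent.S5179
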