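import Mathlib
import Cfsg.Statements.S5186
import Cfsg.Agent.Lib.Helper9.P3Class3

set_option autoImplicit false
universe u
open Cfsg
open Cfsg.Agent

namespace Cfsg.Agent.S5186

/-- Let F be a saturated fusion system over a finite p-group S and H an essential subgroup of order p³. Then H is elementary abelian, or p is odd and H is extraspecial of exponent p, or p = 2 and H is the quaternion group of order 8. -/
theorem result {Ω : Type u} [Group Ω] {S : Subgroup Ω} [Finite S] (p : ℕ) [Fact p.Prime] (hS : IsPGroup p S)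
    (F : Cfsg.FusionSystem S) (hF : F.IsSaturated p) (H : Subgroup Ω) (hH : F.IsEssential p H) (hcard : Nat.card H = p ^ 3) :
    Cfsg.IsElementaryAbelian p H ∨ (Odd p ∧ Cfsg.IsExtraspecial p ↥H ∧ ∀ x ∈ H, x ^ p = 1) ∨
      (p = 2 ∧ Nonempty (↥H ≃* QuaternionGroup 2)) := by
  obtain ⟨_, _, hN, E, hE⟩ := hH
  have hpp : p.Prime := Fact.out
  haveI : Finite H := Nat.finite_of_card_ne_zero (by rw [hcard]; exact pow_ne_zero _ hpp.ne_zero)
  rcases H9P3.aut_p3 p hcard (F.autGroup H) hN E hE with ⟨hc, he⟩ | ⟨hodd, hex, he⟩ | ⟨h2, hq⟩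
  · left
    refine ⟨⟨⟨hc⟩⟩, ?_⟩
    intro a ha
    exact congrArg Subtype.val (he ⟨a, ha⟩)
  · right; left
    refine ⟨hodd, hex, ?_⟩
    intro a ha
    exact congrArg Subtype.val (he ⟨a, ha⟩)
  · right; right
    exact ⟨h2, hq⟩


end Cfsg.Agent.S5186
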