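import Cfsg.Statements.S5191
import Mathlib
import Cfsg.Agent.Lib.Helper9.SylowAux

set_option autoImplicit false
open Cfsg Cfsg.Agent.Lib.Helper9

namespace Cfsg.Agent.S5191

theorem result {G : Type*} [Group G] [Finite G] {p : ℕ} [Fact p.Prime]
    [hN : (Cfsg.pPrimeCore p G).Normal] (S : Sylow p G) (P : Subgroup G) (hP : P ≤ (S : Subgroup G))
    (γ : G ⧸ Cfsg.pPrimeCore p G)
    (hγ : ∀ x ∈ P, γ * QuotientGroup.mk x * γ⁻¹ ∈ ((S : Subgroup G).map (QuotientGroup.mk' (Cfsg.pPrimeCore p G)))) :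
    ∃ g : G, ∀ x ∈ P, g * x * g⁻¹ ∈ S ∧
      (QuotientGroup.mk (g * x * g⁻¹) : G ⧸ Cfsg.pPrimeCore p G) = γ * QuotientGroup.mk x * γ⁻¹ := by
  obtain ⟨h, rfl⟩ := QuotientGroup.mk_surjective γ
  have hRp : IsPGroup p (P.map (MulAut.conj h).toMonoidHom) := (S.isPGroup'.to_le hP).map _
  have hRK : P.map (MulAut.conj h).toMonoidHom ≤ (S : Subgroup G) ⊔ Cfsg.pPrimeCore p G := by
    rintro _ ⟨x, hx, rfl⟩
    obtain ⟨s, hs, hsx⟩ := hγ x hx
    have h1 : (QuotientGroup.mk s : G ⧸ Cfsg.pPrimeCore p G) = QuotientGroup.mk (h * x * h⁻¹) := by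
      rw [QuotientGroup.mk_mul, QuotientGroup.mk_mul, QuotientGroup.mk_inv]
      exact hsx
    have h2 : s⁻¹ * (h * x * h⁻¹) ∈ Cfsg.pPrimeCore p G := QuotientGroup.eq.mp h1
    have h3 : h * x * h⁻¹ = s * (s⁻¹ * (h * x * h⁻¹)) := by group
    show h * x * h⁻¹ ∈ _
    rw [h3]
    exact Subgroup.mul_mem_sup hs h2
  obtain ⟨k, hk, hkS⟩ := exists_conj_mem_sylow_of_le S _ le_sup_left _ hRp hRK
  obtain ⟨s, hs, n, hn, rfl⟩ := Subgroup.mem_sup_of_normal_right.mp hk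
  refine ⟨n * h, fun x hx => ⟨?_, ?_⟩⟩
  · have h1 := hkS (h * x * h⁻¹) ⟨x, hx, rfl⟩
    have h2 : n * h * x * (n * h)⁻¹ = s⁻¹ * (s * n * (h * x * h⁻¹) * (s * n)⁻¹) * s := by group
    rw [h2]
    exact (S : Subgroup G).mul_mem ((S : Subgroup G).mul_mem ((S : Subgroup G).inv_mem hs) h1) hs
  · have hn1 : (QuotientGroup.mk n : G ⧸ Cfsg.pPrimeCore p G) = 1 :=
      (QuotientGroup.eq_one_iff n).mpr hn
    simp only [QuotientGroup.mk_mul, QuotientGroup.mk_inv, hn1, one_mul]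

end Cfsg.Agent.S5191
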