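import Mathlib
import Cfsg.Statements.S5198
import Cfsg.Agent.Lib.Helper9.FusionLiftRes
import Cfsg.Agent.Lib.Helper9.FusionRestrict
import Cfsg.Agent.Lib.Helper9.FusionInvariant2

set_option autoImplicit false
open Cfsg

namespace Cfsg.Agent.S5198

open Cfsg.Agent.Lib.Helper9 Cfsg.Agent.Lib.Helper6 Cfsg.FusionSystem

variable {Ω : Type*} [Group Ω] {S : Subgroup Ω}

/-- the generator case -/
theorem gen_case [Finite S] (p : ℕ) [Fact p.Prime] (hS : IsPGroup p S) (F : FusionSystem S)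
    (hF : F.IsSaturated p) (T : Subgroup Ω) (hT : F.StronglyClosed T) {P : Subgroup Ω} (hPS : P ≤ S)
    (a : F.autGroup P) (ha : a ∈ pResidual p (F.autGroup P)) (x : P) :
    ∃ α ∈ ((pResidual p ↥(F.autGroup T)).map (F.autGroup T).subtype ⊔ Inn ↥T : Subgroup (MulAut ↥T)),
      ∀ t : ↥T, ((α t : ↥T) : Ω) =
        ((x : Ω)⁻¹ * (((a : MulAut P) x : P) : Ω)) * (t : Ω) * ((x : Ω)⁻¹ * (((a : MulAut P) x : P) : Ω))⁻¹ := by
  obtain ⟨U, hPU, hTU, hUS, a', ha', Ha'⟩ := fs_exists_pResidual_lift p hS F hF T hT hPS a ha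
  obtain ⟨c, hc, Hc⟩ := exists_conj_aut F hT (hPS x.2)
  have hρ : restrictAut F hT hTU hUS a' ∈ pResidual p (F.autGroup T) :=
    pResidual_map_le p (restrictAut F hT hTU hUS) ⟨a', ha', rfl⟩
  have Hρ := restrictAut_spec F hT hTU hUS a'
  obtain ⟨ρ, hρdef⟩ : ∃ ρ : F.autGroup T, ρ = restrictAut F hT hTU hUS a' := ⟨_, rfl⟩
  rw [← hρdef] at hρ Hρ
  obtain ⟨u, hudef⟩ : ∃ u : Ω, u = (((a' : MulAut U) ⟨x, hPU x.2⟩ : U) : Ω) := ⟨_, rfl⟩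
  have hτ : ((((a : MulAut P) x : P) : Ω))⁻¹ * u ∈ T := by rw [hudef]; exact Ha' x
  have hτ' : u⁻¹ * (((a : MulAut P) x : P) : Ω) ∈ T := by
    have := T.inv_mem hτ
    rwa [mul_inv_rev, inv_inv] at this
  have hnormal : (pResidual p (F.autGroup T)).Normal := inferInstance
  have hmem1 : (⟨c, hc⟩ : F.autGroup T)⁻¹ * ρ * ⟨c, hc⟩ * ρ⁻¹ ∈ pResidual p (F.autGroup T) := by
    apply Subgroup.mul_mem _ _ (Subgroup.inv_mem _ hρ)
    have := hnormal.conj_mem ρ hρ (⟨c, hc⟩ : F.autGroup T)⁻¹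
    rwa [inv_inv] at this
  -- the pointwise formula for the commutator
  have key : ∀ s : T, (((((⟨c, hc⟩ : F.autGroup T)⁻¹ * ρ * ⟨c, hc⟩ * ρ⁻¹ : F.autGroup T) : MulAut T) s : T) : Ω)
      = (x : Ω)⁻¹ * u * s * u⁻¹ * x := by
    intro s
    obtain ⟨s₁, hs₁⟩ : ∃ s₁ : T, s₁ = (ρ : MulAut T)⁻¹ s := ⟨_, rfl⟩
    have hρs₁ : (ρ : MulAut T) s₁ = s := by rw [hs₁, MulAut.apply_inv_self]
    have e1 : ((s : T) : Ω) = (((a' : MulAut U) ⟨s₁, hTU s₁.2⟩ : U) : Ω) := by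
      rw [← hρs₁]; exact Hρ s₁
    obtain ⟨s₂, hs₂⟩ : ∃ s₂ : T, s₂ = c s₁ := ⟨_, rfl⟩
    have e2 : (s₂ : Ω) = x * s₁ * (x : Ω)⁻¹ := by rw [hs₂]; exact Hc s₁
    obtain ⟨s₃, hs₃⟩ : ∃ s₃ : T, s₃ = (ρ : MulAut T) s₂ := ⟨_, rfl⟩
    have e3 : (s₃ : Ω) = u * s * u⁻¹ := by
      rw [hs₃, Hρ s₂, hudef, e1]
      have : (⟨(s₂ : Ω), hTU s₂.2⟩ : U) = ⟨x, hPU x.2⟩ * ⟨s₁, hTU s₁.2⟩ * (⟨x, hPU x.2⟩ : U)⁻¹ :=
        Subtype.ext e2
      rw [this, map_mul, map_mul, map_inv]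
      rfl
    obtain ⟨s₄, hs₄⟩ : ∃ s₄ : T, s₄ = c⁻¹ s₃ := ⟨_, rfl⟩
    have e4 : (s₄ : Ω) = (x : Ω)⁻¹ * s₃ * x := by
      have h1 : c s₄ = s₃ := by rw [hs₄, MulAut.apply_inv_self]
      have h2 := Hc s₄
      rw [h1] at h2
      rw [h2]
      group
    have hall : (((⟨c, hc⟩ : F.autGroup T)⁻¹ * ρ * ⟨c, hc⟩ * ρ⁻¹ : F.autGroup T) : MulAut T) s = s₄ := by
      rw [hs₄, hs₃, hs₂, hs₁]
      rfl
    rw [hall, e4, e3]
    group
  obtain ⟨τ, hτdef⟩ : ∃ τ : T, τ = ⟨u⁻¹ * (((a : MulAut P) x : P) : Ω), hτ'⟩ := ⟨_, rfl⟩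
  refine ⟨(((⟨c, hc⟩ : F.autGroup T)⁻¹ * ρ * ⟨c, hc⟩ * ρ⁻¹ : F.autGroup T) : MulAut T) * MulAut.conj τ,
    Subgroup.mul_mem _ (Subgroup.mem_sup_left ⟨_, hmem1, rfl⟩) (Subgroup.mem_sup_right ⟨τ, rfl⟩), ?_⟩
  intro t
  rw [MulAut.mul_apply, key, MulAut.conj_apply]
  rw [hτdef]
  show (x : Ω)⁻¹ * u * ((u⁻¹ * (((a : MulAut P) x : P) : Ω)) * t * (u⁻¹ * (((a : MulAut P) x : P) : Ω))⁻¹) * u⁻¹ * x = _
  group

/-- Let F be a saturated fusion system over a finite p-group S and T a subgroup of S strongly closed in F (so T is normal in S). Then every element x of the hyperfocal subgroup of F acts on T by conjugation as an element of O^p(Aut_F(T))·Inn(T): there is an automorphism of T in the subgroup generated by the elements of Aut_F(T) of order prime to p together with the inner automorphisms of T that agrees with conjugation by x. -/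
theorem result {Ω : Type*} [Group Ω] {S : Subgroup Ω} [Finite S] (p : ℕ) [Fact p.Prime] (hS : IsPGroup p S) (F : Cfsg.FusionSystem S) (hF : F.IsSaturated p) (T : Subgroup Ω) (hT : F.StronglyClosed T) : ∀ x ∈ F.hyperfocalSubgroup p, ∃ α ∈ ((Cfsg.pResidual p ↥(F.autGroup T)).map (F.autGroup T).subtype ⊔ Cfsg.Inn ↥T : Subgroup (MulAut ↥T)), ∀ t : ↥T, ((α t : ↥T) : Ω) = x * (t : Ω) * x⁻¹ := by
  intro x hx
  unfold FusionSystem.hyperfocalSubgroup at hx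
  induction hx using Subgroup.closure_induction with
  | mem y hy =>
    obtain ⟨P, a, x, hPS, ha, rfl⟩ := hy
    exact gen_case p hS F hF T hT hPS a ha x
  | one =>
    refine ⟨1, Subgroup.one_mem _, fun t => ?_⟩
    simp
  | mul a b _ _ iha ihb =>
    obtain ⟨αa, hαa, Ha⟩ := iha
    obtain ⟨αb, hαb, Hb⟩ := ihb
    refine ⟨αa * αb, Subgroup.mul_mem _ hαa hαb, fun t => ?_⟩
    rw [MulAut.mul_apply, Ha, Hb]
    group
  | inv a _ iha =>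
    obtain ⟨αa, hαa, Ha⟩ := iha
    refine ⟨αa⁻¹, Subgroup.inv_mem _ hαa, fun t => ?_⟩
    have h1 := Ha (αa⁻¹ t)
    rw [MulAut.apply_inv_self] at h1
    rw [h1]
    group

end Cfsg.Agent.S5198
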