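import Cfsg.Statements.S5212
import Cfsg.Agent.S5235
import Cfsg.Agent.S5083
import Cfsg.Agent.Lib.Helper9.SparseModel2

set_option autoImplicit false
open Cfsg

namespace Cfsg.Agent.S5212

/-- Let S be a finite metacyclic 2-group that is not homocyclic abelian (a direct product of cyclic groups of one common order), not dihedral, not semidihedral and not generalized quaternion. Then every saturated fusion system over S is the inner fusion system of S. -/
theorem result {Ω : Type*} [Group Ω] {S : Subgroup Ω} [Finite S] (hS : IsPGroup 2 S) (F : Cfsg.FusionSystem S) (hF : F.IsSaturated 2) (hm : Cfsg.IsMetacyclic ↥S) (hh : ¬ ∃ n k : ℕ, Nonempty (↥S ≃* Multiplicative (Fin k → ZMod (2 ^ n)))) (hd : ¬ ∃ m : ℕ, Nonempty (↥S ≃* DihedralGroup m)) (hq : ¬ ∃ m : ℕ, Nonempty (↥S ≃* QuaternionGroup m)) (hsd : ¬ Cfsg.IsQuasiDihedral ↥S) : ∀ P : Subgroup Ω, F.Hom P = (Cfsg.innerFusionSystem S).Hom P := by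
  classical
  haveI : Fact (Nat.Prime 2) := ⟨Nat.prime_two⟩
  -- `S` is strongly closed, hence normal in the system
  have hSC : F.StronglyClosed S :=
    ⟨le_rfl, fun R _ φ hφ x => (F.le_of_mem hφ).2 x⟩
  have hnorm : F.IsNormal S := Cfsg.Agent.S5235.result 2 hS F hF S hSC rfl hm hd hq hsd
  -- `Aut(S)` is a `2`-group
  have hAutS : IsPGroup 2 (MulAut ↥S) := by
    by_contra hA
    rcases Cfsg.Agent.Lib.Helper4.MetaTwo.main hS hm hA with h | ⟨n, ⟨e⟩⟩
    · exact hq ⟨2, h⟩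
    · apply hh
      refine ⟨n, 2, ⟨e.trans ?_⟩⟩
      exact (MulEquiv.prodMultiplicative (ZMod (2 ^ n)) (ZMod (2 ^ n))).symm.trans
        (AddEquiv.toMultiplicative (LinearEquiv.finTwoArrow ℤ (ZMod (2 ^ n))).symm.toAddEquiv)
  have hAutF : IsPGroup 2 (F.autGroup S) := hAutS.to_subgroup _
  obtain ⟨-, hSa⟩ := Cfsg.Agent.Lib.Helper9.fs_sylow_axiom 2 hS F hF
    (Cfsg.Agent.S5083.top_fullyNormalized F)
  have hle := Cfsg.Agent.Lib.Helper9.fs_autGroup_le_autInducedBy_of_isPGroup 2 F hSa hAutF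
  intro P
  apply Set.Subset.antisymm _ (Cfsg.Agent.Lib.Helper9.inner_le F P)
  intro φ hφ
  have hPS : P ≤ S := (F.le_of_mem hφ).1
  obtain ⟨ψ, hψF, hψφ, -⟩ := hnorm.2 P φ hφ
  have hψ' := Cfsg.Agent.Lib.Helper9.fs_restrict_mem F hψF (le_sup_right : S ≤ P ⊔ S)
  obtain ⟨α, hα, Hα⟩ := Cfsg.Agent.Lib.Helper9.fs_hom_to_aut F hψ'
    (fun y => (F.le_of_mem hψ').2 y)
  have hα' := hle hα
  rw [Cfsg.Agent.Lib.Helper9.mem_autInducedBy_iff] at hα'
  obtain ⟨g, hg, Hg⟩ := hα'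
  refine ⟨hPS, g, hg, fun x => ?_⟩
  have h1 := Hα ⟨x, hPS x.2⟩
  rw [Hg] at h1
  rw [← hψφ x]
  exact h1.symm

end Cfsg.Agent.S5212
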