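import Mathlib
import Cfsg.Statements.S5301
import Cfsg.Agent.Lib.Helper9.FusionNormal3

set_option autoImplicit false
universe u
open Cfsg

namespace Cfsg.Agent.S5301

open Cfsg.FusionSystem Cfsg.Agent.Lib.Helper9

/-- Let F be a saturated fusion system over a finite p-group S. If for every subgroup P of S that is fully normalized, centric and radical in F the automorphism group that F induces on P has a normal Sylow p-subgroup, then S is normal in F. -/
theorem result {Ω : Type u} [Group Ω] {S : Subgroup Ω} [Finite S] (p : ℕ) [Fact p.Prime] (hS : IsPGroup p S)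
    (F : Cfsg.FusionSystem S) (hF : F.IsSaturated p)
    (hcl : ∀ P : Subgroup Ω, F.IsFullyNormalized P → F.IsCentric P → F.IsRadical p P →
      ∃ R : Sylow p ↥(F.autGroup P), (R : Subgroup ↥(F.autGroup P)).Normal) :
    F.IsNormal S := by
  apply fs_isNormal_of_essential_invariant p hS F hF S
  intro P hP
  rcases hP with rfl | hess
  · refine ⟨le_rfl, fun α _ => ?_⟩
    rw [Subgroup.subgroupOf_self]
    exact Subgroup.map_top_of_surjective _ α.surjective
  · exfalso
    have hrad := Cfsg.Agent.S5080.result p hS F hF P hess
    obtain ⟨hc, hn, hInorm, E', hE'⟩ := hess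
    have hPS : P ≤ S := hc.1
    haveI : Finite P := fs_finite_of_le hPS
    obtain ⟨R, hRn⟩ := hcl P hn hc hrad
    have hRcore : (R : Subgroup (F.autGroup P)) ≤ Cfsg.pCore p (F.autGroup P) :=
      le_pCore hRn R.isPGroup'
    have hRI : (R : Subgroup (F.autGroup P)) ≤ (Inn P).subgroupOf (F.autGroup P) := by
      intro x hx
      rw [Subgroup.mem_subgroupOf, ← hrad.2]
      exact ⟨x, hRcore hx, rfl⟩
    have h1 : p ∣ ((Inn P).subgroupOf (F.autGroup P)).index := by
      rw [Subgroup.index_eq_card]
      exact hE'.1
    have h2 := h1.trans (Subgroup.index_dvd_of_le hRI)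
    exact R.not_dvd_index h2

end Cfsg.Agent.S5301
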