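import Cfsg.Statements.S5214
import Mathlib
import Cfsg.Agent.S5301
import Cfsg.Agent.Lib.Helper9.FusionSat2
import Cfsg.Agent.Lib.Helper9.SZ13

set_option autoImplicit false
open Cfsg

namespace Cfsg.Agent.S5214

/-- Let S be a Suzuki 2-group (a finite nonabelian 2-group with more than one involution admitting a cyclic group of automorphisms permuting its involutions regularly). Then S is normal in every saturated fusion system over S (such a group is resistant). -/
theorem result {Ω : Type*} [Group Ω] {S : Subgroup Ω} [Finite S] (hS : IsPGroup 2 S) (F : Cfsg.FusionSystem S) (hF : F.IsSaturated 2) (hsz : Cfsg.IsSuzukiTwoGroup ↥S) : F.IsNormal S := by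
  classical
  haveI : Fact (Nat.Prime 2) := ⟨Nat.prime_two⟩
  obtain ⟨hfin, htwo, ⟨x₀, y₀, hxy⟩, hmany, K, hK, hreg⟩ := hsz
  have hR : Cfsg.Agent.Lib.Helper3.Hig.Reg K.subtype := by
    refine ⟨?_, hfin, htwo, hmany, hreg⟩
    letI := IsCyclic.commGroup (α := ↥K)
    exact fun a b => mul_comm a b
  have hna : ∃ x y : ↥S, x * y ≠ y * x := ⟨x₀, y₀, hxy⟩
  -- the three facts on `S`
  have E2 : ∀ a ∈ S, ∀ b ∈ S, (a * b * a⁻¹ * b⁻¹) * (a * b * a⁻¹ * b⁻¹) = 1 := by
    intro a ha b hb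
    have := Cfsg.Agent.H9SZ.comm_mem_Zs_of_nonabelian hR hna ⟨a, ha⟩ ⟨b, hb⟩
    have h3 := congrArg Subtype.val (hR.mem_Zs.mp this)
    simpa [commutatorElement_def] using h3
  have E3 : ∀ z ∈ S, z * z = 1 → ∀ s ∈ S, s * z = z * s := by
    intro z hz hzz s hs
    have hc : (⟨z, hz⟩ : ↥S) ∈ Subgroup.center ↥S := hR.central (Subtype.ext hzz)
    have := Subgroup.mem_center_iff.mp hc ⟨s, hs⟩
    exact congrArg Subtype.val this
  apply Cfsg.Agent.S5301.result 2 hS F hF
  intro P hPn hPc hPr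
  have hPS : P ≤ S := hPn.1
  obtain ⟨R, hRe⟩ := (Cfsg.Agent.Lib.Helper9.fs_sylow_axiom 2 hS F hF hPn).2.2
  refine ⟨R, ?_⟩
  -- the stabilizer of the chain `1 ≤ Ω₁(P) ≤ P`
  have Zmul : ∀ a b : ↥P, a * a = 1 → b * b = 1 → (a * b) * (a * b) = 1 := by
    intro a b ha hb
    have hc := E3 a (hPS a.2) (congrArg Subtype.val ha) b (hPS b.2)
    have hc' : b * a = a * b := Subtype.ext hc
    calc (a * b) * (a * b) = a * (b * a) * b := by group
      _ = a * (a * b) * b := by rw [hc']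
      _ = (a * a) * (b * b) := by group
      _ = 1 := by rw [ha, hb, one_mul]
  have Zinv : ∀ a : ↥P, a * a = 1 → a⁻¹ * a⁻¹ = 1 := by
    intro a ha
    have : a⁻¹ * a⁻¹ = (a * a)⁻¹ := by group
    rw [this, ha, inv_one]
  let C : Subgroup (F.autGroup P) :=
    { carrier := {α | (∀ x : ↥P, ((α : MulAut ↥P) x * x⁻¹) * ((α : MulAut ↥P) x * x⁻¹) = 1) ∧
        ∀ z : ↥P, z * z = 1 → (α : MulAut ↥P) z = z}
      one_mem' := by
        refine ⟨fun x => ?_, fun z _ => rfl⟩
        show ((1 : MulAut ↥P) x * x⁻¹) * ((1 : MulAut ↥P) x * x⁻¹) = 1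
        rw [MulAut.one_apply, mul_inv_cancel, one_mul]
      mul_mem' := by
        rintro α β ⟨hα1, hα2⟩ ⟨hβ1, hβ2⟩
        refine ⟨fun x => ?_, fun z hz => ?_⟩
        · show (((α : MulAut ↥P) * (β : MulAut ↥P)) x * x⁻¹) *
            (((α : MulAut ↥P) * (β : MulAut ↥P)) x * x⁻¹) = 1
          rw [MulAut.mul_apply]
          have e : (α : MulAut ↥P) ((β : MulAut ↥P) x) * x⁻¹ =
              ((α : MulAut ↥P) ((β : MulAut ↥P) x) * ((β : MulAut ↥P) x)⁻¹) *
                ((β : MulAut ↥P) x * x⁻¹) := by group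
          rw [e]
          exact Zmul _ _ (hα1 _) (hβ1 x)
        · show ((α : MulAut ↥P) * (β : MulAut ↥P)) z = z
          rw [MulAut.mul_apply, hβ2 z hz, hα2 z hz]
      inv_mem' := by
        rintro α ⟨hα1, hα2⟩
        refine ⟨fun x => ?_, fun z hz => ?_⟩
        · show (((α : MulAut ↥P)⁻¹) x * x⁻¹) * (((α : MulAut ↥P)⁻¹) x * x⁻¹) = 1
          have h1 := hα1 ((α : MulAut ↥P)⁻¹ x)
          rw [MulAut.apply_inv_self] at h1
          have h2 := Zinv _ h1
          have e : (x * ((α : MulAut ↥P)⁻¹ x)⁻¹)⁻¹ = (α : MulAut ↥P)⁻¹ x * x⁻¹ := by group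
          rw [e] at h2
          exact h2
        · show ((α : MulAut ↥P)⁻¹) z = z
          have h0 := hα2 z hz
          calc ((α : MulAut ↥P)⁻¹) z = ((α : MulAut ↥P)⁻¹) ((α : MulAut ↥P) z) := by rw [h0]
            _ = z := MulAut.inv_apply_self _ _ _ }
  have hCn : C.Normal := by
    constructor
    rintro α ⟨hα1, hα2⟩ γ
    have hγZ : ∀ z : ↥P, z * z = 1 → (γ : MulAut ↥P) z * (γ : MulAut ↥P) z = 1 := by
      intro z hz
      rw [← map_mul, hz, map_one]
    have hγZ' : ∀ z : ↥P, z * z = 1 → ((γ : MulAut ↥P)⁻¹) z * ((γ : MulAut ↥P)⁻¹) z = 1 := by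
      intro z hz
      rw [← map_mul, hz, map_one]
    refine ⟨fun x => ?_, fun z hz => ?_⟩
    · show (((γ : MulAut ↥P) * (α : MulAut ↥P) * (γ : MulAut ↥P)⁻¹) x * x⁻¹) *
        (((γ : MulAut ↥P) * (α : MulAut ↥P) * (γ : MulAut ↥P)⁻¹) x * x⁻¹) = 1
      rw [MulAut.mul_apply, MulAut.mul_apply]
      set y := ((γ : MulAut ↥P)⁻¹) x with hy
      have hx : x = (γ : MulAut ↥P) y := by rw [hy, MulAut.apply_inv_self]
      have e : (γ : MulAut ↥P) ((α : MulAut ↥P) y) * x⁻¹ =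
          (γ : MulAut ↥P) ((α : MulAut ↥P) y * y⁻¹) := by
        rw [map_mul, map_inv, ← hx]
      rw [e]
      exact hγZ _ (hα1 y)
    · show ((γ : MulAut ↥P) * (α : MulAut ↥P) * (γ : MulAut ↥P)⁻¹) z = z
      rw [MulAut.mul_apply, MulAut.mul_apply, hα2 _ (hγZ' z hz), MulAut.apply_inv_self]
  have hCp : IsPGroup 2 C := by
    intro α
    refine ⟨1, ?_⟩
    rw [pow_one]
    apply Subtype.ext
    apply Subtype.ext
    obtain ⟨hα1, hα2⟩ := α.2
    rw [pow_two]
    ext x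
    show ((((α : F.autGroup P) : MulAut ↥P) * ((α : F.autGroup P) : MulAut ↥P)) x : Ω) = x
    rw [MulAut.mul_apply]
    set z := ((α : F.autGroup P) : MulAut ↥P) x * x⁻¹ with hz
    have hzz : z * z = 1 := hα1 x
    have e1 : ((α : F.autGroup P) : MulAut ↥P) x = z * x := by rw [hz]; group
    rw [e1, map_mul, hα2 z hzz, e1, ← mul_assoc, hzz, one_mul]
  have hRC : (R : Subgroup (F.autGroup P)) ≤ C := by
    intro α hα
    rw [hRe, Subgroup.mem_subgroupOf] at hα
    obtain ⟨g, hg, Hg⟩ := (Cfsg.Agent.Lib.Helper9.mem_autInducedBy_iff S P _).mp hα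
    refine ⟨fun x => ?_, fun z hz => ?_⟩
    · apply Subtype.ext
      have := E2 g hg x (hPS x.2)
      simp only [Subgroup.coe_mul, Subgroup.coe_inv, Subgroup.coe_one, Hg]
      exact this
    · apply Subtype.ext
      rw [Hg]
      have := E3 z (hPS z.2) (congrArg Subtype.val hz) g hg
      rw [this, mul_inv_cancel_right]
  have hCR : C = (R : Subgroup (F.autGroup P)) := R.is_maximal' hCp hRC
  rw [← hCR]
  exact hCn

end Cfsg.Agent.S5214
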