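import Cfsg.Statements.S5219
import Cfsg.Agent.Lib.Helper9.ZV10
import Cfsg.Agent.Lib.Lead.ExpClass

set_option autoImplicit false
open Cfsg

namespace Cfsg.Agent.S5219

/-- Let p be a prime, n a natural number, S a nontrivial finite p-group of nilpotence class at most n(p−1)+1, and F a saturated fusion system over S with no nontrivial normal subgroup (O_p(F) = 1). Then S has exponent dividing p^(n²(p−1)+n). -/
theorem result {Ω : Type*} [Group Ω] {S : Subgroup Ω} [Finite S] (p : ℕ) [Fact p.Prime] (hS : IsPGroup p S) (F : Cfsg.FusionSystem S) (hF : F.IsSaturated p) (n : ℕ) (hS1 : S ≠ ⊥) (hcl : Subgroup.lowerCentralSeries S (n * (p - 1) + 1) = ⊥) (hcore : F.core = ⊥) : Monoid.exponent ↥S ∣ p ^ (n ^ 2 * (p - 1) + n) := by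
  have hU := Cfsg.Agent.H9ZW.agemoZ_isNormal hS F hF n hcl
  have hUbot : Cfsg.Agent.H9ZW.agemoZ p n S = ⊥ := by
    rw [eq_bot_iff, ← hcore]
    exact le_sSup hU
  have he : ∀ z ∈ S, (∀ y ∈ S, y * z = z * y) → z ^ (p ^ n) = 1 := by
    intro z hz hzc
    have h1 := Cfsg.Agent.H9ZW.pow_mem_agemoZ p n hz hzc
    rw [hUbot, Subgroup.mem_bot] at h1
    exact h1
  have hall := Cfsg.Agent.Lib.Lead.ExpClass.pow_eq_one_of_class S (n * (p - 1) + 1) (p ^ n) hcl he
  apply Monoid.exponent_dvd_of_forall_pow_eq_one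
  intro x
  apply Subtype.ext
  rw [Subgroup.coe_pow, Subgroup.coe_one]
  have h2 := hall x x.2
  have e : (p ^ n) ^ (n * (p - 1) + 1) = p ^ (n ^ 2 * (p - 1) + n) := by
    rw [← pow_mul]
    congr 1
    ring
  rw [e] at h2
  exact h2

end Cfsg.Agent.S5219
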