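import Cfsg.Statements.S5221
import Cfsg.Agent.Lib.Helper9.TH9

set_option autoImplicit false
open Cfsg

namespace Cfsg.Agent.S5221

/-- Let F be a sparse fusion system over a finite p-group S: a saturated fusion system, not the inner fusion system of S, whose only saturated fusion systems over S contained in it are F itself and the inner one. If p is odd, or F is S₄-free (the symmetric group of degree 4 is not involved in any model of the normalizer system of a fully normalized F-centric subgroup), then F is constrained. -/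
theorem result {Ω : Type*} [Group Ω] {S : Subgroup Ω} [Finite S] (p : ℕ) [Fact p.Prime] (hS : IsPGroup p S) (F : Cfsg.FusionSystem S) (hF : F.IsSaturated p) (hsp : ¬ (∀ P : Subgroup Ω, F.Hom P = (Cfsg.innerFusionSystem S).Hom P) ∧ ∀ E : Cfsg.FusionSystem S, E.IsSaturated p → E.IsSubsystemOf F → (∀ P : Subgroup Ω, E.Hom P = F.Hom P) ∨ (∀ P : Subgroup Ω, E.Hom P = (Cfsg.innerFusionSystem S).Hom P)) (hp : p ≠ 2 ∨ F.IsSectionFree p (Equiv.Perm (Fin 4))) : F.IsConstrained p := by
  open Cfsg.FusionSystem Cfsg.Agent.Lib.Helper9 Cfsg.Agent.H9ZJ in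
  obtain ⟨Q, E, hEHom, hEsat, hEn, -, hQc, hEne⟩ :=
    exists_constrained_subsystem p hS F hF hp hsp.1
  have hsub : E.IsSubsystemOf F := by
    intro P φ hφ
    rw [hEHom] at hφ
    exact hφ.1
  rcases hsp.2 E hEsat hsub with hEq | hin
  · refine ⟨hF, Q, ⟨hEn.1, fun P φ hφ => ?_⟩, hQc⟩
    rw [← hEq] at hφ
    obtain ⟨ψ, hψ, h1, h2⟩ := hEn.2 P φ hφ
    rw [hEq] at hψ
    exact ⟨ψ, hψ, h1, h2⟩
  · exact absurd hin hEne

end Cfsg.Agent.S5221
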