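import Mathlib
import Cfsg.Statements.S5223
import Cfsg.Agent.Lib.Helper9.ChainStab
import Cfsg.Agent.Lib.Helper9.FusionBasic
import Cfsg.Agent.Lib.Helper9.FusionAut
import Cfsg.Agent.S5083

set_option autoImplicit false
open Cfsg

namespace Cfsg.Agent.S5223

open Cfsg.Agent.Lib.Helper9 Cfsg.FusionSystem

variable {Ω : Type*} [Group Ω]

/-- the descending commutator chain of an automorphism -/
def commChain {P : Subgroup Ω} (α : MulAut P) : ℕ → Subgroup P
  | 0 => ⊤
  | (i + 1) => Subgroup.closure {y | ∃ x ∈ commChain α i, y = x⁻¹ * α x}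

theorem commChain_succ_le {P : Subgroup Ω} (α : MulAut P) : ∀ i, commChain α (i + 1) ≤ commChain α i := by
  intro i
  induction i with
  | zero => exact le_top
  | succ i ih =>
    show Subgroup.closure _ ≤ _
    rw [Subgroup.closure_le]
    rintro _ ⟨x, hx, rfl⟩
    exact Subgroup.subset_closure ⟨x, ih hx, rfl⟩

theorem commChain_antitone {P : Subgroup Ω} (α : MulAut P) : Antitone (commChain α) :=
  antitone_nat_of_succ_le (commChain_succ_le α)

/-- Let F be a saturated fusion system over a finite p-group S. Suppose there are subgroups Q₀ = S, Q₁, …, Qₙ = 1 (not required to be nested) such that for each i < n the focal subgroup of Qᵢ (generated by the elements x⁻¹φ(x), x ∈ Qᵢ, φ a map of F defined on the cyclic group generated by x) lies in Qᵢ₊₁. Then F is the inner fusion system of S. -/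
theorem result {Ω : Type*} [Group Ω] {S : Subgroup Ω} [Finite S] (p : ℕ) [Fact p.Prime] (hS : IsPGroup p S) (F : Cfsg.FusionSystem S) (hF : F.IsSaturated p) (n : ℕ) (Q : Fin (n + 1) → Subgroup Ω) (hQ0 : Q 0 = S) (hQn : Q (Fin.last n) = ⊥) (hstep : ∀ i : Fin n, Subgroup.closure {y : Ω | ∃ x ∈ Q i.castSucc, ∃ φ ∈ F.Hom (Subgroup.zpowers x), y = x⁻¹ * φ ⟨x, Subgroup.mem_zpowers x⟩} ≤ Q i.succ) : ∀ P : Subgroup Ω, F.Hom P = (Cfsg.innerFusionSystem S).Hom P := by
  have hall : ∀ P : Subgroup Ω, P ≤ S → IsPGroup p (F.autGroup P) := by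
    intro P hPS
    haveI : Finite P := fs_finite_of_le hPS
    have hPp : IsPGroup p P := hS.to_le hPS
    rintro ⟨α, hα⟩
    have hαF := (mem_autGroup_iff F hPS α).mp hα
    -- the chain lies in the `Q i`
    have claim1 : ∀ (i : ℕ) (hi : i < n + 1), ∀ x ∈ commChain α i, (x : Ω) ∈ Q ⟨i, hi⟩ := by
      intro i
      induction i with
      | zero =>
        intro hi x _
        have : (⟨0, hi⟩ : Fin (n + 1)) = 0 := rfl
        rw [this, hQ0]
        exact hPS x.2
      | succ i ih =>
        intro hi x hx
        have hi' : i < n := by omega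
        have hle : (commChain α (i + 1)).map P.subtype ≤ Q ⟨i + 1, hi⟩ := by
          show (Subgroup.closure _).map P.subtype ≤ _
          rw [MonoidHom.map_closure, Subgroup.closure_le]
          rintro _ ⟨_, ⟨x, hx, rfl⟩, rfl⟩
          have h1 := hstep ⟨i, hi'⟩
          apply h1
          apply Subgroup.subset_closure
          have hzle : Subgroup.zpowers (x : Ω) ≤ P := by
            rw [Subgroup.zpowers_le]; exact x.2
          refine ⟨x, ih (by omega) x hx, _, fs_restrict_mem F hαF hzle, ?_⟩
          rfl
        exact hle ⟨x, hx, rfl⟩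
    -- the ascending chain
    have hmono : Monotone (fun j => commChain α (n - j)) := by
      intro a b hab
      exact commChain_antitone α (by omega)
    have h0 : (fun j => commChain α (n - j)) 0 = ⊥ := by
      show commChain α (n - 0) = ⊥
      rw [Nat.sub_zero, eq_bot_iff]
      intro x hx
      have h1 := claim1 n (by omega) x hx
      have : (⟨n, by omega⟩ : Fin (n + 1)) = Fin.last n := rfl
      rw [this, hQn, Subgroup.mem_bot] at h1
      rw [Subgroup.mem_bot]
      exact Subtype.ext h1
    have hM : (fun j => commChain α (n - j)) n = ⊤ := by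
      show commChain α (n - n) = ⊤
      rw [Nat.sub_self]
      rfl
    have hstab : StabChain (fun j => commChain α (n - j)) α := by
      intro j x hx
      have h1 : x⁻¹ * α x ∈ commChain α (n - (j + 1) + 1) :=
        Subgroup.subset_closure ⟨x, hx, rfl⟩
      exact commChain_antitone α (by omega) h1
    obtain ⟨k, hk⟩ := stabChain_pow_eq_one p hPp hmono h0 n hM hstab
    exact ⟨k, Subtype.ext hk⟩
  have := Cfsg.Agent.S5083.result p hS F hF hall
  intro P
  rw [this]

end Cfsg.Agent.S5223
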