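import Mathlib
import Cfsg.Statements.S5226
import Cfsg.Agent.Lib.Helper9.FusionNormal7

set_option autoImplicit false
open Cfsg

namespace Cfsg.Agent.S5226

open Cfsg.FusionSystem Cfsg.Agent.Lib.Helper9
open scoped commutatorElement

variable {Ω : Type*} [Group Ω] {S : Subgroup Ω}

theorem all_normal [Finite S] (p : ℕ) [Fact p.Prime] (hS : IsPGroup p S) (F : FusionSystem S)
    (hF : F.IsSaturated p) (Q : Subgroup Ω) (hQ : F.StronglyClosed Q) (n : ℕ)
    (C : Fin (n + 1) → Subgroup Ω) (h0 : C 0 = ⊥) (hlast : C (Fin.last n) = Q) (hmono : Monotone C)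
    (hstep : ∀ i : Fin n, ⁅C i.succ, Q⁆ ≤ C i.castSucc)
    (hwc : ∀ i : Fin n, F.WeaklyClosed (C i.castSucc)) :
    ∀ (k : ℕ) (hk : k < n + 1), F.IsNormal (C ⟨k, hk⟩) := by
  have hQN := fs_stronglyClosed_le_normalizer F hQ
  have hle_last : ∀ (i : ℕ) (h : i < n + 1), C ⟨i, h⟩ ≤ Q := by
    intro i h
    rw [← hlast]
    exact hmono (Fin.le_last _)
  intro k
  induction k using Nat.strong_induction_on with
  | _ k ih =>
  intro hk
  rcases k with _ | j
  · have : C ⟨0, hk⟩ = ⊥ := h0
    rw [this]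
    exact Cfsg.Agent.S5145.isNormal_bot F
  · have hj : j < n := by omega
    have hXQ : C ⟨j + 1, hk⟩ ≤ Q := hle_last _ hk
    have hXw : F.WeaklyClosed (C ⟨j + 1, hk⟩) := by
      by_cases hjn : j + 1 < n
      · exact hwc ⟨j + 1, hjn⟩
      · have : (⟨j + 1, hk⟩ : Fin (n + 1)) = Fin.last n := by
          apply Fin.ext
          show j + 1 = n
          omega
        rw [this, hlast]
        exact fs_weaklyClosed_of_stronglyClosed F hQ
    apply fs_isNormal_of_weaklyClosed_of_le p hS F hF hXw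
    intro P hPc hPr
    refine fs_le_centric_radical_of_descending_chain p hS F (C ⟨j + 1, hk⟩) hXw.1
      (fs_weaklyClosed_le_normalizer F hXw)
      (fun i => match i with
        | 0 => S
        | 1 => Q
        | (i + 2) => C ⟨j - i, by omega⟩) rfl (j + 2) ?_ ?_ ?_ ?_ hPc hPr
    · show C ⟨j - j, _⟩ = ⊥
      have : (⟨j - j, by omega⟩ : Fin (n + 1)) = 0 := by
        apply Fin.ext
        show j - j = 0
        omega
      rw [this]; exact h0
    · apply antitone_nat_of_succ_le
      intro m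
      rcases m with _ | _ | m
      · exact hQ.1
      · exact hle_last _ _
      · show C ⟨j - (m + 1), _⟩ ≤ C ⟨j - m, _⟩
        apply hmono
        apply Fin.mk_le_mk.mpr
        omega
    · intro i
      rcases i with _ | _ | i
      · exact fs_stronglyClosed_top F
      · exact hQ
      · exact fs_stronglyClosed_of_isNormal F (ih (j - i) (by omega) (by omega))
    · intro i
      rcases i with _ | _ | i
      · show ⁅C ⟨j + 1, hk⟩, S⁆ ≤ Q
        exact (Subgroup.commutator_mono hXQ le_rfl).trans (commutator_le_of_le_normalizer hQN)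
      · show ⁅C ⟨j + 1, hk⟩, Q⁆ ≤ C ⟨j - 0, _⟩
        exact hstep ⟨j, hj⟩
      · show ⁅C ⟨j + 1, hk⟩, C ⟨j - i, _⟩⁆ ≤ C ⟨j - (i + 1), _⟩
        by_cases hji : j - i = 0
        · have : (⟨j - i, by omega⟩ : Fin (n + 1)) = 0 := Fin.ext hji
          rw [this, h0, Subgroup.commutator_bot_right]
          exact bot_le
        · obtain ⟨m, hm⟩ : ∃ m, j - i = m + 1 := ⟨j - i - 1, by omega⟩
          have hmn : m < n := by omega
          have h1 : (⟨j - i, by omega⟩ : Fin (n + 1)) = (⟨m, hmn⟩ : Fin n).succ := Fin.ext hm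
          have h2 : (⟨j - (i + 1), by omega⟩ : Fin (n + 1)) = (⟨m, hmn⟩ : Fin n).castSucc := by
            apply Fin.ext
            show j - (i + 1) = m
            omega
          rw [h1, h2, Subgroup.commutator_comm]
          exact (Subgroup.commutator_mono le_rfl hXQ).trans (hstep ⟨m, hmn⟩)

/-- Let F be a saturated fusion system over a finite p-group S and Q a subgroup of S. Then Q is normal in F (F equals the normalizer system of Q) if and only if Q is strongly closed in F and admits a central series 1 = Q₀ ≤ Q₁ ≤ ⋯ ≤ Qₙ = Q ([Qᵢ₊₁, Q] ≤ Qᵢ) all of whose proper terms are weakly closed in F. -/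
theorem result {Ω : Type*} [Group Ω] {S : Subgroup Ω} [Finite S] (p : ℕ) [Fact p.Prime] (hS : IsPGroup p S) (F : Cfsg.FusionSystem S) (hF : F.IsSaturated p) (Q : Subgroup Ω) : F.IsNormal Q ↔ F.StronglyClosed Q ∧ ∃ (n : ℕ) (C : Fin (n + 1) → Subgroup Ω), C 0 = ⊥ ∧ C (Fin.last n) = Q ∧ Monotone C ∧ (∀ i : Fin n, ⁅C i.succ, Q⁆ ≤ C i.castSucc) ∧ ∀ i : Fin n, F.WeaklyClosed (C i.castSucc) := by
  constructor
  · intro hQ
    refine ⟨fs_stronglyClosed_of_isNormal F hQ, ?_⟩
    obtain ⟨n, Qs, h0, hlast, hmono, hstep⟩ := fs_series_of_isNormal p hS F Q hQ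
    refine ⟨n, Qs, h0, hlast, hmono, fun i => ?_, fun i => ?_⟩
    · rw [Subgroup.commutator_comm]
      exact (hstep i).2
    · rcases Fin.eq_zero_or_eq_succ (Fin.castSucc i) with h | ⟨j, hj⟩
      · rw [h, h0]
        exact fs_weaklyClosed_of_isNormal F (Cfsg.Agent.S5145.isNormal_bot F)
      · have hjn : (j : ℕ) < n := by
          have h1 : ((Fin.castSucc i : Fin (n + 1)) : ℕ) = ((j.succ : Fin (n + 1)) : ℕ) := by rw [hj]
          simp only [Fin.val_castSucc, Fin.val_succ] at h1
          omega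
        have hj' : Fin.castSucc i = (⟨j, hjn⟩ : Fin n).succ := by
          rw [hj]
        rw [hj']
        exact fs_weaklyClosed_of_stronglyClosed F (hstep ⟨j, hjn⟩).1
  · rintro ⟨hQ, n, C, h0, hlast, hmono, hstep, hwc⟩
    have := all_normal p hS F hF Q hQ n C h0 hlast hmono hstep hwc n (Nat.lt_succ_self n)
    have h1 : (⟨n, Nat.lt_succ_self n⟩ : Fin (n + 1)) = Fin.last n := rfl
    rw [h1, hlast] at this
    exact this

end Cfsg.Agent.S5226
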