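import Mathlib
import Cfsg.Statements.S5236
import Cfsg.Agent.Lib.Helper9.Omega2
import Cfsg.Agent.Lib.Helper9.Solv6
import Cfsg.Agent.Lib.Helper9.InvTransport2
import Cfsg.Agent.S5085
import Cfsg.Agent.S5086

set_option autoImplicit false
open Cfsg

namespace Cfsg.Agent.S5236

open Cfsg.FusionSystem Cfsg.Agent.Lib.Helper9
open scoped commutatorElement

variable {Ω : Type*} [Group Ω]

theorem omegaOne_le (p : ℕ) (P : Subgroup Ω) : omegaOne p P ≤ P := by
  unfold omegaOne
  rw [Subgroup.closure_le]
  intro x hx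
  exact hx.1

theorem omegaOne_subgroupOf_eq (p : ℕ) (P : Subgroup Ω) :
    (omegaOne p P).subgroupOf P = Subgroup.closure {x : P | x ^ p = 1} := by
  have h1 : omegaOne p P = (Subgroup.closure {x : P | x ^ p = 1}).map P.subtype := by
    rw [MonoidHom.map_closure]
    unfold omegaOne
    congr 1
    ext y
    constructor
    · rintro ⟨hy, hyp⟩
      refine ⟨⟨y, hy⟩, ?_, rfl⟩
      show (⟨y, hy⟩ : P) ^ p = 1
      apply Subtype.ext
      simpa using hyp
    · rintro ⟨x, hx, rfl⟩
      refine ⟨x.2, ?_⟩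
      have hx' : x ^ p = 1 := hx
      have := congrArg (fun w : P => (w : Ω)) hx'
      simpa using this
  rw [h1, ← Subgroup.comap_subtype]
  exact Subgroup.comap_map_eq_self_of_injective (Subgroup.subtype_injective _) _

theorem omegaOne_characteristic (p : ℕ) (P : Subgroup Ω) : ((omegaOne p P).subgroupOf P).Characteristic := by
  rw [omegaOne_subgroupOf_eq, Subgroup.characteristic_iff_map_le]
  intro φ
  rw [MonoidHom.map_closure]
  apply Subgroup.closure_mono
  rintro _ ⟨x, hx, rfl⟩
  have hx' : x ^ p = 1 := hx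
  show (φ.toMonoidHom x) ^ p = 1
  rw [← map_pow, hx', map_one]

/-- Let p be an odd prime, F a saturated fusion system over a finite p-group S and P a subgroup of S strongly closed in F. Then P is normal in F if and only if Ω₁(P) (the subgroup generated by the elements of order p of P) has a chain of subgroups 1 = Q₀ ≤ Q₁ ≤ ⋯ ≤ Qₙ = Ω₁(P), each strongly closed in F, with [Qᵢ₊₁, P] ≤ Qᵢ for all i. -/
theorem result {Ω : Type*} [Group Ω] {S : Subgroup Ω} [Finite S] (p : ℕ) [Fact p.Prime] (hS : IsPGroup p S) (F : Cfsg.FusionSystem S) (hF : F.IsSaturated p) (hp : p ≠ 2) (P : Subgroup Ω) (hP : F.StronglyClosed P) : F.IsNormal P ↔ ∃ (n : ℕ) (Q : Fin (n + 1) → Subgroup Ω), Q 0 = ⊥ ∧ Q (Fin.last n) = Cfsg.omegaOne p P ∧ Monotone Q ∧ (∀ i : Fin (n + 1), F.StronglyClosed (Q i)) ∧ ∀ i : Fin n, ⁅Q i.succ, P⁆ ≤ Q i.castSucc := by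
  have hPS : P ≤ S := hP.1
  constructor
  · intro hPn
    obtain ⟨n, hZ0, hZn, hZc⟩ := upperCentral_series_data p hS hPS
    have hOn : F.IsNormal (omegaOne p P) :=
      Cfsg.Agent.S5085.result F P _ hPn (omegaOne_le p P) (omegaOne_characteristic p P)
    have hZnorm : ∀ i : ℕ, F.IsNormal ((Subgroup.upperCentralSeries P i).map P.subtype) := by
      intro i
      have hle : (Subgroup.upperCentralSeries P i).map P.subtype ≤ P := by
        rintro _ ⟨x, -, rfl⟩
        exact x.2
      apply Cfsg.Agent.S5085.result F P _ hPn hle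
      have h1 : ((Subgroup.upperCentralSeries P i).map P.subtype).subgroupOf P = Subgroup.upperCentralSeries P i := by
        rw [← Subgroup.comap_subtype]
        exact Subgroup.comap_map_eq_self_of_injective (Subgroup.subtype_injective _) _
      rw [h1]
      infer_instance
    have hOsc := fs_stronglyClosed_of_isNormal F hOn
    have hSNO : S ≤ Subgroup.normalizer (omegaOne p P : Set Ω) := fs_stronglyClosed_le_normalizer F hOsc
    refine ⟨n, fun i => omegaOne p P ⊓ (Subgroup.upperCentralSeries P i).map P.subtype, ?_, ?_, ?_, ?_, ?_⟩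
    · show omegaOne p P ⊓ (Subgroup.upperCentralSeries P ((0 : Fin (n + 1)) : ℕ)).map P.subtype = ⊥
      rw [Fin.val_zero, hZ0, inf_bot_eq]
    · show omegaOne p P ⊓ (Subgroup.upperCentralSeries P ((Fin.last n : Fin (n + 1)) : ℕ)).map P.subtype = _
      rw [Fin.val_last, hZn, inf_eq_left.mpr (omegaOne_le p P)]
    · intro i j hij
      exact inf_le_inf_left _ (Subgroup.map_mono (Subgroup.upperCentralSeries_mono P hij))
    · intro i
      exact stronglyClosed_inf F hOsc (fs_stronglyClosed_of_isNormal F (hZnorm i))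
    · intro i
      show ⁅omegaOne p P ⊓ (Subgroup.upperCentralSeries P (i.succ : ℕ)).map P.subtype, P⁆ ≤
        omegaOne p P ⊓ (Subgroup.upperCentralSeries P ((Fin.castSucc i : Fin (n + 1)) : ℕ)).map P.subtype
      rw [Fin.val_succ, Fin.val_castSucc, Subgroup.commutator_le]
      intro a ha b hb
      refine ⟨?_, ?_⟩
      · -- `⁅a, b⁆ ∈ Ω₁(P)` since `Ω₁(P)` is normalized by `S`
        have hbN := hSNO (hPS hb)
        have h1 : b * a⁻¹ * b⁻¹ ∈ omegaOne p P :=
          (Subgroup.mem_normalizer_iff.mp hbN a⁻¹).mp (Subgroup.inv_mem _ ha.1)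
        have h2 : ⁅a, b⁆ = a * (b * a⁻¹ * b⁻¹) := by
          rw [commutatorElement_def]; group
        rw [h2]
        exact Subgroup.mul_mem _ ha.1 h1
      · have h1 : ⁅b, a⁆ ∈ (Subgroup.upperCentralSeries P i).map P.subtype :=
          hZc i (Subgroup.commutator_mem_commutator hb ha.2)
        have h2 : ⁅a, b⁆ = ⁅b, a⁆⁻¹ := (commutatorElement_inv b a).symm
        rw [h2]
        exact Subgroup.inv_mem _ h1
  · rintro ⟨n, Q, hQ0, hQn, hQmono, hQsc, hQc⟩
    rw [Cfsg.Agent.S5086.result p hS F hF P]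
    refine ⟨hP, fun R hRc hRr => ?_⟩
    -- the chain indexed by `ℕ`
    have hmin : ∀ k : ℕ, min k n < n + 1 := fun k => by omega
    have hOsc : F.StronglyClosed (omegaOne p P) := by rw [← hQn]; exact hQsc _
    have hSNO : S ≤ Subgroup.normalizer (omegaOne p P : Set Ω) := fs_stronglyClosed_le_normalizer F hOsc
    apply le_of_centric_radical_omega p hp hS F hRc hRr hP (fun k => Q ⟨min k n, hmin k⟩) n
    · show Q ⟨min 0 n, hmin 0⟩ = ⊥
      have : (⟨min 0 n, hmin 0⟩ : Fin (n + 1)) = 0 := by
        apply Fin.ext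
        simp
      rw [this, hQ0]
    · show Q ⟨min n n, hmin n⟩ = _
      have : (⟨min n n, hmin n⟩ : Fin (n + 1)) = Fin.last n := by
        apply Fin.ext
        simp
      rw [this, hQn]
    · intro k
      exact hQsc _
    · intro k
      show ⁅Q ⟨min (k + 1) n, hmin (k + 1)⟩, P⁆ ≤ Q ⟨min k n, hmin k⟩
      by_cases hk : k < n
      · have h1 : (⟨min (k + 1) n, hmin (k + 1)⟩ : Fin (n + 1)) = Fin.succ ⟨k, hk⟩ := by
          apply Fin.ext
          simp
          omega
        have h2 : (⟨min k n, hmin k⟩ : Fin (n + 1)) = Fin.castSucc ⟨k, hk⟩ := by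
          apply Fin.ext
          simp
          omega
        rw [h1, h2]
        exact hQc ⟨k, hk⟩
      · have h1 : (⟨min (k + 1) n, hmin (k + 1)⟩ : Fin (n + 1)) = Fin.last n := by
          apply Fin.ext
          simp
          omega
        have h2 : (⟨min k n, hmin k⟩ : Fin (n + 1)) = Fin.last n := by
          apply Fin.ext
          simp
          omega
        rw [h1, h2, hQn, Subgroup.commutator_le]
        intro a ha b hb
        have hbN := hSNO (hPS hb)
        have h3 : b * a⁻¹ * b⁻¹ ∈ omegaOne p P :=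
          (Subgroup.mem_normalizer_iff.mp hbN a⁻¹).mp (Subgroup.inv_mem _ ha)
        have h4 : ⁅a, b⁆ = a * (b * a⁻¹ * b⁻¹) := by
          rw [commutatorElement_def]; group
        rw [h4]
        exact Subgroup.mul_mem _ ha h3

end Cfsg.Agent.S5236
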