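import Cfsg.Statements.S5239
import Cfsg.Agent.Lib.Helper9.PRL9

set_option autoImplicit false
open Cfsg

namespace Cfsg.Agent.S5239

open Cfsg.Agent.H9PRL Cfsg.Agent.Lib.Helper9 Cfsg.Agent.Lib.Helper9.H9AbIdx

/-- Let F be a saturated fusion system over a finite 3-group S having a pearl: an F-essential subgroup E that is elementary abelian of order 9 or nonabelian of order 27. Then either S is extraspecial of order 27 and exponent 3, or S has order at least 81 and every subgroup of S can be generated by at most two elements, or S is isomorphic to the wreath product C₃ ≀ C₃ (a Sylow 3-subgroup of the symmetric group of degree 9). -/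
theorem result {Ω : Type*} [Group Ω] {S : Subgroup Ω} [Finite S] (hS : IsPGroup 3 S) (F : Cfsg.FusionSystem S) (hF : F.IsSaturated 3) [Fact (Nat.Prime 3)] (E : Subgroup Ω) (hE : F.IsEssential 3 E) (hpearl : (Nat.card E = 9 ∧ ∀ x ∈ E, x ^ 3 = 1 ∧ IsMulCommutative ↥E) ∨ (Nat.card E = 27 ∧ ¬ IsMulCommutative ↥E)) : (Cfsg.IsExtraspecial 3 ↥S ∧ Nat.card S = 27 ∧ Monoid.exponent ↥S = 3) ∨ (81 ≤ Nat.card S ∧ ∀ H : Subgroup Ω, H ≤ S → ∃ T : Finset Ω, T.card ≤ 2 ∧ Subgroup.closure (T : Set Ω) = H) ∨ (∃ W : Sylow 3 (Equiv.Perm (Fin 9)), Nonempty (↥S ≃* ↥(W : Subgroup (Equiv.Perm (Fin 9))))) := by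
  classical
  have hES := ess_le F hE
  have hcen := pearl_centric F hE
  have hne := pearl_ne_top hS F hF hE
  have hcardE' := pearl_card F hE
  have hmemE : ∀ a : ↥S, a ∈ E.subgroupOf S → (a : Ω) ∈ E := fun a ha => by
    rwa [Subgroup.mem_subgroupOf] at ha
  obtain ⟨n, hn⟩ := hS.exists_card_eq
  have hlt : Nat.card (E.subgroupOf S) < Nat.card ↥S := by
    have := card_lt_of_lt (lt_top_iff_ne_top.2 hne)
    rwa [Subgroup.card_top] at this
  -- the general case: order at least 81
  have hbig : 4 ≤ n → ∀ s : ↥S, Nat.card (Subgroup.centralizer ({s} : Set ↥S)) = 9 →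
      (∀ g : ↥S, s ^ 3 * g = g * s ^ 3) →
      (81 ≤ Nat.card S ∧ ∀ H : Subgroup Ω, H ≤ S → ∃ T : Finset Ω, T.card ≤ 2 ∧
        Subgroup.closure (T : Set Ω) = H) ∨
      (∃ W : Sylow 3 (Equiv.Perm (Fin 9)),
        Nonempty (↥S ≃* ↥(W : Subgroup (Equiv.Perm (Fin 9))))) := by
    intro hn4 s hs1 hs2
    rcases main_group n hn4 hn s hs1 hs2 with h | h
    · left
      refine ⟨?_, fun H hHS => ?_⟩
      · rw [hn]
        calc 81 = 3 ^ 4 := by norm_num
          _ ≤ 3 ^ n := Nat.pow_le_pow_right (by norm_num) hn4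
      · obtain ⟨T', hT'c, hT'⟩ := h (H.subgroupOf S)
        refine ⟨T'.image Subtype.val, le_trans Finset.card_image_le hT'c, ?_⟩
        rw [Finset.coe_image]
        have h3 : (Subtype.val : ↥S → Ω) = S.subtype := rfl
        rw [h3, ← MonoidHom.map_closure, hT', Subgroup.map_subgroupOf_eq_of_le hHS]
    · exact Or.inr h
  rcases hpearl with ⟨hc, h2⟩ | ⟨hc, hna⟩
  · -- abelian pearl
    have hab : IsMulCommutative ↥E := (h2 1 E.one_mem).2
    have hab' : ∀ a ∈ E, ∀ b ∈ E, a * b = b * a := fun a ha b hb =>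
      congrArg (fun t : ↥E => (t : Ω)) (hab.is_comm.comm ⟨a, ha⟩ ⟨b, hb⟩)
    have hexp' : ∀ a ∈ E, a ^ 3 = 1 := fun a ha => (h2 a ha).1
    have hab'' : ∀ a ∈ E.subgroupOf S, ∀ b ∈ E.subgroupOf S, a * b = b * a := fun a ha b hb =>
      Subtype.ext (hab' a (hmemE a ha) b (hmemE b hb))
    have hexp'' : ∀ a ∈ E.subgroupOf S, a ^ 3 = 1 := fun a ha =>
      Subtype.ext (hexp' a (hmemE a ha))
    have hc' : Nat.card (E.subgroupOf S) = 9 := hcardE'.trans hc
    have hn3 : 3 ≤ n := by
      rw [hc', hn] at hlt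
      by_contra hcon
      have : 3 ^ n ≤ 3 ^ 2 := Nat.pow_le_pow_right (by norm_num) (by omega)
      omega
    rcases Nat.lt_or_ge n 4 with hn4 | hn4
    · have hn3' : n = 3 := by omega
      subst hn3'
      have hcardS : Nat.card ↥S = 27 := by rw [hn]; norm_num
      have hnaS : ¬ ∀ a b : ↥S, a * b = b * a := by
        intro h
        apply hne
        exact eq_top_iff.2 (fun x _ => hcen x (fun g _ => h x g))
      have hex : Cfsg.IsExtraspecial 3 ↥S := Cfsg.Agent.H9P3.isExtraspecial_of_nonab 3 hn hnaS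
      obtain ⟨β, hβ⟩ := exists_inverting hS F hF hE hc hab' hexp' hcardS
      have hcube := cube_eq_one_of_inverting hcardS (E.subgroupOf S) hc' hab'' hexp'' hcen β hβ
      left
      refine ⟨hex, hcardS, ?_⟩
      have hd : Monoid.exponent ↥S ∣ 3 := Monoid.exponent_dvd_iff_forall_pow_eq_one.2 hcube
      rcases (Nat.dvd_prime Nat.prime_three).1 hd with h1 | h1
      · exfalso
        rw [Monoid.exp_eq_one_iff] at h1
        have : Nat.card ↥S ≤ 1 := Finite.card_le_one_iff_subsingleton.2 h1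
        omega
      · exact h1
    · right
      obtain ⟨s, hs1, hs2⟩ := exists_of_abelian_pearl hS (E.subgroupOf S) hc' hab'' hexp'' hcen hne
      exact hbig hn4 s hs1 hs2
  · -- nonabelian pearl
    have hc' : Nat.card (E.subgroupOf S) = 27 := hcardE'.trans hc
    have hna' : ¬ ∀ a ∈ E.subgroupOf S, ∀ b ∈ E.subgroupOf S, a * b = b * a := by
      intro h
      apply hna
      refine ⟨⟨fun a b => ?_⟩⟩
      have := h ⟨a, hES a.2⟩ (by rw [Subgroup.mem_subgroupOf]; exact a.2) ⟨b, hES b.2⟩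
        (by rw [Subgroup.mem_subgroupOf]; exact b.2)
      exact Subtype.ext (congrArg (fun t : ↥S => (t : Ω)) this)
    have hn4 : 4 ≤ n := by
      rw [hc', hn] at hlt
      by_contra hcon
      have : 3 ^ n ≤ 3 ^ 3 := Nat.pow_le_pow_right (by norm_num) (by omega)
      omega
    right
    obtain ⟨s, hs1, hs2⟩ := exists_of_nonabelian_pearl hS (E.subgroupOf S) hc' hna' hcen hne
      (pearl_rad hS F hE)
    exact hbig hn4 s hs1 hs2

end Cfsg.Agent.S5239
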