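import Mathlib
import Cfsg.Statements.S5244
import Cfsg.Agent.Lib.Helper9.AbIdx18
import Cfsg.Agent.Lib.Helper9.AbIdx8

set_option autoImplicit false
open Cfsg
open Cfsg.FusionSystem Cfsg.Agent.Lib.Helper9 Cfsg.Agent.Lib.Helper9.H9AbIdx
open scoped commutatorElement

namespace Cfsg.Agent.S5244

/-- Let p be an odd prime, S a finite nonabelian p-group with a unique abelian subgroup A of index p, and F a saturated fusion system over S with no nontrivial normal subgroup (O_p(F) = 1) in which A is not F-essential. Then some subgroup Z(S)⟨x⟩ with x ∈ S outside A is F-essential, the centre Z(S) is contained in the commutator subgroup of S, and S has maximal nilpotency class (if S has order pⁿ with n ≥ 3, the term of index n − 2 of its lower central series, counting S itself as the term of index 0, is nontrivial). -/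
theorem result {Ω : Type*} [Group Ω] {S : Subgroup Ω} [Finite S] (p : ℕ) [Fact p.Prime] (hS : IsPGroup p S) (F : Cfsg.FusionSystem S) (hF : F.IsSaturated p) (hp : p ≠ 2) (hna : ¬ IsMulCommutative ↥S) (A : Subgroup Ω) (hA : A ≤ S ∧ IsMulCommutative ↥A ∧ (A.subgroupOf S).index = p) (huniq : ∀ B : Subgroup Ω, B ≤ S → IsMulCommutative ↥B → (B.subgroupOf S).index = p → B = A) (hcore : F.core = ⊥) (hAe : ¬ F.IsEssential p A) : (∃ x ∈ S, x ∉ A ∧ F.IsEssential p ((S ⊓ Subgroup.centralizer (S : Set Ω)) ⊔ Subgroup.zpowers x)) ∧ (S ⊓ Subgroup.centralizer (S : Set Ω)) ≤ (commutator ↥S).map S.subtype ∧ ∀ n : ℕ, Nat.card S = p ^ n → 3 ≤ n → Subgroup.lowerCentralSeries S (n - 2) ≠ ⊥ := by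
  have hna' : ∃ s ∈ S, ∃ t ∈ S, s * t ≠ t * s := by
    by_contra h
    push Not at h
    exact hna ⟨⟨fun a b => Subtype.ext (h a a.2 b b.2)⟩⟩
  have C : Ctx p S A :=
    { hS := hS
      hAS := hA.1
      hcomm := fun a ha b hb => congrArg Subtype.val (hA.2.1.is_comm.comm ⟨a, ha⟩ ⟨b, hb⟩)
      hidx := hA.2.2
      hna := hna' }
  have huniq' : ∀ B : Subgroup Ω, B ≤ S → (∀ a ∈ B, ∀ b ∈ B, a * b = b * a) → B.relIndex S = p →
      B = A := fun B hBS hcomm hidx =>
    huniq B hBS ⟨⟨fun a b => Subtype.ext (hcomm a a.2 b b.2)⟩⟩ hidx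
  obtain ⟨⟨x, hxS, hxA, hess⟩, hZle, hZcard⟩ := ZS_facts C hS F hF hp hAe hcore huniq'
  refine ⟨⟨x, hxS, hxA, hess⟩, hZle, ?_⟩
  intro n hn h3 hbot
  have hpp : Nat.Prime p := Fact.out
  have hc : Nat.card ↥(ZS S ⊓ (commutator ↥S).map S.subtype) = p := by
    rw [inf_eq_left.mpr hZle]; exact hZcard
  have hrel : (ZS S).relIndex S = p ^ (n - 1) := by
    have h4 := Subgroup.relIndex_mul_relIndex ⊥ (ZS S) S bot_le (ZS_le S)
    rw [Subgroup.relIndex_bot_left, Subgroup.relIndex_bot_left, hZcard, hn] at h4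
    have h5 : p ^ n = p * p ^ (n - 1) := by
      rw [← pow_succ']; congr 1; omega
    rw [h5] at h4
    exact Nat.eq_of_mul_eq_mul_left hpp.pos h4
  obtain ⟨a, ha, b, hb, hab⟩ := hna'
  rcases Nat.lt_or_ge n 4 with h4 | h4
  · have hn3 : n = 3 := by omega
    subst hn3
    have h5 : (1 : ℕ) = 0 + 1 := rfl
    have h6 : ⁅a, b⁆ ∈ S.lowerCentralSeries (3 - 2) := by
      show ⁅a, b⁆ ∈ S.lowerCentralSeries 1
      rw [h5, Subgroup.lowerCentralSeries_succ, Subgroup.lowerCentralSeries_zero]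
      exact Subgroup.commutator_mem_commutator ha hb
    rw [hbot, Subgroup.mem_bot, commutatorElement_def] at h6
    apply hab
    calc a * b = (a * b * a⁻¹ * b⁻¹) * (b * a) := by group
      _ = b * a := by rw [h6, one_mul]
  · have h5 : 3 ≤ n - 1 := by omega
    have h6 := C.not_lcs_le hxS hxA hc hrel h5
    apply h6
    have h7 : n - 2 = (n - 1 - 2) + 1 := by omega
    rw [h7, Subgroup.lowerCentralSeries_succ] at hbot
    intro g hg
    rw [mem_ZS_iff]
    have hgS : g ∈ S := by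
      have h8 := Subgroup.lowerCentralSeries_antitone S (Nat.zero_le (n - 1 - 2)) hg
      exact h8
    refine ⟨hgS, fun s hs => ?_⟩
    have h8 : ⁅g, s⁆ ∈ ⁅S.lowerCentralSeries (n - 1 - 2), S⁆ :=
      Subgroup.commutator_mem_commutator hg hs
    rw [hbot, Subgroup.mem_bot, commutatorElement_def] at h8
    calc s * g = (g * s * g⁻¹ * s⁻¹)⁻¹ * (g * s) := by group
      _ = g * s := by rw [h8, inv_one, one_mul]

end Cfsg.Agent.S5244
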