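import Mathlib
import Cfsg.Statements.S5245
import Cfsg.Agent.Lib.Helper9.SparseModel5
import Cfsg.Agent.Lib.Helper9.FusionFocal

set_option autoImplicit false
open Cfsg

namespace Cfsg.Agent.S5245

open Cfsg.FusionSystem Cfsg.Agent.Lib.Helper9

section
variable {Ω : Type*} [Group Ω] {S : Subgroup Ω}

theorem focalSubgroup_le (F : FusionSystem S) : F.focalSubgroup ≤ S := by
  unfold FusionSystem.focalSubgroup
  rw [Subgroup.closure_le]
  rintro _ ⟨P, φ, x, hφ, rfl⟩
  obtain ⟨hPS, hφS⟩ := F.le_of_mem hφ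
  exact S.mul_mem (S.inv_mem (hPS x.2)) (hφS x)

theorem hyperfocal_le_focal (F : FusionSystem S) (p : ℕ) : F.hyperfocalSubgroup p ≤ F.focalSubgroup := by
  unfold FusionSystem.hyperfocalSubgroup
  rw [Subgroup.closure_le]
  rintro _ ⟨P, α, x, hPS, -, rfl⟩
  unfold FusionSystem.focalSubgroup
  apply Subgroup.subset_closure
  refine ⟨P, P.subtype.comp (α : MulAut P).toMonoidHom, x, ?_, rfl⟩
  rw [← mem_autGroup_iff F hPS]
  exact α.2

/-- The inner case is impossible for the model of an automorphism of prime order `q ≠ p`. -/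
theorem not_inner_aux {R : Subgroup Ω} [Finite R] {χ : MulAut R} (p : ℕ) [Fact p.Prime]
    (hR : IsPGroup p R) (hcop : (orderOf χ).Coprime p) (hne : orderOf χ ≠ 1)
    (M : Subgroup (SModel R χ)) (hM : commModel R χ ≤ M)
    (hinner : ∀ P : Subgroup Ω, (modelSys R χ M).Hom P =
      (innerFusionSystem (preimageAlong (sIota R χ) M)).Hom P) : False := by
  set pre := preimageAlong (sIota R χ) (commModel R χ) with hpre
  have hpreR : pre ≤ R := preimageAlong_le _ _
  have hpreM : pre ≤ preimageAlong (sIota R χ) M := by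
    intro x hx
    rw [mem_preimageAlong_iff] at hx ⊢
    obtain ⟨hx1, hx2⟩ := hx
    exact ⟨hx1, hM hx2⟩
  have hmemT : ∀ t : R, t ∈ commAut R χ → (t : Ω) ∈ pre := by
    intro t ht
    rw [hpre, preimageAlong_commModel]
    exact ⟨t, ht, rfl⟩
  have hTmem : ∀ x : Ω, ∀ hx : x ∈ pre, (⟨x, hpreR hx⟩ : R) ∈ commAut R χ := by
    intro x hx
    rw [hpre, preimageAlong_commModel] at hx
    obtain ⟨t, ht, rfl⟩ := hx
    exact ht
  -- the restriction of χ to pre
  let φ₀ : pre →* Ω :=
    (R.subtype.comp χ.toMonoidHom).comp (Subgroup.inclusion hpreR)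
  have hφ₀ : φ₀ ∈ (modelSys R χ M).Hom pre := by
    rw [mem_modelSys_iff]
    refine ⟨hpreM, ?_, SemidirectProduct.inr ⟨χ, Subgroup.mem_zpowers χ⟩, ?_, ?_⟩
    · intro x
      apply hpreM
      exact hmemT _ (commAut_invariant (Subgroup.mem_zpowers χ) (hTmem x x.2))
    · apply hM
      rw [mem_commModel_iff, SemidirectProduct.left_inr]
      exact Subgroup.one_mem _
    · intro x
      simp only [SemidirectProduct.left_inr, SemidirectProduct.right_inr, one_mul, inv_one, mul_one]
      rfl
  rw [hinner pre] at hφ₀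
  obtain ⟨_, g, hg, Hg⟩ := hφ₀
  have hgR : g ∈ R := preimageAlong_le _ _ hg
  have hconj : ∀ t ∈ commAut R χ, χ t = (⟨g, hgR⟩ : R) * t * (⟨g, hgR⟩ : R)⁻¹ := by
    intro t ht
    apply Subtype.ext
    have := Hg ⟨t, hmemT t ht⟩
    exact this
  have hfix := fix_commAut_of_conj p hR hcop ⟨g, hgR⟩ hconj
  have hone := aut_eq_one_of_fix_commAut p hR hcop hfix
  rw [hone, orderOf_one] at hne
  exact hne rfl

end

/-- Let F be an extremely sparse fusion system over a finite p-group S (saturated, not the inner system, and every saturated fusion system over any subgroup T of S contained in F is F itself or the inner system of T). Then S is normal in F, the focal and hyperfocal subgroups of F are both S, and Aut_F(S) is generated by the inner automorphisms of S together with a single automorphism of prime order q ≠ p (F is the fusion system of the semidirect product of S by a cyclic group of prime order). -/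
theorem result {Ω : Type*} [Group Ω] {S : Subgroup Ω} [Finite S] (p : ℕ) [Fact p.Prime] (hS : IsPGroup p S) (F : Cfsg.FusionSystem S) (hF : F.IsSaturated p) (hxs : ¬ (∀ P : Subgroup Ω, F.Hom P = (Cfsg.innerFusionSystem S).Hom P) ∧ ∀ (T : Subgroup Ω) (E : Cfsg.FusionSystem T), E.IsSaturated p → E.IsSubsystemOf F → (T = S ∧ ∀ P : Subgroup Ω, E.Hom P = F.Hom P) ∨ (∀ P : Subgroup Ω, E.Hom P = (Cfsg.innerFusionSystem T).Hom P)) : F.IsNormal S ∧ F.focalSubgroup = S ∧ F.hyperfocalSubgroup p = S ∧ ∃ (q : ℕ) (β : MulAut ↥S), q.Prime ∧ q ≠ p ∧ β ∈ F.autGroup S ∧ orderOf β = q ∧ (F.autGroup S : Subgroup (MulAut ↥S)) = Cfsg.Inn ↥S ⊔ Subgroup.zpowers β := by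
  obtain ⟨hne, hsp⟩ := hxs
  obtain ⟨R, hRS, q, χ, hq, hqp, hχF, hχord⟩ := exists_pprime_aut p hS F hF hne
  haveI : Finite R := fs_finite_of_le hRS
  have hRp : IsPGroup p R := hS.to_le hRS
  have hcop : (orderOf χ).Coprime p := by
    rw [hχord]
    exact (Nat.coprime_primes hq Fact.out).2 hqp
  have hpq : ¬ p ∣ orderOf χ := by
    intro h
    have := Nat.Coprime.eq_one_of_dvd hcop.symm h
    exact (Fact.out : p.Prime).one_lt.ne' this
  have hne1 : orderOf χ ≠ 1 := by
    rw [hχord]
    exact hq.one_lt.ne'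
  have hsat1 := modelSys_isSaturated p hRp hpq (⊤ : Subgroup (SModel R χ))
  have hsub1 := modelSys_isSubsystemOf F hRS hχF (⊤ : Subgroup (SModel R χ))
  rcases hsp _ (modelSys R χ ⊤) hsat1 hsub1 with ⟨hTS, hEF⟩ | hinner
  swap
  · exact absurd (not_inner_aux p hRp hcop hne1 ⊤ le_top hinner) id
  have hR_eq : R = S := preimageAlong_top.symm.trans hTS
  subst hR_eq
  have hsat2 := modelSys_isSaturated p hRp hpq (commModel R χ)
  have hsub2 := modelSys_isSubsystemOf F le_rfl hχF (commModel R χ)
  have hhyp : F.hyperfocalSubgroup p = R := by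
    rcases hsp _ (modelSys R χ (commModel R χ)) hsat2 hsub2 with ⟨hTS2, -⟩ | hinner2
    · apply le_antisymm (hyperfocalSubgroup_le F p)
      have h1 := commAut_le_hyperfocal p F hχF hcop
      rw [← preimageAlong_commModel, hTS2] at h1
      exact h1
    · exact absurd (not_inner_aux p hRp hcop hne1 (commModel R χ) le_rfl hinner2) id
  refine ⟨model_isNormal F hEF, ?_, hhyp, q, χ, hq, hqp, hχF, hχord, ?_⟩
  · apply le_antisymm (focalSubgroup_le F)
    exact le_trans (le_of_eq hhyp.symm) (hyperfocal_le_focal F p)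
  · exact le_antisymm (model_autGroup_le F hEF)
      (sup_le (inn_le_autGroup F le_rfl) (Subgroup.zpowers_le.2 hχF))

end Cfsg.Agent.S5245
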