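import Cfsg.Statements.S5247
import Cfsg.Agent.Lib.Helper9.PStab1
import Cfsg.Agent.S5096

set_option autoImplicit false
open Cfsg

namespace Cfsg.Agent.S5247

/-- Let p be an odd prime and F a saturated fusion system over a finite p-group S. Call a fusion system E (over any subgroup) p-stable when, for every fully E-normalized subgroup Q and every χ ∈ Aut_E(Q) with χ(a⁻¹)·a·χ(a⁻¹)·χ(χ(a)) = 1 for all a ∈ Q (χ acts quadratically), χ lies in O_p(Aut_E(Q)). Then F is p-stable if and only if every normalizer fusion system N_F(R) of every non-cyclic fully F-normalized subgroup R of S is p-stable. -/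
theorem result {Ω : Type*} [Group Ω] {S : Subgroup Ω} [Finite S] (p : ℕ) [Fact p.Prime] (hS : IsPGroup p S) (F : Cfsg.FusionSystem S) (hF : F.IsSaturated p) (hp : p ≠ 2) : (∀ Q : Subgroup Ω, F.IsFullyNormalized Q → ∀ χ : MulAut ↥Q, χ ∈ F.autGroup Q → (∀ a : ↥Q, (χ a⁻¹) * a * (χ a⁻¹) * (χ (χ a)) = 1) → χ ∈ ((Cfsg.pCore p ↥(F.autGroup Q)).map (F.autGroup Q).subtype : Subgroup (MulAut ↥Q))) ↔ ∀ R : Subgroup Ω, F.IsFullyNormalized R → ¬ IsCyclic ↥R → ∀ N : Cfsg.FusionSystem (Cfsg.FusionSystem.normalizerIn S R), F.IsNormalizerSystem R N → (∀ Q : Subgroup Ω, N.IsFullyNormalized Q → ∀ χ : MulAut ↥Q, χ ∈ N.autGroup Q → (∀ a : ↥Q, (χ a⁻¹) * a * (χ a⁻¹) * (χ (χ a)) = 1) → χ ∈ ((Cfsg.pCore p ↥(N.autGroup Q)).map (N.autGroup Q).subtype : Subgroup (MulAut ↥Q))) := by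
  constructor
  · intro hF' R hRfn hRnc N hN Q hQfn χ hχ hq
    have hF'' : Cfsg.Agent.H9PS.PStable p F := hF'
    have hQN : Q ≤ Cfsg.FusionSystem.normalizerIn S R := hQfn.1
    have hQS : Q ≤ S := hQN.trans inf_le_left
    have hle := Cfsg.Agent.H9PS.normalizerSystem_autGroup_le F N hN hQN
    have h1 := Cfsg.Agent.H9PS.PStable.all p hF'' hQS (hle hχ) hq
    haveI : Finite ↥Q := Finite.of_injective (Subgroup.inclusion hQS) (Subgroup.inclusion_injective hQS)
    exact Cfsg.Agent.H9PS.pCoreMap_inf_le p hle ⟨h1, hχ⟩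
  · intro hN Q hQfn χ hχ hq
    have hQS : Q ≤ S := hQfn.1
    haveI : Finite ↥Q := Finite.of_injective (Subgroup.inclusion hQS) (Subgroup.inclusion_injective hQS)
    by_cases hcyc : IsCyclic ↥Q
    · have hc : ∀ a b : ↥Q, a * b = b * a := by
        intro a b
        letI := IsCyclic.commGroup (α := ↥Q)
        exact mul_comm a b
      have hpow := Cfsg.Agent.H9PS.quad_pow_card hc χ hq
      have hQp : IsPGroup p ↥Q := (hS.to_le hQS)
      obtain ⟨n, hn⟩ := IsPGroup.iff_card.mp hQp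
      rw [hn] at hpow
      refine Cfsg.Agent.H9PS.mem_pCoreMap_of_comm p (F.autGroup Q) ?_ hχ hpow
      intro a _ b _
      exact Cfsg.Agent.H9PS.mulAut_comm_of_isCyclic a b
    · obtain ⟨N, hNs⟩ := Cfsg.Agent.S5096.result F Q hQS
      have hQfnN : N.IsFullyNormalized Q := by
        refine ⟨Cfsg.Agent.Lib.Helper9.le_normalizerIn_self hQS, fun Q' hQ' => ?_⟩
        rw [Cfsg.Agent.Lib.Helper9.normalizerSystem_conj_eq F N hNs hQ']
      have heq := Cfsg.Agent.Lib.Helper9.normalizerSystem_autGroup_eq F hQS N hNs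
      have h1 := hN Q hQfn hcyc N hNs Q hQfnN χ (heq ▸ hχ) hq
      rw [heq] at h1
      exact h1

end Cfsg.Agent.S5247
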