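import Cfsg.Statements.S5251
import Mathlib
import Cfsg.Agent.Lib.Helper9.Radical3
import Cfsg.Agent.Lib.Helper9.FusionNormMap
import Cfsg.Agent.Lib.Helper9.FusionSat1
import Cfsg.Agent.Lib.Helper9.FusionSat2
import Cfsg.Agent.Lib.Helper9.FusionSat3
import Cfsg.Agent.Lib.Helper9.FusionAG3

set_option autoImplicit false
set_option maxHeartbeats 1000000
open Cfsg

namespace Cfsg.Agent.S5251

open Cfsg.FusionSystem Cfsg.Agent.Lib.Helper9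

variable {Ω : Type*} [Group Ω] {S : Subgroup Ω}

/-- Moving `P` so that `P ∩ T` becomes a given fully normalized conjugate with large centralizer. -/
theorem exists_conj_bad [Finite S] (p : ℕ) [Fact p.Prime] (hS : IsPGroup p S) (F : Cfsg.FusionSystem S)
    (hF : F.IsSaturated p) {T : Subgroup Ω} (hT : F.StronglyClosed T) {P : Subgroup Ω} (hPS : P ≤ S)
    {Q₀ : Subgroup Ω} (hconj : F.IsConj (P ⊓ T) Q₀) (hbad : ¬ centralizerIn T Q₀ ≤ Q₀) :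
    ∃ φ ∈ F.Hom P, ¬ centralizerIn T (φ.range ⊓ T) ≤ φ.range ⊓ T := by
  have hTS : T ≤ S := hT.1
  have hSNT : S ≤ Subgroup.normalizer (T : Set Ω) := fs_stronglyClosed_le_normalizer F hT
  have hQ₀S : Q₀ ≤ S := fs_isConj_le_right F hconj
  obtain ⟨Q₁, hQ₀Q₁, hQ₁n⟩ := fs_exists_fullyNormalized F hQ₀S
  obtain ⟨hQ₁c, hQ₁a⟩ := fs_sylow_axiom p hS F hF hQ₁n
  have hQ₁r := fs_extension_axiom p hS F hF hQ₁c
  obtain ⟨ψ₁, hψ₁, hψ₁N, hψ₁Q⟩ := fs_exists_normalizer_map p hS F Q₁ Q₀ hQ₁a hQ₁r hQ₀Q₁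
  obtain ⟨ψ₂, hψ₂, hψ₂N, hψ₂Q⟩ := fs_exists_normalizer_map p hS F Q₁ (P ⊓ T) hQ₁a hQ₁r
    (fs_isConj_trans F hconj hQ₀Q₁)
  -- `Q₁ ≤ T`
  have hP₀N : P ⊓ T ≤ normalizerIn S (P ⊓ T) :=
    fun x hx => ⟨hPS hx.1, Subgroup.le_normalizer hx⟩
  have hQ₁T : Q₁ ≤ T := by
    intro y hy
    have hy' : y ∈ ((P ⊓ T).subgroupOf (normalizerIn S (P ⊓ T))).map ψ₂ := (le_of_eq hψ₂Q.symm) hy
    obtain ⟨x, hx, rfl⟩ := hy'
    have hxP : (x : Ω) ∈ P ⊓ T := hx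
    have hres := fs_restrict_mem F hψ₂ hP₀N
    exact hT.2 (P ⊓ T) inf_le_right _ hres ⟨x, hxP⟩
  -- `C_T(Q₁) ≰ Q₁`
  have hbad₁ : ¬ centralizerIn T Q₁ ≤ Q₁ := by
    intro hle
    apply hbad
    intro c hc
    have hcN : c ∈ normalizerIn S Q₀ := ⟨hTS hc.1, Subgroup.centralizer_le_normalizer _ hc.2⟩
    have hCle : centralizerIn T Q₀ ≤ normalizerIn S Q₀ :=
      fun c hc => ⟨hTS hc.1, Subgroup.centralizer_le_normalizer _ hc.2⟩
    have hres := fs_restrict_mem F hψ₁ hCle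
    have h1 : ψ₁ ⟨c, hcN⟩ ∈ T := hT.2 (centralizerIn T Q₀) inf_le_left _ hres ⟨c, hc⟩
    have h2 : ψ₁ ⟨c, hcN⟩ ∈ Subgroup.centralizer (Q₁ : Set Ω) := by
      rw [Subgroup.mem_centralizer_iff]
      intro q hq
      have hq' : q ∈ (Q₀.subgroupOf (normalizerIn S Q₀)).map ψ₁ := (le_of_eq hψ₁Q.symm) hq
      obtain ⟨q', hq'Q, rfl⟩ := hq'
      have hq'Q' : (q' : Ω) ∈ Q₀ := hq'Q
      rw [← map_mul, ← map_mul]
      congr 1
      apply Subtype.ext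
      have hcC : c ∈ Subgroup.centralizer (Q₀ : Set Ω) := hc.2
      rw [Subgroup.mem_centralizer_iff] at hcC
      exact hcC _ hq'Q'
    have h3 : ψ₁ ⟨c, hcN⟩ ∈ Q₁ := hle ⟨h1, h2⟩
    have h4 : ψ₁ ⟨c, hcN⟩ ∈ (Q₀.subgroupOf (normalizerIn S Q₀)).map ψ₁ := (le_of_eq hψ₁Q.symm) h3
    obtain ⟨q'', hq'', hq''c⟩ := h4
    have h5 := F.injective_of_mem hψ₁ hq''c
    have hq''Q : (q'' : Ω) ∈ Q₀ := hq''
    rw [h5] at hq''Q
    exact hq''Q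
  -- `P ≤ N_S(P ∩ T)`
  have hPN : P ≤ normalizerIn S (P ⊓ T) := by
    intro g hg
    exact ⟨hPS hg, mem_normalizer_inf (Subgroup.le_normalizer hg) (hSNT (hPS hg))⟩
  have hφ : ψ₂.comp (Subgroup.inclusion hPN) ∈ F.Hom P := fs_restrict_mem F hψ₂ hPN
  refine ⟨ψ₂.comp (Subgroup.inclusion hPN), hφ, ?_⟩
  -- `φ(P) ∩ T = Q₁`
  have heq : (ψ₂.comp (Subgroup.inclusion hPN)).range ⊓ T = Q₁ := by
    apply le_antisymm
    · rintro y ⟨⟨x, rfl⟩, hyT⟩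
      obtain ⟨χ, hχ, Hχ⟩ := F.inv_mem hφ
      have hres := fs_restrict_mem F hχ (inf_le_left : (ψ₂.comp (Subgroup.inclusion hPN)).range ⊓ T ≤ _)
      have h1 := hT.2 _ inf_le_right _ hres ⟨_, ⟨⟨x, rfl⟩, hyT⟩⟩
      have h2 : (x : Ω) ∈ T := by
        have h3 : (χ.comp (Subgroup.inclusion inf_le_left))
            (⟨(ψ₂.comp (Subgroup.inclusion hPN)) x, ⟨⟨x, rfl⟩, hyT⟩⟩ :
              ↥((ψ₂.comp (Subgroup.inclusion hPN)).range ⊓ T)) = (x : Ω) := Hχ x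
        rw [← h3]
        exact h1
      have h4 : (ψ₂.comp (Subgroup.inclusion hPN)) x ∈ ((P ⊓ T).subgroupOf (normalizerIn S (P ⊓ T))).map ψ₂ :=
        ⟨Subgroup.inclusion hPN x, ⟨x.2, h2⟩, rfl⟩
      exact (le_of_eq hψ₂Q) h4
    · intro y hy
      refine ⟨?_, hQ₁T hy⟩
      have hy' : y ∈ ((P ⊓ T).subgroupOf (normalizerIn S (P ⊓ T))).map ψ₂ := (le_of_eq hψ₂Q.symm) hy
      obtain ⟨x, hx, rfl⟩ := hy'
      have hxP : (x : Ω) ∈ P ⊓ T := hx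
      exact ⟨⟨x, hxP.1⟩, rfl⟩
  rw [heq]
  exact hbad₁

/-- Let F be a saturated fusion system over a finite p-group S, E a normal subsystem of F over T, and P an F-centric subgroup of S such that P ∩ T is not E-centric. Then some F-conjugate P* of P satisfies Out_S(P*) ∩ O_p(Out_F(P*)) ≠ 1: there is an element of N_S(P*) outside P* whose conjugation action on P* lies in O_p(Aut_F(P*)). In particular P is not both centric and radical in F. -/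
theorem result {Ω : Type*} [Group Ω] {S : Subgroup Ω} [Finite S] (p : ℕ) [Fact p.Prime] (hS : IsPGroup p S) (F : Cfsg.FusionSystem S) (hF : F.IsSaturated p) {T : Subgroup Ω} (E : Cfsg.FusionSystem T) (hE : E.IsNormalIn F p) (P : Subgroup Ω) (hP : F.IsCentric P) (hPT : ¬ E.IsCentric (P ⊓ T)) : (∃ φ ∈ F.Hom P, ∃ x ∈ S ⊓ Subgroup.normalizer (φ.range : Set Ω), x ∉ φ.range ∧ ∃ α ∈ ((Cfsg.pCore p ↥(F.autGroup φ.range)).map (F.autGroup φ.range).subtype : Subgroup (MulAut ↥φ.range)), ∀ y : ↥φ.range, ((α y : ↥φ.range) : Ω) = x * (y : Ω) * x⁻¹) ∧ ¬ F.IsRadical p P := by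
  have hinv := hE.1.2.2
  have hT : F.StronglyClosed T := hinv.2.1
  have hPS : P ≤ S := hP.1
  -- a conjugate of `P ∩ T` in `E` with large centralizer
  have h1 : ∃ Q₀, E.IsConj (P ⊓ T) Q₀ ∧ ¬ centralizerIn T Q₀ ≤ Q₀ := by
    by_contra hcon
    push Not at hcon
    exact hPT ⟨inf_le_right, hcon⟩
  obtain ⟨Q₀, hQ₀, hbad⟩ := h1
  have hQ₀F : F.IsConj (P ⊓ T) Q₀ := by
    obtain ⟨φ, hφ, hr⟩ := hQ₀
    exact ⟨φ, hinv.1 _ hφ, hr⟩
  obtain ⟨φ, hφ, hbad'⟩ := exists_conj_bad p hS F hF hT hPS hQ₀F hbad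
  have hφS : φ.range ≤ S := fs_range_le F hφ
  obtain ⟨x, hxN, hxP, α, hα, Hα⟩ := exists_outer_pCore p hS F hT hφS hbad'
  refine ⟨⟨φ, hφ, x, hxN, hxP, α, hα, Hα⟩, ?_⟩
  intro hrad
  obtain ⟨e, he, -⟩ := exists_isFIso_of_mem F hφ rfl
  have hrad' : F.IsRadical p φ.range := radical_transport F p e he hrad
  have hcen' : F.IsCentric φ.range := centric_of_isConj F ⟨φ, hφ, rfl⟩ hP
  rw [hrad'.2] at hα
  have hC : centralizerIn S φ.range ≤ φ.range := hcen'.2 _ (fs_isConj_refl F hφS)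
  exact hxP (mem_of_induces_inner hC hα hxN.1 hφS Hα)

end Cfsg.Agent.S5251
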