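import Mathlib
import Cfsg.Statements.S5254
import Cfsg.Agent.Lib.Helper9.AbIdx6

set_option autoImplicit false
open Cfsg
open Cfsg.FusionSystem Cfsg.Agent.Lib.Helper9 Cfsg.Agent.Lib.Helper9.H9AbIdx

namespace Cfsg.Agent.S5254

/-- Let p be an odd prime, S a finite nonabelian p-group with a unique abelian subgroup A of index p, and F a saturated fusion system over S. Then every F-essential subgroup P is A, or Z(S)⟨x⟩ for some x ∈ S outside A, or (when the second centre Z₂(S) lies in A) Z₂(S)⟨x⟩ for some x ∈ S outside A; and P has index p in its normalizer in S. -/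
theorem result {Ω : Type*} [Group Ω] {S : Subgroup Ω} [Finite S] (p : ℕ) [Fact p.Prime] (hS : IsPGroup p S) (F : Cfsg.FusionSystem S) (hF : F.IsSaturated p) (hp : p ≠ 2) (hna : ¬ IsMulCommutative ↥S) (A : Subgroup Ω) (hA : A ≤ S ∧ IsMulCommutative ↥A ∧ (A.subgroupOf S).index = p) (huniq : ∀ B : Subgroup Ω, B ≤ S → IsMulCommutative ↥B → (B.subgroupOf S).index = p → B = A) (P : Subgroup Ω) (hP : F.IsEssential p P) : (P = A ∨ (∃ x ∈ S, x ∉ A ∧ P = (S ⊓ Subgroup.centralizer (S : Set Ω)) ⊔ Subgroup.zpowers x) ∨ (((upperCentralSeries ↥S 2).map S.subtype) ≤ A ∧ ∃ x ∈ S, x ∉ A ∧ P = ((upperCentralSeries ↥S 2).map S.subtype) ⊔ Subgroup.zpowers x)) ∧ (P.subgroupOf (S ⊓ Subgroup.normalizer (P : Set Ω))).index = p := by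
  have hna' : ∃ s ∈ S, ∃ t ∈ S, s * t ≠ t * s := by
    by_contra h
    push Not at h
    exact hna ⟨⟨fun a b => Subtype.ext (h a a.2 b b.2)⟩⟩
  have C : Ctx p S A :=
    { hS := hS
      hAS := hA.1
      hcomm := fun a ha b hb => congrArg Subtype.val (hA.2.1.is_comm.comm ⟨a, ha⟩ ⟨b, hb⟩)
      hidx := hA.2.2
      hna := hna' }
  have hPS := ess_le F hP
  show (P = A ∨ (∃ x ∈ S, x ∉ A ∧ P = ZS S ⊔ Subgroup.zpowers x) ∨
    (Z2 S ≤ A ∧ ∃ x ∈ S, x ∉ A ∧ P = Z2 S ⊔ Subgroup.zpowers x)) ∧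
    P.relIndex (normalizerIn S P) = p
  by_cases hPA : P ≤ A
  · have hPeq := ess_eq_of_le C F hP hPA
    refine ⟨Or.inl hPeq, ?_⟩
    rw [hPeq]
    exact relIndex_self_normalizerIn C
  · obtain ⟨x, hxP, hxA⟩ := SetLike.not_le_iff_exists.mp hPA
    by_cases hab : ∀ g ∈ P, g * x = x * g
    · obtain ⟨hPeq, -, hidx, -⟩ := ess_abelian_case C hS F hF hP hxP hxA hab
      exact ⟨Or.inr (Or.inl ⟨x, hPS hxP, hxA, hPeq⟩), hidx⟩
    · push Not at hab
      obtain ⟨g₁, hg₁, hne⟩ := hab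
      obtain ⟨hZ2A, hPeq, -, -, hidx⟩ := ess_nonabelian_case C hS F hF hP hxP hxA hg₁ hne
      exact ⟨Or.inr (Or.inr ⟨hZ2A, x, hPS hxP, hxA, hPeq⟩), hidx⟩

end Cfsg.Agent.S5254
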