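import Mathlib
import Cfsg.Statements.S5255
import Cfsg.Agent.Lib.Helper9.FusionLift3
import Cfsg.Agent.Lib.Helper9.FusionNormal4

set_option autoImplicit false
open Cfsg
open Cfsg.FusionSystem Cfsg.Agent.Lib.Helper9

namespace Cfsg.Agent.S5255

/-- Let F be a saturated fusion system over a finite p-group S and T a subgroup of S strongly closed in F. Then T·C_S(T) is strongly closed in F. -/
theorem result {Ω : Type*} [Group Ω] {S : Subgroup Ω} [Finite S] (p : ℕ) [Fact p.Prime] (hS : IsPGroup p S) (F : Cfsg.FusionSystem S) (hF : F.IsSaturated p) (T : Subgroup Ω) (hT : F.StronglyClosed T) : F.StronglyClosed (T ⊔ Cfsg.FusionSystem.centralizerIn S T) := by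
  refine ⟨sup_le hT.1 inf_le_left, ?_⟩
  intro P hP φ hφ x
  obtain ⟨ψ, hψ, Hψ⟩ := fs_exists_lift p hS F hF T hT hφ
  have hψS : ∀ y, ψ y ∈ S := (F.le_of_mem hψ).2
  -- decompose x = c t
  have hN : centralizerIn S T ≤ Subgroup.normalizer (T : Set Ω) :=
    inf_le_left.trans (fs_stronglyClosed_le_normalizer F hT)
  have hx : (x : Ω) ∈ centralizerIn S T ⊔ T := by rw [sup_comm]; exact hP x.2
  obtain ⟨c, hc, t, ht, hxt⟩ := mem_sup_of_le_normalizer' hN hx
  have ht' : t ∈ P ⊔ T := Subgroup.mem_sup_right ht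
  have hc' : c ∈ P ⊔ T := by
    have : c = x * t⁻¹ := by rw [← hxt]; group
    rw [this]
    exact Subgroup.mul_mem _ (Subgroup.mem_sup_left x.2) (Subgroup.inv_mem _ ht')
  have e1 : Subgroup.inclusion (le_sup_left : P ≤ P ⊔ T) x = ⟨c, hc'⟩ * ⟨t, ht'⟩ := by
    apply Subtype.ext
    exact hxt.symm
  have hψt : ψ ⟨t, ht'⟩ ∈ T := fs_stronglyClosed_mem F hT hψ ⟨t, ht'⟩ ht
  have hψc : ψ ⟨c, hc'⟩ ∈ centralizerIn S T := by
    refine ⟨hψS _, ?_⟩
    show ψ ⟨c, hc'⟩ ∈ Subgroup.centralizer (T : Set Ω)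
    rw [Subgroup.mem_centralizer_iff]
    intro s hs
    obtain ⟨y, hyT, hys⟩ := fs_stronglyClosed_surj F hT hψ le_sup_right hs
    rw [← hys, ← map_mul, ← map_mul]
    congr 1
    apply Subtype.ext
    exact (Subgroup.mem_centralizer_iff.mp hc.2) y hyT
  have h3 := Hψ x
  rw [e1, map_mul] at h3
  have h4 : φ x = (ψ ⟨c, hc'⟩ * ψ ⟨t, ht'⟩) * ((φ x)⁻¹ * (ψ ⟨c, hc'⟩ * ψ ⟨t, ht'⟩))⁻¹ := by group
  rw [h4]
  exact Subgroup.mul_mem _ (Subgroup.mul_mem _ (Subgroup.mem_sup_right hψc) (Subgroup.mem_sup_left hψt))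
    (Subgroup.inv_mem _ (Subgroup.mem_sup_left h3))

end Cfsg.Agent.S5255
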