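import Mathlib
import Cfsg.Statements.S5265
import Cfsg.Agent.Lib.Helper9.C2j

set_option autoImplicit false
open Cfsg
open Cfsg.FusionSystem Cfsg.Agent.Lib.Helper9 Cfsg.Agent.Lib.Helper9.H9AbIdx Cfsg.Agent.Lib.Helper9.H9C2 Cfsg.Agent.H9P3

namespace Cfsg.Agent.S5265

/-- Let p be a prime, S a nontrivial finite p-group whose centre has index at most p², and F a saturated fusion system over S with no nontrivial normal subgroup and with hyperfocal subgroup equal to S. Then S is extraspecial of order p³; for odd p it has exponent p, and for p = 2 it is dihedral of order 8. -/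
theorem result {Ω : Type*} [Group Ω] {S : Subgroup Ω} [Finite S] (p : ℕ) [Fact p.Prime] (hS : IsPGroup p ↥S) (F : Cfsg.FusionSystem S) (hF : F.IsSaturated p) (hS1 : S ≠ ⊥) (hcore : F.core = ⊥) (hhyp : F.hyperfocalSubgroup p = S) (hZ : (Subgroup.center ↥S).index ≤ p ^ 2) : Cfsg.IsExtraspecial p ↥S ∧ Nat.card S = p ^ 3 ∧ (p ≠ 2 → Monoid.exponent ↥S = p) ∧ (p = 2 → Nonempty (↥S ≃* DihedralGroup 4)) := by
  have hpp : p.Prime := Fact.out
  -- `S` is nonabelian
  have hna : ∃ s ∈ S, ∃ t ∈ S, s * t ≠ t * s := by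
    by_contra hcon
    push Not at hcon
    apply hS1
    have hnorm : F.IsNormal S := by
      rw [fs_isNormal_iff_essential_invariant p hS F hF]
      intro P hP
      rcases hP with hPS | hP
      · subst hPS
        refine ⟨le_refl _, fun α _ => ?_⟩
        rw [Subgroup.subgroupOf_self]
        exact Subgroup.map_top_of_surjective _ α.surjective
      · exfalso
        apply ess_ne p hS F hF hP
        apply le_antisymm (ess_le F hP)
        intro s hs
        apply ess_centric F hP hs
        intro g hg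
        exact hcon s hs g (ess_le F hP hg)
    have h3 : S ≤ F.core := le_sSup hnorm
    rw [hcore] at h3
    exact le_bot_iff.mp h3
  obtain ⟨s₀, hs₀, t₀, ht₀, hst₀⟩ := hna
  have hs₀Z : s₀ ∉ ZS S := fun h => hst₀ ((mem_ZS_iff.mp h).2 t₀ ht₀).symm
  -- the index of the centre is `p ^ 2`
  have hidx : (ZS S).relIndex S = p ^ 2 := by
    have h1 : (ZS S).relIndex S = (Subgroup.center ↥S).index := by
      rw [← ZS_subgroupOf]; rfl
    rw [h1]
    obtain ⟨n, hn⟩ := IsPGroup.iff_card.mp hS
    have h2 : (Subgroup.center ↥S).index ∣ p ^ n := hn ▸ Subgroup.index_dvd_card _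
    obtain ⟨k, -, hk⟩ := (Nat.dvd_prime_pow hpp).mp h2
    rw [hk] at hZ ⊢
    have hk2 : k ≤ 2 := (Nat.pow_le_pow_iff_right hpp.one_lt).mp hZ
    rw [← h1] at hk
    rcases k with _ | _ | k
    · exfalso
      rw [pow_zero] at hk
      exact hs₀Z (Subgroup.relIndex_eq_one.mp hk hs₀)
    · exfalso
      rw [zero_add, pow_one] at hk
      have h3 := sup_zpowers_of_prime_relIndex (ZS_le S) hk hs₀ hs₀Z
      apply hst₀
      have h4 : s₀ ∈ ZS S ⊔ Subgroup.zpowers s₀ := by rw [h3]; exact hs₀
      have h5 : t₀ ∈ ZS S ⊔ Subgroup.zpowers s₀ := by rw [h3]; exact ht₀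
      exact abelian_sup hs₀ s₀ h4 t₀ h5
    · have : k = 0 := by omega
      subst this
      rfl
  have D : C2 p S := ⟨hS, ⟨s₀, hs₀, t₀, ht₀, hst₀⟩, hidx⟩
  by_cases hp2 : p = 2
  · subst hp2
    obtain ⟨e⟩ := D.dihedral F hF hcore hhyp
    have hcard : Nat.card S = 2 ^ 3 := by
      rw [Nat.card_congr e.toEquiv, DihedralGroup.nat_card]; norm_num
    exact ⟨isExtraspecial_of_nonab 2 hcard D.not_comm_type, hcard, fun h => absurd rfl h,
      fun _ => ⟨e⟩⟩
  · have hZcard := D.card_ZS_odd F hF hp2 hcore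
    refine ⟨D.isExtraspecial hZcard, D.card_S hZcard, fun _ => ?_, fun h => absurd h hp2⟩
    have hpow := D.pow_eq_one_odd hZcard hp2 F hF hcore
    have h1 : Monoid.exponent ↥S ∣ p := by
      apply Monoid.exponent_dvd_of_forall_pow_eq_one
      intro g
      exact Subtype.ext (hpow g g.2)
    rcases (Nat.dvd_prime hpp).mp h1 with h2 | h2
    · exfalso
      rw [Monoid.exp_eq_one_iff] at h2
      apply hst₀
      have h3 : (⟨s₀, hs₀⟩ : S) = ⟨t₀, ht₀⟩ := Subsingleton.elim _ _
      have h4 : s₀ = t₀ := congrArg Subtype.val h3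
      rw [h4]
    · exact h2

end Cfsg.Agent.S5265
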