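import Cfsg.Statements.S5273
import Cfsg.Agent.Lib.Helper9.BGH5
import Cfsg.Agent.Lib.Helper9.FusionFocal

set_option autoImplicit false
open Cfsg

namespace Cfsg.Agent.S5273

/-- Small-exponent abelian subgroups control fusion. Let E and F be saturated fusion systems over the same finite p-group S with E contained in F. Suppose that E and F have the same maps between A and B for all subgroups A, B of S that are elementary abelian when p is odd, respectively abelian of exponent dividing 4 when p = 2. Then E = F (they have the same maps on every subgroup). -/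
theorem result {Ω : Type*} [Group Ω] {S : Subgroup Ω} [Finite S] (p : ℕ) [Fact p.Prime] (hS : IsPGroup p ↥S) (E F : Cfsg.FusionSystem S) (hE : E.IsSaturated p) (hF : F.IsSaturated p) (hEF : E.IsSubsystemOf F) (hodd : p ≠ 2 → ∀ A B : Subgroup Ω, A ≤ S → B ≤ S → Cfsg.IsElementaryAbelian p A → Cfsg.IsElementaryAbelian p B → E.homSet A B = F.homSet A B) (htwo : p = 2 → ∀ A B : Subgroup Ω, A ≤ S → B ≤ S → IsMulCommutative ↥A → IsMulCommutative ↥B → (∀ a ∈ A, a ^ 4 = 1) → (∀ b ∈ B, b ^ 4 = 1) → E.homSet A B = F.homSet A B) : ∀ P : Subgroup Ω, E.Hom P = F.Hom P := by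
  intro P
  apply Set.Subset.antisymm (hEF P)
  have hle : F.hyperfocalSubgroup p ≤ S := Cfsg.Agent.Lib.Helper9.hyperfocalSubgroup_le F p
  apply Cfsg.Agent.H9BGH.small_control p hS E F hE hF hEF ?_ P
  intro A' φ hA' hφ
  have hr := hA'.range hS hF hφ
  have hmem : φ ∈ F.homSet A' φ.range := ⟨hφ, fun x => ⟨x, rfl⟩⟩
  have hcomm : ∀ B' : Subgroup Ω, Cfsg.Agent.H9BGH.Sm F p B' → IsMulCommutative ↥B' :=
    fun B' h => ⟨⟨fun a b => Subtype.ext (h.2.1 a a.2 b b.2)⟩⟩
  by_cases hp2 : p = 2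
  · have h4 : ∀ B' : Subgroup Ω, Cfsg.Agent.H9BGH.Sm F p B' → ∀ a ∈ B', a ^ 4 = 1 := by
      intro B' h a ha
      rcases h.2.2 a ha with h1 | ⟨-, h1⟩
      · rw [hp2] at h1
        have : a ^ 4 = (a ^ 2) ^ 2 := by rw [← pow_mul]
        rw [this, h1, one_pow]
      · exact h1
    have h := htwo hp2 A' φ.range (hA'.1.trans hle) (hr.1.trans hle) (hcomm _ hA') (hcomm _ hr) (h4 _ hA') (h4 _ hr)
    rw [← h] at hmem
    exact hmem.1
  · have hpp : ∀ B' : Subgroup Ω, Cfsg.Agent.H9BGH.Sm F p B' → ∀ a ∈ B', a ^ p = 1 := by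
      intro B' h a ha
      rcases h.2.2 a ha with h1 | ⟨h1, -⟩
      · exact h1
      · exact absurd h1 hp2
    have h := hodd hp2 A' φ.range (hA'.1.trans hle) (hr.1.trans hle) ⟨hcomm _ hA', hpp _ hA'⟩ ⟨hcomm _ hr, hpp _ hr⟩
    rw [← h] at hmem
    exact hmem.1

end Cfsg.Agent.S5273
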