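import Cfsg.Statements.S5275
import Cfsg.Agent.Lib.Helper9.ZJD3
import Cfsg.Agent.Lib.Helper9.ZJF14

set_option autoImplicit false
open Cfsg

namespace Cfsg.Agent.S5275

/-- A Glauberman–Thompson nilpotency criterion for fusion systems relative to a strongly closed subgroup. Let p be an odd prime, F a saturated fusion system over a finite p-group S, and D a subgroup of S that is strongly closed in F. Let Z(J(D)) be the centre of the subgroup of D generated by the abelian subgroups of D of largest order. Then F is the inner fusion system of S if and only if the normalizer fusion system of Z(J(D)) in F is the inner fusion system of N_S(Z(J(D))) = S. -/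
theorem result {Ω : Type*} [Group Ω] {S : Subgroup Ω} [Finite S] (p : ℕ) [Fact p.Prime] (hS : IsPGroup p ↥S) (F : Cfsg.FusionSystem S) (hF : F.IsSaturated p) (hp : p ≠ 2) (D : Subgroup Ω) (hD : F.StronglyClosed D) : (∀ P : Subgroup Ω, F.Hom P = (Cfsg.innerFusionSystem S).Hom P) ↔ ∀ N : Cfsg.FusionSystem (Cfsg.FusionSystem.normalizerIn S (Cfsg.centerThompsonAOf D)), F.IsNormalizerSystem (Cfsg.centerThompsonAOf D) N → ∀ P : Subgroup Ω, N.Hom P = (Cfsg.innerFusionSystem (Cfsg.FusionSystem.normalizerIn S (Cfsg.centerThompsonAOf D))).Hom P := by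
  open Cfsg.FusionSystem Cfsg.Agent.Lib.Helper9 Cfsg.Agent.H9ZJ in
  have hDn : S ≤ Subgroup.normalizer (D : Set Ω) := fs_stronglyClosed_le_normalizer F hD
  have hZS : Cfsg.centerThompsonAOf D ≤ S := (zj_top_le D).trans hD.1
  constructor
  · intro hinner N hN P
    ext φ
    constructor
    · intro hφ
      have hPN : P ≤ normalizerIn S (Cfsg.centerThompsonAOf D) := (N.le_of_mem hφ).1
      rw [hN] at hφ
      have h1 := hφ.1
      rw [hinner] at h1
      obtain ⟨-, g, hg, Hg⟩ := h1
      exact ⟨hPN, g, ⟨hg, normalizer_le_normalizer_zj' D (hDn hg)⟩, Hg⟩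
    · rintro ⟨hPN, g, hg, Hg⟩
      have h1 : Cfsg.conjHom P g ∈ N.Hom P := N.conj_mem hPN hg
      have h2 : φ = Cfsg.conjHom P g := by
        ext x
        rw [Hg]
        rfl
      rw [h2]; exact h1
  · intro h P
    have hZ : ¬ Bad p F (Cfsg.centerThompsonAOf D) := not_bad_of_normalizer_inner p hS F hZS h
    have hall := maxbad_induction p (fun F => RelZJ p F)
      (fun hS F hF hΦ Q hQ E hE _ E' hE' => relZJ_factor p hS F hF hΦ Q hQ E hE E' hE')
      (fun hS F hF hΦ Q hQ hc => relZJ_constrained p hp hS F hF hΦ Q hQ hc)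
      (Nat.card S) hS F hF rfl ⟨D, hD, hZ⟩
    have hpg : ∀ P : Subgroup Ω, P ≤ S → IsPGroup p (F.autGroup P) := by
      intro P hP
      by_contra hh
      exact hall P (bad_of_not_isPGroup p F hP hh).2
    rw [Cfsg.Agent.S5083.result p hS F hF hpg]

end Cfsg.Agent.S5275
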