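import Cfsg.Statements.S5276
import Cfsg.Agent.Lib.Helper9.TW10

set_option autoImplicit false
open Cfsg

namespace Cfsg.Agent.S5276

/-- Let p be a prime and F a saturated fusion system over a finite p-group S. Then F is the inner fusion system of S if and only if the normalizer fusion system of S itself in F is the inner fusion system (equivalently, Aut_F(S) is induced by S) and the Frattini subgroup Φ(S) is strongly closed in F. -/
theorem result {Ω : Type*} [Group Ω] {S : Subgroup Ω} [Finite S] (p : ℕ) [Fact p.Prime] (hS : IsPGroup p ↥S) (F : Cfsg.FusionSystem S) (hF : F.IsSaturated p) : (∀ P : Subgroup Ω, F.Hom P = (Cfsg.innerFusionSystem S).Hom P) ↔ (∀ N : Cfsg.FusionSystem (Cfsg.FusionSystem.normalizerIn S S), F.IsNormalizerSystem S N → ∀ P : Subgroup Ω, N.Hom P = (Cfsg.innerFusionSystem (Cfsg.FusionSystem.normalizerIn S S)).Hom P) ∧ F.StronglyClosed ((frattini ↥S).map S.subtype) := by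
  constructor
  · intro hin
    refine ⟨?_, ?_, ?_⟩
    · intro N hNQ P
      ext φ
      constructor
      · intro hφN
        have hφ := hφN
        rw [hNQ] at hφ
        have h1 := hφ.1
        rw [hin] at h1
        obtain ⟨-, g, hg, Hg⟩ := h1
        exact ⟨(N.le_of_mem hφN).1, g, ⟨hg, Subgroup.le_normalizer hg⟩, Hg⟩
      · rintro ⟨hPT, g, hg, Hg⟩
        have h5 : Cfsg.conjHom P g ∈ N.Hom P := N.conj_mem hPT hg
        have h6 : φ = Cfsg.conjHom P g := by
          ext x
          rw [Hg]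
          rfl
        rw [h6]; exact h5
    · exact Subgroup.map_subtype_le _
    · intro R hR φ hφ x
      rw [hin] at hφ
      obtain ⟨-, g, hg, Hg⟩ := hφ
      obtain ⟨x', hx', hxx'⟩ := hR x.2
      rw [Hg, ← hxx']
      refine ⟨⟨g, hg⟩ * x' * (⟨g, hg⟩ : S)⁻¹, ?_, rfl⟩
      exact (inferInstance : (frattini ↥S).Normal).conj_mem x' hx' ⟨g, hg⟩
  · rintro ⟨hN, hΦ⟩
    have hhypΦ : F.hyperfocalSubgroup p ≤ (frattini ↥S).map S.subtype := by
      unfold Cfsg.FusionSystem.hyperfocalSubgroup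
      rw [Subgroup.closure_le]
      rintro _ ⟨P, α, x, hPS, -, rfl⟩
      have hφ : P.subtype.comp (α : MulAut P).toMonoidHom ∈ F.Hom P :=
        (Cfsg.Agent.Lib.Helper9.mem_autGroup_iff F hPS _).mp α.2
      exact Cfsg.Agent.H9TW.focal_le_frattini p hS F hF hN hΦ hφ x
    have hbot : Cfsg.Agent.H9TW.RS F p ≤ ⊥ := by
      apply Cfsg.Agent.H9TW.hyp_le_of_le_frattini_sup p hS F hF ⊥ bot_le
      intro r hr
      rw [Cfsg.Agent.H9TW.mem_RS] at hr
      obtain ⟨r', hr', hrr'⟩ := hhypΦ hr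
      have : r' = r := Subtype.ext hrr'
      rw [← this]
      exact Subgroup.mem_sup_left hr'
    intro P
    ext φ
    constructor
    · intro hφ
      obtain ⟨g, hg, Hg⟩ := Cfsg.Agent.H9TW.inner_mod_hyp p hS F hF hφ
      refine ⟨(F.le_of_mem hφ).1, g, hg, fun x => ?_⟩
      have h1 := Hg x
      have h2 : (g * (x : Ω) * g⁻¹)⁻¹ * φ x ∈ S :=
        Cfsg.Agent.Lib.Helper9.hyperfocalSubgroup_le F p h1
      have h3 : (⟨(g * (x : Ω) * g⁻¹)⁻¹ * φ x, h2⟩ : S) ∈ Cfsg.Agent.H9TW.RS F p :=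
        (Cfsg.Agent.H9TW.mem_RS F p _).mpr h1
      have h4 := hbot h3
      rw [Subgroup.mem_bot] at h4
      have h5 : (g * (x : Ω) * g⁻¹)⁻¹ * φ x = 1 := congrArg Subtype.val h4
      exact (inv_mul_eq_one.mp h5).symm
    · rintro ⟨hPS, g, hg, Hg⟩
      have h5 : Cfsg.conjHom P g ∈ F.Hom P := F.conj_mem hPS hg
      have h6 : φ = Cfsg.conjHom P g := by
        ext x
        rw [Hg]
        rfl
      rw [h6]; exact h5

end Cfsg.Agent.S5276
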