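import Cfsg.Statements.S5280
import Cfsg.Agent.Lib.Helper6.CstrK5
import Cfsg.Agent.Lib.Helper3.CstrK6
import Cfsg.Agent.Lib.Helper6.PStD
import Cfsg.Agent.Lib.Helper4.PStE2Fin
import Cfsg.Agent.Lib.Helper5.PStA
import Cfsg.Agent.Lib.Helper5.PStB
import Cfsg.Agent.S5246
-- import your own Cfsg.Agent.* helpers here

set_option autoImplicit false
open Cfsg

namespace Cfsg.Agent.S5280

/-- Let p be a prime greater than 3, G a finite group with Sylow p-subgroup P, and F the fusion system of G on P. Suppose F is p-stable: for every fully normalized subgroup Q and every χ in Aut_F(Q) acting quadratically on Q (χ(a⁻¹)·a·χ(a⁻¹)·χ(χ(a)) = 1 for all a in Q), χ lies in O_p(Aut_F(Q)). Then F is constrained: some subgroup normal in F is F-centric. -/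
theorem result {Ω : Type*} [Group Ω] [Finite Ω] (p : ℕ) [Fact p.Prime] (hp : 3 < p) (P : Sylow p Ω) (hst : (∀ Q : Subgroup Ω, (Cfsg.groupFusionSystem (P : Subgroup Ω)).IsFullyNormalized Q → ∀ χ : MulAut ↥Q, χ ∈ (Cfsg.groupFusionSystem (P : Subgroup Ω)).autGroup Q → (∀ a : ↥Q, (χ a⁻¹) * a * (χ a⁻¹) * (χ (χ a)) = 1) → χ ∈ ((Cfsg.pCore p ↥((Cfsg.groupFusionSystem (P : Subgroup Ω)).autGroup Q)).map ((Cfsg.groupFusionSystem (P : Subgroup Ω)).autGroup Q).subtype : Subgroup (MulAut ↥Q)))) : (Cfsg.groupFusionSystem (P : Subgroup Ω)).IsConstrained p := by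
  have hp2 : p ≠ 2 := by omega
  have hns : Cfsg.IsNormalizerPStable p Ω := (Cfsg.Agent.S5246.result hp2 P).mpr hst
  have hY : Cfsg.Agent.Lib.Helper2.PSt.InS p Ω :=
    Cfsg.Agent.Lib.Helper5.PStB.inS_of_pStab
      (Cfsg.Agent.Lib.Helper5.PStA.pStab_of_isNormalizerPStable hns)
  have h := Cfsg.Agent.Lib.Helper6.CstrK5.hasCtlCentric_of_inS hp2
    (fun Z _ _ h => Cfsg.Agent.Lib.Helper6.PStD.inS_stab22_of_lemmaQ
      (fun N _ _ hst B Q _ _ hB hQB hQ a ha =>
        Cfsg.Agent.Lib.Helper4.PStE2Fin.lemmaQ hp2 hst B Q hB hQB hQ a ha) h) _ Ω rfl hY P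
  exact Cfsg.Agent.Lib.Helper3.CstrK6.isConstrained_of_hasCtlCentric P h

end Cfsg.Agent.S5280
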