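import Mathlib
import Cfsg.Statements.S5283
import Cfsg.Agent.Lib.Helper9.SupSol11
import Cfsg.Agent.Lib.Helper9.SupSol12

set_option autoImplicit false
open Cfsg
open Cfsg.FusionSystem Cfsg.Agent.Lib.Helper9 Cfsg.Agent.Lib.Helper9.H9SupSol

namespace Cfsg.Agent.S5283

/-- Call a saturated fusion system F over a finite p-group S supersoluble when S has a chain of subgroups 1 = S_0 ≤ S_1 ≤ … ≤ S_m = S, each strongly closed in F, with each S_{i+1} generated by S_i together with one further element (cyclic steps). Then every saturated fusion system over S is supersoluble if and only if S is normal in every saturated fusion system over S (S is resistant) and every subgroup of Aut(S) of order prime to p is abelian of exponent dividing p − 1. -/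
theorem result {Ω : Type*} [Group Ω] {S : Subgroup Ω} [Finite S] (p : ℕ) [Fact p.Prime] (hS : IsPGroup p ↥S) : (∀ F : Cfsg.FusionSystem S, F.IsSaturated p → (∃ (m : ℕ) (c : Fin (m + 1) → Subgroup Ω), c 0 = ⊥ ∧ c (Fin.last m) = S ∧ (∀ i : Fin (m + 1), F.StronglyClosed (c i)) ∧ ∀ i : Fin m, c i.castSucc ≤ c i.succ ∧ ∃ x ∈ S, c i.succ = c i.castSucc ⊔ Subgroup.zpowers x)) ↔ (∀ F : Cfsg.FusionSystem S, F.IsSaturated p → F.IsNormal S) ∧ ∀ H : Subgroup (MulAut ↥S), (Nat.card ↥H).Coprime p → IsMulCommutative ↥H ∧ ∀ h ∈ H, h ^ (p - 1) = 1 := by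
  constructor
  · intro hL
    constructor
    · intro F hF
      obtain ⟨m, c, h0, hl, hsc, hstep⟩ := hL F hF
      obtain ⟨C, hC0, hCm, hCsc, hCstep⟩ := nat_chain_of_fin (S := S) F.StronglyClosed m c h0 hl hsc hstep
      exact normal_of_supersoluble p hS F hF C hC0 m hCm hCsc hCstep
    · intro H hH
      obtain ⟨F, hF, hHF⟩ := exists_saturated_of_pprime p hS H hH
      obtain ⟨m, c, h0, hl, hsc, hstep⟩ := hL F hF
      obtain ⟨C, hC0, hCm, hCsc, hCstep⟩ := nat_chain_of_fin (S := S) F.StronglyClosed m c h0 hl hsc hstep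
      have hHle : H ≤ F.autGroup S := by
        intro h hh
        rw [mem_autGroup_iff F le_rfl]
        exact hHF h hh
      obtain ⟨h1, h2⟩ := pprime_abelian_of_chain p hS F C hC0 m hCm hCsc hCstep H hH hHle
      exact ⟨⟨⟨fun a b => Subtype.ext (h1 a a.2 b b.2)⟩⟩, h2⟩
  · rintro ⟨hres, hb⟩ F hF
    exact chain_of_resistant p hS F hF (hres F hF) hb


end Cfsg.Agent.S5283
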