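import Mathlib
import Cfsg.Statements.S5284
import Cfsg.Agent.S5283
import Cfsg.Agent.S5106
import Cfsg.Agent.Lib.Helper9.SupSol19
import Cfsg.Agent.Lib.Helper9.FusionAbelian

set_option autoImplicit false
open Cfsg
open Cfsg.FusionSystem Cfsg.Agent.Lib.Helper9 Cfsg.Agent.Lib.Helper9.H9SupSol

namespace Cfsg.Agent.S5284

/-- Let S be a finite abelian p-group. Every saturated fusion system over S is supersoluble (S has a chain of F-strongly closed subgroups from 1 to S with cyclic steps) if and only if the invariants of S are pairwise distinct, that is, S is not isomorphic to a direct product (Z/p^n × Z/p^n) × H with n ≥ 1. -/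
theorem result {Ω : Type*} [Group Ω] {S : Subgroup Ω} [Finite S] (p : ℕ) [Fact p.Prime] (hS : IsPGroup p ↥S) (hab : IsMulCommutative ↥S) : (∀ F : Cfsg.FusionSystem S, F.IsSaturated p → (∃ (m : ℕ) (c : Fin (m + 1) → Subgroup Ω), c 0 = ⊥ ∧ c (Fin.last m) = S ∧ (∀ i : Fin (m + 1), F.StronglyClosed (c i)) ∧ ∀ i : Fin m, c i.castSucc ≤ c i.succ ∧ ∃ x ∈ S, c i.succ = c i.castSucc ⊔ Subgroup.zpowers x)) ↔ ¬ ∃ (n : ℕ) (H : Type) (_ : CommGroup H), 0 < n ∧ Nonempty (↥S ≃* (Multiplicative (ZMod (p ^ n)) × Multiplicative (ZMod (p ^ n))) × H) := by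
  have habel : ∀ a b : S, a * b = b * a := fun a b => hab.is_comm.comm a b
  have habΩ : ∀ x ∈ S, ∀ y ∈ S, x * y = y * x := by
    intro x hx y hy
    exact congrArg Subtype.val (habel ⟨x, hx⟩ ⟨y, hy⟩)
  rw [Cfsg.Agent.S5283.result p hS, ← bprop_iff_no_repeat habel p hS]
  constructor
  · rintro ⟨-, hb⟩
    intro H hH
    obtain ⟨h1, h2⟩ := hb H hH
    exact ⟨fun a ha b hb' => congrArg Subtype.val (h1.is_comm.comm ⟨a, ha⟩ ⟨b, hb'⟩), h2⟩
  · intro hB
    refine ⟨?_, ?_⟩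
    · intro F hF
      apply (Cfsg.Agent.S5106.result p hS F hF S le_rfl).mpr
      intro P hPS φ hφ
      obtain ⟨α, hα, hαφ⟩ := fs_abelian_extend p hS F hF habΩ hφ
      exact ⟨α, hα, fun x => hαφ x (hPS x.2)⟩
    · intro H hH
      obtain ⟨h1, h2⟩ := hB H hH
      exact ⟨⟨⟨fun a b => Subtype.ext (h1 a a.2 b b.2)⟩⟩, h2⟩


end Cfsg.Agent.S5284
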