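import Mathlib
import Cfsg.Statements.S5289
import Cfsg.Agent.Lib.Helper9.RK2h
import Cfsg.Agent.Lib.Helper9.RK2i
import Cfsg.Agent.S3888
import Cfsg.Agent.S5234
import Cfsg.Agent.S5087

set_option autoImplicit false
open Cfsg

namespace Cfsg.Agent.S5289

open Cfsg.FusionSystem Cfsg.Agent.Lib.Helper9 Cfsg.Agent.H9RK2

/-- a saturated fusion system without essential subgroups is the normalizer of `S` -/
theorem isNormal_of_no_essential {Ω : Type*} [Group Ω] {S : Subgroup Ω} [Finite S] (p : ℕ)
    [Fact p.Prime] (hS : IsPGroup p S) (F : Cfsg.FusionSystem S) (hF : F.IsSaturated p)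
    (hne : ∀ P : Subgroup Ω, ¬ F.IsEssential p P) : F.IsNormal S := by
  rw [Cfsg.Agent.S5087.result p hS F hF S]
  intro P hP
  rcases hP with hP | hP
  · subst hP
    refine ⟨le_rfl, fun α _ => ?_⟩
    rw [Subgroup.subgroupOf_self]
    exact Subgroup.map_top_of_surjective _ α.surjective
  · exact absurd hP (hne P)

/-- transport of a generating set from `↥S` to the ambient group -/
theorem closure_coe_eq {Ω : Type*} [Group Ω] {S : Subgroup Ω} (x y z : S)
    (h : Subgroup.closure ({x, y, z} : Set S) = ⊤) :
    Subgroup.closure ({(x : Ω), (y : Ω), (z : Ω)} : Set Ω) = S := by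
  have h1 := congrArg (Subgroup.map S.subtype) h
  rw [MonoidHom.map_closure, ← MonoidHom.range_eq_map, Subgroup.range_subtype] at h1
  refine Eq.trans ?_ h1
  congr 1
  ext g
  simp only [Set.mem_image, Set.mem_insert_iff, Set.mem_singleton_iff, Subgroup.subtype_apply]
  constructor
  · rintro (h | h | h)
    · exact ⟨x, Or.inl rfl, h.symm⟩
    · exact ⟨y, Or.inr (Or.inl rfl), h.symm⟩
    · exact ⟨z, Or.inr (Or.inr rfl), h.symm⟩
  · rintro ⟨w, (h | h | h), rfl⟩
    · left; rw [h]
    · right; left; rw [h]
    · right; right; rw [h]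

/-- Let p ≥ 5 be a prime and S a finite p-group of p-rank two (it has an elementary abelian subgroup of order p² and none of order p³) which is not the extraspecial group of order p³ and exponent p. Then S is resistant: for every saturated fusion system F over S, S is normal in F, that is, every map of F extends to an F-automorphism of S. -/
theorem result {Ω : Type*} [Group Ω] {S : Subgroup Ω} [Finite S] (p : ℕ) [Fact p.Prime] (hS : IsPGroup p S)
    (F : Cfsg.FusionSystem S) (hF : F.IsSaturated p)
    (hp : 5 ≤ p)
    (hrank2 : ∃ E : Subgroup Ω, E ≤ S ∧ Cfsg.IsElementaryAbelian p E ∧ Nat.card E = p ^ 2)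
    (hrank3 : ∀ E : Subgroup Ω, E ≤ S → Cfsg.IsElementaryAbelian p E → Nat.card E ≤ p ^ 2)
    (hnotE : ¬ (Nat.card S = p ^ 3 ∧ Monoid.exponent ↥S = p)) : F.IsNormal S := by
  have hpp : p.Prime := Fact.out
  have hp2 : p ≠ 2 := by omega
  have hrk : Cfsg.PRankLE p 2 ↥S := by
    intro A' hA'c hA'e
    have hE : Cfsg.IsElementaryAbelian p (A'.map S.subtype) := by
      refine ⟨inferInstance, ?_⟩
      rintro _ ⟨a, ha, rfl⟩
      have h1 := hA'e a ha
      have h2 := congrArg Subtype.val h1
      exact h2
    have h3 := hrank3 (A'.map S.subtype) (Subgroup.map_subtype_le A') hE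
    rwa [Subgroup.card_map_of_injective S.subtype_injective] at h3
  obtain ⟨n, hn⟩ := IsPGroup.iff_card.mp hS
  rcases Cfsg.Agent.S3888.result hp2 n hn hrk with hmeta |
    ⟨hn3, x, y, z, hgen, hx, hy, hz, hxz, hyz, hxy⟩ |
    ⟨hn4, s, x, y, z, hs, hgen, hx, hy, hz, hyz, hxy, hxz⟩ | ⟨h3, -⟩
  · -- metacyclic
    have hsc : F.StronglyClosed S := ⟨le_rfl, fun R _ φ hφ x => (F.le_of_mem hφ).2 x⟩
    exact Cfsg.Agent.S5234.result p hS F hF S hsc hp2 hmeta
  · -- type (b)
    have T : TB p n S (x : Ω) (y : Ω) (z : Ω) :=
      { hn := hn3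
        hcard := hn
        hgen := closure_coe_eq x y z hgen
        hx := congrArg Subtype.val hx
        hy := congrArg Subtype.val hy
        hz := congrArg Subtype.val hz
        hxz := congrArg Subtype.val hxz
        hyz := congrArg Subtype.val hyz
        hxy := congrArg Subtype.val hxy }
    by_cases h3 : n = 3
    · exfalso
      apply hnotE
      refine ⟨by rw [hn, h3], T.exponent_eq h3 hp2⟩
    · have hn4 : 4 ≤ n := by omega
      exact isNormal_of_no_essential p hS F hF (fun P hP => T.no_essential hn4 hp F hF hP)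
  · -- type (c)
    have hs' : ¬ p ∣ s := by
      intro hdvd
      rcases hs with hs | hs
      · rw [hs] at hdvd
        exact hpp.one_lt.ne' (Nat.dvd_one.mp hdvd)
      · apply hs
        have : (s : ZMod p) = 0 := (ZMod.natCast_eq_zero_iff s p).mpr hdvd
        rw [this]
        exact IsSquare.zero
    have T : TC p n s S (x : Ω) (y : Ω) (z : Ω) :=
      { hn := hn4
        hcard := hn
        hs := hs'
        hgen := closure_coe_eq x y z hgen
        hx := congrArg Subtype.val hx
        hy := congrArg Subtype.val hy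
        hz := congrArg Subtype.val hz
        hyz := congrArg Subtype.val hyz
        hxy := congrArg Subtype.val hxy
        hxz := congrArg Subtype.val hxz }
    exact isNormal_of_no_essential p hS F hF (fun P hP => T.no_essential hp F hF hP)
  · omega

end Cfsg.Agent.S5289
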