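import Mathlib
import Cfsg.Statements.S5290
import Cfsg.Agent.S5106
import Cfsg.Agent.Lib.Helper9.FusionInner
import Cfsg.Agent.Lib.Helper9.FusionNormal7

set_option autoImplicit false
open Cfsg

namespace Cfsg.Agent.S5290

open Cfsg.FusionSystem Cfsg.Agent.Lib.Helper9

/-- Let F be a saturated fusion system over a finite p-group S and Q a subgroup of S. Then Q is normal in F (F = N_F(Q)) if and only if the inner fusion system of Q, consisting of the conjugations by elements of Q on subgroups of Q, is a weakly normal subsystem of F (both saturated, Q strongly closed, invariant under F-conjugation, with the Frattini property). -/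
theorem result {Ω : Type*} [Group Ω] {S : Subgroup Ω} [Finite S] (p : ℕ) [Fact p.Prime] (hS : IsPGroup p S)
    (F : Cfsg.FusionSystem S) (hF : F.IsSaturated p)
    (Q : Subgroup Ω) (hQ : Q ≤ S) :
    F.IsNormal Q ↔ (Cfsg.innerFusionSystem Q).IsWeaklyNormalIn F p := by
  have hQp : IsPGroup p Q := hS.to_le hQ
  constructor
  · intro hQn
    refine ⟨inner_isSaturated p Q hQp, hF, ?_, fs_stronglyClosed_of_isNormal F hQn, ?_, ?_⟩
    · rintro P φ ⟨hPQ, g, hg, Hg⟩
      have : φ = conjHom P g := by ext x; rw [Hg]; rfl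
      rw [this]
      exact F.conj_mem (hPQ.trans hQ) (hQ hg)
    · rintro P hPT φ ⟨-, g, hg, Hg⟩ α hα
      refine ⟨conjHom _ ((α ⟨g, hg⟩ : Q) : Ω), ⟨?_, _, (α ⟨g, hg⟩).2, fun x => rfl⟩, ?_⟩
      · rintro _ ⟨x, -, rfl⟩
        exact (α x).2
      · intro x hφx hαx
        show ((α ⟨g, hg⟩ : Q) : Ω) * ((α ⟨x, hPT x.2⟩ : Q) : Ω) * ((α ⟨g, hg⟩ : Q) : Ω)⁻¹ = _
        have h1 : (⟨φ x, hφx⟩ : Q) = ⟨g, hg⟩ * ⟨x, hPT x.2⟩ * ⟨g, hg⟩⁻¹ := by
          apply Subtype.ext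
          exact Hg x
        rw [h1, map_mul, map_mul, map_inv]
        rfl
    · intro P hPQ φ hφ
      obtain ⟨α, hα, Hα⟩ := (Cfsg.Agent.S5106.result p hS F hF Q hQ).mp hQn P hPQ φ hφ
      refine ⟨α, hα, P.subtype, ⟨hPQ, 1, Q.one_mem, fun x => by simp⟩, fun x hx => ?_⟩
      rw [← Hα x]
      rfl
  · rintro ⟨-, -, -, hsc, -, hfr⟩
    rw [Cfsg.Agent.S5106.result p hS F hF Q hQ]
    intro P hPQ φ hφ
    obtain ⟨α', hα', φ₀, ⟨-, g, hg, Hg⟩, H⟩ := hfr P hPQ φ hφ
    have hconj : MulAut.conj (⟨g, hg⟩ : Q) ∈ F.autGroup Q := by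
      apply autInducedBy_le_autGroup F hQ
      apply inn_le_autInducedBy hQ
      exact ⟨_, rfl⟩
    refine ⟨α' * MulAut.conj (⟨g, hg⟩ : Q), (F.autGroup Q).mul_mem hα' hconj, fun x => ?_⟩
    have hx : φ₀ x ∈ Q := by
      rw [Hg]
      exact Q.mul_mem (Q.mul_mem hg (hPQ x.2)) (Q.inv_mem hg)
    rw [H x hx, MulAut.mul_apply]
    congr 2
    apply Subtype.ext
    show ((MulAut.conj (⟨g, hg⟩ : Q) (Subgroup.inclusion hPQ x) : Q) : Ω) = φ₀ x
    rw [Hg]
    simp [MulAut.conj_apply]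

end Cfsg.Agent.S5290
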