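import Cfsg.Statements.S5291
import Mathlib
import Cfsg.Agent.Lib.Helper9.InvTransport2

set_option autoImplicit false
set_option maxHeartbeats 1000000
open Cfsg

namespace Cfsg.Agent.S5291

open Cfsg.FusionSystem Cfsg.Agent.Lib.Helper9

/-- Let F be a saturated fusion system over a finite p-group S and E a weakly normal subsystem of F over a subgroup T. Suppose a subgroup R of T is normal in E (E = N_E(R)), and let R* be the subgroup of T generated by the images of R under all maps of F with source R. Then R* is normal in F (F = N_F(R*)). -/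
theorem result {Ω : Type*} [Group Ω] {S : Subgroup Ω} [Finite S] (p : ℕ) [Fact p.Prime] (hS : IsPGroup p S)
    (F : Cfsg.FusionSystem S) (hF : F.IsSaturated p)
    {T : Subgroup Ω} (E : Cfsg.FusionSystem T) (hE : E.IsWeaklyNormalIn F p)
    (R : Subgroup Ω) (hR : E.IsNormal R) :
    F.IsNormal (Subgroup.closure {x : Ω | ∃ φ ∈ F.Hom R, ∃ r : R, x = φ r}) := by
  obtain ⟨hEsat, -, hinv⟩ := hE
  have hTsc : F.StronglyClosed T := hinv.2.1
  have hTS : T ≤ S := hTsc.1
  have hRT : R ≤ T := hR.1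
  haveI : Finite T := fs_finite_of_le hTS
  have hTp : IsPGroup p T := hS.to_le hTS
  set Q := Subgroup.closure {x : Ω | ∃ φ ∈ F.Hom R, ∃ r : R, x = φ r} with hQdef
  have hQT : Q ≤ T := by
    rw [hQdef, Subgroup.closure_le]
    rintro _ ⟨φ, hφ, r, rfl⟩
    exact hTsc.2 R hRT φ hφ r
  -- `Q` is invariant under `Aut_F(T)`
  have hQinv : ∀ α ∈ F.autGroup T, ∀ x : T, (x : Ω) ∈ Q → ((α x : T) : Ω) ∈ Q := by
    intro α hα
    have hαF : T.subtype.comp α.toMonoidHom ∈ F.Hom T := (mem_autGroup_iff F hTS α).mp hα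
    have hle : Q ≤ ((Q.subgroupOf T).comap α.toMonoidHom).map T.subtype := by
      rw [hQdef, Subgroup.closure_le]
      rintro _ ⟨φ, hφ, r, rfl⟩
      have hφT : ∀ r : R, φ r ∈ T := fun r => hTsc.2 R hRT φ hφ r
      refine ⟨⟨φ r, hφT r⟩, ?_, rfl⟩
      show ((α ⟨φ r, hφT r⟩ : T) : Ω) ∈ Q
      have h1 := F.comp_mem hφ hαF hφT
      exact Subgroup.subset_closure ⟨_, h1, r, rfl⟩
    intro x hx
    obtain ⟨y, hy, hyx⟩ := hle hx
    have : y = x := Subtype.ext hyx
    rw [← this]
    exact hy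
  have hRQ : R ≤ Q := by
    intro r hr
    exact Subgroup.subset_closure ⟨R.subtype, fs_subtype_mem F (hRT.trans hTS), ⟨r, hr⟩, rfl⟩
  -- `Q` is normal in `E`
  have hQE : E.IsNormal Q := by
    have hmem := sSup_mem_of_finite_le T {N : Subgroup Ω | E.IsNormal N ∧ N ≤ Q} (fun N hN => hN.1.1)
      ⟨Cfsg.Agent.S5145.isNormal_bot E, bot_le⟩
      (fun N₁ h₁ N₂ h₂ => ⟨Cfsg.Agent.S5145.isNormal_sup E h₁.1 h₂.1, sup_le h₁.2 h₂.2⟩)
    have heq : Q = sSup {N : Subgroup Ω | E.IsNormal N ∧ N ≤ Q} := by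
      apply le_antisymm _ (sSup_le (fun N hN => hN.2))
      rw [hQdef, Subgroup.closure_le]
      rintro _ ⟨φ, hφ, r, rfl⟩
      obtain ⟨α, hα, φ₀, hφ₀, H⟩ := hinv.2.2.2 R hRT φ hφ
      have hwc := fs_weaklyClosed_of_isNormal E hR
      have h1 : φ₀ r ∈ R := (le_of_eq (hwc.2 φ₀ hφ₀)) ⟨r, rfl⟩
      have h2 : φ r ∈ imgT α R := by
        rw [H r (hRT h1)]
        exact apply_mem_imgT α h1
      have h3 : imgT α R ≤ sSup {N : Subgroup Ω | E.IsNormal N ∧ N ≤ Q} := by
        apply le_sSup
        refine ⟨isNormal_imgT E F hinv hR hα, ?_⟩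
        rintro _ ⟨x, hx, rfl⟩
        exact hQinv α hα x (hRQ hx)
      exact h3 h2
    rw [heq]
    exact hmem.1
  -- the upper central series of `Q`
  obtain ⟨n, h0, hn, hcomm⟩ := upperCentral_series_data p hS (hQT.trans hTS)
  have hsc : ∀ i : ℕ, F.StronglyClosed ((Subgroup.upperCentralSeries Q i).map Q.subtype) := by
    intro i
    have hEn : E.IsNormal ((Subgroup.upperCentralSeries Q i).map Q.subtype) := by
      apply Cfsg.Agent.S5085.result E Q _ hQE (Subgroup.map_subtype_le _)
      have : ((Subgroup.upperCentralSeries Q i).map Q.subtype).subgroupOf Q = Subgroup.upperCentralSeries Q i :=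
        Subgroup.comap_map_eq_self_of_injective Q.subtype_injective _
      rw [this]
      infer_instance
    apply stronglyClosed_of_invariant E F hinv (fs_stronglyClosed_of_isNormal E hEn)
    intro α hα x hx
    have hα' : α⁻¹ ∈ F.autGroup T := Subgroup.inv_mem _ hα
    have hiff : ∀ y : T, ((α y : T) : Ω) ∈ Q ↔ (y : Ω) ∈ Q := by
      intro y
      constructor
      · intro hy
        have := hQinv α⁻¹ hα' _ hy
        rwa [MulAut.inv_apply_self] at this
      · exact hQinv α hα y
    obtain ⟨z, hz, hzx⟩ := hx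
    have hchar : (Subgroup.upperCentralSeries Q i).Characteristic := inferInstance
    have h1 := hchar.fixed (restrictAut hQT α hiff)
    have h2 : restrictAut hQT α hiff z ∈ Subgroup.upperCentralSeries Q i := by
      have : z ∈ (Subgroup.upperCentralSeries Q i).comap (restrictAut hQT α hiff).toMonoidHom := by
        rw [h1]; exact hz
      exact this
    refine ⟨restrictAut hQT α hiff z, h2, ?_⟩
    show ((restrictAut hQT α hiff z : Q) : Ω) = ((α x : T) : Ω)
    rw [restrictAut_apply]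
    congr 2
    exact Subtype.ext hzx
  refine fs_isNormal_of_series p hS F hF Q n
    (fun i => (Subgroup.upperCentralSeries Q i).map Q.subtype) h0 ?_ ?_ ?_
  · show (Subgroup.upperCentralSeries Q ((Fin.last n : Fin (n + 1)) : ℕ)).map Q.subtype = Q
    simpa using hn
  · intro i j hij
    exact Subgroup.map_mono (Subgroup.upperCentralSeries_mono Q hij)
  · intro i
    refine ⟨hsc _, ?_⟩
    have h1 : ((i.succ : Fin (n + 1)) : ℕ) = ((Fin.castSucc i : Fin (n + 1)) : ℕ) + 1 := by simp
    show ⁅Q, (Subgroup.upperCentralSeries Q ((i.succ : Fin (n + 1)) : ℕ)).map Q.subtype⁆ ≤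
        (Subgroup.upperCentralSeries Q ((Fin.castSucc i : Fin (n + 1)) : ℕ)).map Q.subtype
    rw [h1]
    exact hcomm _

end Cfsg.Agent.S5291
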