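import Cfsg.Statements.S5292
import Mathlib
import Cfsg.Agent.S5090
import Cfsg.Agent.Lib.Lead.ModelPS2

set_option autoImplicit false
universe u
open Cfsg

namespace Cfsg.Agent.S5292

/-- Let F be a saturated fusion system over a finite p-group S. Then F is the fusion system of some finite p-solvable group on a Sylow p-subgroup if and only if F is constrained (some subgroup normal in F is centric in F) and the group of automorphisms that F induces on its largest normal subgroup O_p(F) is p-solvable. -/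
theorem result {Ω : Type u} [Group Ω] {S : Subgroup Ω} [Finite S] (p : ℕ) [Fact p.Prime] (hS : IsPGroup p S)
    (F : Cfsg.FusionSystem S) (hF : F.IsSaturated p) :
    (∃ (G : Type u) (_ : Group G) (_ : Finite G) (ι : S →* G), Cfsg.IsPSolvable p G ∧ F.IsRealizedBy ι ∧
        ∃ T : Sylow p G, (T : Subgroup G) = ι.range) ↔
      (F.IsConstrained p ∧ Cfsg.IsPSolvable p ↥(F.autGroup F.core)) := by
  constructor
  · rintro ⟨G, _, hfin, ι, hps, hι, T, hT⟩
    haveI := hfin
    haveI hKn : (Cfsg.pPrimeCore p G).Normal := (Cfsg.Agent.Lib.Helper6.pPrimeCore_mem_set p).1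
    have hKc : (Nat.card (Cfsg.pPrimeCore p G)).Coprime p := Cfsg.Agent.Lib.Helper6.pPrimeCore_coprime p
    obtain ⟨hι', T', hT'⟩ := Cfsg.Agent.Lib.Helper9.realized_quotient F ι hι T hT (Cfsg.pPrimeCore p G) hKc
    have hps' : Cfsg.IsPSolvable p (G ⧸ Cfsg.pPrimeCore p G) :=
      Cfsg.Agent.Lib.Helper7.isPSolvable_quotient hps _
    have hred : Cfsg.pPrimeCore p (G ⧸ Cfsg.pPrimeCore p G) = ⊥ :=
      Cfsg.Agent.Lib.Helper4.pPrimeCore_quotient_self p
    have hcent := Cfsg.Agent.Lib.Helper4.centralizer_pCore_le_of_isPSolvable hps' hred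
    obtain ⟨hnorm, hcc⟩ := Cfsg.Agent.H9MU.core_image_facts p F _ hι' T' hT' hcent
    have hcoreN : F.IsNormal F.core := Cfsg.Agent.S5145.result F
    refine ⟨⟨hF, F.core, hcoreN, hcoreN.1, ?_⟩, ?_⟩
    · rintro Q' ⟨φ, hφ, rfl⟩
      rw [(Cfsg.Agent.Lib.Helper9.fs_weaklyClosed_of_isNormal F hcoreN).2 φ hφ]
      rintro s ⟨hsS, hsC⟩
      have h1 : ((QuotientGroup.mk' (Cfsg.pPrimeCore p G)).comp ι) ⟨s, hsS⟩ ∈
          Subgroup.centralizer ((((F.core.subgroupOf S).map
            ((QuotientGroup.mk' (Cfsg.pPrimeCore p G)).comp ι) : Subgroup _)) : Set _) := by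
        rw [Subgroup.mem_centralizer_iff]
        rintro _ ⟨q, hq, rfl⟩
        rw [← map_mul, ← map_mul]
        congr 1
        apply Subtype.ext
        have hsC' : s ∈ Subgroup.centralizer (F.core : Set Ω) := hsC
        rw [Subgroup.mem_centralizer_iff] at hsC'
        exact hsC' q hq
      obtain ⟨q, hq, hqs⟩ := hcc h1
      have h2 := hι'.1 hqs
      have h3 : ((q : S) : Ω) = s := congrArg Subtype.val h2
      rw [← h3]
      exact hq
    · haveI := hnorm
      exact Cfsg.Agent.LeadModelPS.aut_psolv_of_psolv F _ hι' F.core hcoreN.1 p hps'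
  · rintro ⟨hcon, hA⟩
    obtain ⟨G, _, ι, hM⟩ := Cfsg.Agent.S5090.result p hS F hcon
    obtain ⟨hfin, hι, ⟨T, hT⟩, hcent⟩ := hM
    haveI := hfin
    obtain ⟨hnorm, hcc⟩ := Cfsg.Agent.H9MU.core_image_facts p F ι hι T hT hcent
    haveI := hnorm
    have hcoreN : F.IsNormal F.core := Cfsg.Agent.S5145.result F
    exact ⟨G, _, hfin, ι, Cfsg.Agent.LeadModelPS.psolv_of_aut F ι hι F.core hcoreN.1 p hS hcc hA, hι, T, hT⟩

end Cfsg.Agent.S5292
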