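import Mathlib
import Cfsg.Statements.S5297
import Cfsg.Agent.S5301
import Cfsg.Agent.Lib.Helper9.FusionSat2
import Cfsg.Agent.Lib.Helper9.FusionAut
import Cfsg.Agent.Lib.Helper9.FusionBasic
import Cfsg.Agent.Lib.Helper3.SmallExpEq

set_option autoImplicit false
universe u
open Cfsg

namespace Cfsg.Agent.S5297

open Cfsg.FusionSystem Cfsg.Agent.Lib.Helper9 Cfsg.Agent.Lib.Helper3.SmallExpEq

/-- an automorphism of `S` preserves the terms of the upper central series -/
theorem map_mem_ucs {S : Type*} [Group S] (σ : S ≃* S) (i : ℕ) {x : S}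
    (hx : x ∈ Subgroup.upperCentralSeries S i) : σ x ∈ Subgroup.upperCentralSeries S i := by
  have h1 : (Subgroup.upperCentralSeries S i).map σ.toMonoidHom = Subgroup.upperCentralSeries S i :=
    Subgroup.characteristic_iff_map_eq.mp inferInstance σ
  rw [← h1]
  exact ⟨x, hx, rfl⟩

/-- Let F be a saturated fusion system over a finite p-group S. If every map of F between cyclic subgroups of the hyperfocal subgroup of F of order p or 4 is a map of the normalizer system of S (it extends to a map of F defined on all of S), then S is normal in F. -/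
theorem result {Ω : Type u} [Group Ω] {S : Subgroup Ω} [Finite S] (p : ℕ) [Fact p.Prime] (hS : IsPGroup p S)
    (F : Cfsg.FusionSystem S) (hF : F.IsSaturated p)
    (h : ∀ A B : Subgroup Ω, A ≤ (F.hyperfocalSubgroup p) → B ≤ (F.hyperfocalSubgroup p) → IsCyclic ↥A → (Nat.card ↥A = p ∨ Nat.card ↥A = 4) → IsCyclic ↥B → (Nat.card ↥B = p ∨ Nat.card ↥B = 4) →
      F.homSet A B ⊆ F.normalizerHom S A) :
    F.IsNormal S := by
  have hpp : p.Prime := Fact.out
  apply Cfsg.Agent.S5301.result p hS F hF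
  intro P hPn _ _
  obtain ⟨hPS, R₀, hR₀⟩ := (fs_sylow_axiom p hS F hF hPn).2
  haveI : Finite P := fs_finite_of_le hPS
  have hPp : IsPGroup p P := hS.to_le hPS
  -- the data for the levels argument
  obtain ⟨G, hG⟩ : ∃ G : Subgroup (MulAut P), G = F.autGroup P := ⟨_, rfl⟩
  have hGmem : ∀ χ : MulAut P, χ ∈ G → χ ∈ F.autGroup P := fun χ hχ => hG ▸ hχ
  set Gen : Set (MulAut P) := {α : MulAut P | ∃ g ∈ S, ∀ x : P, ((α x : P) : Ω) = g * (x : Ω) * g⁻¹}
    with hGendef
  have hGen : Gen ⊆ G := by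
    rintro α ⟨g, hg, hα⟩
    rw [SetLike.mem_coe, hG, mem_autGroup_iff F hPS]
    have : P.subtype.comp α.toMonoidHom = conjHom P g := by
      ext x
      exact hα x
    rw [this]
    exact F.conj_mem hPS hg
  set Z : ℕ → Subgroup P := fun i => (Subgroup.upperCentralSeries S i).comap (Subgroup.inclusion hPS)
    with hZdef
  have hmemZ : ∀ (i : ℕ) (u : P), u ∈ Z i ↔
      (⟨(u : Ω), hPS u.2⟩ : S) ∈ Subgroup.upperCentralSeries S i := fun i u => Iff.rfl
  have hZ0 : Z 0 = ⊥ := by
    ext u
    rw [hmemZ, Subgroup.upperCentralSeries_zero, Subgroup.mem_bot, Subgroup.mem_bot]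
    constructor
    · intro h1
      apply Subtype.ext
      have := congrArg Subtype.val h1
      simpa using this
    · intro h1
      rw [h1]; rfl
  obtain ⟨n, hn⟩ := (hS.isNilpotent).nilpotent'
  have hZn : Z n = ⊤ := by
    ext u
    rw [hmemZ, hn]
    exact ⟨fun _ => Subgroup.mem_top _, fun _ => Subgroup.mem_top _⟩
  have hlow : ∀ a ∈ Gen, ∀ i : ℕ, ∀ u ∈ Z (i + 1), u⁻¹ * a u ∈ Z i := by
    rintro a ⟨g, hg, ha⟩ i u hu
    rw [hmemZ] at hu ⊢
    have hinv := Subgroup.inv_mem _ hu
    rw [Subgroup.mem_upperCentralSeries_succ_iff] at hinv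
    have h3 := hinv ⟨g, hg⟩
    convert h3 using 1
    apply Subtype.ext
    rw [commutatorElement_def]
    simp only [Subgroup.coe_mul, Subgroup.coe_inv, ha u, inv_inv]
    group
  set H : Subgroup P := (F.hyperfocalSubgroup p).comap P.subtype with hHdef
  have hH : ∀ χ ∈ G, (orderOf χ).Coprime p → ∀ y : P, y⁻¹ * χ y ∈ H := by
    intro χ hχ hcop y
    rw [hHdef, Subgroup.mem_comap]
    unfold FusionSystem.hyperfocalSubgroup
    apply Subgroup.subset_closure
    refine ⟨P, ⟨χ, hGmem χ hχ⟩, y, hPS, ?_, ?_⟩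
    · apply Subgroup.subset_closure
      show Nat.Coprime (orderOf (⟨χ, hGmem χ hχ⟩ : F.autGroup P)) p
      rw [← Subgroup.orderOf_coe]
      exact hcop
    · simp
  have hL : ∀ g ∈ G, ∀ u ∈ H, g u ∈ H → (u ^ p = 1 ∨ (p = 2 ∧ u ^ 4 = 1)) →
      ∀ i : ℕ, u ∈ Z i → g u ∈ Z i := by
    intro g hg u hu hgu hsmall i hui
    by_cases hu1 : u = 1
    · rw [hu1, map_one]; exact Subgroup.one_mem _
    have hgu1 : g u ≠ 1 := by
      intro hc
      exact hu1 (g.injective (hc.trans (map_one g).symm))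
    have hord : orderOf u = p ∨ orderOf u = 4 := by
      rcases hsmall with h1 | ⟨h2, h4⟩
      · left; exact orderOf_eq_prime h1 hu1
      · have hd : orderOf u ∣ 4 := orderOf_dvd_of_pow_eq_one h4
        have hne1 : orderOf u ≠ 1 := fun h => hu1 (orderOf_eq_one_iff.mp h)
        have hle : orderOf u ≤ 4 := Nat.le_of_dvd (by norm_num) hd
        have hpos : 0 < orderOf u := Nat.pos_of_dvd_of_pos hd (by norm_num)
        rw [h2]
        interval_cases hh : orderOf u
        · exact absurd rfl hne1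
        · left; rfl
        · norm_num at hd
        · right; rfl
    have hordg : orderOf (g u) = orderOf u := MulEquiv.orderOf_eq g u
    set A : Subgroup Ω := Subgroup.zpowers (u : Ω) with hA
    set B : Subgroup Ω := Subgroup.zpowers ((g u : P) : Ω) with hB
    have hAP : A ≤ P := Subgroup.zpowers_le.mpr u.2
    have hAh : A ≤ F.hyperfocalSubgroup p := by
      rw [hA, Subgroup.zpowers_le]; exact hu
    have hBh : B ≤ F.hyperfocalSubgroup p := by
      rw [hB, Subgroup.zpowers_le]; exact hgu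
    have hcardA : Nat.card A = p ∨ Nat.card A = 4 := by
      rw [hA, Nat.card_zpowers, Subgroup.orderOf_coe]
      exact hord
    have hcardB : Nat.card B = p ∨ Nat.card B = 4 := by
      rw [hB, Nat.card_zpowers, Subgroup.orderOf_coe, hordg]
      exact hord
    let φ : A →* Ω := (P.subtype.comp g.toMonoidHom).comp (Subgroup.inclusion hAP)
    have hφ : φ ∈ F.Hom A := fs_restrict_mem F ((mem_autGroup_iff F hPS g).mp (hGmem g hg)) hAP
    have hφB : ∀ x : A, φ x ∈ B := by
      rintro ⟨x, hx⟩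
      obtain ⟨k, rfl⟩ := Subgroup.mem_zpowers_iff.mp hx
      have e1 : (Subgroup.inclusion hAP ⟨(u : Ω) ^ k, hx⟩ : P) = u ^ k := Subtype.ext (by simp)
      show ((g (Subgroup.inclusion hAP ⟨(u : Ω) ^ k, hx⟩) : P) : Ω) ∈ B
      rw [e1, map_zpow, Subgroup.coe_zpow]
      exact Subgroup.zpow_mem_zpowers _ k
    have hmem := h A B hAh hBh (Subgroup.isCyclic_zpowers _) hcardA (Subgroup.isCyclic_zpowers _) hcardB
      ⟨hφ, hφB⟩
    obtain ⟨_, _, _, ψ, hψ, hψφ, hψS⟩ := hmem
    -- `ψ` restricted to `S` is an automorphism of `S`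
    have hSle : S ≤ A ⊔ S := le_sup_right
    have hψval : ∀ s : S, ψ (Subgroup.inclusion hSle s) ∈ S := by
      intro s
      have h0 : ψ (Subgroup.inclusion hSle s) ∈ (S.subgroupOf (A ⊔ S)).map ψ :=
        ⟨Subgroup.inclusion hSle s, by
          rw [SetLike.mem_coe, Subgroup.mem_subgroupOf]; exact s.2, rfl⟩
      rw [hψS] at h0
      exact h0
    let f : S →* S := (ψ.comp (Subgroup.inclusion hSle)).codRestrict S hψval
    have hfinj : Function.Injective f := by
      intro a b hab
      have h1 := congrArg Subtype.val hab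
      have h2 : ψ (Subgroup.inclusion hSle a) = ψ (Subgroup.inclusion hSle b) := h1
      have h3 := F.injective_of_mem hψ h2
      exact Subgroup.inclusion_injective hSle h3
    let σ : S ≃* S := MulEquiv.ofBijective f (Finite.injective_iff_bijective.mp hfinj)
    have hσ : ∀ s : S, ((σ s : S) : Ω) = ψ (Subgroup.inclusion hSle s) := fun s => rfl
    rw [hmemZ] at hui ⊢
    have h5 := map_mem_ucs σ i hui
    convert h5 using 1
    apply Subtype.ext
    rw [hσ]
    have h6 := hψφ ⟨(u : Ω), Subgroup.mem_zpowers _⟩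
    have h7 : (Subgroup.inclusion hSle ⟨(u : Ω), hPS u.2⟩ : ↥(A ⊔ S)) =
        Subgroup.inclusion le_sup_left ⟨(u : Ω), Subgroup.mem_zpowers _⟩ := Subtype.ext rfl
    rw [h7, h6]
    rfl
  have hcore := isPGroup_closure_conj_of_levels p hpp hPp G Gen hGen Z hZ0 n hZn hlow H hH hL
  subst hG
  obtain ⟨R, hR⟩ : ∃ R : Sylow p (F.autGroup P),
      (R : Subgroup (F.autGroup P)) = (autInducedBy S P).subgroupOf (F.autGroup P) := ⟨R₀, hR₀⟩
  set Kc : Subgroup (MulAut P) :=
    Subgroup.closure {k : MulAut P | ∃ g ∈ F.autGroup P, ∃ a ∈ Gen, k = g * a * g⁻¹} with hKc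
  have hKcG : Kc ≤ F.autGroup P := by
    rw [hKc, Subgroup.closure_le]
    rintro _ ⟨g, hg, a, ha, rfl⟩
    exact (F.autGroup P).mul_mem ((F.autGroup P).mul_mem hg (hGen ha)) ((F.autGroup P).inv_mem hg)
  have hautle : autInducedBy S P ≤ Kc := by
    unfold autInducedBy
    rw [Subgroup.closure_le]
    intro a ha
    apply Subgroup.subset_closure
    exact ⟨1, (F.autGroup P).one_mem, a, ha, by group⟩
  have hKp : IsPGroup p (Kc.subgroupOf (F.autGroup P)) :=
    hcore.of_equiv (Subgroup.subgroupOfEquivOfLe hKcG).symm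
  have hRle : (R : Subgroup (F.autGroup P)) ≤ Kc.subgroupOf (F.autGroup P) := by
    rw [hR]
    intro x hx
    rw [Subgroup.mem_subgroupOf] at hx ⊢
    exact hautle hx
  have hReq : Kc.subgroupOf (F.autGroup P) = (R : Subgroup (F.autGroup P)) := R.is_maximal' hKp hRle
  refine ⟨R, ?_⟩
  rw [← hReq]
  constructor
  intro k hk g
  rw [Subgroup.mem_subgroupOf] at hk ⊢
  have := conj_mem_closure_conj (F.autGroup P) Gen (g : MulAut P) g.2 (k : MulAut P) hk
  simpa using this

end Cfsg.Agent.S5297
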