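import Mathlib
import Cfsg.Statements.S5298
import Cfsg.Agent.Lib.Helper9.SparseModel5
import Cfsg.Agent.Lib.Helper9.FusionFocal
import Cfsg.Agent.Lib.Lead.SmallExp

set_option autoImplicit false
universe u
open Cfsg

namespace Cfsg.Agent.S5298

open Cfsg.FusionSystem Cfsg.Agent.Lib.Helper9 Cfsg.Agent.Lib.Lead.SmallExp

/-- `[R, ⟨χ⟩]` lies in the hyperfocal subgroup, for `R ≤ S`. -/
theorem commAut_le_hyp {Ω : Type*} [Group Ω] {S R : Subgroup Ω} {χ : MulAut R} (p : ℕ)
    (F : FusionSystem S) (hRS : R ≤ S) (hχF : χ ∈ F.autGroup R)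
    (hcop : (orderOf χ).Coprime p) :
    (commAut R χ).map R.subtype ≤ F.hyperfocalSubgroup p := by
  rw [Subgroup.map_le_iff_le_comap]
  unfold commAut
  rw [Subgroup.closure_le]
  rintro y ⟨x, h, hh, rfl⟩
  rw [SetLike.mem_coe, Subgroup.mem_comap]
  unfold FusionSystem.hyperfocalSubgroup
  apply Subgroup.subset_closure
  have hhF : h ∈ F.autGroup R := (Subgroup.zpowers_le.2 hχF) hh
  refine ⟨R, ⟨h, hhF⟩, x, hRS, ?_, ?_⟩
  · obtain ⟨i, rfl⟩ := Subgroup.mem_zpowers_iff.1 hh
    have hχres : (⟨χ, hχF⟩ : F.autGroup R) ∈ pResidual p (F.autGroup R) := by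
      apply Subgroup.subset_closure
      show Nat.Coprime (orderOf (⟨χ, hχF⟩ : F.autGroup R)) p
      rw [← Subgroup.orderOf_coe]
      exact hcop
    have := Subgroup.zpow_mem _ hχres i
    have e : (⟨χ, hχF⟩ : F.autGroup R) ^ i = ⟨χ ^ i, hhF⟩ := by
      apply Subtype.ext
      rw [Subgroup.coe_zpow]
    rwa [e] at this
  · simp

/-- Let F be a saturated fusion system over a finite p-group S. If every map of F between cyclic subgroups of the hyperfocal subgroup of F of order p or 4 is conjugation by an element of S, then F is the inner fusion system of S. -/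
theorem result {Ω : Type u} [Group Ω] {S : Subgroup Ω} [Finite S] (p : ℕ) [Fact p.Prime] (hS : IsPGroup p S)
    (F : Cfsg.FusionSystem S) (hF : F.IsSaturated p)
    (h : ∀ A B : Subgroup Ω, A ≤ (F.hyperfocalSubgroup p) → B ≤ (F.hyperfocalSubgroup p) → IsCyclic ↥A → (Nat.card ↥A = p ∨ Nat.card ↥A = 4) → IsCyclic ↥B → (Nat.card ↥B = p ∨ Nat.card ↥B = 4) →
      F.homSet A B ⊆ (Cfsg.innerFusionSystem S).Hom A) :
    ∀ P : Subgroup Ω, F.Hom P = (Cfsg.innerFusionSystem S).Hom P := by
  by_contra hne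
  obtain ⟨R, hRS, q, χ, hq, hqp, hχF, hχord⟩ := exists_pprime_aut p hS F hF hne
  haveI : Finite R := fs_finite_of_le hRS
  have hpp : p.Prime := Fact.out
  have hRp : IsPGroup p R := hS.to_le hRS
  have hcop : (orderOf χ).Coprime p := by
    rw [hχord]
    exact (Nat.coprime_primes hq hpp).2 hqp
  have hχq : χ ^ q = 1 := by rw [← hχord]; exact pow_orderOf_eq_one χ
  have hTle := commAut_le_hyp p F hRS hχF hcop
  have hTinv : ∀ t ∈ commAut R χ, χ t ∈ commAut R χ :=
    fun t ht => commAut_invariant (Subgroup.mem_zpowers χ) ht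
  have hkey : ∀ U : Subgroup R, U ≤ commAut R χ → (∀ u ∈ U, χ u ∈ U) →
      (∀ u ∈ U, u ^ p = 1 ∨ (p = 2 ∧ u ^ 4 = 1)) → ∀ u ∈ U, χ u = u := by
    intro U hUT hUinv hUexp
    have hcardU : ∀ u ∈ U, u ≠ 1 → orderOf u = p ∨ orderOf u = 4 := by
      intro u hu hu1
      rcases hUexp u hu with h1 | ⟨h2, h4⟩
      · left; exact orderOf_eq_prime h1 hu1
      · have hd : orderOf u ∣ 4 := orderOf_dvd_of_pow_eq_one h4
        have hne1 : orderOf u ≠ 1 := fun h => hu1 (orderOf_eq_one_iff.mp h)
        have hle : orderOf u ≤ 4 := Nat.le_of_dvd (by norm_num) hd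
        have hpos : 0 < orderOf u := Nat.pos_of_dvd_of_pos hd (by norm_num)
        rw [h2]
        interval_cases hh : orderOf u
        · exact absurd rfl hne1
        · left; rfl
        · norm_num at hd
        · right; rfl
    have hconj : ∀ u ∈ U, ∃ s ∈ S, ((χ u : R) : Ω) = s * (u : Ω) * s⁻¹ := by
      intro u hu
      by_cases hu1 : u = 1
      · exact ⟨1, S.one_mem, by rw [hu1, map_one]; simp⟩
      have hχu1 : χ u ≠ 1 := by
        intro hc
        apply hu1
        have := χ.injective (hc.trans (map_one χ).symm)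
        exact this
      set A : Subgroup Ω := Subgroup.zpowers (u : Ω) with hA
      set B : Subgroup Ω := Subgroup.zpowers ((χ u : R) : Ω) with hB
      have hAR : A ≤ R := Subgroup.zpowers_le.mpr u.2
      have hAh : A ≤ F.hyperfocalSubgroup p := by
        rw [hA, Subgroup.zpowers_le]; exact hTle ⟨u, hUT hu, rfl⟩
      have hBh : B ≤ F.hyperfocalSubgroup p := by
        rw [hB, Subgroup.zpowers_le]; exact hTle ⟨χ u, hUT (hUinv u hu), rfl⟩
      have hcardA : Nat.card A = p ∨ Nat.card A = 4 := by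
        rw [hA, Nat.card_zpowers, Subgroup.orderOf_coe]
        exact hcardU u hu hu1
      have hcardB : Nat.card B = p ∨ Nat.card B = 4 := by
        rw [hB, Nat.card_zpowers, Subgroup.orderOf_coe]
        exact hcardU (χ u) (hUinv u hu) hχu1
      let φ : A →* Ω := (R.subtype.comp χ.toMonoidHom).comp (Subgroup.inclusion hAR)
      have hφ : φ ∈ F.Hom A := fs_restrict_mem F ((mem_autGroup_iff F hRS χ).mp hχF) hAR
      have hφB : ∀ x : A, φ x ∈ B := by
        rintro ⟨x, hx⟩
        obtain ⟨k, rfl⟩ := Subgroup.mem_zpowers_iff.mp hx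
        have e1 : (Subgroup.inclusion hAR ⟨(u : Ω) ^ k, hx⟩ : R) = u ^ k := Subtype.ext (by simp)
        show ((χ (Subgroup.inclusion hAR ⟨(u : Ω) ^ k, hx⟩) : R) : Ω) ∈ B
        rw [e1, map_zpow, Subgroup.coe_zpow]
        exact Subgroup.zpow_mem_zpowers _ k
      have hmem := h A B hAh hBh (Subgroup.isCyclic_zpowers _) hcardA (Subgroup.isCyclic_zpowers _) hcardB ⟨hφ, hφB⟩
      obtain ⟨_, s, hs, Hs⟩ := hmem
      refine ⟨s, hs, ?_⟩
      exact Hs ⟨(u : Ω), Subgroup.mem_zpowers _⟩
    have hnil : Group.IsNilpotent S := hS.isNilpotent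
    obtain ⟨n, hn⟩ := hnil.nilpotent'
    have hchain : ∀ i : ℕ, ∀ u ∈ U, (⟨(u : Ω), hRS u.2⟩ : S) ∈ Subgroup.upperCentralSeries S i → χ u = u := by
      intro i
      induction i with
      | zero =>
        intro u hu hmem
        rw [Subgroup.upperCentralSeries_zero, Subgroup.mem_bot] at hmem
        have hu1 : u = 1 := Subtype.ext (by have := congrArg Subtype.val hmem; simpa using this)
        rw [hu1, map_one]
      | succ i ih =>
        intro u hu hmem
        obtain ⟨s, hs, hcj⟩ := hconj u hu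
        obtain ⟨k, hk⟩ := hRp (u⁻¹ * χ u)
        apply fixed_of_comm_fixed χ p q hpp hq hqp hχq u _ k hk
        apply ih _ (U.mul_mem (U.inv_mem hu) (hUinv u hu))
        have hinv := Subgroup.inv_mem _ hmem
        rw [Subgroup.mem_upperCentralSeries_succ_iff] at hinv
        have h3 := hinv ⟨s, hs⟩
        convert h3 using 1
        apply Subtype.ext
        simp [hcj, mul_assoc, commutatorElement_def]
    intro u hu
    exact hchain n u hu (by rw [hn]; exact Subgroup.mem_top _)
  have hfixT := smallexp_fix p q hpp hq hqp hRp χ hχq (commAut R χ) hkey (commAut R χ) le_rfl hTinv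
  have hone := aut_eq_one_of_fix_commAut p hRp hcop hfixT
  rw [hone, orderOf_one] at hχord
  exact hq.one_lt.ne hχord

end Cfsg.Agent.S5298
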