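import Cfsg.Statements.S5299
import Mathlib
import Cfsg.Agent.Lib.Helper9.Sections
import Cfsg.Agent.Lib.Helper9.GroupFusion

set_option autoImplicit false
open Cfsg Cfsg.FusionSystem Cfsg.Agent.Lib.Helper9

universe u

namespace Cfsg.Agent.S5299

theorem result {Ω : Type u} [Group Ω] {S : Subgroup Ω} [Finite S] (p : ℕ) [Fact p.Prime] (hS : IsPGroup p S)
    (F : Cfsg.FusionSystem S) (hF : F.IsSaturated p) (H : Type*) [Group H] [Finite H] (Q : Subgroup H) (hQ : IsPGroup p Q)
    (hfree : ¬ Cfsg.Involves (↥Q) (↥S)) : F.IsSectionFree p H := by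
  intro Q₀ hfn hcen N hN L _ ι hmodel hinv
  obtain ⟨hLfin, ⟨hιinj, -⟩, ⟨TL, hTL⟩, -⟩ := hmodel
  apply hfree
  rw [involves_iff_isSectionOf]
  have h1 : IsSectionOf Q L := (isSectionOf_subgroup Q).trans (isSectionOf_of_involves hinv)
  obtain ⟨K, f, hf⟩ := h1
  obtain ⟨T⟩ : Nonempty (Sylow p K) := inferInstance
  have h2 : IsSectionOf Q (T : Subgroup K) := exists_sylow_isSectionOf hQ f hf T
  have hT' : IsPGroup p ((T : Subgroup K).map K.subtype) := T.isPGroup'.map _
  obtain ⟨g, hg⟩ := exists_map_conj_le_sylow TL hT'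
  have hmem : ∀ t : (T : Subgroup K),
      ((MulAut.conj g).toMonoidHom.comp (K.subtype.comp (T : Subgroup K).subtype)) t ∈ (TL : Subgroup L) :=
    fun t => hg ⟨_, ⟨t, t.2, rfl⟩, rfl⟩
  have hj : Function.Injective
      (((MulAut.conj g).toMonoidHom.comp (K.subtype.comp (T : Subgroup K).subtype)).codRestrict
        (TL : Subgroup L) hmem) := by
    intro a b hab
    have h := congrArg Subtype.val hab
    simp only [MonoidHom.codRestrict_apply, MonoidHom.coe_comp, Function.comp_apply,
      MulEquiv.toMonoidHom_eq_coe, MonoidHom.coe_coe, Subgroup.subtype_apply] at h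
    have h' := (MulAut.conj g).injective h
    exact Subtype.ext (Subtype.ext h')
  have h3 : IsSectionOf Q (TL : Subgroup L) := h2.of_injective _ hj
  have h4 : IsSectionOf (ι.range) (normalizerIn S Q₀) :=
    isSectionOf_of_mulEquiv (MonoidHom.ofInjective hιinj)
  rw [← hTL] at h4
  have h5 : IsSectionOf (normalizerIn S Q₀) S :=
    (isSectionOf_of_mulEquiv (MulEquiv.refl _)).of_injective
      (Subgroup.inclusion (inf_le_left : normalizerIn S Q₀ ≤ S)) (Subgroup.inclusion_injective _)
  exact (h3.trans h4).trans h5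

end Cfsg.Agent.S5299
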