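import Mathlib
import Cfsg.Statements.S5300
import Cfsg.Agent.Lib.Helper9.FocalNorm3

set_option autoImplicit false
universe u
open Cfsg
open Cfsg.Agent.Lib.Helper9 Cfsg.Agent.Lib.Helper9.H9Focal

namespace Cfsg.Agent.S5300

/-- Let F be a saturated fusion system over a finite p-group S. If every cyclic subgroup of the focal subgroup of F of order p (of order 2 or 4 when p = 2) is normal in S, then S is normal in F. -/
theorem result {Ω : Type u} [Group Ω] {S : Subgroup Ω} [Finite S] (p : ℕ) [Fact p.Prime] (hS : IsPGroup p S)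
    (F : Cfsg.FusionSystem S) (hF : F.IsSaturated p)
    (hnorm : ∀ x ∈ F.focalSubgroup, (x ^ p = 1 ∨ (p = 2 ∧ x ^ 4 = 1)) → ∀ s ∈ S, s * x * s⁻¹ ∈ Subgroup.zpowers x) :
    F.IsNormal S := by
  rw [fs_isNormal_iff_essential_invariant p hS F hF]
  intro P hP
  by_cases hPS : P = S
  · subst hPS
    refine ⟨le_rfl, fun α _ => ?_⟩
    rw [Subgroup.subgroupOf_self]
    exact Subgroup.map_top_of_surjective _ α.surjective
  · have hE : F.IsEssential p P := hP.resolve_left hPS
    exfalso
    exact not_essential_of_focal_cyclic_normal p hS F hF hnorm P hE (lt_of_le_of_ne hE.1.1 hPS)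


end Cfsg.Agent.S5300
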