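import Cfsg.Statements.S5306
import Mathlib
import Cfsg.Agent.Lib.Helper9.Thompson
import Cfsg.Agent.Lib.Helper9.GroupFusion2

set_option autoImplicit false
open Cfsg Cfsg.Agent.Lib.Helper9

namespace Cfsg.Agent.S5306

theorem result {X : Type*} [Group X] [Finite X] (p : ℕ) [Fact p.Prime] (P : Sylow p X) (J : Subgroup X) (hJ : J = Cfsg.thompsonSubgroupOf p (P : Subgroup X))
    (x y : X) (hx : x ∈ J ∧ ∀ j ∈ J, Commute j x) (hy : y ∈ J ∧ ∀ j ∈ J, Commute j y) (g : X) (hg : g * x * g⁻¹ = y) :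
    ∃ n ∈ Subgroup.normalizer (J : Set X), n * x * n⁻¹ = y := by
  have hJP : J ≤ (P : Subgroup X) := hJ ▸ thompsonSubgroupOf_le p _
  have hJp : IsPGroup p J := P.isPGroup'.to_le hJP
  -- J and its conjugate by g centralize y
  have hJC : J ≤ Subgroup.centralizer ({y} : Set X) := by
    intro j hj
    rw [Subgroup.mem_centralizer_iff]
    rintro _ rfl
    exact (hy.2 j hj).eq.symm
  have hJgC : J.map (MulAut.conj g).toMonoidHom ≤ Subgroup.centralizer ({y} : Set X) := by
    rintro _ ⟨j, hj, rfl⟩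
    rw [Subgroup.mem_centralizer_iff]
    rintro _ rfl
    have h1 := (hx.2 j hj).eq
    simp only [MulEquiv.toMonoidHom_eq_coe, MonoidHom.coe_coe, MulAut.conj_apply]
    rw [← hg]
    have h2 : g * x * g⁻¹ * (g * j * g⁻¹) = g * (x * j) * g⁻¹ := by group
    have h3 : g * j * g⁻¹ * (g * x * g⁻¹) = g * (j * x) * g⁻¹ := by group
    rw [h2, h3, h1]
  obtain ⟨T, hJT, hTC, hTp, hTcard⟩ := exists_isPGroup_card_eq hJp hJC
  obtain ⟨c, hc, hcT⟩ := exists_conj_le_of_card_eq hTC hTcard (hJp.map (MulAut.conj g).toMonoidHom) hJgC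
  obtain ⟨h, hh⟩ := exists_map_conj_le_sylow P hTp
  -- T ≤ P^k with k = h⁻¹
  have hTPk : T ≤ (P : Subgroup X).map (MulAut.conj h⁻¹).toMonoidHom := by
    have := Subgroup.map_mono (f := (MulAut.conj h⁻¹).toMonoidHom) hh
    rwa [map_conj_map_conj_inv] at this
  have hcardJk := card_thompson_conj (p := p) (P : Subgroup X) h⁻¹
  -- J = J(P^k)
  have h1 : J ≤ thompsonSubgroupOf p ((P : Subgroup X).map (MulAut.conj h⁻¹).toMonoidHom) := by
    have := thompson_conj_le (p := p) (P : Subgroup X) 1 h⁻¹ (by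
      rw [← hJ]
      have : J.map (MulAut.conj (1 : X)).toMonoidHom = J := by
        ext z; simp [mem_map_conj_iff]
      rw [this]
      exact hJT.trans hTPk)
    rw [← hJ] at this
    have h2 : J.map (MulAut.conj (1 : X)).toMonoidHom = J := by
      ext z; simp [mem_map_conj_iff]
    rwa [h2] at this
  have hJfin : Finite (thompsonSubgroupOf p ((P : Subgroup X).map (MulAut.conj h⁻¹).toMonoidHom)) :=
    inferInstance
  have hJeq : J = thompsonSubgroupOf p ((P : Subgroup X).map (MulAut.conj h⁻¹).toMonoidHom) := by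
    apply Subgroup.eq_of_le_of_card_ge h1
    rw [hcardJk, ← hJ]
  -- J^{cg} ≤ J(P^k) = J
  have h2 : J.map (MulAut.conj (c * g)).toMonoidHom ≤ J := by
    have hle : J.map (MulAut.conj (c * g)).toMonoidHom ≤ (P : Subgroup X).map (MulAut.conj h⁻¹).toMonoidHom := by
      refine le_trans ?_ (hcT.trans hTPk)
      rintro _ ⟨j, hj, rfl⟩
      exact ⟨(MulAut.conj g).toMonoidHom j, ⟨j, hj, rfl⟩, by simp [MulAut.conj_apply, mul_assoc]⟩
    have := thompson_conj_le (p := p) (P : Subgroup X) (c * g) h⁻¹ (by rw [← hJ]; exact hle)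
    rw [← hJ, ← hJeq] at this
    exact this
  have h3 : J.map (MulAut.conj (c * g)).toMonoidHom = J := by
    have : Finite J := inferInstance
    apply Subgroup.eq_of_le_of_card_ge h2
    rw [card_map_conj]
  refine ⟨c * g, Subgroup.mem_normalizer_iff_map_conj_eq.mpr h3, ?_⟩
  have hcy := (Subgroup.mem_centralizer_iff.mp hc) y rfl
  have : c * g * x * (c * g)⁻¹ = c * (g * x * g⁻¹) * c⁻¹ := by group
  rw [this, hg, ← hcy]
  group

end Cfsg.Agent.S5306
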