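import Cfsg.Statements.S5311
import Mathlib
import Cfsg.Agent.Lib.Helper9.Iso7

set_option autoImplicit false
open Cfsg

namespace Cfsg.Agent.S5311

open Cfsg.FusionSystem Cfsg.Agent.Lib.Helper9 Cfsg.Agent.H9Iso

variable {Ω : Type*} [Group Ω] {S : Subgroup Ω}

theorem iso_refl [Finite S] (F : Cfsg.FusionSystem S) : IsIso F S.subtype F :=
  iso_self_of_mem F (fs_subtype_mem F le_rfl)

/-- The layer is contained in its image under an automorphism of the system. -/
theorem layer_le_push [Finite S] (p : ℕ) [Fact p.Prime] (hS : IsPGroup p S) (F : Cfsg.FusionSystem S)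
    (α β : S ≃* S) (hβα : ∀ s, β (α s) = s) (hαβ : ∀ s, α (β s) = s)
    (hα : IsIso F (S.subtype.comp α.toMonoidHom) F) (hβ : IsIso F (S.subtype.comp β.toMonoidHom) F)
    {T : Subgroup Ω} (E : Cfsg.FusionSystem T) (hE : E.IsLayerOf F p) (hTS : T ≤ S)
    (hinj : Function.Injective ((S.subtype.comp α.toMonoidHom).comp (Subgroup.inclusion hTS))) :
    E.IsSubsystemOf (pushSys E ((S.subtype.comp α.toMonoidHom).comp (Subgroup.inclusion hTS)) hinj) := by
  have hEα := pushSys_isIso E ((S.subtype.comp α.toMonoidHom).comp (Subgroup.inclusion hTS)) hinj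
  have hn : (pushSys E ((S.subtype.comp α.toMonoidHom).comp (Subgroup.inclusion hTS)) hinj).IsNormalIn F p :=
    normalIn_push hTS hα (fun a => rfl) hEα p hS hE.1
  refine hE.2.2 _ _ hn (fun U C hC => ?_)
  have hUS : U ≤ S := le_of_subnormal' hC.1
  haveI : Finite U := Finite.of_injective (Subgroup.inclusion hUS) (Subgroup.inclusion_injective hUS)
  have hU : IsPGroup p U := hS.to_le hUS
  have hinjβ : Function.Injective ((S.subtype.comp β.toMonoidHom).comp (Subgroup.inclusion hUS)) := by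
    intro a b hab
    have := hβ.injective hab
    exact Subtype.ext (congrArg (fun z : S => (z : Ω)) this)
  have hCβ := pushSys_isIso C ((S.subtype.comp β.toMonoidHom).comp (Subgroup.inclusion hUS)) hinjβ
  have hcomp : (pushSys C ((S.subtype.comp β.toMonoidHom).comp (Subgroup.inclusion hUS)) hinjβ).IsComponentIn F p :=
    ⟨subnormal_push hC.1 hS hUS hβ (fun a => rfl) hCβ, hCβ.quasisimple p hU hC.2⟩
  have hle := hE.2.1 _ _ hcomp
  have hU₁T := le_of_isSubsystemOf hle
  have hback : IsIso (pushSys C ((S.subtype.comp β.toMonoidHom).comp (Subgroup.inclusion hUS)) hinjβ)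
      (((S.subtype.comp α.toMonoidHom).comp (Subgroup.inclusion hTS)).comp (Subgroup.inclusion hU₁T)) C := by
    refine hCβ.cancel (iso_refl C) _ (fun s => ?_)
    show ((α ⟨((β ⟨s, hUS s.2⟩ : S) : Ω), _⟩ : S) : Ω) = s
    have : (⟨((β ⟨s, hUS s.2⟩ : S) : Ω), (β ⟨s, hUS s.2⟩).2⟩ : S) = β ⟨s, hUS s.2⟩ := rfl
    rw [hαβ]
  exact iso_mono hle hU₁T hEα (fun a => rfl) hback

/-- The layer of a saturated fusion system F over a finite p-group S is characteristic in F: for every automorphism α of S that is an automorphism of F (α and its inverse are morphisms from F to F) and every layer E of F over T, α carries T onto T and, for every map φ of E with source P, the map induced by α on α(P) (that is, α ∘ φ ∘ α⁻¹) is a map of E. -/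
theorem result {Ω : Type*} [Group Ω] {S : Subgroup Ω} [Finite S] (p : ℕ) [Fact p.Prime] (hS : IsPGroup p S) (F : Cfsg.FusionSystem S) (hF : F.IsSaturated p)
    (α : ↥S ≃* ↥S) (hα : F.IsMorphism F (S.subtype.comp α.toMonoidHom))
    (hα' : F.IsMorphism F (S.subtype.comp α.symm.toMonoidHom))
    {T : Subgroup Ω} (E : Cfsg.FusionSystem T) (hE : E.IsLayerOf F p) :
    Cfsg.FusionSystem.imageAlong (S.subtype.comp α.toMonoidHom) T = T ∧
      ∀ (P : Subgroup Ω) (φ : ↥P →* Ω), φ ∈ E.Hom P →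
        ∀ φ' : ↥(Cfsg.FusionSystem.imageAlong (S.subtype.comp α.toMonoidHom) P) →* Ω,
          Cfsg.FusionSystem.InducedAlong (S.subtype.comp α.toMonoidHom) φ φ' →
            φ' ∈ E.Hom (Cfsg.FusionSystem.imageAlong (S.subtype.comp α.toMonoidHom) P) := by
  have hθ : IsIso F (S.subtype.comp α.toMonoidHom) F := iso_of_morphisms F α hα hα'
  have hθ' : IsIso F (S.subtype.comp α.symm.toMonoidHom) F := iso_of_morphisms F α.symm hα' hα
  have hTS : T ≤ S := le_of_isSubsystemOf hE.1.1.2.2.1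
  haveI : Finite T := Finite.of_injective (Subgroup.inclusion hTS) (Subgroup.inclusion_injective hTS)
  have hinj : Function.Injective ((S.subtype.comp α.toMonoidHom).comp (Subgroup.inclusion hTS)) := by
    intro a b hab
    have := hθ.injective hab
    exact Subtype.ext (congrArg (fun z : S => (z : Ω)) this)
  have hinj' : Function.Injective ((S.subtype.comp α.symm.toMonoidHom).comp (Subgroup.inclusion hTS)) := by
    intro a b hab
    have := hθ'.injective hab
    exact Subtype.ext (congrArg (fun z : S => (z : Ω)) this)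
  have h1 := layer_le_push p hS F α α.symm (fun s => α.symm_apply_apply s) (fun s => α.apply_symm_apply s)
    hθ hθ' E hE hTS hinj
  have h2 := layer_le_push p hS F α.symm α (fun s => α.apply_symm_apply s) (fun s => α.symm_apply_apply s)
    hθ' hθ E hE hTS hinj'
  -- first part
  have hrange : ((S.subtype.comp α.toMonoidHom).comp (Subgroup.inclusion hTS)).range =
      imageAlong (S.subtype.comp α.toMonoidHom) T := by
    rw [← imageAlong_self, imageAlong_restrict hTS (S.subtype.comp α.toMonoidHom) _ (fun a => rfl) le_rfl]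
  have hle : T ≤ imageAlong (S.subtype.comp α.toMonoidHom) T := by
    rw [← hrange]
    exact le_of_isSubsystemOf h1
  have hfin : Finite (imageAlong (S.subtype.comp α.toMonoidHom) T) :=
    Finite.of_injective (Subgroup.inclusion (imageAlong_le_of_range _ hθ.range T))
      (Subgroup.inclusion_injective _)
  have hcard : Nat.card (imageAlong (S.subtype.comp α.toMonoidHom) T) ≤ Nat.card T := by
    let f : T → imageAlong (S.subtype.comp α.toMonoidHom) T := fun t =>
      ⟨(S.subtype.comp α.toMonoidHom) ⟨t, hTS t.2⟩, apply_mem_imageAlong _ (hTS t.2) t.2⟩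
    have hf : Function.Surjective f := by
      rintro ⟨y, hy⟩
      obtain ⟨s, hs, rfl⟩ := (mem_imageAlong_iff _ T y).mp hy
      exact ⟨⟨s, hs⟩, rfl⟩
    exact Nat.card_le_card_of_surjective f hf
  have hT : imageAlong (S.subtype.comp α.toMonoidHom) T = T :=
    (Subgroup.eq_of_le_of_card_ge hle hcard).symm
  refine ⟨hT, fun P φ hφ φ' hind => ?_⟩
  have hPT : P ≤ T := (E.le_of_mem hφ).1
  have hφT := (E.le_of_mem hφ).2
  obtain ⟨-, χ, hχ, hindχ⟩ := h2 P hφ
  have hχT := (E.le_of_mem hχ).2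
  have hpre : preimageAlong ((S.subtype.comp α.symm.toMonoidHom).comp (Subgroup.inclusion hTS)) P =
      imageAlong (S.subtype.comp α.toMonoidHom) P := by
    apply le_antisymm
    · intro y hy
      obtain ⟨hyT, hy'⟩ := (mem_preimageAlong_iff _ P y).mp hy
      have hy'' : ((α.symm ⟨y, hTS hyT⟩ : S) : Ω) ∈ P := hy'
      refine (mem_imageAlong_iff _ P y).mpr ⟨α.symm ⟨y, hTS hyT⟩, hy'', ?_⟩
      show ((α (α.symm ⟨y, hTS hyT⟩) : S) : Ω) = y
      rw [MulEquiv.apply_symm_apply]
    · intro y hy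
      have hyT : y ∈ T := by
        rw [← hT]
        exact imageAlong_mono _ hPT hy
      obtain ⟨s, hs, rfl⟩ := (mem_imageAlong_iff _ P y).mp hy
      refine (mem_preimageAlong_iff _ P _).mpr ⟨hyT, ?_⟩
      show ((α.symm ⟨((α s : S) : Ω), _⟩ : S) : Ω) ∈ P
      have : (⟨((α s : S) : Ω), hTS hyT⟩ : S) = α s := rfl
      rw [this, MulEquiv.symm_apply_apply]
      exact hs
  refine hom_cast E hpre hχ (fun y h₁ h₂ => ?_)
  obtain ⟨s, hs, hsy⟩ := (mem_imageAlong_iff _ P y).mp h₂
  have hyT : y ∈ T := preimageAlong_le _ P h₁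
  have hφS : φ ⟨s, hs⟩ ∈ S := hTS (hφT _)
  have e1 := inducedAlong_apply hind ⟨s, hs⟩ s.2 (by rw [hsy]; exact h₂) hφS
  have e2 := inducedAlong_apply hindχ ⟨y, h₁⟩ hyT (apply_mem_of_mem_preimageAlong _ P ⟨y, h₁⟩) (hχT _)
  -- `θ' y = s`
  have e3 : ((S.subtype.comp α.symm.toMonoidHom).comp (Subgroup.inclusion hTS)) ⟨y, hyT⟩ = (s : Ω) := by
    show ((α.symm ⟨y, hTS hyT⟩ : S) : Ω) = s
    have : (⟨y, hTS hyT⟩ : S) = α s := Subtype.ext hsy.symm
    rw [this, MulEquiv.symm_apply_apply]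
  have e4 : (⟨((S.subtype.comp α.symm.toMonoidHom).comp (Subgroup.inclusion hTS)) ⟨y, hyT⟩,
      apply_mem_of_mem_preimageAlong _ P ⟨y, h₁⟩⟩ : P) = ⟨s, hs⟩ := Subtype.ext e3
  rw [e4] at e2
  -- e2 : φ ⟨s, hs⟩ = θ' ⟨χ ⟨y, h₁⟩, _⟩
  have e5 : (⟨y, h₂⟩ : ↥(imageAlong (S.subtype.comp α.toMonoidHom) P)) =
      ⟨(S.subtype.comp α.toMonoidHom) ⟨s, s.2⟩, by rw [hsy]; exact h₂⟩ := Subtype.ext hsy.symm
  rw [e5, e1]
  show χ ⟨y, h₁⟩ = ((α ⟨φ ⟨s, hs⟩, hφS⟩ : S) : Ω)
  have e6 : (⟨φ ⟨s, hs⟩, hφS⟩ : S) = α.symm ⟨χ ⟨y, h₁⟩, hTS (hχT _)⟩ := Subtype.ext e2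
  rw [e6, MulEquiv.apply_symm_apply]

end Cfsg.Agent.S5311
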