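import Mathlib
import Cfsg.Statements.S5317
import Cfsg.Agent.Lib.Helper9.PSL2Fus2

set_option autoImplicit false
open Cfsg
open Cfsg.Agent

namespace Cfsg.Agent.S5317

/-- Let F be a finite field of odd order q with q² ≡ 1 mod 16 (so that a Sylow 2-subgroup of PSL(2,q), dihedral of order the 2-part of (q²−1)/2, has order at least 8). Then the 2-fusion system of PSL(2,F) on a Sylow 2-subgroup is simple: saturated, over a nontrivial 2-group, with no normal subsystem other than the trivial one and itself. -/
theorem result {F : Type*} [Field F] [Fintype F] (hodd : Fintype.card F % 2 = 1) (h16 : 16 ∣ Fintype.card F ^ 2 - 1)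
    (S : Sylow 2 (Matrix.ProjectiveSpecialLinearGroup (Fin 2) F)) :
    (Cfsg.groupFusionSystem (S : Subgroup (Matrix.ProjectiveSpecialLinearGroup (Fin 2) F))).IsSimple 2 := by
  classical
  haveI := Cfsg.Agent.Lib.Helper2.DSub.finite_psl (F := F)
  have hq1 : 1 < Fintype.card F := Fintype.one_lt_card
  have h7 : 4 ≤ Fintype.card F := by
    by_contra hlt
    have h3 : Fintype.card F = 3 := by omega
    rw [h3] at h16
    norm_num at h16
  obtain ⟨j, hj, ⟨e⟩⟩ := H9PF.sylow_two_dihedral hodd h16 S
  apply H9PF.simple_of_dihedral_sylow S j hj e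
  intro x y hx hy
  exact Cfsg.Agent.S0107.result S j hj ⟨e⟩ (H9PF.pResidual_eq_top hodd h7) x y hx hy

end Cfsg.Agent.S5317
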