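import Mathlib
import Cfsg.Statements.S5326
import Cfsg.Agent.Lib.Helper9.EssGen1
import Cfsg.Agent.Lib.Helper9.EssGen4
import Cfsg.Agent.Lib.Helper9.FusionAG3

set_option autoImplicit false
open Cfsg
open Cfsg.FusionSystem Cfsg.Agent.Lib.Helper9

namespace Cfsg.Agent.S5326

/-- Let F be a saturated fusion system over a finite p-group S and Q an essential subgroup. Then the F-conjugacy class of Q cannot be left out of a generating family: there is a fusion system E over S whose automorphism group of every subgroup R ≤ S not F-conjugate to Q contains Aut_F(R), and yet E does not contain every map of F. -/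
theorem result {Ω : Type*} [Group Ω] {S : Subgroup Ω} [Finite S] (p : ℕ) [Fact p.Prime] (hS : IsPGroup p S) (F : Cfsg.FusionSystem S) (hF : F.IsSaturated p) (Q : Subgroup Ω) (hQ : F.IsEssential p Q) : ∃ E : Cfsg.FusionSystem S, (∀ R : Subgroup Ω, R ≤ S → ¬ F.IsConj Q R → F.autGroup R ≤ E.autGroup R) ∧ ¬ F ≤ E := by
  obtain ⟨hQc, hQn, hN, E₀, hE₀⟩ := hQ
  have hQle : Q ≤ S := hQn.1
  haveI : Finite Q := fs_finite_of_le hQle
  haveI : Finite (F.autGroup Q) := inferInstance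
  obtain ⟨-, T₀, hT₀⟩ := (fs_sylow_axiom p hS F hF hQn).2
  have hInnS : Inn Q ≤ autInducedBy S Q := inn_le_autInducedBy hQle
  have hCle : centralizerIn S Q ≤ Q := hQc.2 Q (fs_isConj_refl F hQle)
  have hIT : (Inn Q).subgroupOf (F.autGroup Q) ≤ T₀ := by
    rw [hT₀]; exact Subgroup.comap_mono hInnS
  -- Q ≠ S
  have hQS : Q ≠ S := by
    intro hQS
    have hpd := hE₀.1
    have hTI : (T₀ : Subgroup (F.autGroup Q)) = (Inn Q).subgroupOf (F.autGroup Q) := by
      apply le_antisymm _ hIT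
      rw [hT₀]
      intro a ha
      rw [Subgroup.mem_subgroupOf, mem_autInducedBy_iff] at ha
      obtain ⟨g, hg, Hg⟩ := ha
      rw [Subgroup.mem_subgroupOf]
      have hgQ : g ∈ Q := by rw [hQS]; exact hg
      refine ⟨⟨g, hgQ⟩, ?_⟩
      ext x
      rw [Hg x]
      simp [MulAut.conj_apply]
    have h1 : ¬ p ∣ (T₀ : Subgroup (F.autGroup Q)).index := T₀.not_dvd_index
    rw [hTI, Subgroup.index_eq_card] at h1
    exact h1 hpd
  obtain ⟨M, hMtop, hMprop⟩ := exists_proper_of_stronglyPEmbedded p _ T₀ hIT hE₀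
  have hM : ∀ α ∈ F.autGroup Q, (∃ r ∈ extender S Q (Q.subtype.comp α.toMonoidHom), r ∉ Q) →
      α ∈ M.map (F.autGroup Q).subtype := by
    rintro α hα ⟨r, hr, hrQ⟩
    rw [mem_extender_iff] at hr
    obtain ⟨hrS, hrN, s, hsS, Hs⟩ := hr
    obtain ⟨q, hqdef⟩ : ∃ q : MulAut Q, q = Q.normalizerMonoidHom ⟨r, hrN⟩ := ⟨_, rfl⟩
    have hqr : ∀ x : Q, ((q x : Q) : Ω) = r * x * r⁻¹ := by intro x; rw [hqdef]; rfl
    have hqS : q ∈ autInducedBy S Q := by
      rw [mem_autInducedBy_iff]; exact ⟨r, hrS, hqr⟩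
    have hqF : q ∈ F.autGroup Q := autInducedBy_le_autGroup F hQle hqS
    have hqT : (⟨q, hqF⟩ : F.autGroup Q) ∈ (T₀ : Subgroup (F.autGroup Q)) := by
      rw [hT₀, Subgroup.mem_subgroupOf]; exact hqS
    have hqI : (⟨q, hqF⟩ : F.autGroup Q) ∉ (Inn Q).subgroupOf (F.autGroup Q) := by
      intro h
      rw [Subgroup.mem_subgroupOf] at h
      exact hrQ (mem_of_induces_inner hCle h hrS hQle hqr)
    have hconj : (⟨α, hα⟩ : F.autGroup Q) * ⟨q, hqF⟩ * (⟨α, hα⟩ : F.autGroup Q)⁻¹ ∈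
        (T₀ : Subgroup (F.autGroup Q)) := by
      rw [hT₀, Subgroup.mem_subgroupOf, mem_autInducedBy_iff]
      refine ⟨s, hsS, fun z => ?_⟩
      show ((α (q (α⁻¹ z)) : Q) : Ω) = s * z * s⁻¹
      have h1 : q (α⁻¹ z) = ⟨r * ((α⁻¹ z : Q) : Ω) * r⁻¹, by rw [← hqr]; exact (q _).2⟩ :=
        Subtype.ext (hqr _)
      rw [h1]
      have h2 := Hs (α⁻¹ z) (by rw [← hqr]; exact (q _).2)
      have h3 : (Q.subtype.comp α.toMonoidHom) ⟨r * ((α⁻¹ z : Q) : Ω) * r⁻¹, by rw [← hqr]; exact (q _).2⟩ =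
          s * (Q.subtype.comp α.toMonoidHom) (α⁻¹ z) * s⁻¹ := h2
      have h4 : (Q.subtype.comp α.toMonoidHom) (α⁻¹ z) = (z : Ω) := by
        show ((α (α⁻¹ z) : Q) : Ω) = z
        rw [MulAut.apply_inv_self]
      rw [h4] at h3
      exact h3
    exact ⟨⟨α, hα⟩, hMprop _ _ hqT hqI hconj, rfl⟩
  obtain ⟨a, haM⟩ : ∃ a : F.autGroup Q, a ∉ M := by
    by_contra hcon
    push Not at hcon
    exact hMtop (eq_top_iff.mpr (fun x _ => hcon x))
  have haM' : (a : MulAut Q) ∉ M.map (F.autGroup Q).subtype := by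
    rintro ⟨b, hb, hba⟩
    have : b = a := Subtype.ext hba
    exact haM (this ▸ hb)
  exact ⟨omitSys p hS F hF Q hQn _ hM hQS,
    fun R hR hRQ => autGroup_le_omitSys p hS F hF Q hQn _ hM hQS hR hRQ,
    not_le_omitSys p hS F hF Q hQn _ hM hQS a.2 haM'⟩

end Cfsg.Agent.S5326
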