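import Mathlib
import Cfsg.Statements.S5327
import Cfsg.Agent.S5326
import Cfsg.Agent.Lib.Helper9.EssGen5
import Cfsg.Agent.Lib.Helper9.FusionAG3

set_option autoImplicit false
open Cfsg
open Cfsg.FusionSystem Cfsg.Agent.Lib.Helper9

namespace Cfsg.Agent.S5327

/-- Let F be a saturated fusion system over a finite p-group S. Call a family of subgroups of S generating when every fusion system over S whose automorphism group of each member R contains Aut_F(R) contains every map of F. If two families are each closed under F-conjugacy and each generating, then their intersection is generating. -/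
theorem result {Ω : Type*} [Group Ω] {S : Subgroup Ω} [Finite S] (p : ℕ) [Fact p.Prime] (hS : IsPGroup p S) (F : Cfsg.FusionSystem S) (hF : F.IsSaturated p) (𝒬₁ 𝒬₂ : Set (Subgroup Ω)) (h₁ : ∀ R ∈ 𝒬₁, ∀ R' : Subgroup Ω, F.IsConj R R' → R' ∈ 𝒬₁) (h₂ : ∀ R ∈ 𝒬₂, ∀ R' : Subgroup Ω, F.IsConj R R' → R' ∈ 𝒬₂) (hg₁ : ∀ E : Cfsg.FusionSystem S, (∀ R ∈ 𝒬₁, F.autGroup R ≤ E.autGroup R) → F ≤ E) (hg₂ : ∀ E : Cfsg.FusionSystem S, (∀ R ∈ 𝒬₂, F.autGroup R ≤ E.autGroup R) → F ≤ E) (E : Cfsg.FusionSystem S) (hE : ∀ R ∈ 𝒬₁ ∩ 𝒬₂, F.autGroup R ≤ E.autGroup R) : F ≤ E := by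
  -- a generating family closed under conjugacy contains S or else Aut_F(S) is inner; and contains all essentials
  have key : ∀ 𝒬 : Set (Subgroup Ω), (∀ R ∈ 𝒬, ∀ R' : Subgroup Ω, F.IsConj R R' → R' ∈ 𝒬) →
      (∀ E : Cfsg.FusionSystem S, (∀ R ∈ 𝒬, F.autGroup R ≤ E.autGroup R) → F ≤ E) →
      (S ∉ 𝒬 → F.autGroup S ≤ E.autGroup S) ∧ ∀ P, F.IsEssential p P → P ∈ 𝒬 := by
    intro 𝒬 hc hg
    constructor
    · intro hSQ
      have hle : F ≤ topInnerSys F := by
        apply hg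
        intro R hR
        apply autGroup_le_topInnerSys
        rintro rfl
        exact hSQ hR
      intro α hα
      apply topInnerSys_autGroup_le F E
      rw [mem_autGroup_iff F le_rfl] at hα
      rw [mem_autGroup_iff _ le_rfl]
      exact hle S hα
    · intro P hP
      by_contra hPQ
      obtain ⟨E', hE'1, hE'2⟩ := Cfsg.Agent.S5326.result p hS F hF P hP
      apply hE'2
      apply hg
      intro R hR
      apply autGroup_le_of_le_imp
      intro hRS
      apply hE'1 R hRS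
      intro hconj
      exact hPQ (hc R hR P (fs_isConj_symm F hconj))
  obtain ⟨k1S, k1E⟩ := key 𝒬₁ h₁ hg₁
  obtain ⟨k2S, k2E⟩ := key 𝒬₂ h₂ hg₂
  apply fs_alperin_goldschmidt p hS F hF E
  rintro P (rfl | hess)
  · by_cases hS1 : P ∈ 𝒬₁
    · by_cases hS2 : P ∈ 𝒬₂
      · exact hE P ⟨hS1, hS2⟩
      · exact k2S hS2
    · exact k1S hS1
  · exact hE P ⟨k1E P hess, k2E P hess⟩

end Cfsg.Agent.S5327
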