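import Mathlib
import Cfsg.Statements.S5330
import Cfsg.Agent.Lib.Helper9.FusionAbelian

set_option autoImplicit false
open Cfsg

namespace Cfsg.Agent.S5330

open Cfsg.Agent.Lib.Helper9 Cfsg.FusionSystem in
/-- Let F be a saturated fusion system over a finite abelian p-group S. Then S is the internal direct product of the centre of the system and the focal subgroup: Z(F) ∩ foc(F) = 1 and Z(F)·foc(F) = S. -/
theorem result {Ω : Type*} [Group Ω] {S : Subgroup Ω} [Finite S] (p : ℕ) [Fact p.Prime] (hS : IsPGroup p S) (F : Cfsg.FusionSystem S) (hF : F.IsSaturated p) (hab : ∀ x ∈ S, ∀ y ∈ S, x * y = y * x) : F.center ⊓ F.focalSubgroup = ⊥ ∧ F.center ⊔ F.focalSubgroup = S := by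
  classical
  letI : CommGroup S :=
    { (inferInstance : Group S) with mul_comm := fun a b => Subtype.ext (hab a a.2 b b.2) }
  have hcop := fs_abelian_autGroup_coprime p hS F hF hab
  obtain ⟨h1, h2⟩ := coprime_aut_decomp (F.autGroup S) hcop
  -- the centre
  have hZ : F.center = (autFixed (F.autGroup S)).map S.subtype := by
    apply le_antisymm
    · apply sSup_le
      rintro Q ⟨hQS, hQ⟩ x hxQ
      refine ⟨⟨x, hQS hxQ⟩, ?_, rfl⟩
      intro α hα
      rw [mem_autGroup_iff F le_rfl] at hα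
      obtain ⟨ψ, -, hψ1, hψ2⟩ := hQ S _ hα
      have e1 := hψ1 ⟨x, hQS hxQ⟩
      have e2 := hψ2 ⟨x, hxQ⟩
      have e3 : (Subgroup.inclusion le_sup_left (⟨x, hQS hxQ⟩ : S) : ↥(S ⊔ Q))
          = Subgroup.inclusion le_sup_right (⟨x, hxQ⟩ : Q) := Subtype.ext rfl
      rw [e3, e2] at e1
      apply Subtype.ext
      exact e1.symm
    · apply le_sSup
      refine ⟨Subgroup.map_subtype_le _, fun P φ hφ => ?_⟩
      obtain ⟨α, hα, hαφ⟩ := fs_abelian_extend p hS F hF hab hφ
      have hPS : P ≤ S := (F.le_of_mem hφ).1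
      have hle : P ⊔ (autFixed (F.autGroup S)).map S.subtype ≤ S :=
        sup_le hPS (Subgroup.map_subtype_le _)
      have hα' := hα
      rw [mem_autGroup_iff F le_rfl] at hα'
      refine ⟨_, fs_restrict_mem F hα' hle, fun x => ?_, fun x => ?_⟩
      · exact hαφ x (hPS x.2)
      · obtain ⟨x, ⟨y, hy, rfl⟩⟩ := x
        have := hy α hα
        exact congrArg Subtype.val this
  -- the focal subgroup
  have hfoc : F.focalSubgroup = (autComm (F.autGroup S)).map S.subtype := by
    apply le_antisymm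
    · unfold FusionSystem.focalSubgroup
      rw [Subgroup.closure_le]
      rintro _ ⟨P, φ, x, hφ, rfl⟩
      obtain ⟨α, hα, hαφ⟩ := fs_abelian_extend p hS F hF hab hφ
      have hPS : P ≤ S := (F.le_of_mem hφ).1
      refine ⟨(⟨x, hPS x.2⟩ : S)⁻¹ * α ⟨x, hPS x.2⟩, inv_mul_mem_autComm _ hα _, ?_⟩
      rw [← hαφ x (hPS x.2)]
      rfl
    · unfold autComm
      rw [MonoidHom.map_closure, Subgroup.closure_le]
      rintro _ ⟨_, ⟨α, v, hα, rfl⟩, rfl⟩
      rw [mem_autGroup_iff F le_rfl] at hα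
      apply Subgroup.subset_closure
      exact ⟨S, _, v, hα, rfl⟩
  rw [hZ, hfoc]
  constructor
  · rw [← Subgroup.map_inf _ _ _ Subtype.val_injective, h1, Subgroup.map_bot]
  · rw [← Subgroup.map_sup, h2, ← MonoidHom.range_eq_map, Subgroup.range_subtype]

end Cfsg.Agent.S5330
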