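import Mathlib
import Cfsg.Statements.S5331
import Cfsg.Agent.Lib.Helper9.DistinctType2
import Cfsg.Agent.Lib.Helper9.FusionAbelian

set_option autoImplicit false
open Cfsg

namespace Cfsg.Agent.S5331

open Cfsg.FusionSystem Cfsg.Agent.Lib.Helper9

/-- An automorphism of odd order of a group isomorphic to the model is trivial. -/
theorem aut_trivial {G : Type*} [Group G] (n : ℕ) (a : Fin n → ℕ) (ha : StrictMono a)
    (e : G ≃* Multiplicative ((i : Fin n) → ZMod (2 ^ a i))) (α : MulAut G) (m : ℕ) (hm : Odd m)
    (hα : α ^ m = 1) : ∀ s : G, α s = s := by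
  set M := ((i : Fin n) → ZMod (2 ^ a i)) with hM
  let β : M ≃+ M :=
    { toFun := fun x => Multiplicative.toAdd (e (α (e.symm (Multiplicative.ofAdd x))))
      invFun := fun x => Multiplicative.toAdd (e (α.symm (e.symm (Multiplicative.ofAdd x))))
      left_inv := by
        intro x
        simp
      right_inv := by
        intro x
        simp
      map_add' := by
        intro x y
        simp }
  have hβ : ∀ x : M, β x = Multiplicative.toAdd (e (α (e.symm (Multiplicative.ofAdd x)))) := fun _ => rfl
  have hiter : ∀ (j : ℕ) (x : M), (β^[j]) x = Multiplicative.toAdd (e ((α ^ j) (e.symm (Multiplicative.ofAdd x)))) := by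
    intro j
    induction j with
    | zero => intro x; simp
    | succ j ih =>
      intro x
      rw [Function.iterate_succ_apply', ih, hβ, pow_succ']
      simp
  obtain ⟨N, hN⟩ : ∃ N, ∀ l, a l ≤ N := by
    refine ⟨Finset.univ.sup a, fun l => Finset.le_sup (Finset.mem_univ l)⟩
  have hfix := pi_odd_aut_trivial a ha.injective N hN β m hm (by
    intro x
    rw [hiter, hα]
    simp)
  intro s
  have h1 := hfix (Multiplicative.toAdd (e s))
  rw [hβ] at h1
  have h2 : e (α (e.symm (Multiplicative.ofAdd (Multiplicative.toAdd (e s))))) = e s := by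
    have := congrArg Multiplicative.ofAdd h1
    simpa using this
  have h3 := e.injective h2
  simpa using h3

/-- Let S be a finite abelian 2-group that is a direct product of cyclic groups of pairwise distinct orders 2^{a_1} < 2^{a_2} < ⋯ < 2^{a_n} (all a_i ≥ 1). Then every saturated fusion system over S is the inner one: its maps are exactly the conjugations by elements of S. -/
theorem result {Ω : Type*} [Group Ω] {S : Subgroup Ω} [Finite S] (n : ℕ) (a : Fin n → ℕ) (ha : StrictMono a) (ha1 : ∀ i, 1 ≤ a i) (e : ↥S ≃* Multiplicative ((i : Fin n) → ZMod (2 ^ a i))) (F : Cfsg.FusionSystem S) (hF : F.IsSaturated 2) (P : Subgroup Ω) : F.Hom P = (Cfsg.innerFusionSystem S).Hom P := by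
  haveI : Fact (Nat.Prime 2) := ⟨Nat.prime_two⟩
  -- S is abelian
  have hab : ∀ x ∈ S, ∀ y ∈ S, x * y = y * x := by
    intro x hx y hy
    have h1 : e (⟨x, hx⟩ * ⟨y, hy⟩) = e (⟨y, hy⟩ * ⟨x, hx⟩) := by
      rw [map_mul, map_mul, mul_comm]
    have h2 := e.injective h1
    exact congrArg Subtype.val h2
  obtain ⟨N, hN⟩ : ∃ N, ∀ l, a l ≤ N := by
    refine ⟨Finset.univ.sup a, fun l => Finset.le_sup (Finset.mem_univ l)⟩
  -- S is a 2-group
  have hS : IsPGroup 2 S := by
    intro x
    refine ⟨N, ?_⟩
    apply e.injective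
    rw [map_pow, map_one]
    apply Multiplicative.toAdd.injective
    rw [toAdd_pow, toAdd_one]
    funext l
    rw [Pi.smul_apply, nsmul_eq_mul]
    have : ((2 ^ N : ℕ) : ZMod (2 ^ a l)) = 0 := by
      rw [ZMod.natCast_eq_zero_iff]
      exact pow_dvd_pow 2 (hN l)
    rw [this, zero_mul]
    rfl
  have hcop := fs_abelian_autGroup_coprime 2 hS F hF hab
  ext φ
  constructor
  · intro hφ
    have hPS : P ≤ S := (F.le_of_mem hφ).1
    obtain ⟨α, hα, hαφ⟩ := fs_abelian_extend 2 hS F hF hab hφ
    have hfix : ∀ s : S, α s = s := by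
      by_cases hcard : Nat.card S = 1
      · intro s
        haveI : Subsingleton S := (Nat.card_eq_one_iff_unique.mp hcard).1
        exact Subsingleton.elim _ _
      · -- the order of α is odd
        have hord : orderOf (⟨α, hα⟩ : F.autGroup S) ∣ Nat.card (F.autGroup S) := orderOf_dvd_natCard _
        have h2 : (2 : ℕ) ∣ Nat.card S := by
          obtain ⟨k, hk⟩ := IsPGroup.iff_card.mp hS
          rw [hk]
          apply dvd_pow_self
          rintro rfl
          exact hcard (by simpa using hk)
        have hodd : Odd (orderOf (⟨α, hα⟩ : F.autGroup S)) := by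
          rw [← Nat.not_even_iff_odd, even_iff_two_dvd]
          intro h
          have h3 : (2 : ℕ) ∣ Nat.gcd (Nat.card (F.autGroup S)) (Nat.card S) :=
            Nat.dvd_gcd (dvd_trans h hord) h2
          rw [hcop] at h3
          omega
        have hpow : α ^ orderOf (⟨α, hα⟩ : F.autGroup S) = 1 := by
          have := pow_orderOf_eq_one (⟨α, hα⟩ : F.autGroup S)
          have := congrArg Subtype.val this
          simpa using this
        exact aut_trivial n a ha e α _ hodd hpow
    refine ⟨hPS, 1, S.one_mem, fun x => ?_⟩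
    rw [← hαφ x (hPS x.2), hfix]
    simp
  · rintro ⟨hPS, g, hg, Hg⟩
    have : φ = conjHom P g := by
      ext x
      rw [Hg]
      rfl
    rw [this]
    exact F.conj_mem hPS hg

end Cfsg.Agent.S5331
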