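import Cfsg.Statements.S5333
import Mathlib
import Cfsg.Agent.S5097
import Cfsg.Agent.Lib.Helper9.KNorm13
import Cfsg.Agent.Lib.Helper9.CentralOrderP

set_option autoImplicit false
set_option maxHeartbeats 1000000
open Cfsg

namespace Cfsg.Agent.S5333

open Cfsg.FusionSystem Cfsg.Agent.Lib.Helper9

variable {Ω : Type*} [Group Ω] {S : Subgroup Ω}

/-- Step A: the maps of `F` and `F'` on subgroups of order `p` coincide. -/
theorem hom_order_p [Finite S] (p : ℕ) (F F' : Cfsg.FusionSystem S) (hle : F' ≤ F)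
    (hZ : ∀ Z : Subgroup Ω, Z ≤ S → Nat.card Z = p → F'.IsFullyCentralized Z → F.Hom Z = F'.Hom Z)
    {Z : Subgroup Ω} (hZS : Z ≤ S) (hcard : Nat.card Z = p) : F.Hom Z ⊆ F'.Hom Z := by
  obtain ⟨Z₁, hconj, hZ₁c⟩ := fs_exists_fullyCentralized F' hZS
  obtain ⟨e, he⟩ := exists_isFIso_of_isConj F' hconj
  have hcard₁ : Nat.card Z₁ = p := by rw [← hcard]; exact (Nat.card_congr e.toEquiv).symm
  have heq := hZ Z₁ hZ₁c.1 hcard₁ hZ₁c
  have heF : IsFIso F e := hle _ he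
  intro ρ hρ
  have hv : ∀ x : Z₁, (Z.subtype.comp e.symm.toMonoidHom) x ∈ Z := fun x => (e.symm x).2
  have hρ' : ρ.comp ((Z.subtype.comp e.symm.toMonoidHom).codRestrict Z hv) ∈ F.Hom Z₁ :=
    F.comp_mem heF.symm hρ hv
  rw [heq] at hρ'
  have hv' : ∀ x : Z, (Z₁.subtype.comp e.toMonoidHom) x ∈ Z₁ := fun x => (e x).2
  have h2 := F'.comp_mem he hρ' hv'
  have h3 : (ρ.comp ((Z.subtype.comp e.symm.toMonoidHom).codRestrict Z hv)).comp
      ((Z₁.subtype.comp e.toMonoidHom).codRestrict Z₁ hv') = ρ := by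
    ext x
    show ρ ⟨((e.symm ⟨((e x : Z₁) : Ω), _⟩ : Z) : Ω), _⟩ = ρ x
    congr 1
    apply Subtype.ext
    show ((e.symm (e x) : Z) : Ω) = x
    rw [MulEquiv.symm_apply_apply]
  rwa [h3] at h2

/-- The main step: a map of `F` defined on `P`, where `Z ≤ P` is central of order `p`, is a map of `F'`. -/
theorem mem_of_central [Finite S] (p : ℕ) [Fact p.Prime] (hS : IsPGroup p S) (F F' : Cfsg.FusionSystem S)
    (hF' : F'.IsSaturated p) (hle : F' ≤ F)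
    (hZ : ∀ Z : Subgroup Ω, Z ≤ S → Nat.card Z = p → F'.IsFullyCentralized Z → F.Hom Z = F'.Hom Z ∧
      ∀ (C C' : Cfsg.FusionSystem (Cfsg.FusionSystem.centralizerIn S Z)), F.IsCentralizerSystem Z C →
        F'.IsCentralizerSystem Z C' → ∀ P : Subgroup Ω, C.Hom P = C'.Hom P)
    {P Z : Subgroup Ω} (hZP : Z ≤ P) (hcard : Nat.card Z = p)
    (hcent : ∀ x ∈ P, ∀ w ∈ Z, w * x = x * w) {φ : P →* Ω} (hφ : φ ∈ F.Hom P) : φ ∈ F'.Hom P := by
  obtain ⟨hPS, hφS⟩ := F.le_of_mem hφ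
  have hZS : Z ≤ S := hZP.trans hPS
  have hA : ∀ {Z : Subgroup Ω}, Z ≤ S → Nat.card Z = p → F.Hom Z ⊆ F'.Hom Z := fun {Z} h1 h2 =>
    hom_order_p p F F' hle (fun Z h1 h2 h3 => (hZ Z h1 h2 h3).1) h1 h2
  -- the restriction of `φ` to `Z`
  have hφZ : φ.comp (Subgroup.inclusion hZP) ∈ F'.Hom Z := hA hZS hcard (fs_restrict_mem F hφ hZP)
  obtain ⟨e', he', He'⟩ := exists_isFIso_of_mem F' hφZ rfl
  obtain ⟨Z₁, hconj, hZ₁c⟩ := fs_exists_fullyCentralized F' hZS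
  obtain ⟨e, he⟩ := exists_isFIso_of_isConj F' hconj
  have hcard₁ : Nat.card Z₁ = p := by rw [← hcard]; exact (Nat.card_congr e.toEquiv).symm
  have hZ₁S : Z₁ ≤ S := hZ₁c.1
  have hrec : F'.IsReceptive Z₁ := fs_extension_axiom p hS F' hF' hZ₁c
  -- extension of `e`
  obtain ⟨βb, hβb, Hβb⟩ := hrec.2 Z _ he he.range_eq
  have hPext : P ≤ extender S Z (Z₁.subtype.comp e.toMonoidHom) := by
    refine le_trans ?_ (fs_centralizerIn_le_extender Z _)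
    intro x hx
    refine ⟨hPS hx, ?_⟩
    show x ∈ Subgroup.centralizer (Z : Set Ω)
    rw [Subgroup.mem_centralizer_iff]
    exact fun w hw => hcent x hx w hw
  have ha : βb.comp (Subgroup.inclusion hPext) ∈ F'.Hom P := fs_restrict_mem F' hβb hPext
  set a := βb.comp (Subgroup.inclusion hPext) with hadef
  have haZ : ∀ w : Z, a ⟨w, hZP w.2⟩ = ((e w : Z₁) : Ω) := by
    intro w
    exact Hβb w w.2 (hPext (hZP w.2))
  -- extension of `e ∘ e'⁻¹`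
  have he'' : IsFIso F' (e'.symm.trans e) := he'.symm.trans he
  obtain ⟨βb', hβb', Hβb'⟩ := hrec.2 _ _ he'' he''.range_eq
  have hP'ext : φ.range ≤ extender S (φ.comp (Subgroup.inclusion hZP)).range
      (Z₁.subtype.comp (e'.symm.trans e).toMonoidHom) := by
    refine le_trans ?_ (fs_centralizerIn_le_extender _ _)
    rintro _ ⟨x, rfl⟩
    refine ⟨hφS x, ?_⟩
    show φ x ∈ Subgroup.centralizer (((φ.comp (Subgroup.inclusion hZP)).range : Subgroup Ω) : Set Ω)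
    rw [Subgroup.mem_centralizer_iff]
    rintro _ ⟨w, rfl⟩
    show φ (Subgroup.inclusion hZP w) * φ x = φ x * φ (Subgroup.inclusion hZP w)
    rw [← map_mul, ← map_mul]
    congr 1
    apply Subtype.ext
    exact hcent x x.2 w w.2
  have hb : βb'.comp (Subgroup.inclusion hP'ext) ∈ F'.Hom φ.range := fs_restrict_mem F' hβb' hP'ext
  set b := βb'.comp (Subgroup.inclusion hP'ext) with hbdef
  have hφP' : ∀ x : P, φ x ∈ φ.range := fun x => ⟨x, rfl⟩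
  have hbZ : ∀ w : Z, b ⟨φ ⟨w, hZP w.2⟩, hφP' _⟩ = ((e w : Z₁) : Ω) := by
    intro w
    have hw' : φ ⟨w, hZP w.2⟩ ∈ (φ.comp (Subgroup.inclusion hZP)).range := ⟨w, rfl⟩
    have h1 := Hβb' (φ ⟨w, hZP w.2⟩) hw' (hP'ext (hφP' _))
    have h2 : b ⟨φ ⟨w, hZP w.2⟩, hφP' _⟩ = βb' ⟨φ ⟨w, hZP w.2⟩, hP'ext (hφP' _)⟩ := rfl
    rw [h2, h1]
    show ((e (e'.symm ⟨φ ⟨w, hZP w.2⟩, hw'⟩) : Z₁) : Ω) = _
    have h3 : (⟨φ ⟨w, hZP w.2⟩, hw'⟩ : (φ.comp (Subgroup.inclusion hZP)).range) = e' w :=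
      Subtype.ext (He' w).symm
    rw [h3, MulEquiv.symm_apply_apply]
  -- the map `γ = b φ a⁻¹`
  have haF : a ∈ F.Hom P := hle _ ha
  obtain ⟨ψ, hψ, Hψ⟩ := F.inv_mem haF
  have hψP : ∀ y : a.range, ψ y ∈ P := by
    rintro ⟨_, x, rfl⟩
    rw [Hψ]; exact x.2
  have hbφ : b.comp (φ.codRestrict φ.range hφP') ∈ F.Hom P := F.comp_mem hφ (hle _ hb) hφP'
  have hγ := F.comp_mem hψ hbφ hψP
  set γ := (b.comp (φ.codRestrict φ.range hφP')).comp (ψ.codRestrict P hψP) with hγdef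
  have haR : ∀ x : P, a x ∈ a.range := fun x => ⟨x, rfl⟩
  have Hγ : ∀ x : P, γ ⟨a x, haR x⟩ = b ⟨φ x, hφP' x⟩ := by
    intro x
    have h1 : (ψ.codRestrict P hψP) ⟨a x, haR x⟩ = x := Subtype.ext (Hψ x)
    show (b.comp (φ.codRestrict φ.range hφP')) ((ψ.codRestrict P hψP) ⟨a x, haR x⟩) = _
    rw [h1]
    rfl
  -- `γ` lies in the centralizer system of `Z₁`
  have hZ₁P₁ : Z₁ ≤ a.range := by
    intro z₁ hz₁
    refine ⟨⟨e.symm ⟨z₁, hz₁⟩, hZP (e.symm ⟨z₁, hz₁⟩).2⟩, ?_⟩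
    rw [haZ, MulEquiv.apply_symm_apply]
  have hP₁C : a.range ≤ centralizerIn S Z₁ := by
    rintro _ ⟨x, rfl⟩
    refine ⟨(F'.le_of_mem ha).2 x, ?_⟩
    show a x ∈ Subgroup.centralizer (Z₁ : Set Ω)
    rw [Subgroup.mem_centralizer_iff]
    intro z₁ hz₁
    have h1 : z₁ = a ⟨e.symm ⟨z₁, hz₁⟩, hZP (e.symm ⟨z₁, hz₁⟩).2⟩ := by
      rw [haZ, MulEquiv.apply_symm_apply]
    rw [h1, ← map_mul, ← map_mul]
    congr 1
    apply Subtype.ext
    exact hcent x x.2 _ (e.symm ⟨z₁, hz₁⟩).2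
  have hvals : ∀ y : a.range, γ y ∈ centralizerIn S Z₁ := by
    rintro ⟨_, x, rfl⟩
    rw [Hγ]
    refine ⟨(F'.le_of_mem hb).2 _, ?_⟩
    show b ⟨φ x, hφP' x⟩ ∈ Subgroup.centralizer (Z₁ : Set Ω)
    rw [Subgroup.mem_centralizer_iff]
    intro z₁ hz₁
    have h1 : z₁ = b ⟨φ ⟨e.symm ⟨z₁, hz₁⟩, hZP (e.symm ⟨z₁, hz₁⟩).2⟩, hφP' _⟩ := by
      rw [hbZ, MulEquiv.apply_symm_apply]
    rw [h1, ← map_mul, ← map_mul]
    congr 1
    apply Subtype.ext
    show φ _ * φ x = φ x * φ _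
    rw [← map_mul, ← map_mul]
    congr 1
    apply Subtype.ext
    exact hcent x x.2 _ (e.symm ⟨z₁, hz₁⟩).2
  have hle₂ : a.range ⊔ Z₁ ≤ a.range := sup_le le_rfl hZ₁P₁
  have hγC : γ ∈ F.centralizerHom Z₁ a.range := by
    refine ⟨hγ, hP₁C, hvals, γ.comp (Subgroup.inclusion hle₂), fs_restrict_mem F hγ hle₂, fun x => rfl, ?_⟩
    intro z₁
    show γ ⟨(z₁ : Ω), _⟩ = z₁
    have h1 : (⟨(z₁ : Ω), hle₂ (le_sup_right (a := a.range) z₁.2)⟩ : a.range) =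
        ⟨a ⟨e.symm z₁, hZP (e.symm z₁).2⟩, haR _⟩ := by
      apply Subtype.ext
      show (z₁ : Ω) = a ⟨e.symm z₁, hZP (e.symm z₁).2⟩
      rw [haZ, MulEquiv.apply_symm_apply]
    have h0 : (⟨((Subgroup.inclusion (le_sup_right : Z₁ ≤ a.range ⊔ Z₁) z₁ : ↥(a.range ⊔ Z₁)) : Ω),
        hle₂ (Subgroup.inclusion (le_sup_right : Z₁ ≤ a.range ⊔ Z₁) z₁).2⟩ : a.range) =
        ⟨(z₁ : Ω), hle₂ (le_sup_right (a := a.range) z₁.2)⟩ := rfl
    rw [h1, Hγ, hbZ, MulEquiv.apply_symm_apply]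
  obtain ⟨C, hC⟩ := Cfsg.Agent.S5097.result F Z₁ hZ₁S
  obtain ⟨C', hC'⟩ := Cfsg.Agent.S5097.result F' Z₁ hZ₁S
  have heq := (hZ Z₁ hZ₁S hcard₁ hZ₁c).2 C C' hC hC' a.range
  rw [hC, hC'] at heq
  rw [heq] at hγC
  have hγ' : γ ∈ F'.Hom a.range := hγC.1
  exact fs_mem_of_conj_decomp F' ha hb hγ' hφP' haR (fun x => (Hγ x).symm)

/-- Let F′ ≤ F be saturated fusion systems over the same finite p-group S. Suppose that for every subgroup Z ≤ S of order p that is fully centralized in F′, the maps of F and of F′ with source Z coincide and the centralizer systems C_F(Z) and C_{F′}(Z) coincide. Then F = F′. -/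
theorem result {Ω : Type*} [Group Ω] {S : Subgroup Ω} [Finite S] (p : ℕ) [Fact p.Prime] (hS : IsPGroup p S) (F : Cfsg.FusionSystem S) (hF : F.IsSaturated p) (F' : Cfsg.FusionSystem S) (hF' : F'.IsSaturated p) (hle : F' ≤ F) (hZ : ∀ Z : Subgroup Ω, Z ≤ S → Nat.card Z = p → F'.IsFullyCentralized Z → F.Hom Z = F'.Hom Z ∧ ∀ (C C' : Cfsg.FusionSystem (Cfsg.FusionSystem.centralizerIn S Z)), F.IsCentralizerSystem Z C → F'.IsCentralizerSystem Z C' → ∀ P : Subgroup Ω, C.Hom P = C'.Hom P) (P : Subgroup Ω) : F.Hom P = F'.Hom P := by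
  apply Set.Subset.antisymm _ (hle P)
  intro φ hφ
  obtain ⟨hPS, hφS⟩ := F.le_of_mem hφ
  by_cases hP : P = ⊥
  · subst hP
    have h1 : φ = (⊥ : Subgroup Ω).subtype := by
      ext x
      have hx : x = 1 := Subsingleton.elim _ _
      rw [hx, map_one, map_one]
    rw [h1]
    exact fs_subtype_mem F' bot_le
  · haveI : Finite P := fs_finite_of_le hPS
    obtain ⟨z, hzP, hzo, hzc⟩ := exists_central_order_p (hS.to_le hPS) hP
    have hZP : Subgroup.zpowers z ≤ P := Subgroup.zpowers_le.mpr hzP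
    have hcard : Nat.card (Subgroup.zpowers z) = p := by rw [Nat.card_zpowers, hzo]
    refine mem_of_central p hS F F' hF' hle hZ hZP hcard ?_ hφ
    intro x hx w hw
    obtain ⟨k, rfl⟩ := Subgroup.mem_zpowers_iff.mp hw
    have hc : Commute x z := hzc x hx
    exact ((hc.zpow_right k).eq).symm

end Cfsg.Agent.S5333
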