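import Mathlib
import Cfsg.Statements.S5334
import Cfsg.Agent.Lib.Helper9.FusionBasic
import Cfsg.Agent.Lib.Helper9.FusionAG1
import Cfsg.Agent.Lib.Helper9.FusionCentric3

set_option autoImplicit false
open Cfsg

namespace Cfsg.Agent.S5334

open Cfsg.Agent.Lib.Helper9 in
/-- Let F′ ≤ F be saturated fusion systems over the same finite p-group S, let Q and R be F-centric subgroups, φ a map of F with source Q and values in R, and ψ a map of F with source R. If two of φ, ψ and the composite ψ ∘ φ are maps of F′ then so is the third. -/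
theorem result {Ω : Type*} [Group Ω] {S : Subgroup Ω} [Finite S] (p : ℕ) [Fact p.Prime] (hS : IsPGroup p S) (F : Cfsg.FusionSystem S) (hF : F.IsSaturated p) (F' : Cfsg.FusionSystem S) (hF' : F'.IsSaturated p) (hle : F' ≤ F) (Q R : Subgroup Ω) (hQ : F.IsCentric Q) (hR : F.IsCentric R) (φ : ↥Q →* Ω) (hφ : φ ∈ F.Hom Q) (hφR : ∀ x : Q, φ x ∈ R) (ψ : ↥R →* Ω) (hψ : ψ ∈ F.Hom R) : (φ ∈ F'.Hom Q → ψ ∈ F'.Hom R → ψ.comp (φ.codRestrict R hφR) ∈ F'.Hom Q) ∧ (ψ ∈ F'.Hom R → ψ.comp (φ.codRestrict R hφR) ∈ F'.Hom Q → φ ∈ F'.Hom Q) ∧ (φ ∈ F'.Hom Q → ψ.comp (φ.codRestrict R hφR) ∈ F'.Hom Q → ψ ∈ F'.Hom R) := by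
  refine ⟨fun h1 h2 => F'.comp_mem h1 h2 hφR, fun h1 h2 => ?_, fun h1 h2 => ?_⟩
  · exact fs_cancel_left F' h1 h2 hφR (fun x => rfl)
  · -- the image of φ
    have hQ₀R : φ.range ≤ R := by
      rintro _ ⟨x, rfl⟩
      exact hφR x
    have hconj : F.IsConj Q φ.range := ⟨φ, hφ, rfl⟩
    have hQ₀ : F.IsCentric φ.range := by
      refine ⟨fs_isConj_le_right F hconj, fun Q' hQ' => ?_⟩
      exact hQ.2 Q' (fs_isConj_trans F hconj hQ')
    obtain ⟨χ, hχ, hχx⟩ := F'.inv_mem h1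
    have hχQ : ∀ y : φ.range, χ y ∈ Q := by
      rintro ⟨_, x, rfl⟩
      rw [hχx x]
      exact x.2
    have hcomp := F'.comp_mem hχ h2 hχQ
    have heq : (ψ.comp (φ.codRestrict R hφR)).comp (χ.codRestrict Q hχQ)
        = ψ.comp (Subgroup.inclusion hQ₀R) := by
      ext ⟨_, x, rfl⟩
      have h3 : χ.codRestrict Q hχQ ⟨φ x, ⟨x, rfl⟩⟩ = x := by
        apply Subtype.ext
        exact hχx x
      simp only [MonoidHom.comp_apply]
      rw [h3]
      rfl
    rw [heq] at hcomp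
    exact fs_subsystem_extend p hS F hF F' hF' hle hψ _ φ.range hQ₀R hQ₀ hcomp rfl

end Cfsg.Agent.S5334
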