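import Mathlib
import Cfsg.Statements.S5335
import Cfsg.Agent.Lib.Helper9.FusionBasic
import Cfsg.Agent.Lib.Helper9.FusionAG3
import Cfsg.Agent.Lib.Helper9.FusionNormal3
import Cfsg.Agent.Lib.Helper9.FusionCentric3

set_option autoImplicit false
open Cfsg

namespace Cfsg.Agent.S5335

open Cfsg.Agent.Lib.Helper9 in
/-- Let F′ ≤ F be saturated fusion systems over the same finite p-group S. If the maps of F and of F′ with source Q coincide for every F-centric subgroup Q that is minimal among F-centric subgroups, then F = F′. -/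
theorem result {Ω : Type*} [Group Ω] {S : Subgroup Ω} [Finite S] (p : ℕ) [Fact p.Prime] (hS : IsPGroup p S) (F : Cfsg.FusionSystem S) (hF : F.IsSaturated p) (F' : Cfsg.FusionSystem S) (hF' : F'.IsSaturated p) (hle : F' ≤ F) (hmin : ∀ Q : Subgroup Ω, F.IsCentric Q → (∀ R : Subgroup Ω, R < Q → ¬ F.IsCentric R) → F.Hom Q = F'.Hom Q) (P : Subgroup Ω) : F.Hom P = F'.Hom P := by
  have key : ∀ P : Subgroup Ω, F.IsCentric P → F.autGroup P ≤ F'.autGroup P := by
    intro P hP
    -- choose a centric subgroup of P of minimal cardinality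
    have hex : ∃ n : ℕ, ∃ Q : Subgroup Ω, Q ≤ P ∧ F.IsCentric Q ∧ Nat.card Q = n :=
      ⟨_, P, le_rfl, hP, rfl⟩
    classical
    obtain ⟨Q, hQP, hQ, hQn⟩ := Nat.find_spec hex
    have hQmin : ∀ R : Subgroup Ω, R < Q → ¬ F.IsCentric R := by
      intro R hRQ hR
      have hlt : Nat.card R < Nat.card Q := fs_card_lt_of_lt hRQ hQ.1
      rw [hQn] at hlt
      exact Nat.find_min hex hlt ⟨R, hRQ.le.trans hQP, hR, rfl⟩
    have hQeq := hmin Q hQ hQmin
    unfold FusionSystem.autGroup
    apply Subgroup.closure_mono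
    intro α hα
    simp only [Set.mem_setOf_eq] at hα ⊢
    have h1 : (P.subtype.comp α.toMonoidHom).comp (Subgroup.inclusion hQP) ∈ F.Hom Q :=
      fs_restrict_mem F hα hQP
    rw [hQeq] at h1
    exact fs_subsystem_extend p hS F hF F' hF' hle hα _ Q hQP hQ h1 rfl
  have hFF' : F ≤ F' := by
    apply fs_alperin_goldschmidt p hS F hF F'
    rintro P (rfl | hP)
    · exact key _ (fs_top_centric F)
    · exact key _ hP.1
  exact Set.Subset.antisymm (hFF' P) (hle P)

end Cfsg.Agent.S5335
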