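import Mathlib
import Cfsg.Statements.S5336
import Cfsg.Agent.S5118
import Cfsg.Agent.Lib.Helper9.Hyperfocal1

set_option autoImplicit false
open Cfsg
open Cfsg.Agent.Lib.Helper9

namespace Cfsg.Agent.S5336

/-- Let G be a finite group with Sylow p-subgroup S whose fusion system F_S(G) is simple. If G has no nontrivial normal subgroup of order prime to p and no proper subgroup H containing S induces the same fusion system on S as G does, then G is a simple group. -/
theorem result {G : Type*} [Group G] [Finite G] (p : ℕ) [Fact p.Prime] (S : Sylow p G) (hsimple : (Cfsg.groupFusionSystem (S : Subgroup G)).IsSimple p) (hcore : Cfsg.pPrimeCore p G = ⊥) (hmin : ∀ (H : Subgroup G) (hSH : (S : Subgroup G) ≤ H), H ≠ ⊤ → ∃ P : Subgroup G, (Cfsg.fusionSystemOfSubgroup H (S : Subgroup G) hSH).Hom P ≠ (Cfsg.groupFusionSystem (S : Subgroup G)).Hom P) : IsSimpleGroup G := by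
  obtain ⟨-, hSne, hnorm⟩ := hsimple
  have hnt : Nontrivial G := by
    by_contra h
    rw [not_nontrivial_iff_subsingleton] at h
    exact hSne (Subsingleton.elim _ _)
  refine { exists_pair_ne := hnt.exists_pair_ne, eq_bot_or_eq_top_of_normal := ?_ }
  intro N hN
  have hp : p.Prime := Fact.out
  rcases hnorm _ _ (Cfsg.Agent.S5118.result p S N) with h | ⟨h, hHom⟩
  · left
    obtain ⟨T', hT'⟩ := exists_sylow_map_eq_inf S N
    rw [h] at hT'
    have hT'bot : (T' : Subgroup N) = ⊥ := by
      rw [eq_bot_iff]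
      intro x hx
      have : (N.subtype x) ∈ (⊥ : Subgroup G) := hT' ▸ ⟨x, hx, rfl⟩
      rw [Subgroup.mem_bot] at this ⊢
      exact Subtype.ext this
    have hnd : ¬ p ∣ (T' : Subgroup N).index := T'.not_dvd_index
    rw [hT'bot, Subgroup.index_bot] at hnd
    have hcop : (Nat.card N).Coprime p := ((Nat.Prime.coprime_iff_not_dvd hp).mpr hnd).symm
    have hle : N ≤ Cfsg.pPrimeCore p G := le_sSup ⟨hN, hcop⟩
    rw [hcore] at hle
    exact eq_bot_iff.mpr hle
  · right
    have hSN : (S : Subgroup G) ≤ N := by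
      rw [← h]; exact inf_le_right
    by_contra hne
    obtain ⟨P, hP⟩ := hmin N hSN hne
    apply hP
    rw [← hHom P]
    ext φ
    constructor
    · rintro ⟨hPS, hφ, g, hg, hgφ⟩
      exact ⟨hPS.trans (le_of_eq h.symm), fun x => (le_of_eq h.symm) (hφ x), g, hg, hgφ⟩
    · rintro ⟨hPS, hφ, g, hg, hgφ⟩
      exact ⟨hPS.trans (le_of_eq h), fun x => (le_of_eq h) (hφ x), g, hg, hgφ⟩

end Cfsg.Agent.S5336
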