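import Mathlib
import Cfsg.Statements.S5337
import Cfsg.Agent.Lib.Helper9.FusionAbelian2
import Cfsg.Agent.Lib.Helper9.FusionNormal5

set_option autoImplicit false
open Cfsg

namespace Cfsg.Agent.S5337

open Cfsg.Agent.Lib.Helper9 Cfsg.FusionSystem in
/-- Let F be a saturated fusion system over a finite abelian p-group S. Then F is simple if and only if S has order p and F is the inner system of S (whose only maps are the inclusions, S being abelian). -/
theorem result {Ω : Type*} [Group Ω] {S : Subgroup Ω} [Finite S] (p : ℕ) [Fact p.Prime] (hS : IsPGroup p S) (F : Cfsg.FusionSystem S) (hF : F.IsSaturated p) (hab : ∀ x ∈ S, ∀ y ∈ S, x * y = y * x) : F.IsSimple p ↔ (Nat.card S = p ∧ ∀ P : Subgroup Ω, F.Hom P = (Cfsg.innerFusionSystem S).Hom P) := by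
  have hp : p.Prime := Fact.out
  constructor
  · rintro ⟨-, hSne, hsimple⟩
    -- the inner system of `S` is normal
    have hN1 : (innerFusionSystem S).IsNormalIn F p :=
      inner_isNormalIn_of_abelian p hS F hF hab S (fs_stronglyClosed_top F)
        (fun P _ φ hφ => fs_abelian_extend p hS F hF hab hφ)
    have hinner : ∀ P : Subgroup Ω, F.Hom P = (innerFusionSystem S).Hom P := by
      rcases hsimple S _ hN1 with h | ⟨-, h⟩
      · exact absurd h hSne
      · exact fun P => (h P).symm
    refine ⟨?_, hinner⟩
    -- a subgroup of order `p`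
    have hdvd : p ∣ Nat.card S := by
      obtain ⟨n, hn⟩ := IsPGroup.iff_card.mp hS
      rcases Nat.eq_zero_or_pos n with h0 | hpos
      · exfalso
        rw [h0, pow_zero] at hn
        apply hSne
        have := (Subgroup.card_eq_one (H := S)).mp hn
        exact this
      · rw [hn]
        exact dvd_pow_self p hpos.ne'
    obtain ⟨x, hx⟩ := exists_prime_orderOf_dvd_card' p hdvd
    obtain ⟨T, hTdef⟩ : ∃ T : Subgroup Ω, T = (Subgroup.zpowers x).map S.subtype := ⟨_, rfl⟩
    have hTS : T ≤ S := by
      rw [hTdef]
      exact Subgroup.map_subtype_le _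
    have hTcard : Nat.card T = p := by
      rw [hTdef, Subgroup.card_map_of_injective Subtype.val_injective, Nat.card_zpowers, hx]
    have hmaps : ∀ (P : Subgroup Ω) (φ : P →* Ω), φ ∈ F.Hom P → ∀ x : P, φ x = x := by
      intro P φ hφ x
      rw [hinner P] at hφ
      exact inner_abelian_apply hab hφ x
    have hN2 : (innerFusionSystem T).IsNormalIn F p := by
      apply inner_isNormalIn_of_abelian p hS F hF hab T
      · refine ⟨hTS, fun R hRT φ hφ x => ?_⟩
        rw [hmaps R φ hφ x]
        exact hRT x.2
      · intro P hPT φ hφ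
        refine ⟨1, Subgroup.one_mem _, fun x hx => ?_⟩
        rw [hmaps P φ hφ x]
        rfl
    rcases hsimple T _ hN2 with h | ⟨h, -⟩
    · exfalso
      rw [h, Subgroup.card_bot] at hTcard
      exact hp.one_lt.ne hTcard
    · rw [← h]
      exact hTcard
  · rintro ⟨hcard, hinner⟩
    refine ⟨hF, ?_, ?_⟩
    · intro h
      rw [h, Subgroup.card_bot] at hcard
      exact hp.one_lt.ne hcard
    · intro T E hE
      have hTS : T ≤ S := hE.1.2.2.2.1.1
      have hdvd : Nat.card T ∣ p := by
        rw [← hcard]
        exact Subgroup.card_dvd_of_le hTS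
      rcases (Nat.dvd_prime hp).mp hdvd with h1 | h1
      · left
        exact (Subgroup.card_eq_one (H := T)).mp h1
      · right
        have hTeq : T = S := Subgroup.eq_of_le_of_card_ge hTS (by rw [h1, hcard])
        subst hTeq
        refine ⟨rfl, fun P => ?_⟩
        apply Set.Subset.antisymm (hE.1.2.2.1 P)
        intro φ hφ
        rw [hinner P] at hφ
        obtain ⟨hP, g, hg, Hg⟩ := hφ
        have : φ = conjHom P g := by
          ext x
          exact Hg x
        rw [this]
        exact E.conj_mem hP hg

end Cfsg.Agent.S5337
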