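import Mathlib
import Cfsg.Statements.S5338
import Cfsg.Agent.Lib.Helper9.FusionAG4

set_option autoImplicit false
open Cfsg

namespace Cfsg.Agent.S5338

open Cfsg.FusionSystem Cfsg.Agent.Lib.Helper9

variable {Ω : Type*} [Group Ω] {S : Subgroup Ω}

/-- If `α ∈ Aut_F(R)` normalizes `Aut_S(R)` then its extender contains `N_S(R)`. -/
theorem mem_extender_of_normalizes (F : FusionSystem S) {R : Subgroup Ω} (hRS : R ≤ S)
    (α : F.autGroup R)
    (hα : α ∈ Subgroup.normalizer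
      (((autInducedBy S R).subgroupOf (F.autGroup R) : Subgroup (F.autGroup R)) : Set (F.autGroup R)))
    {g : Ω} (hg : g ∈ normalizerIn S R) :
    g ∈ extender S R (R.subtype.comp (α : MulAut R).toMonoidHom) := by
  obtain ⟨c, hc'⟩ : ∃ c : MulAut R, c = R.normalizerMonoidHom ⟨g, hg.2⟩ := ⟨_, rfl⟩
  have hcg : ∀ x : R, ((c x : R) : Ω) = g * x * g⁻¹ := by
    intro x; rw [hc']; rfl
  have hcS : c ∈ autInducedBy S R := by
    rw [mem_autInducedBy_iff]
    exact ⟨g, hg.1, hcg⟩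
  have hcF : c ∈ F.autGroup R := autInducedBy_le_autGroup F hRS hcS
  have hq : (⟨c, hcF⟩ : F.autGroup R) ∈ (autInducedBy S R).subgroupOf (F.autGroup R) := by
    rw [Subgroup.mem_subgroupOf]; exact hcS
  have hconj := (Subgroup.mem_normalizer_iff.mp hα ⟨c, hcF⟩).mp hq
  rw [Subgroup.mem_subgroupOf, mem_autInducedBy_iff] at hconj
  obtain ⟨h, hhS, Hh⟩ := hconj
  rw [mem_extender_iff]
  refine ⟨hg.1, hg.2, h, hhS, ?_⟩
  intro x hx
  have h1 := Hh ((α : MulAut R) x)
  have h2 : ((α * ⟨c, hcF⟩ * α⁻¹ : F.autGroup R) : MulAut R) ((α : MulAut R) x)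
      = (α : MulAut R) (c x) := by
    simp only [Subgroup.coe_mul, Subgroup.coe_inv, MulAut.mul_apply, MulAut.inv_apply_self]
  rw [h2] at h1
  have h3 : c x = ⟨g * x * g⁻¹, hx⟩ := Subtype.ext (hcg x)
  rw [h3] at h1
  exact h1

/-- Let F be a saturated fusion system over a finite p-group S and F′ ≤ F a saturated subsystem over all of S that is invariant under F in the conjugation sense: for every map φ of F with source Q and every map ψ of F′ between subgroups R ≤ Q (with values in Q), the transported map φψφ⁻¹ defined on φ(R) is again a map of F′. If moreover Aut_{F′}(S) = Aut_F(S), then F′ = F. -/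
theorem result {Ω : Type*} [Group Ω] {S : Subgroup Ω} [Finite S] (p : ℕ) [Fact p.Prime] (hS : IsPGroup p S) (F : Cfsg.FusionSystem S) (hF : F.IsSaturated p) (F' : Cfsg.FusionSystem S) (hF' : F'.IsSaturated p) (hle : F' ≤ F) (hinv : ∀ (Q : Subgroup Ω) (φ : ↥Q →* Ω), φ ∈ F.Hom Q → ∀ (R : Subgroup Ω) (hRQ : R ≤ Q) (ψ : ↥R →* Ω), ψ ∈ F'.Hom R → ∀ (hψQ : ∀ x : R, ψ x ∈ Q), ∃ χ ∈ F'.Hom ((R.subgroupOf Q).map φ), ∀ (x : R) (hx : φ ⟨(x : Ω), hRQ x.2⟩ ∈ (R.subgroupOf Q).map φ), χ ⟨φ ⟨(x : Ω), hRQ x.2⟩, hx⟩ = φ ⟨ψ x, hψQ x⟩) (htop : F'.autGroup S = F.autGroup S) (P : Subgroup Ω) : F'.Hom P = F.Hom P := by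
  apply Set.Subset.antisymm (hle P)
  intro φ hφ
  refine fs_le_of_autGroup_le p hS F F' hF ?_ _ P φ hφ rfl
  intro R hRn IH
  have hRS : R ≤ S := hRn.1
  by_cases hRtop : R = S
  · rw [hRtop, htop]
  have hRlt : R < S := lt_of_le_of_ne hRS hRtop
  haveI : Finite R := fs_finite_of_le hRS
  obtain ⟨hRc, hRa⟩ := fs_sylow_axiom p hS F hF hRn
  have hRr := fs_extension_axiom p hS F hF hRc
  obtain ⟨-, T₀, hT₀⟩ := hRa
  -- `Aut_{F'}(R)` is normal in `Aut_F(R)`
  have hnormal : ((F'.autGroup R).subgroupOf (F.autGroup R)).Normal := by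
    constructor
    intro β hβ α
    rw [Subgroup.mem_subgroupOf] at hβ ⊢
    rw [mem_autGroup_iff F' hRS] at hβ ⊢
    have hα := α.2
    rw [mem_autGroup_iff F hRS] at hα
    obtain ⟨χ, hχ, Hχ⟩ := hinv R _ hα R le_rfl _ hβ (fun x => ((β : MulAut R) x).2)
    have hR' : R ≤ (R.subgroupOf R).map (R.subtype.comp (α : MulAut R).toMonoidHom) := by
      intro y hy
      refine ⟨(α : MulAut R)⁻¹ ⟨y, hy⟩, ?_, ?_⟩
      · rw [Subgroup.subgroupOf_self]; trivial
      · simp
    have h1 := fs_restrict_mem F' hχ hR'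
    have heq : χ.comp (Subgroup.inclusion hR')
        = R.subtype.comp ((α * β * α⁻¹ : F.autGroup R) : MulAut R).toMonoidHom := by
      ext y
      have hy : (R.subtype.comp (α : MulAut R).toMonoidHom) ((α : MulAut R)⁻¹ y) ∈
          (R.subgroupOf R).map (R.subtype.comp (α : MulAut R).toMonoidHom) := by
        refine ⟨(α : MulAut R)⁻¹ y, ?_, rfl⟩
        rw [Subgroup.subgroupOf_self]; trivial
      have h2 := Hχ ((α : MulAut R)⁻¹ y) hy
      have h3 : (Subgroup.inclusion hR' y : ↥((R.subgroupOf R).map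
          (R.subtype.comp (α : MulAut R).toMonoidHom)))
          = ⟨(R.subtype.comp (α : MulAut R).toMonoidHom) ((α : MulAut R)⁻¹ y), hy⟩ := by
        apply Subtype.ext
        show (y : Ω) = (((α : MulAut R) ((α : MulAut R)⁻¹ y) : R) : Ω)
        rw [MulAut.apply_inv_self]
      simp only [MonoidHom.coe_comp, Function.comp_apply]
      rw [h3, h2]
      simp only [MonoidHom.coe_comp, Function.comp_apply, Subgroup.subtype_apply,
        MulEquiv.coe_toMonoidHom, Subgroup.coe_mul, Subgroup.coe_inv, MulAut.mul_apply]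
    rw [← heq]
    exact h1
  have hTle : (T₀ : Subgroup (F.autGroup R)) ≤ (F'.autGroup R).subgroupOf (F.autGroup R) := by
    rw [hT₀]
    exact Subgroup.comap_mono (autInducedBy_le_autGroup F' hRS)
  have hfrat := Sylow.normalizer_sup_eq_top' T₀ hTle
  obtain ⟨g₀, hg₀N, hg₀R⟩ := SetLike.exists_of_lt (fs_lt_normalizerIn p hS hRlt)
  intro α hα
  have hmem : (⟨α, hα⟩ : F.autGroup R) ∈
      Subgroup.normalizer (T₀ : Set (F.autGroup R)) ⊔
        (F'.autGroup R).subgroupOf (F.autGroup R) := by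
    rw [hfrat]; trivial
  obtain ⟨ν, hν, β, hβ, hνβ⟩ := Subgroup.mem_sup_of_normal_right.mp hmem
  rw [Subgroup.mem_subgroupOf] at hβ
  have hν'' : ν ∈ Subgroup.normalizer
      (((autInducedBy S R).subgroupOf (F.autGroup R) : Subgroup (F.autGroup R)) : Set (F.autGroup R)) := by
    rw [← hT₀]; exact hν
  have hν' : (ν : MulAut R) ∈ F'.autGroup R :=
    fs_aut_mem_of_extender_gt F F' hRr ν.2 IH (mem_extender_of_normalizes F hRS ν hν'' hg₀N) hg₀R
  have : α = (ν : MulAut R) * (β : MulAut R) := by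
    have := congrArg Subtype.val hνβ
    simpa using this.symm
  rw [this]
  exact (F'.autGroup R).mul_mem hν' hβ

end Cfsg.Agent.S5338
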