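import Cfsg.Statements.S5339
import Mathlib

set_option autoImplicit false
open Cfsg Cfsg.FusionSystem

namespace Cfsg.Agent.S5339

/-- Let F be a saturated fusion system over a nontrivial finite p-group S such that Aut_F(S) consists of inner automorphisms only and S has no strongly closed subgroup other than 1 and S. Then F is simple. -/
theorem result {Ω : Type*} [Group Ω] {S : Subgroup Ω} [Finite S] (p : ℕ) [Fact p.Prime] (hS : IsPGroup p S) (F : Cfsg.FusionSystem S) (hF : F.IsSaturated p) (hS1 : S ≠ ⊥) (htop : F.autGroup S = Cfsg.Inn ↥S) (hsc : ∀ T : Subgroup Ω, F.StronglyClosed T → T = ⊥ ∨ T = S) : F.IsSimple p := by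
  refine ⟨hF, hS1, ?_⟩
  intro T E hE
  obtain ⟨⟨-, -, hsub, hTsc, -, hfrat⟩, -⟩ := hE
  rcases hsc T hTsc with hT | hT
  · exact Or.inl hT
  · right
    subst hT
    refine ⟨rfl, ?_⟩
    intro P
    apply Set.Subset.antisymm (hsub P)
    intro φ hφ
    have hPT : P ≤ T := (F.le_of_mem hφ).1
    obtain ⟨α, hα, φ₀, hφ₀, hφφ₀⟩ := hfrat P hPT φ hφ
    rw [htop] at hα
    obtain ⟨s, rfl⟩ := hα
    have hval : ∀ x : P, φ₀ x ∈ T := (E.le_of_mem hφ₀).2
    have hconj : conjHom T (s : Ω) ∈ E.Hom T := E.conj_mem le_rfl s.2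
    have hcomp := E.comp_mem hφ₀ hconj hval
    have : (conjHom T (s : Ω)).comp (φ₀.codRestrict T hval) = φ := by
      ext x
      rw [hφφ₀ x (hval x)]
      simp [conjHom]
    rwa [this] at hcomp

end Cfsg.Agent.S5339
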