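import Mathlib
import Cfsg.Statements.S5341
import Cfsg.Agent.Lib.Helper9.FusionSat3
import Cfsg.Agent.Lib.Helper9.FusionStrongly

set_option autoImplicit false
open Cfsg
open Cfsg.FusionSystem
open Cfsg.Agent.Lib.Helper9

namespace Cfsg.Agent.S5341

/-- Let F be a saturated fusion system over a finite p-group S, T a subgroup strongly closed in F, and F′ any fusion system over T all of whose maps are maps of F. For a subgroup Q ≤ T: if Q is fully centralized in F then it is fully centralized in F′, and if Q is fully normalized in F then it is fully normalized in F′. -/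
theorem result {Ω : Type*} [Group Ω] {S : Subgroup Ω} [Finite S] (p : ℕ) [Fact p.Prime] (hS : IsPGroup p S) (F : Cfsg.FusionSystem S) (hF : F.IsSaturated p) (T : Subgroup Ω) (hT : F.StronglyClosed T) (F' : Cfsg.FusionSystem T) (hsub : F'.IsSubsystemOf F) (Q : Subgroup Ω) (hQT : Q ≤ T) : (F.IsFullyCentralized Q → F'.IsFullyCentralized Q) ∧ (F.IsFullyNormalized Q → F'.IsFullyNormalized Q) := by
  have hTS : T ≤ S := hT.1
  have hTfin : Finite T := fs_finite_of_le hTS
  have hconj : ∀ Q', F'.IsConj Q Q' → F.IsConj Q Q' := by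
    rintro Q' ⟨ψ, hψ, hψr⟩
    exact ⟨ψ, hsub Q hψ, hψr⟩
  constructor
  · intro hQ
    refine ⟨hQT, fun Q' hQ' => ?_⟩
    have hQr : F.IsReceptive Q := fs_extension_axiom p hS F hF hQ
    obtain ⟨ψ, hψ, hψr⟩ := fs_isConj_symm F (hconj Q' hQ')
    obtain ⟨χ, hχ, hQN, hCN, -, hχC⟩ := fs_receptive_extend F hQr hψ hψr
    have hle : centralizerIn T Q' ≤ centralizerIn S Q' := fun x hx => ⟨hTS hx.1, hx.2⟩
    have hfin : Finite (centralizerIn T Q) :=
      Finite.of_injective (Subgroup.inclusion (inf_le_left : centralizerIn T Q ≤ T))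
        (Subgroup.inclusion_injective _)
    apply Nat.card_le_card_of_injective
      (fun c : centralizerIn T Q' => (⟨χ ⟨c, hCN (hle c.2)⟩,
        ⟨fs_stronglyClosed_mem F hT hχ ⟨c, hCN (hle c.2)⟩ c.2.1, (hχC ⟨c, hle c.2⟩).2⟩⟩ : centralizerIn T Q))
    intro a b hab
    have h1 : χ ⟨a, hCN (hle a.2)⟩ = χ ⟨b, hCN (hle b.2)⟩ := congrArg Subtype.val hab
    have h2 := F.injective_of_mem hχ h1
    exact Subtype.ext (congrArg (fun t : extender S Q' ψ => (t : Ω)) h2)
  · intro hQ
    refine ⟨hQT, fun Q' hQ' => ?_⟩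
    obtain ⟨hQc, hQa⟩ := fs_sylow_axiom p hS F hF hQ
    have hQr : F.IsReceptive Q := fs_extension_axiom p hS F hF hQc
    obtain ⟨φ, hφ, hφN, -⟩ := fs_exists_normalizer_map p hS F Q Q' hQa hQr (fs_isConj_symm F (hconj Q' hQ'))
    have hle : normalizerIn T Q' ≤ normalizerIn S Q' := fun x hx => ⟨hTS hx.1, hx.2⟩
    have hfin : Finite (normalizerIn T Q) :=
      Finite.of_injective (Subgroup.inclusion (inf_le_left : normalizerIn T Q ≤ T))
        (Subgroup.inclusion_injective _)
    apply Nat.card_le_card_of_injective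
      (fun c : normalizerIn T Q' => (⟨φ ⟨c, hle c.2⟩,
        ⟨fs_stronglyClosed_mem F hT hφ ⟨c, hle c.2⟩ c.2.1, (hφN ⟨c, hle c.2⟩).2⟩⟩ : normalizerIn T Q))
    intro a b hab
    have h1 : φ ⟨a, hle a.2⟩ = φ ⟨b, hle b.2⟩ := congrArg Subtype.val hab
    have h2 := F.injective_of_mem hφ h1
    exact Subtype.ext (congrArg (fun t : normalizerIn S Q' => (t : Ω)) h2)

end Cfsg.Agent.S5341
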