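import Mathlib
import Cfsg.Statements.S5343
import Cfsg.Agent.Lib.Helper9.Realize3
import Cfsg.Agent.Lib.Helper9.Realize4

set_option autoImplicit false
universe u
open Cfsg
open Cfsg.FusionSystem Cfsg.Agent.Lib.Helper9

namespace Cfsg.Agent.S5343

/-- Let F be a simple saturated fusion system over a finite p-group S that is realized by some finite group on a Sylow p-subgroup. Then F is realized by a finite simple group on a Sylow p-subgroup. -/
theorem result {Ω : Type u} [Group Ω] {S : Subgroup Ω} [Finite S] (p : ℕ) [Fact p.Prime] (hS : IsPGroup p S) (F : Cfsg.FusionSystem S) (hsimple : F.IsSimple p) (hreal : F.IsRealizable p) : ∃ (G : Type u) (_ : Group G) (_ : Finite G) (_ : IsSimpleGroup G) (ι : ↥S →* G), F.IsRealizedBy ι ∧ ∃ T : Sylow p G, (T : Subgroup G) = ι.range := by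
  classical
  have hp : p.Prime := Fact.out
  let Q : ℕ → Prop := fun n => ∃ (G : Type u) (_ : Group G) (_ : Finite G) (ι : S →* G),
    F.IsRealizedBy ι ∧ (∃ T : Sylow p G, (T : Subgroup G) = ι.range) ∧ Nat.card G = n
  have hex : ∃ n, Q n := by
    obtain ⟨G, iG, iF, ι, h1, h2⟩ := hreal
    exact ⟨Nat.card G, G, iG, iF, ι, h1, h2, rfl⟩
  have hmin : ∀ m, m < Nat.find hex → ¬ Q m := fun m hm => Nat.find_min hex hm
  obtain ⟨G, iG, iF, ι, hι, ⟨T, hT⟩, hcard⟩ := Nat.find_spec hex
  refine ⟨G, iG, iF, ?_, ι, hι, T, hT⟩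
  obtain ⟨-, hSne, hnorm⟩ := hsimple
  have hinj := hι.1
  have hnt : Nontrivial G := by
    obtain ⟨s, hs⟩ := (Subgroup.ne_bot_iff_exists_ne_one).mp hSne
    refine ⟨ι s, 1, fun h => hs ?_⟩
    rw [← map_one ι] at h
    exact hinj h
  refine { exists_pair_ne := hnt.exists_pair_ne, eq_bot_or_eq_top_of_normal := ?_ }
  intro N hN
  have hnormal := realSub_isNormalIn F ι hι T hT N
  rcases hnorm _ _ hnormal with h | ⟨h, hHom⟩
  · left
    by_contra hne
    have hTN : (T : Subgroup G) ⊓ N = ⊥ := by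
      rw [eq_bot_iff]
      rintro w ⟨hwT, hwN⟩
      rw [hT] at hwT
      obtain ⟨s, rfl⟩ := hwT
      have hs : (s : Ω) ∈ preimageAlong ι N := (mem_preimageAlong_iff ι N s).mpr ⟨s.2, hwN⟩
      rw [h, Subgroup.mem_bot] at hs
      have : s = 1 := Subtype.ext hs
      rw [this, map_one]
      exact Subgroup.mem_bot.mpr rfl
    have hcop : (Nat.card N).Coprime p := by
      obtain ⟨T', hT'⟩ := exists_sylow_map_eq_inf T N
      rw [hTN] at hT'
      have hT'bot : (T' : Subgroup N) = ⊥ := by
        rw [eq_bot_iff]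
        intro x hx
        have : (N.subtype x) ∈ (⊥ : Subgroup G) := hT' ▸ ⟨x, hx, rfl⟩
        rw [Subgroup.mem_bot] at this ⊢
        exact Subtype.ext this
      have hnd : ¬ p ∣ (T' : Subgroup N).index := T'.not_dvd_index
      rw [hT'bot, Subgroup.index_bot] at hnd
      exact ((Nat.Prime.coprime_iff_not_dvd hp).mpr hnd).symm
    obtain ⟨h1, T', hT'⟩ := realized_quotient F ι hι T hT N hcop
    have hlt : Nat.card (G ⧸ N) < Nat.find hex := by
      rw [← hcard, Subgroup.card_eq_card_quotient_mul_card_subgroup N]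
      have h2 : 1 < Nat.card N := (Subgroup.one_lt_card_iff_ne_bot N).mpr hne
      have h3 : 0 < Nat.card (G ⧸ N) := Nat.card_pos
      exact lt_mul_of_one_lt_right h3 h2
    exact hmin _ hlt ⟨G ⧸ N, inferInstance, inferInstance, _, h1, ⟨T', hT'⟩, rfl⟩
  · right
    by_contra hne
    have hTN : (T : Subgroup G) ≤ N := by
      intro w hw
      rw [hT] at hw
      obtain ⟨s, rfl⟩ := hw
      have hs : (s : Ω) ∈ preimageAlong ι N := by rw [h]; exact s.2
      exact ((mem_preimageAlong_iff ι N s).mp hs).2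
    obtain ⟨ι', h1, T', hT'⟩ := realized_subgroup F ι hι T hT N hTN (fun P => le_of_eq (hHom P).symm)
    have hlt : Nat.card N < Nat.find hex := by
      rw [← hcard, ← Subgroup.card_mul_index N]
      have h2 : N.index ≠ 1 := fun h => hne (Subgroup.index_eq_one.mp h)
      have h3 : N.index ≠ 0 := Subgroup.index_ne_zero_of_finite
      have h4 : 1 < N.index := by omega
      have h5 : 0 < Nat.card N := Nat.card_pos
      exact lt_mul_of_one_lt_right h5 h4
    exact hmin _ hlt ⟨N, inferInstance, inferInstance, ι', h1, ⟨T', hT'⟩, rfl⟩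

end Cfsg.Agent.S5343
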