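import Cfsg.Statements.S5345
import Mathlib
import Cfsg.Agent.Lib.Helper9.GroupFusion

set_option autoImplicit false
open Cfsg Cfsg.Agent.Lib.Helper9

namespace Cfsg.Agent.S5345

theorem commute_of_mem_two_group {G : Type*} [Group G] {D : Set G} (hD : Cfsg.IsThreeTranspositionGroup D)
    (T : Subgroup G) (hT : IsPGroup 2 T) {d e : G} (hd : d ∈ D) (he : e ∈ D) (hdT : d ∈ T) (heT : e ∈ T) :
    d * e = e * d := by
  obtain ⟨⟨hord, hprod⟩, -, -⟩ := hD
  have hd2 : d * d = 1 := by
    have := hord d hd
    rw [← pow_two, ← this, pow_orderOf_eq_one]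
  have he2 : e * e = 1 := by
    have := hord e he
    rw [← pow_two, ← this, pow_orderOf_eq_one]
  have key : (d * e) ^ 2 = 1 := by
    rcases hprod d hd e he with h | h
    · exact h
    · obtain ⟨k, hk⟩ := hT ⟨d * e, T.mul_mem hdT heT⟩
      have hk' : (d * e) ^ (2 ^ k) = 1 := by
        have := congrArg Subtype.val hk
        simpa using this
      have h1 : orderOf (d * e) ∣ 2 ^ k := orderOf_dvd_of_pow_eq_one hk'
      have h3 : orderOf (d * e) ∣ 3 := orderOf_dvd_of_pow_eq_one h
      have hc : Nat.Coprime 3 (2 ^ k) := Nat.Coprime.pow_right k (by decide)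
      have h4 : orderOf (d * e) = 1 := Nat.eq_one_of_dvd_coprimes hc h3 h1
      rw [orderOf_eq_one_iff.mp h4, one_pow]
  have h5 : d * e * (d * e) = 1 := by rw [← pow_two]; exact key
  calc d * e = d * e * (d * e * (e * d)) := by
        have : d * e * (e * d) = 1 := by
          calc d * e * (e * d) = d * (e * e) * d := by group
            _ = 1 := by rw [he2, mul_one, hd2]
        rw [this, mul_one]
    _ = (d * e * (d * e)) * (e * d) := by group
    _ = e * d := by rw [h5, one_mul]

theorem result {G : Type*} [Group G] [Finite G] {D : Set G} (hD : Cfsg.IsThreeTranspositionGroup D) (T : Sylow 2 G) : IsMulCommutative (Subgroup.closure {d : G | d ∈ D ∧ d ∈ T}) ∧ {d : G | d ∈ D ∧ d ∈ T}.ncard = Cfsg.commutingWidth D := by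
  haveI : Fact (Nat.Prime 2) := ⟨Nat.prime_two⟩
  have hcomm : ∀ x ∈ {d : G | d ∈ D ∧ d ∈ T}, ∀ y ∈ {d : G | d ∈ D ∧ d ∈ T}, x * y = y * x := by
    rintro x ⟨hxD, hxT⟩ y ⟨hyD, hyT⟩
    exact commute_of_mem_two_group hD T T.isPGroup' hxD hyD hxT hyT
  refine ⟨Subgroup.isMulCommutative_closure hcomm, ?_⟩
  symm
  unfold Cfsg.commutingWidth
  apply IsGreatest.csSup_eq
  constructor
  · exact ⟨_, fun d hd => hd.1, Set.toFinite _, fun a ha b hb => hcomm a ha b hb, rfl⟩
  · rintro n ⟨E, hED, hEfin, hEcomm, rfl⟩
    -- closure E is a 2-group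
    obtain ⟨⟨hord, -⟩, hconj, -⟩ := hD
    have hEp : IsPGroup 2 (Subgroup.closure E) := by
      have hcl : ∀ x ∈ Subgroup.closure E, x ^ 2 = 1 := by
        haveI := Subgroup.isMulCommutative_closure (k := E) (fun a ha b hb => (hEcomm a ha b hb).eq)
        intro x hx
        induction hx using Subgroup.closure_induction with
        | mem x hx =>
          have := hord x (hED hx)
          rw [← this, pow_orderOf_eq_one]
        | one => simp
        | mul x y hx hy ihx ihy =>
          have hc : x * y = y * x := setLike_mul_comm hx hy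
          rw [pow_two]
          calc x * y * (x * y) = x * (y * x) * y := by group
            _ = x * (x * y) * y := by rw [hc]
            _ = x ^ 2 * y ^ 2 := by rw [pow_two, pow_two]; group
            _ = 1 := by rw [ihx, ihy, one_mul]
        | inv x hx ih => rw [inv_pow, ih, inv_one]
      intro x
      refine ⟨1, ?_⟩
      apply Subtype.ext
      have := hcl x x.2
      simpa using this
    obtain ⟨g, hg⟩ := exists_map_conj_le_sylow T hEp
    apply Set.ncard_le_ncard_of_injOn (fun e => g * e * g⁻¹)
    · intro e he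
      refine ⟨hconj g e (hED he), ?_⟩
      apply hg
      exact ⟨e, Subgroup.subset_closure he, by simp [MulAut.conj_apply]⟩
    · intro a _ b _ hab
      exact mul_left_cancel (mul_right_cancel hab)

end Cfsg.Agent.S5345
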