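import Cfsg.Statements.S5348
import Mathlib

set_option autoImplicit false
open Cfsg

namespace Cfsg.Agent.S5348

theorem result {G : Type*} [Group G] [Finite G] {D : Set G} (hD : Cfsg.IsThreeTranspositionGroup D) {d : G} (hd : d ∈ D) : {v : G | v ∈ D ∧ ∀ e ∈ D, Commute v e ↔ Commute d e} = {d} ∨ {w : G | w ∈ D ∧ {y : G | y ∈ D ∧ y ≠ d ∧ Commute d y} = {y : G | y ∈ D ∧ y ≠ w ∧ Commute w y}} = {d} := by
  by_contra h
  push_neg at h
  obtain ⟨hV, hW⟩ := h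
  have hdV : d ∈ {v : G | v ∈ D ∧ ∀ e ∈ D, Commute v e ↔ Commute d e} := ⟨hd, fun e _ => Iff.rfl⟩
  have hdW : d ∈ {w : G | w ∈ D ∧ {y : G | y ∈ D ∧ y ≠ d ∧ Commute d y} = {y : G | y ∈ D ∧ y ≠ w ∧ Commute w y}} :=
    ⟨hd, rfl⟩
  obtain ⟨v, hv, hvd⟩ : ∃ v ∈ {v : G | v ∈ D ∧ ∀ e ∈ D, Commute v e ↔ Commute d e}, v ≠ d := by
    by_contra hne
    push_neg at hne
    apply hV
    ext x
    constructor
    · intro hx; exact hne x hx
    · intro hx; rw [Set.mem_singleton_iff.mp hx]; exact hdV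
  obtain ⟨w, hw, hwd⟩ : ∃ w ∈ {w : G | w ∈ D ∧ {y : G | y ∈ D ∧ y ≠ d ∧ Commute d y} = {y : G | y ∈ D ∧ y ≠ w ∧ Commute w y}}, w ≠ d := by
    by_contra hne
    push_neg at hne
    apply hW
    ext x
    constructor
    · intro hx; exact hne x hx
    · intro hx; rw [Set.mem_singleton_iff.mp hx]; exact hdW
  obtain ⟨hvD, hvc⟩ := hv
  obtain ⟨hwD, hwe⟩ := hw
  -- w does not commute with d
  have h1 : ¬ Commute w d := by
    intro hc
    have : d ∈ {y : G | y ∈ D ∧ y ≠ w ∧ Commute w y} := ⟨hd, fun h => hwd h.symm, hc⟩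
    rw [← hwe] at this
    exact this.2.1 rfl
  -- v commutes with d
  have h2 : Commute v d := (hvc d hd).mpr (Commute.refl d)
  have h3 : v ∈ {y : G | y ∈ D ∧ y ≠ d ∧ Commute d y} := ⟨hvD, hvd, h2.symm⟩
  rw [hwe] at h3
  have h4 : Commute v w := h3.2.2.symm
  have h5 : Commute d w := (hvc w hwD).mp h4
  exact h1 h5.symm

end Cfsg.Agent.S5348
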