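import Mathlib
import Cfsg.Statements.S5355
import Cfsg.Agent.S5344
import Cfsg.Agent.Lib.Helper9.S4Facts

set_option autoImplicit false
open Cfsg
open Cfsg.Agent

namespace Cfsg.Agent.S5355

/-- Let D be a conjugacy class of 3-transpositions generating the finite group G, with at least two members, and d a member of D. Suppose that every member of D commuting with d commutes with exactly the same members of D as d does, and that exactly one member of D other than d commutes with d. Then G is isomorphic to the symmetric group of degree 4. -/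
theorem result {G : Type*} [Group G] [Finite G] {D : Set G} (hD : Cfsg.IsThreeTranspositionClass D) (hD2 : ∃ a ∈ D, ∃ b ∈ D, a ≠ b) {d : G} (hd : d ∈ D) (hV : {y : G | y ∈ D ∧ Commute d y} = {v : G | v ∈ D ∧ ∀ e ∈ D, Commute v e ↔ Commute d e}) (hm : {y : G | y ∈ D ∧ Commute d y}.ncard = 2) : Nonempty (G ≃* Equiv.Perm (Fin 4)) := by
  classical
  obtain ⟨hD3, ⟨d₀, hd₀, hDconj⟩, hgen⟩ := hD
  have hD3' := hD3
  obtain ⟨hord, hprod⟩ := hD3
  have hconj : ∀ g : G, ∀ x ∈ D, g * x * g⁻¹ ∈ D := by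
    intro g x hx
    rw [hDconj] at hx ⊢
    have hx' : IsConj d₀ x := hx
    show IsConj d₀ (g * x * g⁻¹)
    exact hx'.trans (isConj_iff.2 ⟨g, rfl⟩)
  have htrans : ∀ x ∈ D, ∃ g : G, x = g * d * g⁻¹ := by
    intro x hx
    rw [hDconj] at hx hd
    have hx' : IsConj d₀ x := hx
    have hd' : IsConj d₀ d := hd
    obtain ⟨g, hg⟩ := isConj_iff.1 (hd'.symm.trans hx')
    exact ⟨g, hg.symm⟩
  have hsq : ∀ x ∈ D, x * x = 1 := by
    intro x hx
    have := pow_orderOf_eq_one x
    rw [hord x hx, pow_two] at this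
    exact this
  have hinv : ∀ x ∈ D, x⁻¹ = x := fun x hx => inv_eq_of_mul_eq_one_right (hsq x hx)
  -- partner of d
  obtain ⟨p₁, p₂, hp₁₂, hs⟩ := Set.ncard_eq_two.1 hm
  have hds : d ∈ {y : G | y ∈ D ∧ Commute d y} := ⟨hd, Commute.refl d⟩
  obtain ⟨d', hd'ne, hs'⟩ : ∃ d', d' ≠ d ∧ {y : G | y ∈ D ∧ Commute d y} = {d, d'} := by
    rw [hs] at hds
    rcases hds with h | h
    · exact ⟨p₂, by rw [h]; exact hp₁₂.symm, by rw [hs, h]⟩
    · rw [Set.mem_singleton_iff] at h
      exact ⟨p₁, by rw [h]; exact hp₁₂, by rw [hs, h, Set.pair_comm]⟩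
  have hd's : d' ∈ {y : G | y ∈ D ∧ Commute d y} := by rw [hs']; simp
  have hd'V : d' ∈ {v : G | v ∈ D ∧ ∀ e ∈ D, Commute v e ↔ Commute d e} := by rw [← hV]; exact hd's
  have hpart : ∀ x ∈ D, ∃ x', x' ∈ D ∧ x' ≠ x ∧ Commute x x' ∧
      (∀ e ∈ D, Commute x e → e = x ∨ e = x') ∧ (∀ e ∈ D, Commute x' e ↔ Commute x e) := by
    intro x hx
    obtain ⟨g, rfl⟩ := htrans x hx
    have hcc : ∀ u v : G, Commute (g * u * g⁻¹) (g * v * g⁻¹) ↔ Commute u v := by
      intro u v
      constructor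
      · intro h
        have h1 : g * u * g⁻¹ * (g * v * g⁻¹) = g * v * g⁻¹ * (g * u * g⁻¹) := h
        have h2 : g * (u * v) * g⁻¹ = g * (v * u) * g⁻¹ := by
          calc g * (u * v) * g⁻¹ = g * u * g⁻¹ * (g * v * g⁻¹) := by group
            _ = g * v * g⁻¹ * (g * u * g⁻¹) := h1
            _ = g * (v * u) * g⁻¹ := by group
        exact mul_left_cancel (mul_right_cancel h2)
      · intro h
        have h1 : u * v = v * u := h
        show g * u * g⁻¹ * (g * v * g⁻¹) = g * v * g⁻¹ * (g * u * g⁻¹)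
        calc g * u * g⁻¹ * (g * v * g⁻¹) = g * (u * v) * g⁻¹ := by group
          _ = g * (v * u) * g⁻¹ := by rw [h1]
          _ = g * v * g⁻¹ * (g * u * g⁻¹) := by group
    have hback : ∀ e : G, e = g * (g⁻¹ * e * g⁻¹⁻¹) * g⁻¹ := by intro e; group
    refine ⟨g * d' * g⁻¹, hconj g d' hd's.1, ?_, (hcc d d').2 hd's.2, ?_, ?_⟩
    · intro h
      apply hd'ne
      exact mul_left_cancel (mul_right_cancel h)
    · intro e he hce
      rw [hback e, hcc] at hce
      have hmem : g⁻¹ * e * g⁻¹⁻¹ ∈ {y : G | y ∈ D ∧ Commute d y} := ⟨hconj g⁻¹ e he, hce⟩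
      rw [hs'] at hmem
      rcases hmem with h | h
      · left; rw [hback e, h]
      · right; rw [hback e, Set.mem_singleton_iff.1 h]
    · intro e he
      rw [hback e, hcc, hcc]
      exact hd'V.2 _ (hconj g⁻¹ e he)
  choose! pr hpr using hpart
  have huniq : ∀ x ∈ D, ∀ e ∈ D, Commute x e → e ≠ x → e = pr x := by
    intro x hx e he hc hne
    rcases (hpr x hx).2.2.2.1 e he hc with h | h
    · exact absurd h hne
    · exact h
  set n : G → G := fun x => x * pr x with hn
  -- basic facts about n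
  have hn2 : ∀ x ∈ D, n x * n x = 1 := by
    intro x hx
    have hc : x * pr x = pr x * x := (hpr x hx).2.2.1
    show x * pr x * (x * pr x) = 1
    calc x * pr x * (x * pr x) = x * (pr x * x) * pr x := by group
      _ = x * (x * pr x) * pr x := by rw [hc]
      _ = (x * x) * (pr x * pr x) := by group
      _ = 1 := by rw [hsq x hx, hsq _ (hpr x hx).1, one_mul]
  have hn1 : ∀ x ∈ D, n x ≠ 1 := by
    intro x hx h
    apply (hpr x hx).2.1
    have h1 : x * pr x = 1 := h
    have := eq_inv_of_mul_eq_one_right h1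
    rw [hinv x hx] at this
    exact this
  -- Lemma L1
  have hL1 : ∀ x ∈ D, ∀ y ∈ D, ¬ Commute x y →
      (x * n y * x⁻¹ = n y * n x) ∧ (n (y * x * y⁻¹) = n x * n y) ∧ (n x * n y = n y * n x) := by
    intro x hx y hy hxy
    have hx' := hpr x hx
    have hx'y : ¬ Commute (pr x) y := fun h => hxy ((hx'.2.2.2.2 y hy).1 h)
    have hyx' : ¬ Commute y (pr x) := fun h => hx'y h.symm
    obtain ⟨φ, hφinj, h01, h12, h23⟩ := Cfsg.Agent.S5344.result hD3' hx hy hx'.1 hx'.2.1.symm hx'.2.2.1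
      hxy hyx'
    have hφD : ∀ t : Equiv.Perm (Fin 4), (∃ g : Equiv.Perm (Fin 4), t = g * Equiv.swap 0 1 * g⁻¹) →
        φ t ∈ D := by
      rintro t ⟨g, rfl⟩
      rw [map_mul, map_mul, map_inv, h01]
      exact hconj _ x hx
    have h03 : pr y = φ (Equiv.swap 0 3) := by
      symm
      apply huniq y hy _ (hφD _ H9S4.conj03)
      · show y * φ (Equiv.swap 0 3) = φ (Equiv.swap 0 3) * y
        rw [← h12, ← map_mul, ← map_mul, H9S4.comm_12_03]
      · intro h
        rw [← h12] at h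
        exact H9S4.ne_12_03 (hφinj h)
    have h02 : y * x * y⁻¹ = φ (Equiv.swap 0 2) := by
      rw [← h12, ← h01, ← map_inv, ← map_mul, ← map_mul, H9S4.conj_12_01]
    have h02D : φ (Equiv.swap 0 2) ∈ D := hφD _ H9S4.conj02
    have h13 : pr (y * x * y⁻¹) = φ (Equiv.swap 1 3) := by
      rw [h02]
      symm
      apply huniq _ h02D _ (hφD _ H9S4.conj13)
      · show φ (Equiv.swap 0 2) * φ (Equiv.swap 1 3) = φ (Equiv.swap 1 3) * φ (Equiv.swap 0 2)
        rw [← map_mul, ← map_mul, H9S4.comm_02_13]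
      · intro h
        exact H9S4.ne_02_13 (hφinj h)
    have hnx : n x = φ (Equiv.swap 0 1 * Equiv.swap 2 3) := by
      rw [map_mul, h01, h23]
    have hny : n y = φ (Equiv.swap 1 2 * Equiv.swap 0 3) := by
      rw [map_mul, h12, ← h03]
    have hnw : n (y * x * y⁻¹) = φ (Equiv.swap 0 2 * Equiv.swap 1 3) := by
      rw [map_mul, ← h02, ← h13]
    refine ⟨?_, ?_, ?_⟩
    · rw [hnx, hny, ← h01, ← map_inv, ← map_mul, ← map_mul, ← map_mul, H9S4.fact_i]
    · rw [hnw, hnx, hny, ← map_mul, H9S4.fact_ii]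
    · rw [hnx, hny, ← map_mul, ← map_mul, H9S4.fact_iii]
  -- key lemma
  have hkey : ∀ x ∈ D, ∀ y ∈ D, ∀ z ∈ D, ¬ Commute x y → ¬ Commute x z → ¬ Commute y z →
      z * y * z⁻¹ = x ∨ z * y * z⁻¹ = pr x := by
    intro x hx y hy z hz hxy hxz hyz
    have hwD : z * y * z⁻¹ ∈ D := hconj z y hy
    have hcw : Commute x (z * y * z⁻¹) := by
      by_contra hcon
      obtain ⟨e1, -, -⟩ := hL1 x hx _ hwD hcon
      obtain ⟨-, e2, -⟩ := hL1 y hy z hz hyz
      obtain ⟨e3, -, -⟩ := hL1 x hx y hy hxy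
      obtain ⟨e4, -, e5⟩ := hL1 x hx z hz hxz
      rw [e2] at e1
      have e6 : x * (n y * n z) * x⁻¹ = (x * n y * x⁻¹) * (x * n z * x⁻¹) := by group
      rw [e6, e3, e4] at e1
      have e7 : n y * n x * (n z * n x) = n y * n z := by
        calc n y * n x * (n z * n x) = n y * (n x * n z) * n x := by group
          _ = n y * (n z * n x) * n x := by rw [e5]
          _ = n y * n z * (n x * n x) := by group
          _ = n y * n z := by rw [hn2 x hx, mul_one]
      rw [e7] at e1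
      have : n x = 1 := by
        have h1 : n y * n z * 1 = n y * n z * n x := by rw [mul_one]; exact e1
        exact (mul_left_cancel h1).symm
      exact hn1 x hx this
    by_cases h : z * y * z⁻¹ = x
    · left; exact h
    · right; exact huniq x hx _ hwD hcw h
  -- a non-commuting element
  obtain ⟨y₀, hy₀, hdy₀⟩ : ∃ y₀ ∈ D, ¬ Commute d y₀ := by
    by_contra hcon
    push Not at hcon
    -- all elements commute with d, so D ⊆ {d, d'}, all commute; G abelian; class is a singleton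
    have hall : ∀ u ∈ D, ∀ v ∈ D, Commute u v := by
      intro u hu v hv
      have h1 : u ∈ {y : G | y ∈ D ∧ Commute d y} := ⟨hu, hcon u hu⟩
      have h2 : v ∈ {y : G | y ∈ D ∧ Commute d y} := ⟨hv, hcon v hv⟩
      rw [hs'] at h1 h2
      rcases h1 with h1 | h1 <;> rcases h2 with h2 | h2
      · rw [h1, h2]
      · rw [h1, Set.mem_singleton_iff.1 h2]; exact hd's.2
      · rw [Set.mem_singleton_iff.1 h1, h2]; exact hd's.2.symm
      · rw [Set.mem_singleton_iff.1 h1, Set.mem_singleton_iff.1 h2]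
    have hcen : ∀ u ∈ D, u ∈ Subgroup.center G := by
      intro u hu
      have h1 : Subgroup.closure D ≤ Subgroup.centralizer {u} := by
        rw [Subgroup.closure_le]
        intro v hv
        rw [SetLike.mem_coe, Subgroup.mem_centralizer_singleton_iff]
        exact (hall u hu v hv).eq.symm
      rw [hgen] at h1
      rw [Subgroup.mem_center_iff]
      intro g
      have := h1 (Subgroup.mem_top g)
      rw [Subgroup.mem_centralizer_singleton_iff] at this
      exact this
    obtain ⟨a, haD, b, hbD, hab⟩ := hD2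
    apply hab
    obtain ⟨g, rfl⟩ := htrans a haD
    obtain ⟨g', rfl⟩ := htrans b hbD
    have hdc := hcen d hd
    rw [Subgroup.mem_center_iff] at hdc
    rw [hdc g, hdc g', mul_assoc, mul_inv_cancel, mul_one, mul_assoc, mul_inv_cancel, mul_one]
  have hd'' := hpr d hd
  have hd'y₀ : ¬ Commute (pr d) y₀ := fun h => hdy₀ ((hd''.2.2.2.2 y₀ hy₀).1 h)
  obtain ⟨φ, hφinj, h01, h12, h23⟩ := Cfsg.Agent.S5344.result hD3' hd hy₀ hd''.1 hd''.2.1.symm hd''.2.2.1
    hdy₀ (fun h => hd'y₀ h.symm)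
  have hφD : ∀ t : Equiv.Perm (Fin 4), (∃ g : Equiv.Perm (Fin 4), t = g * Equiv.swap 0 1 * g⁻¹) →
      φ t ∈ D := by
    rintro t ⟨g, rfl⟩
    rw [map_mul, map_mul, map_inv, h01]
    exact hconj _ d hd
  have h03 : pr y₀ = φ (Equiv.swap 0 3) := by
    symm
    apply huniq y₀ hy₀ _ (hφD _ H9S4.conj03)
    · show y₀ * φ (Equiv.swap 0 3) = φ (Equiv.swap 0 3) * y₀
      rw [← h12, ← map_mul, ← map_mul, H9S4.comm_12_03]
    · intro h
      rw [← h12] at h
      exact H9S4.ne_12_03 (hφinj h)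
  have hDr : ∀ e ∈ D, e ∈ φ.range := by
    intro e he
    by_cases h1 : Commute d e
    · rcases hd''.2.2.2.1 e he h1 with h | h
      · rw [h, ← h01]; exact ⟨_, rfl⟩
      · rw [h, ← h23]; exact ⟨_, rfl⟩
    by_cases h2 : Commute y₀ e
    · rcases (hpr y₀ hy₀).2.2.2.1 e he h2 with h | h
      · rw [h, ← h12]; exact ⟨_, rfl⟩
      · rw [h, h03]; exact ⟨_, rfl⟩
    have h3 : ¬ Commute e y₀ := fun h => h2 h.symm
    have hw := hkey d hd e he y₀ hy₀ h1 hdy₀ h3
    have hwr : y₀ * e * y₀⁻¹ ∈ φ.range := by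
      rcases hw with h | h
      · rw [h, ← h01]; exact ⟨_, rfl⟩
      · rw [h, ← h23]; exact ⟨_, rfl⟩
    have hy₀r : y₀ ∈ φ.range := by rw [← h12]; exact ⟨_, rfl⟩
    have : e = y₀⁻¹ * (y₀ * e * y₀⁻¹) * y₀ := by group
    rw [this]
    exact φ.range.mul_mem (φ.range.mul_mem (φ.range.inv_mem hy₀r) hwr) hy₀r
  have hsurj : Function.Surjective φ := by
    rw [← MonoidHom.range_eq_top, eq_top_iff, ← hgen, Subgroup.closure_le]
    exact hDr
  exact ⟨(MulEquiv.ofBijective φ ⟨hφinj, hsurj⟩).symm⟩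

end Cfsg.Agent.S5355
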