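import Cfsg.Statements.S5356
import Mathlib
import Cfsg.Agent.S5346
import Cfsg.Agent.S5349
import Cfsg.Agent.Lib.Helper9.TT9v
import Cfsg.Agent.Lib.Helper9.InvSyl4

set_option autoImplicit false
open Cfsg

namespace Cfsg.Agent.S5356

/-- Let D be a conjugacy class of 3-transpositions generating the finite group G, with at least two members, and d a member of D such that every member of D commuting with d commutes with exactly the same members of D as d. Then there is a Sylow 3-subgroup P of G normalized by d such that G is generated by d, P and the largest normal 2-subgroup of G. -/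
theorem result {G : Type*} [Group G] [Finite G] {D : Set G} (hD : Cfsg.IsThreeTranspositionClass D) (hD2 : ∃ a ∈ D, ∃ b ∈ D, a ≠ b) {d : G} (hd : d ∈ D) (hV : {y : G | y ∈ D ∧ Commute d y} = {v : G | v ∈ D ∧ ∀ e ∈ D, Commute v e ↔ Commute d e}) : ∃ P : Sylow 3 G, d ∈ Subgroup.normalizer (P : Set G) ∧ Subgroup.zpowers d ⊔ (P : Subgroup G) ⊔ Cfsg.pCore 2 G = ⊤ := by
  classical
  open Cfsg.Agent.H9TT Cfsg.Agent.H9IS in
  have h : TC D := TC.of_class hD
  haveI hVn : (Cfsg.pCore 2 G).Normal := Cfsg.Agent.Lib.Lead.pCore_normal (G := G) 2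
  have hV2 : IsPGroup 2 (Cfsg.pCore 2 G) := Cfsg.Agent.Lib.Lead.pCore_isPGroup (G := G) 2
  obtain ⟨hA, hB⟩ := Cfsg.Agent.S5349.result hD hD2 hd
  have hdd : d * d = 1 := h.toTT.sq hd
  have hdi : d⁻¹ = d := h.toTT.inv hd
  -- (a) no member of `D` lies in `O_2(G)`
  have hnot : ∀ a ∈ D, a ∉ Cfsg.pCore 2 G := by
    intro a ha haV
    have hDV : ∀ e ∈ D, e ∈ Cfsg.pCore 2 G := by
      intro e he
      obtain ⟨g, rfl⟩ := h.hclass a ha e he
      exact hVn.conj_mem a haV g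
    apply h.not_mem_center hD2 hd
    apply h.mem_center
    intro e he
    have h1 : e ∈ {v : G | v ∈ D ∧ d⁻¹ * v ∈ Cfsg.pCore 2 G} :=
      ⟨he, Subgroup.mul_mem _ (Subgroup.inv_mem _ (hDV d hd)) (hDV e he)⟩
    rw [← hA, ← hV] at h1
    exact h1.2.symm
  -- (c) commuting members are congruent
  have hcomm : ∀ a ∈ D, ∀ b ∈ D, Commute a b → a⁻¹ * b ∈ Cfsg.pCore 2 G := by
    intro a ha b hb hab
    obtain ⟨g, rfl⟩ := h.hclass d hd a ha
    have h1 : Commute d (g⁻¹ * b * g) := (TT.commute_conj_iff g d b).mp hab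
    have h2 : g⁻¹ * b * g ∈ D := by
      have := h.hconj g⁻¹ b hb
      rwa [inv_inv] at this
    have h3 : g⁻¹ * b * g ∈ {y : G | y ∈ D ∧ Commute d y} := ⟨h2, h1⟩
    rw [hV, hA] at h3
    have h4 := hVn.conj_mem _ h3.2 g
    have e : g * (d⁻¹ * (g⁻¹ * b * g)) * g⁻¹ = (g * d * g⁻¹)⁻¹ * b := by group
    rwa [e] at h4
  have hGrp := h.quot_group (Cfsg.pCore 2 G) hnot
  have hpair := h.quot_pairwise (Cfsg.pCore 2 G) hcomm
  have hdbar : QuotientGroup.mk' (Cfsg.pCore 2 G) d ∈ (QuotientGroup.mk' (Cfsg.pCore 2 G)) '' D :=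
    ⟨d, hd, rfl⟩
  have hw := width_one_of_pairwise hdbar hpair
  have hsup := (Cfsg.Agent.S5346.result hGrp hdbar).mp hw
  haveI hO3n : (Cfsg.pCore 3 (G ⧸ Cfsg.pCore 2 G)).Normal :=
    Cfsg.Agent.Lib.Lead.pCore_normal (G := G ⧸ Cfsg.pCore 2 G) 3
  have hO33 : IsPGroup 3 (Cfsg.pCore 3 (G ⧸ Cfsg.pCore 2 G)) :=
    Cfsg.Agent.Lib.Lead.pCore_isPGroup (G := G ⧸ Cfsg.pCore 2 G) 3
  have hdbar2 : orderOf (QuotientGroup.mk' (Cfsg.pCore 2 G) d) = 2 := hGrp.1.1 _ hdbar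
  have hdnot : QuotientGroup.mk' (Cfsg.pCore 2 G) d ∉ Cfsg.pCore 3 (G ⧸ Cfsg.pCore 2 G) := by
    intro hmem
    obtain ⟨k, hk⟩ := hO33 ⟨_, hmem⟩
    have hk' : (QuotientGroup.mk' (Cfsg.pCore 2 G) d) ^ (3 ^ k) = 1 := by
      have := congrArg Subtype.val hk
      simpa using this
    have hdvd := orderOf_dvd_of_pow_eq_one hk'
    rw [hdbar2] at hdvd
    have := Nat.Prime.dvd_of_dvd_pow Nat.prime_two hdvd
    omega
  have hbb : (QuotientGroup.mk' (Cfsg.pCore 2 G) d) * (QuotientGroup.mk' (Cfsg.pCore 2 G) d) = 1 := by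
    rw [← map_mul, hdd, map_one]
  have hidx2 := index_eq_two_of_zpowers_sup (Cfsg.pCore 3 (G ⧸ Cfsg.pCore 2 G)) hbb hdnot hsup
  obtain ⟨N, hN⟩ : ∃ N : Subgroup G, N = (Cfsg.pCore 3 (G ⧸ Cfsg.pCore 2 G)).comap
      (QuotientGroup.mk' (Cfsg.pCore 2 G)) := ⟨_, rfl⟩
  have hNmem : ∀ x : G, x ∈ N ↔ QuotientGroup.mk' (Cfsg.pCore 2 G) x ∈
      Cfsg.pCore 3 (G ⧸ Cfsg.pCore 2 G) := by
    intro x
    rw [hN, Subgroup.mem_comap]
  have hdN : d ∉ N := by
    rw [hNmem]; exact hdnot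
  have hS : Setup (Cfsg.pCore 2 G) N d := by
    refine ⟨hVn, ?_, ?_, hV2, ?_, hdd, ?_, ?_⟩
    · rw [hN]; infer_instance
    · intro v hv
      rw [hNmem]
      have : QuotientGroup.mk' (Cfsg.pCore 2 G) v = 1 := by
        rw [QuotientGroup.mk'_apply, QuotientGroup.eq_one_iff]; exact hv
      rw [this]
      exact Subgroup.one_mem _
    · intro x hx
      rw [hNmem] at hx
      obtain ⟨k, hk⟩ := hO33 ⟨_, hx⟩
      refine ⟨k, ?_⟩
      have hk' : (QuotientGroup.mk' (Cfsg.pCore 2 G) x) ^ (3 ^ k) = 1 := by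
        have := congrArg Subtype.val hk
        simpa using this
      rw [← map_pow, QuotientGroup.mk'_apply, QuotientGroup.eq_one_iff] at hk'
      exact hk'
    · rw [hN, Subgroup.index_comap_of_surjective _ (QuotientGroup.mk'_surjective _)]
      exact hidx2
    · intro g hg
      have h1 : g * d * g⁻¹ ∈ {v : G | v ∈ D ∧ d⁻¹ * v ∈ Cfsg.pCore 2 G} :=
        ⟨h.hconj g d hd, hg⟩
      rw [← hA, hB] at h1
      obtain ⟨v, hv, e⟩ := h1
      exact ⟨v, hv, e⟩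
  obtain ⟨P, hP⟩ := hS.exists_sylow
  exact ⟨P, hP, hS.sup_eq_top hdN P⟩

end Cfsg.Agent.S5356
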