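import Mathlib
import Cfsg.Statements.S5357
import Cfsg.Agent.Lib.Helper9.ReflO3b

set_option autoImplicit false
open Cfsg
open Matrix Cfsg.Agent.Lib.Helper2.ReflGen Cfsg.Agent.Lib.Helper2.CDG Cfsg.Agent.Lib.Helper2.Spinor

namespace Cfsg.Agent.S5357

/-- Let Q be a non-degenerate quadratic form on the n-dimensional coordinate space over the field with three elements, n ≥ 5, and c a non-zero scalar. In the subgroup of the isometry group of Q generated by the reflections in vectors v with Q(v) = c, these reflections form a single conjugacy class of 3-transpositions generating that subgroup. -/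
theorem result (n : ℕ) (hn : 5 ≤ n) (Q : QuadraticForm (ZMod 3) (Fin n → ZMod 3)) (hQ : (QuadraticMap.polarBilin Q).Nondegenerate) (c : ZMod 3) (hc : c ≠ 0) : Cfsg.IsThreeTranspositionClass {g : ↥(Cfsg.reflectionSubgroup (⇑Q) c) | (g : ↥(Cfsg.isometryGroup (ZMod 3) (⇑Q))) ∈ Cfsg.reflectionsOfNorm (⇑Q) c} := by
  classical
  have h2 : (2 : ZMod 3) ≠ 0 := by decide
  have hcard : 5 ≤ Fintype.card (Fin n) := by rw [Fintype.card_fin]; exact hn
  -- the reflections as elements of the generated subgroup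
  have hne : ∀ v : Fin n → ZMod 3, Q v = c → Q v ≠ 0 := fun v hv => by rw [hv]; exact hc
  have hmk : ∀ (v : Fin n → ZMod 3) (hv : Q v = c),
      refl Q v (hne v hv) ∈ Cfsg.reflectionsOfNorm (⇑Q) c := fun v hv => ⟨v, hv, rfl⟩
  have hchar : ∀ g : ↥(Cfsg.isometryGroup (ZMod 3) (⇑Q)), g ∈ Cfsg.reflectionsOfNorm (⇑Q) c →
      ∃ (v : Fin n → ZMod 3) (hv : Q v = c), g = refl Q v (hne v hv) := by
    rintro g ⟨v, hv, hg⟩
    exact ⟨v, hv, eq_refl_of_coe g v (hne v hv) hg⟩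
  obtain ⟨W, hW⟩ : ∃ W, W = Cfsg.reflectionSubgroup (⇑Q) c := ⟨_, rfl⟩
  rw [← hW]
  have hle : Cfsg.reflectionsOfNorm (⇑Q) c ⊆ (W : Set ↥(Cfsg.isometryGroup (ZMod 3) (⇑Q))) := by
    rw [hW]; exact Subgroup.subset_closure
  -- W-level reflections
  obtain ⟨rW, hrW⟩ : ∃ rW : ∀ (v : Fin n → ZMod 3), Q v = c → ↥W,
      ∀ v hv, ((rW v hv : ↥W) : ↥(Cfsg.isometryGroup (ZMod 3) (⇑Q))) = refl Q v (hne v hv) :=
    ⟨fun v hv => ⟨refl Q v (hne v hv), hle (hmk v hv)⟩, fun v hv => rfl⟩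
  have hDchar : ∀ d : ↥W, (d : ↥(Cfsg.isometryGroup (ZMod 3) (⇑Q))) ∈ Cfsg.reflectionsOfNorm (⇑Q) c →
      ∃ (v : Fin n → ZMod 3) (hv : Q v = c), d = rW v hv := by
    intro d hd
    obtain ⟨v, hv, hg⟩ := hchar _ hd
    exact ⟨v, hv, Subtype.ext (by rw [hrW]; exact hg)⟩
  have hDmem : ∀ v hv, ((rW v hv : ↥W) : ↥(Cfsg.isometryGroup (ZMod 3) (⇑Q))) ∈
      Cfsg.reflectionsOfNorm (⇑Q) c := by
    intro v hv; rw [hrW]; exact hmk v hv
  have hsq : ∀ v hv, rW v hv * rW v hv = 1 := by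
    intro v hv
    apply Subtype.ext
    rw [Subgroup.coe_mul, hrW, Subgroup.coe_one]
    exact refl_mul_self v _
  have hne1 : ∀ v hv, rW v hv ≠ 1 := by
    intro v hv h
    have := congrArg Subtype.val h
    rw [hrW, Subgroup.coe_one] at this
    exact Cfsg.Agent.H9Refl3.refl_ne_one h2 v _ this
  have hcomm : ∀ u hu v hv, QuadraticMap.polar (⇑Q) u v = 0 →
      rW u hu * rW v hv = rW v hv * rW u hu := by
    intro u hu v hv huv
    apply Subtype.ext
    rw [Subgroup.coe_mul, Subgroup.coe_mul, hrW, hrW]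
    exact Cfsg.Agent.H9Refl3.refl_comm _ _ huv
  have hbraid : ∀ u hu v hv, QuadraticMap.polar (⇑Q) u v ≠ 0 →
      rW u hu * rW v hv * rW u hu = rW v hv * rW u hu * rW v hv := by
    intro u hu v hv huv
    apply Subtype.ext
    rw [Subgroup.coe_mul, Subgroup.coe_mul, Subgroup.coe_mul, Subgroup.coe_mul, hrW, hrW]
    apply Cfsg.Agent.H9Refl3.refl_braid _ _ (hu.trans hv.symm)
    apply Cfsg.Agent.H9Refl3.zmod3_sq
    exact mul_ne_zero (inv_ne_zero (hne u hu)) huv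
  have hconj : ∀ u hu v hv, ∃ g : ↥W, g * rW u hu * g⁻¹ = rW v hv := by
    intro u hu v hv
    by_cases huv : QuadraticMap.polar (⇑Q) u v = 0
    · obtain ⟨z, hz, huz, hvz⟩ := Cfsg.Agent.H9Refl3.exists_common_neighbour hQ h2 hcard hc hu hv huv
      have h1 := Cfsg.Agent.H9Refl3.conj_of_braid (hsq u hu) (hsq z hz) (hbraid u hu z hz huz)
      have hzv : QuadraticMap.polar (⇑Q) z v ≠ 0 := by rwa [QuadraticMap.polar_comm]
      have h2' := Cfsg.Agent.H9Refl3.conj_of_braid (hsq z hz) (hsq v hv) (hbraid z hz v hv hzv)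
      refine ⟨(rW z hz * rW v hv) * (rW u hu * rW z hz), ?_⟩
      calc (rW z hz * rW v hv) * (rW u hu * rW z hz) * rW u hu *
            ((rW z hz * rW v hv) * (rW u hu * rW z hz))⁻¹
          = (rW z hz * rW v hv) * ((rW u hu * rW z hz) * rW u hu * (rW u hu * rW z hz)⁻¹) *
            (rW z hz * rW v hv)⁻¹ := by group
        _ = rW v hv := by rw [h1, h2']
    · exact ⟨rW u hu * rW v hv,
        Cfsg.Agent.H9Refl3.conj_of_braid (hsq u hu) (hsq v hv) (hbraid u hu v hv huv)⟩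
  refine ⟨⟨?_, ?_⟩, ?_, ?_⟩
  · -- order two
    intro d hd
    obtain ⟨v, hv, rfl⟩ := hDchar d hd
    apply orderOf_eq_prime
    · rw [pow_two]; exact hsq v hv
    · exact hne1 v hv
  · intro d hd e he
    obtain ⟨u, hu, rfl⟩ := hDchar d hd
    obtain ⟨v, hv, rfl⟩ := hDchar e he
    by_cases huv : QuadraticMap.polar (⇑Q) u v = 0
    · left
      exact Cfsg.Agent.H9Refl3.sq_of_comm (hsq u hu) (hsq v hv) (hcomm u hu v hv huv)
    · right
      exact Cfsg.Agent.H9Refl3.cube_of_braid (hsq u hu) (hsq v hv) (hbraid u hu v hv huv)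
  · -- a single class
    obtain ⟨v₀, hv₀⟩ := Cfsg.Agent.H9Refl3.exists_norm hQ (by omega) c
    refine ⟨rW v₀ hv₀, hDmem v₀ hv₀, ?_⟩
    ext d
    constructor
    · intro hd
      obtain ⟨v, hv, rfl⟩ := hDchar d hd
      show IsConj (rW v₀ hv₀) (rW v hv)
      rw [isConj_iff]
      exact hconj v₀ hv₀ v hv
    · intro hd
      have hd' : IsConj (rW v₀ hv₀) d := hd
      rw [isConj_iff] at hd'
      obtain ⟨g, rfl⟩ := hd'
      clear hd
      show ((g * rW v₀ hv₀ * g⁻¹ : ↥W) : ↥(Cfsg.isometryGroup (ZMod 3) (⇑Q))) ∈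
        Cfsg.reflectionsOfNorm (⇑Q) c
      rw [Subgroup.coe_mul, Subgroup.coe_mul, Subgroup.coe_inv, hrW, conj_refl]
      exact hmk _ (by rw [iso_Q]; exact hv₀)
  · rw [hW]
    exact Subgroup.closure_closure_coe_preimage

end Cfsg.Agent.S5357
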