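import Cfsg.Statements.S5358
import Mathlib

set_option autoImplicit false
open Cfsg

namespace Cfsg.Agent.S5358

theorem polarVec_dot {n : ℕ} (Q : QuadraticForm (ZMod 3) (Fin n → ZMod 3)) (u x : Fin n → ZMod 3) :
    dotProduct (Cfsg.polarVec (⇑Q) u) x = QuadraticMap.polar (⇑Q) u x := by
  have h := LinearMap.pi_apply_eq_sum_univ (QuadraticMap.polarBilin Q u) x
  rw [QuadraticMap.polarBilin_apply_apply] at h
  rw [h]
  unfold dotProduct Cfsg.polarVec
  apply Finset.sum_congr rfl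
  intro j _
  rw [smul_eq_mul, mul_comm]
  congr 1
  rw [QuadraticMap.polarBilin_apply_apply]
  congr 1
  ext k
  simp [Pi.single_apply, eq_comm]

theorem result (n : ℕ) (Q : QuadraticForm (ZMod 3) (Fin n → ZMod 3)) (hQ : (QuadraticMap.polarBilin Q).Nondegenerate) (u v : Fin n → ZMod 3) (hu : Q u ≠ 0) (huv : Q u = Q v) (h1 : v ≠ u) (h2 : v ≠ -u) : Commute (Cfsg.reflectionMatrix (⇑Q) u) (Cfsg.reflectionMatrix (⇑Q) v) ↔ QuadraticMap.polar (⇑Q) u v = 0 := by
  have hfuv : dotProduct (Cfsg.polarVec (⇑Q) u) v = QuadraticMap.polar (⇑Q) u v := polarVec_dot Q u v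
  have hfvu : dotProduct (Cfsg.polarVec (⇑Q) v) u = QuadraticMap.polar (⇑Q) u v := by
    rw [polarVec_dot, QuadraticMap.polar_comm]
  have hfvv : dotProduct (Cfsg.polarVec (⇑Q) v) v = 2 * Q v := by
    rw [polarVec_dot, QuadraticMap.polar_self]
    simp
  have ha : (Q u)⁻¹ ≠ 0 := inv_ne_zero hu
  have hA : Cfsg.reflectionMatrix (⇑Q) u = 1 - (Q u)⁻¹ • Matrix.vecMulVec u (Cfsg.polarVec (⇑Q) u) := rfl
  have hB : Cfsg.reflectionMatrix (⇑Q) v = 1 - (Q u)⁻¹ • Matrix.vecMulVec v (Cfsg.polarVec (⇑Q) v) := by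
    rw [huv]; rfl
  have hUV : Matrix.vecMulVec u (Cfsg.polarVec (⇑Q) u) * Matrix.vecMulVec v (Cfsg.polarVec (⇑Q) v) =
      QuadraticMap.polar (⇑Q) u v • Matrix.vecMulVec u (Cfsg.polarVec (⇑Q) v) := by
    rw [Matrix.vecMulVec_mul_vecMulVec, hfuv]
    ext i j
    simp [Matrix.vecMulVec_apply]
    ring
  have hVU : Matrix.vecMulVec v (Cfsg.polarVec (⇑Q) v) * Matrix.vecMulVec u (Cfsg.polarVec (⇑Q) u) =
      QuadraticMap.polar (⇑Q) u v • Matrix.vecMulVec v (Cfsg.polarVec (⇑Q) u) := by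
    rw [Matrix.vecMulVec_mul_vecMulVec, hfvu]
    ext i j
    simp [Matrix.vecMulVec_apply]
    ring
  have hcomm_iff : Commute (Cfsg.reflectionMatrix (⇑Q) u) (Cfsg.reflectionMatrix (⇑Q) v) ↔
      QuadraticMap.polar (⇑Q) u v • Matrix.vecMulVec u (Cfsg.polarVec (⇑Q) v) =
      QuadraticMap.polar (⇑Q) u v • Matrix.vecMulVec v (Cfsg.polarVec (⇑Q) u) := by
    rw [hA, hB]
    unfold Commute SemiconjBy
    have hXY : ∀ X Y : Matrix (Fin n) (Fin n) (ZMod 3), (1 - X) * (1 - Y) = 1 - X - Y + X * Y := by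
      intro X Y; noncomm_ring
    have e1 : (1 - (Q u)⁻¹ • Matrix.vecMulVec u (Cfsg.polarVec (⇑Q) u)) *
        (1 - (Q u)⁻¹ • Matrix.vecMulVec v (Cfsg.polarVec (⇑Q) v)) =
        1 - (Q u)⁻¹ • Matrix.vecMulVec u (Cfsg.polarVec (⇑Q) u) -
          (Q u)⁻¹ • Matrix.vecMulVec v (Cfsg.polarVec (⇑Q) v) +
          ((Q u)⁻¹ * (Q u)⁻¹) • (QuadraticMap.polar (⇑Q) u v • Matrix.vecMulVec u (Cfsg.polarVec (⇑Q) v)) := by
      rw [hXY, smul_mul_smul_comm, hUV]
    have e2 : (1 - (Q u)⁻¹ • Matrix.vecMulVec v (Cfsg.polarVec (⇑Q) v)) *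
        (1 - (Q u)⁻¹ • Matrix.vecMulVec u (Cfsg.polarVec (⇑Q) u)) =
        1 - (Q u)⁻¹ • Matrix.vecMulVec u (Cfsg.polarVec (⇑Q) u) -
          (Q u)⁻¹ • Matrix.vecMulVec v (Cfsg.polarVec (⇑Q) v) +
          ((Q u)⁻¹ * (Q u)⁻¹) • (QuadraticMap.polar (⇑Q) u v • Matrix.vecMulVec v (Cfsg.polarVec (⇑Q) u)) := by
      rw [hXY, smul_mul_smul_comm, hVU]
      abel
    rw [e1, e2]
    constructor
    · intro h
      have h' := add_left_cancel h
      exact smul_right_injective _ (mul_ne_zero ha ha) h'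
    · intro h
      rw [h]
  rw [hcomm_iff]
  constructor
  · intro h
    by_contra hf
    have h' : Matrix.vecMulVec u (Cfsg.polarVec (⇑Q) v) = Matrix.vecMulVec v (Cfsg.polarVec (⇑Q) u) :=
      smul_right_injective _ hf h
    -- entrywise and sum against v
    have hkey : ∀ i, u i * (2 * Q v) = v i * QuadraticMap.polar (⇑Q) u v := by
      intro i
      rw [← hfvv, ← hfuv]
      unfold dotProduct
      rw [Finset.mul_sum, Finset.mul_sum]
      apply Finset.sum_congr rfl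
      intro j _
      have := congrFun (congrFun h' i) j
      rw [Matrix.vecMulVec_apply, Matrix.vecMulVec_apply] at this
      rw [← mul_assoc, this, mul_assoc]
    have hQv : Q v ≠ 0 := huv ▸ hu
    have h2Qv : (2 : ZMod 3) * Q v ≠ 0 := mul_ne_zero (by decide) hQv
    have huc : u = (QuadraticMap.polar (⇑Q) u v * (2 * Q v)⁻¹) • v := by
      ext i
      rw [Pi.smul_apply, smul_eq_mul]
      calc u i = u i * (2 * Q v) * (2 * Q v)⁻¹ := by rw [mul_assoc, mul_inv_cancel₀ h2Qv, mul_one]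
        _ = v i * QuadraticMap.polar (⇑Q) u v * (2 * Q v)⁻¹ := by rw [hkey i]
        _ = QuadraticMap.polar (⇑Q) u v * (2 * Q v)⁻¹ * v i := by ring
    have hQc : Q u = (QuadraticMap.polar (⇑Q) u v * (2 * Q v)⁻¹) * (QuadraticMap.polar (⇑Q) u v * (2 * Q v)⁻¹) * Q v := by
      conv_lhs => rw [huc]
      rw [QuadraticMap.map_smul]
      rfl
    rw [huv] at hQc
    have hc2 : (QuadraticMap.polar (⇑Q) u v * (2 * Q v)⁻¹) * (QuadraticMap.polar (⇑Q) u v * (2 * Q v)⁻¹) = 1 := by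
      have := mul_right_cancel₀ hQv (show (QuadraticMap.polar (⇑Q) u v * (2 * Q v)⁻¹) * (QuadraticMap.polar (⇑Q) u v * (2 * Q v)⁻¹) * Q v = 1 * Q v by rw [one_mul]; exact hQc.symm)
      exact this
    rcases mul_self_eq_one_iff.mp hc2 with hc | hc
    · apply h1
      rw [huc, hc, one_smul]
    · apply h2
      rw [huc, hc]
      simp
  · intro h
    rw [h, zero_smul, zero_smul]

end Cfsg.Agent.S5358
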