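import Cfsg.Statements.S5360
import Cfsg.Agent.Lib.Helper9.TT9u
import Cfsg.Agent.Lib.Helper9.ReflO3e
import Cfsg.Agent.S5357

set_option autoImplicit false
open scoped MatrixGroups
open Cfsg
open Matrix Cfsg.Agent.Lib.Helper2.ReflGen Cfsg.Agent.Lib.Helper2.CDG Cfsg.Agent.Lib.Helper2.Spinor

namespace Cfsg.Agent.S5360

/-- Let Q be a non-degenerate quadratic form on the n-dimensional coordinate space over the field with three elements, n ≥ 5, c a non-zero scalar, and R the subgroup of the isometry group generated by the reflections of norm c. Then the commutator subgroup of R is quasisimple of index at most 2, the generalized Fitting subgroup of R is the product of the centre and the commutator subgroup, and R acts primitively by conjugation on its reflections of norm c. -/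
theorem result (n : ℕ) (hn : 5 ≤ n) (Q : QuadraticForm (ZMod 3) (Fin n → ZMod 3)) (hQ : (QuadraticMap.polarBilin Q).Nondegenerate) (c : ZMod 3) (hc : c ≠ 0) : Cfsg.IsQuasisimple (commutator ↥(Cfsg.reflectionSubgroup (⇑Q) c)) ∧ (commutator ↥(Cfsg.reflectionSubgroup (⇑Q) c)).index ≤ 2 ∧ Cfsg.generalizedFittingSubgroup ↥(Cfsg.reflectionSubgroup (⇑Q) c) = Subgroup.center ↥(Cfsg.reflectionSubgroup (⇑Q) c) ⊔ commutator ↥(Cfsg.reflectionSubgroup (⇑Q) c) ∧ Cfsg.IsPrimitiveUnderConj {g : ↥(Cfsg.reflectionSubgroup (⇑Q) c) | (g : ↥(Cfsg.isometryGroup (ZMod 3) (⇑Q))) ∈ Cfsg.reflectionsOfNorm (⇑Q) c} := by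
  classical
  have hclass := Cfsg.Agent.S5357.result n hn Q hQ c hc
  have hcard : 5 ≤ Fintype.card (Fin n) := by rw [Fintype.card_fin]; exact hn
  have hne : ∀ v : Fin n → ZMod 3, Q v = c → Q v ≠ 0 := fun v hv => by rw [hv]; exact hc
  have hmk : ∀ (v : Fin n → ZMod 3) (hv : Q v = c),
      refl Q v (hne v hv) ∈ Cfsg.reflectionsOfNorm (⇑Q) c := fun v hv => ⟨v, hv, rfl⟩
  have hchar : ∀ g : ↥(Cfsg.isometryGroup (ZMod 3) (⇑Q)), g ∈ Cfsg.reflectionsOfNorm (⇑Q) c →
      ∃ (v : Fin n → ZMod 3) (hv : Q v = c), g = refl Q v (hne v hv) := by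
    rintro g ⟨v, hv, hg⟩
    exact ⟨v, hv, eq_refl_of_coe g v (hne v hv) hg⟩
  obtain ⟨W, hW⟩ : ∃ W, W = Cfsg.reflectionSubgroup (⇑Q) c := ⟨_, rfl⟩
  rw [← hW] at hclass ⊢
  have hle : Cfsg.reflectionsOfNorm (⇑Q) c ⊆ (W : Set ↥(Cfsg.isometryGroup (ZMod 3) (⇑Q))) := by
    rw [hW]; exact Subgroup.subset_closure
  obtain ⟨rW, hrW⟩ : ∃ rW : ∀ (v : Fin n → ZMod 3), Q v = c → ↥W,
      ∀ v hv, ((rW v hv : ↥W) : ↥(Cfsg.isometryGroup (ZMod 3) (⇑Q))) = refl Q v (hne v hv) :=
    ⟨fun v hv => ⟨refl Q v (hne v hv), hle (hmk v hv)⟩, fun v hv => rfl⟩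
  obtain ⟨D, hDdef⟩ : ∃ D : Set ↥W, D = {g : ↥W |
      (g : ↥(Cfsg.isometryGroup (ZMod 3) (⇑Q))) ∈ Cfsg.reflectionsOfNorm (⇑Q) c} := ⟨_, rfl⟩
  rw [← hDdef] at hclass ⊢
  have hDchar : ∀ d : ↥W, d ∈ D → ∃ (v : Fin n → ZMod 3) (hv : Q v = c), d = rW v hv := by
    intro d hd
    rw [hDdef] at hd
    obtain ⟨v, hv, hg⟩ := hchar _ hd
    exact ⟨v, hv, Subtype.ext (by rw [hrW]; exact hg)⟩
  have hDmem : ∀ v hv, rW v hv ∈ D := by
    intro v hv
    rw [hDdef]
    show ((rW v hv : ↥W) : ↥(Cfsg.isometryGroup (ZMod 3) (⇑Q))) ∈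
      Cfsg.reflectionsOfNorm (⇑Q) c
    rw [hrW]; exact hmk v hv
  have hsq : ∀ v hv, rW v hv * rW v hv = 1 := by
    intro v hv
    apply Subtype.ext
    rw [Subgroup.coe_mul, hrW, Subgroup.coe_one]
    exact refl_mul_self v _
  have hcomm : ∀ u hu v hv, QuadraticMap.polar (⇑Q) u v = 0 → Commute (rW u hu) (rW v hv) := by
    intro u hu v hv huv
    apply Subtype.ext
    rw [Subgroup.coe_mul, Subgroup.coe_mul, hrW, hrW]
    exact Cfsg.Agent.H9Refl3.refl_comm _ _ huv
  have hbraid : ∀ u hu v hv, QuadraticMap.polar (⇑Q) u v ≠ 0 →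
      rW u hu * rW v hv * rW u hu = rW v hv * rW u hu * rW v hv := by
    intro u hu v hv huv
    apply Subtype.ext
    rw [Subgroup.coe_mul, Subgroup.coe_mul, Subgroup.coe_mul, Subgroup.coe_mul, hrW, hrW]
    apply Cfsg.Agent.H9Refl3.refl_braid _ _ (hu.trans hv.symm)
    apply Cfsg.Agent.H9Refl3.zmod3_sq
    exact mul_ne_zero (inv_ne_zero (hne u hu)) huv
  have hcomm_imp : ∀ u hu v hv, Commute (rW u hu) (rW v hv) →
      QuadraticMap.polar (⇑Q) u v ≠ 0 → rW u hu = rW v hv := by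
    intro u hu v hv hcm huv
    have hb := hbraid u hu v hv huv
    have h1 : rW u hu * rW v hv * rW u hu = rW v hv := by
      rw [hcm.eq, mul_assoc, hsq, mul_one]
    have h2 : rW v hv * rW u hu * rW v hv = rW u hu := by
      rw [← hcm.eq, mul_assoc, hsq, mul_one]
    rw [h1, h2] at hb
    exact hb.symm
  have hne_orth : ∀ u hu v hv, QuadraticMap.polar (⇑Q) u v = 0 → rW u hu ≠ rW v hv := by
    intro u hu v hv huv h
    have := congrArg Subtype.val h
    rw [hrW, hrW] at this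
    exact Cfsg.Agent.H9Refl3.refl_ne_of_polar_eq_zero (hne u hu) (hne v hv) huv this
  -- at least two members
  have hD2 : ∃ a ∈ D, ∃ b ∈ D, a ≠ b := by
    obtain ⟨v₀, hv₀⟩ := Cfsg.Agent.H9Refl3.exists_norm hQ (by omega) c
    obtain ⟨y, hy, hvy, -⟩ := Cfsg.Agent.H9Refl3.exists_common_perp hQ hcard hc hv₀ hv₀
    exact ⟨rW v₀ hv₀, hDmem v₀ hv₀, rW y hy, hDmem y hy, hne_orth v₀ hv₀ y hy hvy⟩
  -- trivial V-classes
  have hV : ∀ a ∈ D, ∀ b ∈ D, a ≠ b → ∃ e ∈ D, ¬ (Commute a e ↔ Commute b e) := by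
    intro a ha b hb hab
    obtain ⟨v, hv, rfl⟩ := hDchar a ha
    obtain ⟨w, hw, rfl⟩ := hDchar b hb
    by_cases hvw : QuadraticMap.polar (⇑Q) v w = 0
    · obtain ⟨u, hu, hvu, hwu, hrne⟩ := Cfsg.Agent.H9Refl3.exists_sep_orth hQ hcard hc hv hw hvw
      refine ⟨rW u hu, hDmem u hu, ?_⟩
      intro hiff
      have h1 := hiff.mp (hcomm v hv u hu hvu)
      have h2 := hcomm_imp w hw u hu h1 hwu
      apply hrne
      have := congrArg Subtype.val h2
      rw [hrW, hrW] at this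
      exact this.symm
    · refine ⟨rW v hv, ha, ?_⟩
      intro hiff
      have h1 := hiff.mp (Commute.refl _)
      have hwv : QuadraticMap.polar (⇑Q) w v ≠ 0 := by rwa [QuadraticMap.polar_comm]
      exact hab (hcomm_imp w hw v hv h1 hwv).symm
  -- trivial W-classes
  have hWc : ∀ a ∈ D, ∀ b ∈ D, a ≠ b →
      {y : ↥W | y ∈ D ∧ y ≠ a ∧ Commute a y} ≠ {y : ↥W | y ∈ D ∧ y ≠ b ∧ Commute b y} := by
    intro a ha b hb hab hset
    obtain ⟨v, hv, rfl⟩ := hDchar a ha
    obtain ⟨w, hw, rfl⟩ := hDchar b hb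
    by_cases hvw : QuadraticMap.polar (⇑Q) v w = 0
    · have h1 : rW w hw ∈ {y : ↥W | y ∈ D ∧ y ≠ rW v hv ∧ Commute (rW v hv) y} :=
        ⟨hb, fun e => hab e.symm, hcomm v hv w hw hvw⟩
      rw [hset] at h1
      exact h1.2.1 rfl
    · have hind : ∀ l : ZMod 3, w ≠ l • v := by
        intro l hl
        have hl0 : l ≠ 0 := by
          rintro rfl
          rw [zero_smul] at hl
          rw [hl, map_zero] at hw
          exact hc hw.symm
        apply hab
        apply Subtype.ext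
        rw [hrW, hrW]
        have := refl_smul_eq (Q := Q) v (hne v hv) l hl0
        rw [← this]
        exact (Cfsg.Agent.H9Refl3.refl_congr' hl _ _).symm
      obtain ⟨u, hu, hvu, hwu⟩ := Cfsg.Agent.H9Refl3.exists_sep_nonorth hQ hc hv hw hvw hind
      have h1 : rW u hu ∈ {y : ↥W | y ∈ D ∧ y ≠ rW v hv ∧ Commute (rW v hv) y} :=
        ⟨hDmem u hu, fun e => hne_orth v hv u hu hvu e.symm, hcomm v hv u hu hvu⟩
      rw [hset] at h1
      exact h1.2.1 (hcomm_imp w hw u hu h1.2.2 hwu).symm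
  -- connected commuting graph
  have hconn : (Cfsg.commutingGraph D).Connected := by
    obtain ⟨a₀, ha₀, -⟩ := hD2
    haveI : Nonempty D := ⟨⟨a₀, ha₀⟩⟩
    refine ⟨?_⟩
    intro a b
    obtain ⟨u, hu, hau⟩ := hDchar a.1 a.2
    obtain ⟨v, hv, hbv⟩ := hDchar b.1 b.2
    obtain ⟨y, hy, huy, hvy⟩ := Cfsg.Agent.H9Refl3.exists_common_perp hQ hcard hc hu hv
    have hadj1 : (Cfsg.commutingGraph D).Adj a ⟨rW y hy, hDmem y hy⟩ := by
      unfold Cfsg.commutingGraph
      rw [SimpleGraph.fromRel_adj]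
      refine ⟨?_, Or.inl ?_⟩
      · intro e
        have := congrArg Subtype.val e
        simp only at this
        rw [hau] at this
        exact hne_orth u hu y hy huy this
      · show Commute (a : ↥W) (rW y hy)
        rw [hau]
        exact hcomm u hu y hy huy
    have hadj2 : (Cfsg.commutingGraph D).Adj ⟨rW y hy, hDmem y hy⟩ b := by
      unfold Cfsg.commutingGraph
      rw [SimpleGraph.fromRel_adj]
      refine ⟨?_, Or.inr ?_⟩
      · intro e
        have := congrArg Subtype.val e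
        simp only at this
        rw [hbv] at this
        exact hne_orth v hv y hy hvy this.symm
      · show Commute (b : ↥W) (rW y hy)
        rw [hbv]
        exact hcomm v hv y hy hvy
    exact hadj1.reachable.trans hadj2.reachable
  haveI : Finite ↥W := inferInstance
  exact Cfsg.Agent.H9TT.structure_of_sep hclass hD2 hV hWc hconn

end Cfsg.Agent.S5360
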