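import Cfsg.Statements.S5361
import Cfsg.Agent.Lib.Helper9.TT9r

set_option autoImplicit false
open Cfsg

namespace Cfsg.Agent.S5361

/-- Let D be a conjugacy class of 3-transpositions generating the finite group G, and suppose the centre of G is trivial and some two different members of D commute. Then the following are equivalent: (1) the commutator subgroup of G is simple (possibly of prime order); (2) G acts primitively on D by conjugation; (3) the largest normal 2-subgroup and the largest normal 3-subgroup of G are trivial and the commuting graph of D is connected. -/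
theorem result {G : Type*} [Group G] [Finite G] {D : Set G} (hD : Cfsg.IsThreeTranspositionClass D) (hZ : Subgroup.center G = ⊥) (hw : ∃ a ∈ D, ∃ b ∈ D, a ≠ b ∧ Commute a b) : (IsSimpleGroup (commutator G) ↔ Cfsg.IsPrimitiveUnderConj D) ∧ (Cfsg.IsPrimitiveUnderConj D ↔ (Cfsg.pCore 2 G = ⊥ ∧ Cfsg.pCore 3 G = ⊥ ∧ (Cfsg.commutingGraph D).Connected)) := by
  have h := Cfsg.Agent.H9TT.TC.of_class hD
  refine ⟨⟨fun hs => h.primitive_of_simple hZ hw hs, fun hprim => h.simple_of_primitive hZ hw hprim⟩,
    ⟨fun hprim => ⟨h.pCore_two_eq_bot hZ hprim, h.pCore_three_eq_bot hZ hw hprim,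
      h.connected_of_primitive hw hprim⟩, ?_⟩⟩
  rintro ⟨e2, e3, hconn⟩
  have h2 : Cfsg.pCore 2 G ≤ Subgroup.center G := by rw [e2]; exact bot_le
  have h3 : Cfsg.pCore 3 G ≤ Subgroup.center G := by rw [e3]; exact bot_le
  obtain ⟨a, ha, b, hb, hab, -⟩ := hw
  have hD2 : ∃ a ∈ D, ∃ b ∈ D, a ≠ b := ⟨a, ha, b, hb, hab⟩
  obtain ⟨hcomp, hFs⟩ := h.layer_quasisimple hD2 h2 h3
  haveI := h.component_normal hcomp
  exact h.primitive hD2 h2 h3 (Cfsg.layer G) hcomp.2 hFs
    (h.index_le_two_of_connected (Cfsg.layer G) hcomp.2 hconn)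

end Cfsg.Agent.S5361
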