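import Cfsg.Statements.S5363
import Mathlib

set_option autoImplicit false
open Cfsg

namespace Cfsg.Agent.S5363

variable {G : Type*} [Group G]

theorem mem_of_pow {D : Set G} (hsq : ∀ d ∈ D, d * d = 1) (hconj : ∀ g : G, ∀ d ∈ D, g * d * g⁻¹ ∈ D)
    {a b : G} (ha : a ∈ D) (hb : b ∈ D) : ∀ k : ℕ, a * (a * b) ^ k ∈ D := by
  intro k
  induction k using Nat.twoStepInduction with
  | zero => simpa using ha
  | one =>
    have : a * (a * b) ^ 1 = b := by rw [pow_one, ← mul_assoc, hsq a ha, one_mul]
    rw [this]; exact hb
  | more k ih _ =>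
    have : a * (a * b) ^ (k + 2) = (b * a) * (a * (a * b) ^ k) * (b * a)⁻¹ := by
      have hainv : a⁻¹ = a := inv_eq_of_mul_eq_one_right (hsq a ha)
      have hbinv : b⁻¹ = b := inv_eq_of_mul_eq_one_right (hsq b hb)
      have hL : a * (a * b) ^ (k + 2) = b * (a * b) ^ (k + 1) := by
        rw [pow_succ' (a * b) (k + 1), ← mul_assoc, ← mul_assoc, hsq a ha, one_mul]
      have hR : (b * a) * (a * (a * b) ^ k) * (b * a)⁻¹ = b * (a * b) ^ (k + 1) := by
        rw [mul_inv_rev, hainv, hbinv, pow_succ]
        calc b * a * (a * (a * b) ^ k) * (a * b) = b * (a * a) * (a * b) ^ k * (a * b) := by group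
          _ = b * ((a * b) ^ k * (a * b)) := by rw [hsq a ha, mul_one, mul_assoc]
      rw [hL, hR]
    rw [this]
    exact hconj _ _ ih

theorem result {G : Type*} [Group G] [Finite G] {D : Set G} (hinv : ∀ d ∈ D, orderOf d = 2) (hconj : ∀ g : G, ∀ d ∈ D, g * d * g⁻¹ ∈ D) : (∀ a ∈ D, ∀ b ∈ D, Odd (orderOf (a * b)) ∨ orderOf (a * b) = 2) ↔ ∀ a ∈ D, ∀ b ∈ D, b ≠ a → Commute a b → {y : G | y ∈ D ∧ Commute (a * b) y} = {y : G | y ∈ D ∧ Commute a y} ∩ {y : G | y ∈ D ∧ Commute b y} := by
  have hsq : ∀ x ∈ D, x * x = 1 := by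
    intro x hx
    have := hinv x hx
    rw [← pow_two, ← this, pow_orderOf_eq_one]
  have hinvD : ∀ x ∈ D, x⁻¹ = x := fun x hx => inv_eq_of_mul_eq_one_right (hsq x hx)
  -- two involutions with (xy)^2 = 1 commute
  have hcomm_of_sq : ∀ x ∈ D, ∀ y ∈ D, (x * y) ^ 2 = 1 → Commute x y := by
    intro x hx y hy h
    have h1 : x * y * (x * y) = 1 := by rw [← pow_two]; exact h
    show x * y = y * x
    calc x * y = x * y * (x * y * (y * x)) := by
          have : x * y * (y * x) = 1 := by
            calc x * y * (y * x) = x * (y * y) * x := by group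
              _ = 1 := by rw [hsq y hy, mul_one, hsq x hx]
          rw [this, mul_one]
      _ = (x * y * (x * y)) * (y * x) := by group
      _ = y * x := by rw [h1, one_mul]
  constructor
  · intro H1 a ha b hb hba hab
    ext y
    constructor
    · rintro ⟨hyD, hy⟩
      -- suffices Commute a y
      suffices hay : Commute a y by
        refine ⟨⟨hyD, hay⟩, hyD, ?_⟩
        have hb' : b = a * (a * b) := by rw [← mul_assoc, hsq a ha, one_mul]
        rw [hb']
        exact hay.mul_left hy
      apply hcomm_of_sq a ha y hyD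
      -- w = (a y)^2
      have hz2 : (a * b) * (a * b) = 1 := by
        calc a * b * (a * b) = a * (b * a) * b := by group
          _ = a * (a * b) * b := by rw [hab.eq]
          _ = (a * a) * (b * b) := by group
          _ = 1 := by rw [hsq a ha, hsq b hb, one_mul]
      have hz1 : a * b ≠ 1 := by
        intro h
        apply hba
        have : b = a⁻¹ := (inv_eq_of_mul_eq_one_right h).symm
        rw [this, hinvD a ha]
      have hzo : orderOf (a * b) = 2 := by
        apply orderOf_eq_prime
        · rw [pow_two]; exact hz2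
        · exact hz1
      have hb'D : y * b * y⁻¹ ∈ D := hconj y b hb
      have hab' : a * (y * b * y⁻¹) = (a * y) ^ 2 * (a * b) := by
        rw [hinvD y hyD, pow_two]
        have h1 : y * b * y = y * a * y * (a * b) := by
          calc y * b * y = y * (a * a) * b * y := by rw [hsq a ha, mul_one]
            _ = y * a * ((a * b) * y) := by group
            _ = y * a * (y * (a * b)) := by rw [hy.eq]
            _ = y * a * y * (a * b) := by group
        rw [h1]
        group
      have hzw : Commute ((a * y) ^ 2) (a * b) := by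
        have h1 : Commute a (a * b) := (Commute.refl a).mul_right hab
        have h2 : Commute y (a * b) := hy.symm
        exact ((h1.mul_left h2).pow_left 2)
      rcases H1 a ha y hyD with hodd | h2
      · -- order of w is odd
        have hwodd : Odd (orderOf ((a * y) ^ 2)) := by
          have hdvd : orderOf ((a * y) ^ 2) ∣ orderOf (a * y) := orderOf_pow_dvd 2
          exact hodd.of_dvd_nat hdvd
        have hcop : Nat.Coprime (orderOf ((a * y) ^ 2)) (orderOf (a * b)) := by
          rw [hzo]
          exact (Nat.coprime_two_right).mpr hwodd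
        have hord : orderOf ((a * y) ^ 2 * (a * b)) = orderOf ((a * y) ^ 2) * 2 := by
          rw [hzw.orderOf_mul_eq_mul_orderOf_of_coprime hcop, hzo]
        rw [← hab'] at hord
        rcases H1 a ha _ hb'D with hodd' | h2'
        · exfalso
          rw [hord] at hodd'
          exact (Nat.not_odd_iff_even.mpr (even_two.mul_left _)) hodd'
        · rw [hord] at h2'
          have : orderOf ((a * y) ^ 2) = 1 := by omega
          exact orderOf_eq_one_iff.mp this
      · rw [← h2]; exact pow_orderOf_eq_one _
    · rintro ⟨⟨hyD, hya⟩, -, hyb⟩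
      exact ⟨hyD, hya.mul_left hyb⟩
  · intro H2 a ha b hb
    by_cases hodd : Odd (orderOf (a * b))
    · exact Or.inl hodd
    right
    rw [Nat.not_odd_iff_even] at hodd
    obtain ⟨k, hk⟩ := hodd
    have hnpos : 0 < orderOf (a * b) := orderOf_pos _
    have hkpos : 0 < k := by omega
    have hc2 : (a * b) ^ k * (a * b) ^ k = 1 := by
      rw [← pow_add, ← hk, pow_orderOf_eq_one]
    have hc1 : (a * b) ^ k ≠ 1 := by
      intro h
      have := orderOf_dvd_of_pow_eq_one h
      have := Nat.le_of_dvd hkpos this
      omega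
    have hcinv : ((a * b) ^ k)⁻¹ = (a * b) ^ k := inv_eq_of_mul_eq_one_right hc2
    -- c commutes with a and with b
    have hca : Commute a ((a * b) ^ k) := by
      show a * (a * b) ^ k = (a * b) ^ k * a
      have h1 : a * (a * b) ^ k * a⁻¹ = (a * (a * b) * a⁻¹) ^ k := by
        rw [conj_pow]
      have h2 : a * (a * b) * a⁻¹ = (a * b)⁻¹ := by
        rw [mul_inv_rev, hinvD a ha, hinvD b hb]
        have : a * (a * b) * a = (a * a) * b * a := by group
        rw [this, hsq a ha, one_mul]
      rw [h2, inv_pow, hcinv] at h1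
      calc a * (a * b) ^ k = a * (a * b) ^ k * a⁻¹ * a := by group
        _ = (a * b) ^ k * a := by rw [h1]
    have hcb : Commute b ((a * b) ^ k) := by
      show b * (a * b) ^ k = (a * b) ^ k * b
      have h1 : b * (a * b) ^ k * b⁻¹ = (b * (a * b) * b⁻¹) ^ k := by
        rw [conj_pow]
      have h2 : b * (a * b) * b⁻¹ = (a * b)⁻¹ := by
        rw [mul_inv_rev, hinvD a ha, hinvD b hb]
        have : b * (a * b) * b = b * a * (b * b) := by group
        rw [this, hsq b hb, mul_one]
      rw [h2, inv_pow, hcinv] at h1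
      calc b * (a * b) ^ k = b * (a * b) ^ k * b⁻¹ * b := by group
        _ = (a * b) ^ k * b := by rw [h1]
    have ha'D : a * (a * b) ^ k ∈ D := mem_of_pow hsq hconj ha hb k
    have ha'ne : a * (a * b) ^ k ≠ a := by
      intro h
      apply hc1
      have := mul_left_cancel (h.trans (mul_one a).symm)
      exact this
    have hcomm : Commute a (a * (a * b) ^ k) := (Commute.refl a).mul_right hca
    have hset := H2 a ha _ ha'D ha'ne hcomm
    have haa' : a * (a * (a * b) ^ k) = (a * b) ^ k := by
      rw [← mul_assoc, hsq a ha, one_mul]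
    rw [haa'] at hset
    have hbmem : b ∈ {y : G | y ∈ D ∧ Commute ((a * b) ^ k) y} := ⟨hb, hcb.symm⟩
    rw [hset] at hbmem
    have hab : Commute a b := hbmem.1.2
    have h2 : (a * b) ^ 2 = 1 := by
      rw [pow_two]
      calc a * b * (a * b) = a * (b * a) * b := by group
        _ = a * (a * b) * b := by rw [hab.eq]
        _ = (a * a) * (b * b) := by group
        _ = 1 := by rw [hsq a ha, hsq b hb, one_mul]
    have hdvd : orderOf (a * b) ∣ 2 := orderOf_dvd_of_pow_eq_one h2
    have hle := Nat.le_of_dvd (by norm_num) hdvd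
    omega

end Cfsg.Agent.S5363
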