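import Cfsg.Statements.S5364
import Mathlib

set_option autoImplicit false
open Cfsg

namespace Cfsg.Agent.S5364

theorem result {G : Type*} [Group G] [Finite G] {D : Set G} (hinv : ∀ d ∈ D, orderOf d = 2) (hconj : ∀ g : G, ∀ d ∈ D, g * d * g⁻¹ ∈ D) (t : G) (ht : orderOf t = 2) (htZ : t ∈ Subgroup.center G) (hDt : ∀ d ∈ D, d * t ∉ D) [(Subgroup.zpowers t).Normal] (himg : Cfsg.IsThreeTranspositionSet ((QuotientGroup.mk : G → G ⧸ Subgroup.zpowers t) '' D)) : Cfsg.IsThreeTranspositionSet D := by
  refine ⟨hinv, ?_⟩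
  intro d hd e he
  have hsq : ∀ x ∈ D, x * x = 1 := by
    intro x hx
    have := hinv x hx
    rw [← pow_two, ← this, pow_orderOf_eq_one]
  have hinvD : ∀ x ∈ D, x⁻¹ = x := fun x hx => inv_eq_of_mul_eq_one_right (hsq x hx)
  have ht2 : t * t = 1 := by
    rw [← pow_two, ← ht, pow_orderOf_eq_one]
  -- elements of zpowers t are 1 or t
  have hzp : ∀ x ∈ Subgroup.zpowers t, x = 1 ∨ x = t := by
    rintro x ⟨k, rfl⟩
    rcases Int.even_or_odd k with ⟨m, rfl⟩ | ⟨m, rfl⟩
    · left
      show t ^ (m + m) = 1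
      rw [← two_mul, zpow_mul, zpow_two, ht2, one_zpow]
    · right
      show t ^ (2 * m + 1) = t
      rw [zpow_add, zpow_mul, zpow_two, ht2, one_zpow, one_mul, zpow_one]
  have hq := himg.2 _ ⟨d, hd, rfl⟩ _ ⟨e, he, rfl⟩
  rcases hq with h | h
  · have h1 : (d * e) ^ 2 ∈ Subgroup.zpowers t := by
      rw [← QuotientGroup.eq_one_iff]
      simpa using h
    rcases hzp _ h1 with h2 | h2
    · exact Or.inl h2
    · exfalso
      -- e d e = d t
      have h3 : e * d * e⁻¹ = d * t := by
        rw [hinvD e he]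
        have : d * e * (d * e) = t := by rw [← pow_two]; exact h2
        calc e * d * e = d * d * (e * d * e) := by rw [hsq d hd, one_mul]
          _ = d * (d * e * (d * e)) := by group
          _ = d * t := by rw [this]
      exact hDt d hd (h3 ▸ hconj e d hd)
  · have h1 : (d * e) ^ 3 ∈ Subgroup.zpowers t := by
      rw [← QuotientGroup.eq_one_iff]
      simpa using h
    rcases hzp _ h1 with h2 | h2
    · exact Or.inr h2
    · exfalso
      have h3 : e * (d * e * d⁻¹) * e⁻¹ = d * t := by
        rw [hinvD e he, hinvD d hd]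
        have : d * e * (d * e) * (d * e) = t := by rw [← h2, pow_succ, pow_two]
        calc e * (d * e * d) * e = d * d * (e * (d * e * d) * e) := by rw [hsq d hd, one_mul]
          _ = d * (d * e * (d * e) * (d * e)) := by group
          _ = d * t := by rw [this]
      exact hDt d hd (h3 ▸ hconj e _ (hconj d e he))

end Cfsg.Agent.S5364
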