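import Cfsg.Statements.S5365
import Mathlib
import Cfsg.Agent.Lib.Helper9.TL9

set_option autoImplicit false
open Cfsg

namespace Cfsg.Agent.S5365

/-- Let D be a non-empty conjugation-invariant set of involutions of a finite group G satisfying the 3-transposition order conditions, and suppose that for every d in D the members of D other than d commuting with d generate a subgroup isomorphic to the symmetric group of degree 3, and the largest normal 3-subgroup of the centralizer of d has order 3. Then the subgroup generated by D is isomorphic to the symmetric group of degree 5 or to the direct product of two symmetric groups of degree 3. -/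
theorem result {G : Type*} [Group G] [Finite G] {D : Set G} (hD : Cfsg.IsThreeTranspositionSet D) (hconj : ∀ g : G, ∀ d ∈ D, g * d * g⁻¹ ∈ D) (hne : D.Nonempty) (hloc : ∀ d ∈ D, Nonempty (↥(Subgroup.closure {y : G | y ∈ D ∧ y ≠ d ∧ Commute d y}) ≃* Equiv.Perm (Fin 3)) ∧ Nat.card (Cfsg.pCore 3 ↥(Subgroup.centralizer ({d} : Set G))) = 3) : Nonempty (↥(Subgroup.closure D) ≃* Equiv.Perm (Fin 5)) ∨ Nonempty (↥(Subgroup.closure D) ≃* Equiv.Perm (Fin 3) × Equiv.Perm (Fin 3)) := by
  classical
  have hT : Cfsg.Agent.H9TT.TT D := ⟨hD, hconj⟩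
  have h : Cfsg.Agent.H9TT.LS D := Cfsg.Agent.H9TT.LS.of_hloc hT (fun d hd => (hloc d hd).1)
  obtain ⟨d, hd⟩ := hne
  obtain ⟨a, ha, b, hb, hab⟩ := h.hpair d hd
  by_cases hx : ∃ x ∈ D, x ≠ d ∧ Commute x a ∧ Commute x b
  · right
    obtain ⟨x, hxD, hxd, hxa, hxb⟩ := hx
    have hda : d ∈ Cfsg.Agent.H9TT.Dp D a := ⟨hd, fun e => ha.2.1 e.symm, ha.2.2.symm⟩
    have hxa' : x ∈ Cfsg.Agent.H9TT.Dp D a := by
      refine ⟨hxD, ?_, hxa.symm⟩
      intro e
      apply hab
      rw [← e]
      exact hxb
    have hdx : ¬ Commute d x := h.hnc a ha.1 d hda x hxa' (fun e => hxd e.symm)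
    have k : Cfsg.Agent.H9TT.K33 D d x a b :=
      ⟨hd, hxD, ha.1, hb.1, hdx, hab, ha.2.2, hb.2.2, hxa, hxb⟩
    have hall : ∀ t ∈ D, Commute t a ∨ Commute t d := by
      intro t ht
      by_contra hcon
      apply k.false_of_outside h (fun u hu => (hloc u hu).2) ht
      intro y hy hyX hty
      exact hcon (k.closed h hy hyX ht hty)
    obtain ⟨ψa⟩ := (hloc a ha.1).1
    obtain ⟨ψd⟩ := (hloc d hd).1
    exact k.iso h hall ψa ψd
  · left
    push Not at hx
    exact h.iso_S5 hd ha hb hab
      (fun x hx' hxa hxb => by_contra fun hne => hx x hx' hne hxa hxb)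

end Cfsg.Agent.S5365
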