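import Mathlib
import Cfsg.Statements.S5366
import Cfsg.Agent.Lib.Helper9.FischerSp1
import Cfsg.Agent.Lib.Helper9.FischerSp2
import Cfsg.Agent.Lib.Helper9.FischerSp3

set_option autoImplicit false
open Cfsg
open Cfsg.Agent

namespace Cfsg.Agent.S5366

/-- Let L be a nondegenerate Fischer space on the point type X (every point on a line). Then for every point x the map t(x) — sending a point collinear with x to the third point of their common line and fixing every other point — is a permutation of X of order 2 and an automorphism of the line system; and the set of all t(x) satisfies the 3-transposition order conditions in the permutation group of X (any two have product of order at most 3). -/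
theorem result {X : Type*} (L : Set (Set X)) (hL : Cfsg.IsFischerSpace L) (hnd : Cfsg.LineSystem.IsNondegenerate L) : (∀ x : X, ∃ σ : Equiv.Perm X, ⇑σ = Cfsg.LineSystem.lineMap L x ∧ orderOf σ = 2 ∧ Cfsg.LineSystem.IsIso L L σ) ∧ Cfsg.IsThreeTranspositionSet {σ : Equiv.Perm X | ∃ x : X, ⇑σ = Cfsg.LineSystem.lineMap L x} := by
  obtain ⟨hPL, h3, hF⟩ := hL
  have himg : ∀ x : X, ∀ l ∈ L, Cfsg.LineSystem.lineMap L x '' l ∈ L := by
    intro x l hl
    by_cases hxl : x ∈ l
    · rw [H9Fi.lineMap_image_of_mem hPL h3 hl hxl]; exact hl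
    · by_cases hcol : ∃ q ∈ l, ∃ z, H9Fi.Third L x q z
      · obtain ⟨q, hq, z, hz⟩ := hcol
        have hm : ({x, q, z} : Set X) ∈ L := hz.2.2.2
        have hne : l ≠ {x, q, z} := by
          rintro rfl; exact hxl (by simp)
        have hint : (l ∩ {x, q, z}).Nonempty := ⟨q, hq, by simp⟩
        have hπ := H9Fi.span_isSubspace L (l ∪ {x, q, z})
        have hsub := H9Fi.subset_span L (l ∪ {x, q, z})
        have hlπ : l ⊆ Cfsg.LineSystem.span L (l ∪ {x, q, z}) := fun w hw => hsub (Or.inl hw)
        have hxπ : x ∈ Cfsg.LineSystem.span L (l ∪ {x, q, z}) := hsub (Or.inr (by simp))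
        rcases hF l hl _ hm hne hint with ⟨e, he⟩ | ⟨e, he⟩
        · exact H9Fi.image_line_of_plane e hPL h3 hπ H9Fi.modelProp_da he hl hlπ hxπ hxl
        · exact H9Fi.image_line_of_plane e hPL h3 hπ H9Fi.modelProp_ag he hl hlπ hxπ hxl
      · have : Cfsg.LineSystem.lineMap L x '' l = l := by
          ext w; constructor
          · rintro ⟨a, ha, rfl⟩
            rw [H9Fi.lineMap_eq_self]
            · exact ha
            · rintro ⟨z, hz⟩; exact hcol ⟨a, ha, z, hz⟩
          · intro hw
            refine ⟨w, hw, H9Fi.lineMap_eq_self ?_⟩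
            rintro ⟨z, hz⟩; exact hcol ⟨w, hw, z, hz⟩
        rw [this]; exact hl
  have haut : ∀ x, Cfsg.LineSystem.IsIso L L (H9Fi.tPerm hPL x) := by
    intro x l
    constructor
    · intro hl; exact himg x l hl
    · intro hl
      have h1 := himg x _ hl
      have e : Cfsg.LineSystem.lineMap L x '' (⇑(H9Fi.tPerm hPL x) '' l) = l := by
        rw [H9Fi.tPerm_coe, ← Set.image_comp]
        have : Cfsg.LineSystem.lineMap L x ∘ Cfsg.LineSystem.lineMap L x = id := by
          funext y; exact H9Fi.lineMap_involutive hPL x y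
        rw [this, Set.image_id]
      rw [e] at h1; exact h1
  refine ⟨fun x => ⟨H9Fi.tPerm hPL x, rfl, H9Fi.orderOf_tPerm hPL h3 hnd x, haut x⟩, ?_, ?_⟩
  · rintro σ ⟨x, hx⟩
    rw [H9Fi.eq_tPerm_of_coe hPL x σ hx]
    exact H9Fi.orderOf_tPerm hPL h3 hnd x
  · rintro d ⟨x, hx⟩ e ⟨y, hy⟩
    rw [H9Fi.eq_tPerm_of_coe hPL x d hx, H9Fi.eq_tPerm_of_coe hPL y e hy]
    exact H9Fi.three_transp hPL haut x y

end Cfsg.Agent.S5366
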