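import Mathlib
import Cfsg.Statements.S5367
import Cfsg.Agent.Lib.Helper9.TTLines6
import Cfsg.Agent.Lib.Helper9.TTLines8
import Cfsg.Agent.S5344

set_option autoImplicit false
open Cfsg
open Cfsg.Agent

namespace Cfsg.Agent.S5367

/-- Let D be a conjugation-invariant generating set of 3-transpositions of a finite group G. Then the line system on D whose lines are the triples {x, y, y x y⁻¹} for non-commuting members x, y of D is a Fischer space: two points lie on at most one line, lines have three points, and two different meeting lines generate a subspace isomorphic to the dual affine plane of order two or to the affine plane of order three. -/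
theorem result {G : Type*} [Group G] [Finite G] {D : Set G} (hD : Cfsg.IsThreeTranspositionGroup D) : Cfsg.IsFischerSpace (Cfsg.threeTranspositionLines D) := by
  obtain ⟨hT, hconj, _⟩ := hD
  refine ⟨H9TT.partialLinear hT, fun l hl => H9TT.ncard_line hT hconj hl, ?_⟩
  rintro l hl m hm hlm ⟨p₀, hp₀l, hp₀m⟩
  obtain ⟨q, r, hq, hr, hqr, hlq⟩ :=
    H9Fi.exists_triple_of_mem (H9TT.ncard_line hT hconj hl) hp₀l
  obtain ⟨q', r', hq', hr', hqr', hmq⟩ :=
    H9Fi.exists_triple_of_mem (H9TT.ncard_line hT hconj hm) hp₀m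
  have hql : q ∈ l := by rw [hlq]; simp
  have hq'm : q' ∈ m := by rw [hmq]; simp
  obtain ⟨hab, hl_eq⟩ := H9TT.line_char hT hl hq.symm hp₀l hql
  obtain ⟨had, hm_eq⟩ := H9TT.line_char hT hm hq'.symm hp₀m hq'm
  have hq'l : q' ∉ l := by
    intro h
    apply hlm
    exact H9TT.partialLinear hT l hl m hm p₀ q' hq'.symm hp₀l h hp₀m hq'm
  have hb2 : (q : G) * (q : G) = 1 := H9TT.sq_of_mem hT q.2
  by_cases hbd : Commute (q : G) (q' : G)
  · -- the path `b - a - d`
    left
    have hbd_ne : (q : G) ≠ (q' : G) := by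
      intro e
      apply hq'l
      have : q' = q := Subtype.ext e.symm
      rw [this]; exact hql
    obtain ⟨φ, hφ, h01, h12, h23⟩ := Cfsg.Agent.S5344.result hT q.2 p₀.2 q'.2 hbd_ne hbd
      (fun h => hab h.symm) had
    have h01D : φ (Equiv.swap 0 1) ∈ D := by rw [h01]; exact q.2
    have hmem := H9TT.phi_tr_mem hconj φ h01D
    have e_a : H9TT.PhiD φ hmem ⟨{1, 2}, by decide⟩ = p₀ := by
      apply Subtype.ext
      show φ (H9TT.tr ⟨{1, 2}, by decide⟩) = _
      rw [show H9TT.tr ⟨{1, 2}, by decide⟩ = Equiv.swap 1 2 by decide, h12]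
    have e_b : H9TT.PhiD φ hmem ⟨{0, 1}, by decide⟩ = q := by
      apply Subtype.ext
      show φ (H9TT.tr ⟨{0, 1}, by decide⟩) = _
      rw [show H9TT.tr ⟨{0, 1}, by decide⟩ = Equiv.swap 0 1 by decide, h01]
    have e_d : H9TT.PhiD φ hmem ⟨{2, 3}, by decide⟩ = q' := by
      apply Subtype.ext
      show φ (H9TT.tr ⟨{2, 3}, by decide⟩) = _
      rw [show H9TT.tr ⟨{2, 3}, by decide⟩ = Equiv.swap 2 3 by decide, h23]
    have hl' : l = H9TT.PhiD φ hmem '' {t : Cfsg.DualAffinePoint | (3 : Fin 4) ∉ t.val} :=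
      H9TT.line_eq_image hT φ hφ hmem hl (s := ⟨{1, 2}, by decide⟩) (s' := ⟨{0, 1}, by decide⟩)
        (by decide) (by rw [e_a]; exact hp₀l) (by rw [e_b]; exact hql) 3 (by decide) (by decide)
    have hm' : m = H9TT.PhiD φ hmem '' {t : Cfsg.DualAffinePoint | (0 : Fin 4) ∉ t.val} :=
      H9TT.line_eq_image hT φ hφ hmem hm (s := ⟨{1, 2}, by decide⟩) (s' := ⟨{2, 3}, by decide⟩)
        (by decide) (by rw [e_a]; exact hp₀m) (by rw [e_d]; exact hq'm) 0 (by decide) (by decide)
    rw [hl', hm']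
    exact H9TT.da_iso hT φ hφ hmem 3 0 (by decide)
  · have T3 := H9TT.isTri_of_not_commute hT q.2 q'.2 hbd
    have hgD : H9TT.cj (q : G) (q' : G) ∈ D := H9TT.cj_mem hT hconj q.2 q'.2
    by_cases hag : Commute (p₀ : G) (H9TT.cj (q : G) (q' : G))
    · -- the triangle with `a` commuting with `b d b`
      left
      have hag_ne : (p₀ : G) ≠ H9TT.cj (q : G) (q' : G) := by
        intro e
        apply hq'l
        rw [hl_eq]
        right; right
        rw [H9TT.conj_eq hT q.2, e]
        exact T3.conj_xz.symm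
      have hbg : ¬ Commute (q : G) (H9TT.cj (q : G) (q' : G)) := T3.ne_xz
      obtain ⟨φ, hφ, h01, h12, h23⟩ := Cfsg.Agent.S5344.result hT p₀.2 q.2 hgD hag_ne hag
        hab hbg
      have h01D : φ (Equiv.swap 0 1) ∈ D := by rw [h01]; exact p₀.2
      have hmem := H9TT.phi_tr_mem hconj φ h01D
      have e_a : H9TT.PhiD φ hmem ⟨{0, 1}, by decide⟩ = p₀ := by
        apply Subtype.ext
        show φ (H9TT.tr ⟨{0, 1}, by decide⟩) = _
        rw [show H9TT.tr ⟨{0, 1}, by decide⟩ = Equiv.swap 0 1 by decide, h01]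
      have e_b : H9TT.PhiD φ hmem ⟨{1, 2}, by decide⟩ = q := by
        apply Subtype.ext
        show φ (H9TT.tr ⟨{1, 2}, by decide⟩) = _
        rw [show H9TT.tr ⟨{1, 2}, by decide⟩ = Equiv.swap 1 2 by decide, h12]
      have e_d : H9TT.PhiD φ hmem ⟨{1, 3}, by decide⟩ = q' := by
        apply Subtype.ext
        show φ (H9TT.tr ⟨{1, 3}, by decide⟩) = _
        rw [show H9TT.tr ⟨{1, 3}, by decide⟩ =
          Equiv.swap 1 2 * (Equiv.swap 2 3 * Equiv.swap 1 2) by decide, map_mul, map_mul, h12, h23]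
        exact T3.conj_xz
      have hl' : l = H9TT.PhiD φ hmem '' {t : Cfsg.DualAffinePoint | (3 : Fin 4) ∉ t.val} :=
        H9TT.line_eq_image hT φ hφ hmem hl (s := ⟨{0, 1}, by decide⟩) (s' := ⟨{1, 2}, by decide⟩)
          (by decide) (by rw [e_a]; exact hp₀l) (by rw [e_b]; exact hql) 3 (by decide) (by decide)
      have hm' : m = H9TT.PhiD φ hmem '' {t : Cfsg.DualAffinePoint | (2 : Fin 4) ∉ t.val} :=
        H9TT.line_eq_image hT φ hφ hmem hm (s := ⟨{0, 1}, by decide⟩) (s' := ⟨{1, 3}, by decide⟩)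
          (by decide) (by rw [e_a]; exact hp₀m) (by rw [e_d]; exact hq'm) 2 (by decide) (by decide)
      rw [hl', hm']
      exact H9TT.da_iso hT φ hφ hmem 3 2 (by decide)
    · -- the affine plane
      right
      rw [hl_eq, hm_eq]
      exact H9TT.ag_iso hT hconj p₀.2 q.2 q'.2 hab had hbd hag

end Cfsg.Agent.S5367
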