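import Mathlib
import Cfsg.Statements.S5393
import Cfsg.Agent.Lib.Helper9.M24K

set_option autoImplicit false
open Cfsg

namespace Cfsg.Agent.S5393

open Cfsg.Agent.Lib.Helper9.GolayG Cfsg.Agent.Lib.Helper9 Cfsg.Agent.Lib.Helper9.M24

/-- The length-24 code built from the squares modulo 23 contains the all-ones word, and the code modulo the all-ones word is an irreducible module over the field with two elements for the code's automorphism group: a subspace of the code that contains the all-ones word and is invariant under every coordinate permutation preserving the code is either the span of the all-ones word or the whole code. -/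
theorem result : (fun _ : Cfsg.GolayPt => (1 : ZMod 2)) ∈ Cfsg.golayCode ∧ ∀ W : Submodule (ZMod 2) (Cfsg.GolayPt → ZMod 2), (fun _ => (1 : ZMod 2)) ∈ W → W ≤ Cfsg.golayCode → (∀ σ ∈ Cfsg.M24, ∀ w ∈ W, (fun p => w (σ.symm p)) ∈ W) → W = Submodule.span (ZMod 2) {fun _ => (1 : ZMod 2)} ∨ W = Cfsg.golayCode := by
  have hC := golayCode_isAbsGolay
  have hone : (fun _ : Cfsg.GolayPt => (1 : ZMod 2)) = (1 : GolayPt → ZMod 2) := rfl
  refine ⟨?_, ?_⟩
  · rw [hone]; exact one_mem hC
  intro W h1W hWC hinv
  rw [hone] at h1W ⊢
  have hinv' : ∀ σ ∈ M24, ∀ w ∈ W, permAct σ w ∈ W := hinv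
  by_cases hle : W ≤ Submodule.span (ZMod 2) {(1 : GolayPt → ZMod 2)}
  · left
    apply le_antisymm hle
    rw [Submodule.span_le]
    intro x hx
    rw [Set.mem_singleton_iff] at hx
    rw [hx]; exact h1W
  · right
    apply le_antisymm hWC
    obtain ⟨w, hwW, hwn⟩ := SetLike.not_le_iff_exists.mp hle
    have hwC : w ∈ golayCode := hWC hwW
    have hw0 : w ≠ 0 := by
      rintro rfl
      exact hwn (Submodule.zero_mem _)
    have hw1 : w ≠ 1 := by
      rintro rfl
      exact hwn (Submodule.subset_span rfl)
    have hcard : Fintype.card GolayPt = 24 := hC.hcard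
    have hsum := hammingNorm_add_one w
    rw [hcard] at hsum
    have hwt0 : hammingNorm w ≠ 0 := by
      rw [Ne, hammingNorm_eq_zero]; exact hw0
    have hwt24 : hammingNorm w ≠ 24 := by
      intro h24
      have h0 : hammingNorm (w + 1) = 0 := by omega
      rw [hammingNorm_eq_zero] at h0
      apply hw1
      have := add_one_add_one w
      rw [h0, zero_add] at this
      exact this.symm
    have hw1W : w + 1 ∈ W := W.add_mem hwW h1W
    have hw1C : w + 1 ∈ golayCode := hWC hw1W
    rcases weights hC hwC with h | h | h | h | h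
    · exact absurd h hwt0
    · exact code_le_of_octad_mem W hinv' hwW hwC h
    · obtain ⟨c, hcW, hcC, hc8⟩ := exists_octad_of_dodecad_mem W hinv' hwW hwC h
      exact code_le_of_octad_mem W hinv' hcW hcC hc8
    · exact code_le_of_octad_mem W hinv' hw1W hw1C (by omega)
    · exact absurd h hwt24

end Cfsg.Agent.S5393
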