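import Mathlib
import Cfsg.Statements.S5394
import Cfsg.Agent.Lib.Helper9.M24Inv

set_option autoImplicit false
open Cfsg

namespace Cfsg.Agent.S5394

open Cfsg.Agent.Lib.Helper9.M24

theorem order_two_iff (g : Equiv.Perm GolayPt) : orderOf g = 2 ↔ g * g = 1 ∧ g ≠ 1 := by
  haveI : Fact (Nat.Prime 2) := ⟨Nat.prime_two⟩
  rw [orderOf_eq_prime_iff, pow_two]

theorem conj_eq_of_conj {g h r k₁ k₂ : Equiv.Perm GolayPt} (h1 : k₁ * g * k₁⁻¹ = r) (h2 : k₂ * h * k₂⁻¹ = r) :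
    (k₂⁻¹ * k₁) * g * (k₂⁻¹ * k₁)⁻¹ = h := by
  have : h = k₂⁻¹ * r * k₂ := by rw [← h2]; group
  rw [this, ← h1]
  group

theorem result : (∀ g ∈ Cfsg.M24, orderOf g = 2 → (Finset.univ.filter fun p => g p = p) ∈ Cfsg.octads ∨ ∀ p, g p ≠ p) ∧ (∃ g ∈ Cfsg.M24, orderOf g = 2 ∧ (Finset.univ.filter fun p => g p = p) ∈ Cfsg.octads) ∧ (∃ g ∈ Cfsg.M24, orderOf g = 2 ∧ ∀ p, g p ≠ p) ∧ ∀ g ∈ Cfsg.M24, ∀ h ∈ Cfsg.M24, orderOf g = 2 → orderOf h = 2 → ((∀ p, g p ≠ p) ↔ (∀ p, h p ≠ p)) → ∃ k ∈ Cfsg.M24, k * g * k⁻¹ = h := by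
  refine ⟨?_, ?_, ?_, ?_⟩
  · intro g hg ho
    rw [order_two_iff] at ho
    by_cases hf : ∀ p, g p ≠ p
    · exact Or.inr hf
    · left
      push Not at hf
      obtain ⟨a, ha⟩ := hf
      exact invol_fixSet_mem_octads hg ho.1 ho.2 ha
  · refine ⟨tperm g2A, g2A_mem, ?_, g2A_fix⟩
    rw [order_two_iff]
    exact ⟨g2A_sq, g2A_ne_one⟩
  · refine ⟨tperm g2B, g2B_mem, ?_, g2B_fpf⟩
    rw [order_two_iff]
    refine ⟨g2B_sq, ?_⟩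
    intro h
    exact g2B_fpf none (by rw [h]; rfl)
  · intro g hg h hh hog hoh hiff
    rw [order_two_iff] at hog hoh
    by_cases hf : ∀ p, g p ≠ p
    · obtain ⟨k₁, hk₁, e₁⟩ := invol_conj_2B hg hog.1 hf
      obtain ⟨k₂, hk₂, e₂⟩ := invol_conj_2B hh hoh.1 (hiff.mp hf)
      exact ⟨k₂⁻¹ * k₁, Subgroup.mul_mem _ (Subgroup.inv_mem _ hk₂) hk₁, conj_eq_of_conj e₁ e₂⟩
    · have hf' : ¬ ∀ p, h p ≠ p := fun h' => hf (hiff.mpr h')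
      push Not at hf hf'
      obtain ⟨a, ha⟩ := hf
      obtain ⟨b, hb⟩ := hf'
      obtain ⟨k₁, hk₁, e₁⟩ := invol_conj_2A hg hog.1 hog.2 ha
      obtain ⟨k₂, hk₂, e₂⟩ := invol_conj_2A hh hoh.1 hoh.2 hb
      exact ⟨k₂⁻¹ * k₁, Subgroup.mul_mem _ (Subgroup.inv_mem _ hk₂) hk₁, conj_eq_of_conj e₁ e₂⟩

end Cfsg.Agent.S5394
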