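import Mathlib
import Cfsg.Statements.S5395
import Cfsg.Agent.Lib.Helper9.DualTwo
import Cfsg.Agent.Lib.Lead.Frattini

set_option autoImplicit false
open Cfsg

namespace Cfsg.Agent.S5395

open Cfsg.Agent.Lib.Helper9
open scoped IsMulCommutative

section
variable {E : Type*} [Group E]

theorem comm_mem_center (hcomm : commutator E = Subgroup.center E) (g x : E) :
    g * x * g⁻¹ * x⁻¹ ∈ Subgroup.center E := by
  rw [← hcomm, commutator_def]
  have := Subgroup.commutator_mem_commutator (Subgroup.mem_top g) (Subgroup.mem_top x)
  rwa [commutatorElement_def] at this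

/-- `x ↦ [g, x]` as a homomorphism into the centre. -/
def commHom (hcomm : commutator E = Subgroup.center E) (g : E) : E →* Subgroup.center E where
  toFun x := ⟨g * x * g⁻¹ * x⁻¹, comm_mem_center hcomm g x⟩
  map_one' := by
    apply Subtype.ext
    simp
  map_mul' := by
    intro x y
    apply Subtype.ext
    have hy := comm_mem_center hcomm g y
    rw [Subgroup.mem_center_iff] at hy
    show g * (x * y) * g⁻¹ * (x * y)⁻¹ = (g * x * g⁻¹ * x⁻¹) * (g * y * g⁻¹ * y⁻¹)
    have h1 : g * (x * y) * g⁻¹ * (x * y)⁻¹ = (g * x * g⁻¹) * ((g * y * g⁻¹ * y⁻¹) * x⁻¹) := by group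
    rw [h1, ← hy x⁻¹]
    group

theorem commHom_apply (hcomm : commutator E = Subgroup.center E) (g x : E) :
    ((commHom hcomm g x : Subgroup.center E) : E) = g * x * g⁻¹ * x⁻¹ := rfl

/-- `g ↦ [g, ·]` as a homomorphism. -/
def commHomHom (hcomm : commutator E = Subgroup.center E) : E →* (E →* Subgroup.center E) where
  toFun g := commHom hcomm g
  map_one' := by
    apply MonoidHom.ext
    intro x
    apply Subtype.ext
    rw [commHom_apply]
    simp
  map_mul' := by
    intro g h
    apply MonoidHom.ext
    intro x
    apply Subtype.ext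
    rw [MonoidHom.mul_apply, Subgroup.coe_mul, commHom_apply, commHom_apply, commHom_apply]
    have hh := comm_mem_center hcomm h x
    rw [Subgroup.mem_center_iff] at hh
    have h1 : g * h * x * (g * h)⁻¹ * x⁻¹ = g * (h * x * h⁻¹ * x⁻¹) * x * g⁻¹ * x⁻¹ := by group
    rw [h1, hh g]
    have h2 : h * x * h⁻¹ * x⁻¹ * g * x * g⁻¹ * x⁻¹ = (h * x * h⁻¹ * x⁻¹) * (g * x * g⁻¹ * x⁻¹) := by group
    rw [h2, ← hh (g * x * g⁻¹ * x⁻¹)]

theorem ker_commHomHom (hcomm : commutator E = Subgroup.center E) :
    (commHomHom hcomm).ker = Subgroup.center E := by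
  ext g
  rw [MonoidHom.mem_ker, Subgroup.mem_center_iff]
  constructor
  · intro h x
    have := congrArg (fun f : E →* Subgroup.center E => ((f x : Subgroup.center E) : E)) h
    simp only [MonoidHom.one_apply, Subgroup.coe_one] at this
    have h2 : g * x * g⁻¹ * x⁻¹ = 1 := this
    have h3 : g * x = x * g := by
      have := congrArg (fun t => t * x * g) h2
      simpa [mul_assoc] using this
    exact h3.symm
  · intro h
    apply MonoidHom.ext
    intro x
    apply Subtype.ext
    show g * x * g⁻¹ * x⁻¹ = 1
    rw [← h x]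
    group

end

/-- For a finite extraspecial 2-group E, an automorphism of E that induces the identity on E modulo its centre is inner (so these automorphisms form exactly the inner automorphism group, an elementary abelian 2-group of order |E|/2). -/
theorem result {E : Type*} [Group E] [Finite E] (hE : Cfsg.IsExtraspecial 2 E) (φ : E ≃* E) (hφ : ∀ x : E, φ x * x⁻¹ ∈ Subgroup.center E) : ∃ g : E, ∀ x : E, φ x = g * x * g⁻¹ := by
  haveI : Fact (Nat.Prime 2) := ⟨Nat.prime_two⟩
  obtain ⟨⟨hP, hfr, hcomm⟩, hcard⟩ := hE
  -- squares are central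
  have hsq : ∀ x : E, x ^ 2 ∈ Subgroup.center E := by
    intro x
    rw [← hfr]
    exact Cfsg.Agent.Lib.Lead.pow_mem_frattini_of_isPGroup hP x
  -- count the homomorphisms E → Z(E)
  have hA : ∀ a : Abelianization E, a ^ 2 = 1 := by
    intro a
    obtain ⟨x, rfl⟩ := QuotientGroup.mk_surjective a
    have h1 : ((x ^ 2 : E) : E ⧸ commutator E) = 1 := by
      rw [QuotientGroup.eq_one_iff, hcomm]
      exact hsq x
    exact h1
  have hcount : Nat.card (E →* Subgroup.center E) = Nat.card (Abelianization E) := by
    rw [Nat.card_congr (Abelianization.lift (G := E) (A := Subgroup.center E))]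
    exact card_monoidHom_two (Abelianization E) hA (Subgroup.center E) hcard
  haveI : Finite (E →* Subgroup.center E) := Finite.of_injective (fun f => (f : E → Subgroup.center E)) DFunLike.coe_injective
  have hcardA : Nat.card E = Nat.card (Abelianization E) * 2 := by
    have := Subgroup.card_eq_card_quotient_mul_card_subgroup (commutator E)
    rw [this]
    congr 1
    rw [hcomm]
    exact hcard
  -- the range of the commutator map is everything
  have hrange : (commHomHom hcomm).range = ⊤ := by
    apply Subgroup.eq_top_of_card_eq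
    rw [hcount]
    have h1 := Nat.card_congr (QuotientGroup.quotientKerEquivRange (commHomHom hcomm)).toEquiv
    rw [← h1]
    have h2 := Subgroup.card_eq_card_quotient_mul_card_subgroup (commHomHom hcomm).ker
    have h3 : Nat.card (commHomHom hcomm).ker = 2 := by
      rw [ker_commHomHom hcomm]
      exact hcard
    rw [h3, hcardA] at h2
    omega
  -- the homomorphism attached to φ
  let δ : E →* Subgroup.center E :=
    { toFun := fun x => ⟨φ x * x⁻¹, hφ x⟩
      map_one' := by
        apply Subtype.ext
        simp
      map_mul' := by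
        intro x y
        apply Subtype.ext
        have hy := hφ y
        rw [Subgroup.mem_center_iff] at hy
        show φ (x * y) * (x * y)⁻¹ = (φ x * x⁻¹) * (φ y * y⁻¹)
        rw [map_mul, mul_inv_rev]
        have h1 : φ x * φ y * (y⁻¹ * x⁻¹) = φ x * ((φ y * y⁻¹) * x⁻¹) := by group
        rw [h1, ← hy x⁻¹]
        group }
  have hδ : δ ∈ (commHomHom hcomm).range := by
    rw [hrange]
    exact Subgroup.mem_top δ
  obtain ⟨g, hg⟩ := hδ
  refine ⟨g, fun x => ?_⟩
  have := congrArg (fun f : E →* Subgroup.center E => ((f x : Subgroup.center E) : E)) hg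
  have h2 : g * x * g⁻¹ * x⁻¹ = φ x * x⁻¹ := this
  exact (mul_right_cancel h2).symm

end Cfsg.Agent.S5395
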