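import Cfsg.Statements.S5408
import Cfsg.Agent.Lib.Helper1.MonQ3

set_option autoImplicit false
open Cfsg

namespace Cfsg.Agent.S5408

/-- Let G be a finite group of Monster type at the involution z with Q the extraspecial normal subgroup of order 2^25 of C = C_G(z) (so C/Q is identified with the first Conway group with Q modulo its centre the Leech lattice modulo 2, and z is not weakly closed in Q). Then Q is of plus type: it contains an elementary abelian subgroup of order 2^13. -/
theorem result {G : Type*} [Group G] [Finite G] (z : G) (Q : Subgroup (Subgroup.centralizer ({z} : Set G))) [Q.Normal] (hM : Cfsg.IsOfMonsterType z Q) : ∃ E : Subgroup Q, Cfsg.IsElementaryAbelian 2 E ∧ Nat.card E = 2 ^ 13 := by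
  obtain ⟨⟨_, _, hE, _, _⟩, e, ψ, hadd, hsurj, hker, hequiv⟩ := hM
  refine Cfsg.Agent.Lib.Helper1.MonQ.exists_elem_abelian hE ψ hadd hsurj hker ?_
  intro g
  obtain ⟨h, hh⟩ := QuotientGroup.mk_surjective (e.symm (QuotientGroup.mk g : Spor.Co1))
  refine ⟨fun q => ⟨h * q * h⁻¹, (inferInstance : Q.Normal).conj_mem
    (q : Subgroup.centralizer ({z} : Set G)) q.2 h⟩, ?_, ?_⟩
  · intro q
    have hc : ∀ x : Subgroup.centralizer ({z} : Set G), (h * x * h⁻¹) ^ 2 = 1 ↔ x ^ 2 = 1 := by
      intro x
      rw [conj_pow]
      constructor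
      · intro hx
        have : x ^ 2 = h⁻¹ * (h * x ^ 2 * h⁻¹) * h := by group
        rw [this, hx]; group
      · intro hx
        rw [hx]; group
    constructor
    · intro hq
      have h1 := congrArg Subtype.val hq
      apply Subtype.ext
      simp only [Subgroup.coe_pow, Subgroup.coe_one] at h1 ⊢
      exact (hc q).mp h1
    · intro hq
      have h1 := congrArg Subtype.val hq
      apply Subtype.ext
      simp only [Subgroup.coe_pow, Subgroup.coe_one] at h1 ⊢
      exact (hc q).mpr h1
  · intro v q hq
    apply hequiv h g _ v q hq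
    rw [hh, MulEquiv.apply_symm_apply]

end Cfsg.Agent.S5408
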