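import Cfsg.Statements.S5410
import Cfsg.Agent.Lib.Helper1.MonV2

set_option autoImplicit false
open Cfsg

namespace Cfsg.Agent.S5410

/-- Let G be a finite group of Monster type at the involution z with Q the extraspecial normal subgroup of order 2^25 of C = C_G(z) (so C/Q is identified with the first Conway group with Q modulo its centre the Leech lattice modulo 2, and z is not weakly closed in Q). Let g in G with s = g z g⁻¹ a member of Q other than z, let X be the image in C/Q of the centralizer of s in C, and let E be the image in C/Q of the intersection of g Q g⁻¹ with C. Then E is a normal subgroup of X, elementary abelian of order 2^11, and it has a complement in X isomorphic to the Mathieu group of degree 24 (the automorphism group of the length-24 binary Golay code). -/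
theorem result {G : Type*} [Group G] [Finite G] (z : G) (Q : Subgroup (Subgroup.centralizer ({z} : Set G))) [Q.Normal] (hM : Cfsg.IsOfMonsterType z Q) (s : G) (hsQ : ∃ hsc : s ∈ Subgroup.centralizer ({z} : Set G), (⟨s, hsc⟩ : Subgroup.centralizer ({z} : Set G)) ∈ Q) (hs : IsConj z s) (hs1 : s ≠ z) (g : G) (hg : g * z * g⁻¹ = s) (X E : Subgroup ((Subgroup.centralizer ({z} : Set G)) ⧸ Q)) (hX : X = ((Subgroup.centralizer ({z} : Set G) ⊓ Subgroup.centralizer ({s} : Set G)).subgroupOf (Subgroup.centralizer ({z} : Set G))).map (QuotientGroup.mk' Q)) (hE : E = (((Q.map (Subgroup.centralizer ({z} : Set G)).subtype).map (MulAut.conj g).toMonoidHom ⊓ Subgroup.centralizer ({z} : Set G)).subgroupOf (Subgroup.centralizer ({z} : Set G))).map (QuotientGroup.mk' Q)) : E ≤ X ∧ (∀ x ∈ X, ∀ y ∈ E, x * y * x⁻¹ ∈ E) ∧ Cfsg.IsElementaryAbelian 2 E ∧ Nat.card E = 2 ^ 11 ∧ ∃ K : Subgroup ((Subgroup.centralizer ({z} : Set G)) ⧸ Q), K ≤ X ∧ E ⊓ K = ⊥ ∧ E ⊔ K = X ∧ Nonempty (K ≃* Cfsg.M24) := by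
  obtain ⟨⟨hz2, hF, hEx, hcard, hnwc⟩, e, ψ, hψ⟩ := hM
  have hcard' : Nat.card Q = 2 ^ 25 := by rw [hcard]
  obtain ⟨hsc, hsq⟩ := hsQ
  refine Cfsg.Agent.Lib.Helper1.MonV.struct Q e ψ hψ hF hz2 hEx hcard' g
    (Cfsg.Agent.Lib.Helper1.MonT.mkQ Q s hsc hsq) hg.symm hs1 X E ?_ ?_
  · intro x
    rw [hX, Subgroup.mem_map]
    constructor
    · rintro ⟨h, hh, rfl⟩
      refine ⟨h, ?_, rfl⟩
      have h1 : (h : G) ∈ Subgroup.centralizer ({s} : Set G) :=
        (Subgroup.mem_inf.mp (Subgroup.mem_subgroupOf.mp hh)).2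
      have h2 := Subgroup.mem_centralizer_iff.mp h1 s (Set.mem_singleton s)
      apply Subtype.ext
      exact h2.symm
    · rintro ⟨h, hh, rfl⟩
      refine ⟨h, ?_, rfl⟩
      apply Subgroup.mem_subgroupOf.mpr
      refine Subgroup.mem_inf.mpr ⟨h.2, ?_⟩
      rw [Subgroup.mem_centralizer_iff]
      intro y hy
      rw [Set.mem_singleton_iff.mp hy]
      have h2 := congrArg (fun c : Subgroup.centralizer ({z} : Set G) => (c : G)) hh
      exact h2.symm
  · intro x
    rw [hE, Subgroup.mem_map]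
    constructor
    · rintro ⟨d, hd, rfl⟩
      exact ⟨d, (Subgroup.mem_inf.mp (Subgroup.mem_subgroupOf.mp hd)).1, rfl⟩
    · rintro ⟨d, hd, rfl⟩
      exact ⟨d, Subgroup.mem_subgroupOf.mpr (Subgroup.mem_inf.mpr ⟨hd, d.2⟩), rfl⟩

end Cfsg.Agent.S5410
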