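import Cfsg.Statements.S5420
import Mathlib

set_option autoImplicit false
open Cfsg

namespace Cfsg.Agent.S5420

theorem eq_one_of_mem_two_group_of_mem_odd {G : Type*} [Group G] (H K : Subgroup G)
    (hH : IsPGroup 2 H) (hK : Odd (Nat.card K)) {g : G} (hgH : g ∈ H) (hgK : g ∈ K) : g = 1 := by
  obtain ⟨k, hk⟩ := hH ⟨g, hgH⟩
  have hk' : g ^ (2 ^ k) = 1 := by
    have := congrArg Subtype.val hk
    simpa using this
  have h1 : orderOf g ∣ 2 ^ k := orderOf_dvd_of_pow_eq_one hk'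
  have h2 : orderOf g ∣ Nat.card K := Subgroup.orderOf_dvd_natCard K hgK
  have hc : Nat.Coprime (2 ^ k) (Nat.card K) :=
    Nat.Coprime.pow_left k (Nat.coprime_two_left.mpr hK)
  rw [← orderOf_eq_one_iff]
  exact Nat.eq_one_of_dvd_coprimes hc h1 h2

theorem pCore_isPGroup {G : Type*} [Group G] [Finite G] (p : ℕ) [Fact p.Prime] :
    IsPGroup p (Cfsg.pCore p G) := by
  obtain ⟨P⟩ : Nonempty (Sylow p G) := inferInstance
  have hle : Cfsg.pCore p G ≤ P := by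
    apply sSup_le
    rintro N ⟨hN, hNp⟩
    haveI := hN
    exact hNp.le_sylow_of_normal P
  exact P.isPGroup'.to_le hle

theorem result {G : Type*} [Group G] [Finite G] (Q : Subgroup G) (hL1 : Cfsg.IsExtraspecial 2 ↥Q) (hL2 : Subgroup.centralizer (Q : Set G) = ((Subgroup.center ↥Q).map Q.subtype)) (hL3 : Subgroup.centralizer (((Subgroup.center ↥Q).map Q.subtype) : Set G) ≤ Subgroup.normalizer (Q : Set G)) (hZ : ((Subgroup.center ↥Q).map Q.subtype) ≤ Cfsg.pCore 2 G) : Cfsg.IsLargeExtraspecial Q := by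
  refine ⟨hL1, hL2, hL3, ?_⟩
  intro K hK hQK
  haveI : Fact (Nat.Prime 2) := ⟨Nat.prime_two⟩
  have hO : IsPGroup 2 (Cfsg.pCore 2 G) := pCore_isPGroup 2
  have hOn : (Cfsg.pCore 2 G).Normal := Cfsg.pCore_normal 2 G
  have hQ2 : IsPGroup 2 Q := hL1.1.1
  have hZQ : ((Subgroup.center ↥Q).map Q.subtype) ≤ Q := by
    rintro _ ⟨q, -, rfl⟩
    exact q.2
  -- Step 2: K centralizes Z
  have hKZ : K ≤ Subgroup.centralizer (((Subgroup.center ↥Q).map Q.subtype) : Set G) := by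
    intro k hk
    rw [Subgroup.mem_centralizer_iff]
    intro z hz
    have hzQ : z ∈ Q := hZQ hz
    have hzO : z ∈ Cfsg.pCore 2 G := hZ hz
    have hcK : k * z * k⁻¹ * z⁻¹ ∈ K := by
      have h1 : z * k⁻¹ * z⁻¹ ∈ K :=
        (Subgroup.mem_normalizer_iff.mp (hQK hzQ) k⁻¹).mp (K.inv_mem hk)
      have : k * z * k⁻¹ * z⁻¹ = k * (z * k⁻¹ * z⁻¹) := by group
      rw [this]
      exact K.mul_mem hk h1
    have hcO : k * z * k⁻¹ * z⁻¹ ∈ Cfsg.pCore 2 G :=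
      (Cfsg.pCore 2 G).mul_mem (hOn.conj_mem z hzO k) ((Cfsg.pCore 2 G).inv_mem hzO)
    have h1 := eq_one_of_mem_two_group_of_mem_odd _ K hO hK hcO hcK
    have h2 : k * z * k⁻¹ = z := mul_inv_eq_one.mp h1
    have h3 : k * z = z * k := mul_inv_eq_iff_eq_mul.mp h2
    exact h3.symm
  -- Step 3: K centralizes Q
  have hKQ : K ≤ Subgroup.centralizer (Q : Set G) := by
    intro k hk
    rw [Subgroup.mem_centralizer_iff]
    intro q hq
    have hkN : k ∈ Subgroup.normalizer (Q : Set G) := hL3 (hKZ hk)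
    have hcK : k * q * k⁻¹ * q⁻¹ ∈ K := by
      have h1 : q * k⁻¹ * q⁻¹ ∈ K :=
        (Subgroup.mem_normalizer_iff.mp (hQK hq) k⁻¹).mp (K.inv_mem hk)
      have : k * q * k⁻¹ * q⁻¹ = k * (q * k⁻¹ * q⁻¹) := by group
      rw [this]
      exact K.mul_mem hk h1
    have hcQ : k * q * k⁻¹ * q⁻¹ ∈ Q :=
      Q.mul_mem ((Subgroup.mem_normalizer_iff.mp hkN q).mp hq) (Q.inv_mem hq)
    have h1 := eq_one_of_mem_two_group_of_mem_odd _ K hQ2 hK hcQ hcK
    have h2 : k * q * k⁻¹ = q := mul_inv_eq_one.mp h1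
    have h3 : k * q = q * k := mul_inv_eq_iff_eq_mul.mp h2
    exact h3.symm
  -- Step 4
  rw [eq_bot_iff]
  intro k hk
  have hkQ : k ∈ Q := hZQ (hL2 ▸ hKQ hk)
  exact eq_one_of_mem_two_group_of_mem_odd _ K hQ2 hK hkQ hk

end Cfsg.Agent.S5420
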