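import Cfsg.Statements.S5426
import Cfsg.Agent.Lib.Helper9.LX7
import Cfsg.Agent.Lib.Helper9.LX9
import Cfsg.Agent.Lib.Helper9.LargeExtra5

set_option autoImplicit false
open Cfsg

namespace Cfsg.Agent.S5426

/-- Let Q be a large extraspecial 2-subgroup of the finite group G (extraspecial; centralizer equal to its centre; normal in the centralizer of its centre; normalizing no non-trivial subgroup of odd order) with centre generated by z, and let M be the normal closure of z in G. Then one of the following holds: Q is normal in G; or M is abelian and the generalized Fitting subgroup of G is its largest normal 2-subgroup; or M is the generalized Fitting subgroup of G and is a non-abelian simple group; or M is the generalized Fitting subgroup of G and is the direct product of a non-abelian simple subgroup L and its conjugate u L u⁻¹ by some u in Q (the two meet trivially and commute elementwise), with z = z₁ (u z₁ u⁻¹) for some z₁ in L whose centralizer in L is a Sylow 2-subgroup of L with Frattini subgroup inside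 the subgroup generated by z₁, and Q is not the largest normal 2-subgroup of the centralizer of z. -/
theorem result {G : Type*} [Group G] [Finite G] (Q : Subgroup G) (hQ : Cfsg.IsLargeExtraspecial Q) (z : G) (hz : ((Subgroup.center ↥Q).map Q.subtype) = Subgroup.zpowers z) (M : Subgroup G) (hM : M = Subgroup.normalClosure ({z} : Set G)) : Q.Normal ∨ (IsMulCommutative ↥M ∧ Cfsg.generalizedFittingSubgroup G = Cfsg.pCore 2 G) ∨ (M = Cfsg.generalizedFittingSubgroup G ∧ IsSimpleGroup ↥M ∧ ¬ IsMulCommutative ↥M) ∨ (M = Cfsg.generalizedFittingSubgroup G ∧ ∃ (L : Subgroup G) (u : G), u ∈ Q ∧ IsSimpleGroup ↥L ∧ ¬ IsMulCommutative ↥L ∧ L ⊓ (L).map (MulAut.conj u).toMonoidHom = ⊥ ∧ (∀ x ∈ L, ∀ y ∈ (L).map (MulAut.conj u).toMonoidHom, x * y = y * x) ∧ L ⊔ (L).map (MulAut.conj u).toMonoidHom = M ∧ ∃ z₁ ∈ L, z = z₁ * (u * z₁ * u⁻¹) ∧ (∃ R : Sylow 2 ↥L, (R : Subgroup ↥L) = (Subgroup.centralizer ({z₁} : Set G)).subgroupOf L ∧ (frattini ↥(R : Subgroup ↥L)).map ((L.subtype).comp (R : Subgroup ↥L).subtype) ≤ Subgroup.zpowers z₁)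 ∧ Q ≠ (Cfsg.pCore 2 ↥(Subgroup.centralizer ({z} : Set G))).map (Subgroup.centralizer ({z} : Set G)).subtype) := by
  classical
  obtain ⟨hL1, hL2, hL3, hL4⟩ := hQ
  obtain ⟨z', hcore, hZmem⟩ := Cfsg.Agent.Lib.Helper9.LargeExtra.core_of_hyps Q hL1 hL2 hL3
  have hzz' : z' = z := by
    have h1 : z ∈ (Subgroup.center ↥Q).map Q.subtype := by rw [hz]; exact Subgroup.mem_zpowers z
    rcases (hZmem z).mp h1 with h | h
    · exfalso
      have h2 : z' ∈ (Subgroup.center ↥Q).map Q.subtype := (hZmem z').mpr (Or.inr rfl)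
      rw [hz, h, Subgroup.zpowers_one_eq_bot, Subgroup.mem_bot] at h2
      exact hcore.z_ne h2
    · exact h.symm
  subst hzz'
  have hodd : Cfsg.Agent.H9LX.NoOdd Q := hL4
  have hsq := Cfsg.Agent.Lib.Helper9.LargeExtra.sq_cases Q hL1 hZmem
  by_cases hO : Cfsg.pCore 2 G = ⊥
  · have c := Cfsg.Agent.H9LX.ctx_of hcore hodd hsq hO
    have hMlayer : M = Cfsg.layer G := by rw [hM]; exact c.normalClosure_eq_layer
    have hMF : M = Cfsg.generalizedFittingSubgroup G := by rw [c.gfit]; exact hMlayer
    obtain ⟨L, hL⟩ := c.exists_comp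
    by_cases hQL : Q ≤ Subgroup.normalizer (L : Set G)
    · right; right; left
      have hlay := c.layer_eq_of_le_normalizer hL hQL
      have hML : M = L := by rw [hMlayer, hlay]
      refine ⟨hMF, ?_⟩
      rw [hML]
      exact c.comp_simple hL
    · obtain ⟨u, hu, hune⟩ : ∃ u ∈ Q, Cfsg.Agent.Lib.Helper7.cj u L ≠ L := by
        by_contra hcon
        push Not at hcon
        apply hQL
        intro q hq
        exact Cfsg.Agent.Lib.Helper7.mem_normalizer_iff_cj.mpr (hcon q hq)
      by_cases honly : ∀ q ∈ Q, Cfsg.Agent.Lib.Helper7.cj q L = L ∨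
          Cfsg.Agent.Lib.Helper7.cj q L = Cfsg.Agent.Lib.Helper7.cj u L
      · right; right; right
        have t : Cfsg.Agent.H9LX.Two Q z' L u := ⟨c, hL, hu, hune, honly⟩
        obtain ⟨a, haL, hza, ha1, haa⟩ := t.exists_a
        have ta : Cfsg.Agent.H9LX.TwoA Q z' L u a := ⟨t, haL, hza, ha1, haa⟩
        refine ⟨hMF, L, u, hu, (c.comp_simple hL).1, (c.comp_simple hL).2, t.inf_eq_bot,
          t.commute, ?_, a, haL, hza, ta.exists_sylow, ta.Q_ne⟩
        rw [hMlayer, t.layer_eq]
      · exfalso
        push Not at honly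
        obtain ⟨r, hr, h1, h2⟩ := honly
        exact c.false_of_three hL hu hr hune h1 h2
  · right; left
    have := Cfsg.Agent.H9LX.caseA hcore hodd hO
    rw [hM]
    exact this

end Cfsg.Agent.S5426
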