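import Mathlib
import Cfsg.Statements.S5427
import Cfsg.Agent.S5421
import Cfsg.Agent.S5422
import Cfsg.Agent.Lib.Helper9.LargeExtra
import Cfsg.Agent.Lib.Helper9.LargeExtra4

set_option autoImplicit false
open Cfsg

namespace Cfsg.Agent.S5427

open Cfsg.Agent.Lib.Helper9.LargeExtra

/-- Let z be an involution of the finite group G whose centralizer C has generalized Fitting subgroup Q, an extraspecial 2-group of width at least 2 (order 2^(2w+1), w ≥ 2). Let K be a subgroup of G such that the subgroup U generated by the K-conjugates of z is abelian and C is generated by the C-conjugates of U. Suppose that either some K-conjugate of z other than z lies in Q, or some element u of U ∩ Q outside the subgroup generated by z has z in the largest normal 2-subgroup of its centralizer. Then G is simple and Q is a large extraspecial 2-subgroup of G. -/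
theorem result {G : Type*} [Group G] [Finite G] (z : G) (hz : orderOf z = 2) (Q : Subgroup G) (hQC : Q ≤ Subgroup.centralizer ({z} : Set G)) (hF : (Cfsg.generalizedFittingSubgroup ↥(Subgroup.centralizer ({z} : Set G))).map (Subgroup.centralizer ({z} : Set G)).subtype = Q) (hQ : Cfsg.IsExtraspecial 2 ↥Q) (w : ℕ) (hw : 2 ≤ w) (hcard : Nat.card ↥Q = 2 ^ (2 * w + 1)) (K U : Subgroup G) (hU : U = Subgroup.closure {x : G | ∃ k ∈ K, x = k * z * k⁻¹}) (hUab : IsMulCommutative ↥U) (hgen : Subgroup.closure {x : G | ∃ c ∈ Subgroup.centralizer ({z} : Set G), ∃ u ∈ U, x = c * u * c⁻¹} = Subgroup.centralizer ({z} : Set G)) (h3 : (∃ k ∈ K, k * z * k⁻¹ ∈ Q ∧ k * z * k⁻¹ ≠ z) ∨ ∃ u ∈ U ⊓ Q, u ∉ Subgroup.zpowers z ∧ (∃ hz' : z ∈ Subgroup.centralizer ({u} : Set G), (⟨z, hz'⟩ : ↥(Subgroup.centralizer ({u} : Set G))) ∈ Cfsg.pCore 2 ↥(Subgroup.centralizer ({u} : Set G)))) : IsSimpleGroup G ∧ Cfsg.IsLargeExtraspecial Q := by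
  classical
  have hz1 : z ≠ 1 := by
    intro h; rw [h, orderOf_one] at hz; omega
  have hzz : z * z = 1 := by rw [← pow_two, ← hz, pow_orderOf_eq_one]
  obtain ⟨hzQ, hZmem, hL2, hL3⟩ := hyps_of_fstar z Q hF hQ hz1
  set Z : Subgroup G := (Subgroup.center ↥Q).map Q.subtype with hZdef
  have hzZ : z ∈ Z := (hZmem z).mpr (Or.inr rfl)
  -- large
  have hlarge : Cfsg.IsLargeExtraspecial Q := by
    rcases h3 with ⟨k, _, hkQ, hkz⟩ | ⟨u, hu, huz, hz', hzp⟩
    · have hg : k ∉ Subgroup.normalizer ((Z : Subgroup G) : Set G) := by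
        intro hk
        have h1 : k * z * k⁻¹ ∈ Z := ((Subgroup.mem_normalizer_iff.mp hk) z).mp hzZ
        rcases (hZmem _).mp h1 with h2 | h2
        · apply hz1
          calc z = k⁻¹ * (k * z * k⁻¹) * k := by group
            _ = 1 := by rw [h2]; group
        · exact hkz h2
      have hZg : Z.map (MulAut.conj k).toMonoidHom ≤ Q := by
        intro x hx
        rw [Subgroup.mem_map] at hx
        obtain ⟨y, hy, rfl⟩ := hx
        simp only [MulEquiv.coe_toMonoidHom, MulAut.conj_apply]
        rcases (hZmem y).mp hy with h2 | h2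
        · rw [h2]; simp [Q.one_mem]
        · rw [h2]; exact hkQ
      exact (Cfsg.Agent.S5422.result Q hQ hL2 hL3 w hw hcard k hg hZg).2.2
    · have huU : u ∈ U := hu.1
      have huQ : u ∈ Q := hu.2
      -- every element of U squares to 1
      have hsq : ∀ x ∈ U, x * x = 1 := by
        intro x hx
        rw [hU] at hx
        induction hx using Subgroup.closure_induction with
        | mem x hx =>
          obtain ⟨k, _, rfl⟩ := hx
          calc k * z * k⁻¹ * (k * z * k⁻¹) = k * (z * z) * k⁻¹ := by group
            _ = 1 := by rw [hzz]; group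
        | one => simp
        | mul x y hx hy ihx ihy =>
          have hxU : x ∈ U := by rw [hU]; exact hx
          have hyU : y ∈ U := by rw [hU]; exact hy
          have hcomm : y * x = x * y := by
            have := hUab.is_comm.comm (⟨y, hyU⟩ : ↥U) ⟨x, hxU⟩
            have h2 := congrArg Subtype.val this
            simpa using h2
          calc x * y * (x * y) = x * (y * x) * y := by group
            _ = x * (x * y) * y := by rw [hcomm]
            _ = (x * x) * (y * y) := by group
            _ = 1 := by rw [ihx, ihy, one_mul]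
        | inv x _ ihx =>
          calc x⁻¹ * x⁻¹ = (x * x)⁻¹ := by group
            _ = 1 := by rw [ihx, inv_one]
      have hu1 : u ≠ 1 := by
        intro h; apply huz; rw [h]; exact Subgroup.one_mem _
      have hord : orderOf u = 2 := by
        haveI : Fact (Nat.Prime 2) := ⟨Nat.prime_two⟩
        exact orderOf_eq_prime (by rw [pow_two]; exact hsq u huU) hu1
      have huZ : u ∉ Z := by
        intro h
        rcases (hZmem u).mp h with h1 | h1
        · exact hu1 h1
        · apply huz; rw [h1]; exact Subgroup.mem_zpowers z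
      refine Cfsg.Agent.S5421.result Q hQ hL2 hL3 u huQ huZ hord ?_
      intro x hx
      rcases (hZmem x).mp hx with h1 | h1
      · rw [h1]; exact Subgroup.one_mem _
      · rw [h1]; exact ⟨⟨z, hz'⟩, hzp, rfl⟩
  refine ⟨?_, hlarge⟩
  obtain ⟨z', hcore, hZmem'⟩ := core_of_hyps Q hQ hL2 hL3
  have hz'z : z' = z := by
    have h1 : z' ∈ Z := (hZmem' z').mpr (Or.inr rfl)
    rcases (hZmem z').mp h1 with h2 | h2
    · exact absurd h2 hcore.z_ne
    · exact h2
  rw [hz'z] at hcore
  apply simple_of_core hcore hlarge.2.2.2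
  intro N hN hzN
  rw [← hgen, Subgroup.closure_le]
  rintro x ⟨c, _, u, hu, rfl⟩
  have huN : u ∈ N := by
    have hUN : U ≤ N := by
      rw [hU, Subgroup.closure_le]
      rintro y ⟨k, _, rfl⟩
      exact hN.conj_mem z hzN k
    exact hUN hu
  exact hN.conj_mem u huN c

end Cfsg.Agent.S5427
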