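import Mathlib
import Cfsg.Statements.S5428
import Cfsg.Agent.Lib.Helper9.LargeExtra
import Cfsg.Agent.Lib.Helper9.LargeExtra2
import Cfsg.Agent.Lib.Helper9.LargeExtra4
import Cfsg.Agent.Lib.Helper9.LargeExtra5
import Cfsg.Agent.Lib.Helper9.LargeExtra6
import Cfsg.Agent.Lib.Helper9.LargeExtra10
import Cfsg.Agent.Lib.Helper9.LargeExtra11
import Cfsg.Agent.Lib.Helper9.LargeExtra12

set_option autoImplicit false
open Cfsg

namespace Cfsg.Agent.S5428

open Cfsg.Agent.Lib.Helper9.LargeExtra

/-- Let z be an involution of the finite group G whose centralizer C has generalized Fitting subgroup Q extraspecial (as a 2-group), let A be a subgroup of C of odd order, and let R be the centralizer of A in Q; suppose R has order at least 32, the largest normal subgroup of odd order of the centralizer of the subgroup generated by A and R lies in A, the order of that centralizer is not divisible by 4, and g is an element of G with g z g⁻¹ in R but outside the centre Z of Q. Let M be the subgroup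 generated by A and the centralizer of A (A is normal in it). Then: the centralizer in M of the subgroup generated by R and A, joined with A, equals the subgroup generated by A and Z; the image of R in M/A is a large extraspecial 2-subgroup of M/A; and g z g⁻¹ is conjugate to z inside the subgroup generated by R and the centralizer of A in g Q g⁻¹. -/
theorem result {G : Type*} [Group G] [Finite G] (z : G) (hz : orderOf z = 2) (Q : Subgroup G) (hQC : Q ≤ Subgroup.centralizer ({z} : Set G)) (hF : (Cfsg.generalizedFittingSubgroup ↥(Subgroup.centralizer ({z} : Set G))).map (Subgroup.centralizer ({z} : Set G)).subtype = Q) (hQ : Cfsg.IsExtraspecial 2 ↥Q) (A : Subgroup G) (hA : A ≤ Subgroup.centralizer ({z} : Set G)) (hAodd : Odd (Nat.card ↥A)) (R : Subgroup G) (hR : R = Q ⊓ Subgroup.centralizer (A : Set G)) (hR32 : 32 ≤ Nat.card ↥R) (hO : (Cfsg.oddCore ↥(Subgroup.centralizer ((A ⊔ R : Subgroup G) : Set G))).map (Subgroup.centralizer ((A ⊔ R : Subgroup G) : Set G)).subtype ≤ A) (h4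 : ¬ 4 ∣ Nat.card ↥(Subgroup.centralizer ((A ⊔ R : Subgroup G) : Set G))) (g : G) (hgR : g * z * g⁻¹ ∈ R) (hgZ : g * z * g⁻¹ ∉ ((Subgroup.center ↥Q).map Q.subtype)) (M : Subgroup G) (hM : M = Subgroup.centralizer (A : Set G) ⊔ A) [hn : (A.subgroupOf M).Normal] : (M ⊓ Subgroup.centralizer ((R ⊔ A : Subgroup G) : Set G)) ⊔ A = A ⊔ ((Subgroup.center ↥Q).map Q.subtype) ∧ Cfsg.IsLargeExtraspecial ((R.subgroupOf M).map (QuotientGroup.mk' (A.subgroupOf M))) ∧ ∃ x ∈ R ⊔ ((Q).map (MulAut.conj g).toMonoidHom ⊓ Subgroup.centralizer (A : Set G)), x * (g * z * g⁻¹) * x⁻¹ = z := by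
  classical
  haveI : Fact (Nat.Prime 2) := ⟨Nat.prime_two⟩
  have hz1 : z ≠ 1 := by
    intro h; rw [h, orderOf_one] at hz; omega
  have hzz : z * z = 1 := by rw [← pow_two, ← hz, pow_orderOf_eq_one]
  have hzinv : z⁻¹ = z := inv_eq_of_mul_eq_one_right hzz
  obtain ⟨hzQ, hZmem, hL2, hL3⟩ := hyps_of_fstar z Q hF hQ hz1
  obtain ⟨z', hcore, hZmem'⟩ := core_of_hyps Q hQ hL2 hL3
  have hzz' : z' = z := by
    rcases (hZmem z').mp ((hZmem' z').mpr (Or.inr rfl)) with h | h
    · exact absurd h hcore.z_ne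
    · exact h
  rw [hzz'] at hcore
  clear hZmem' hzz'
  have hsq := sq_cases Q hQ hZmem
  subst hR
  subst hM
  have hmemR : ∀ x, x ∈ Q ⊓ Subgroup.centralizer (A : Set G) ↔
      x ∈ Q ∧ ∀ α ∈ A, α * x = x * α := by
    intro x; rw [Subgroup.mem_inf, Subgroup.mem_centralizer_iff]; exact Iff.rfl
  have hgQ : g * z * g⁻¹ ∈ Q := ((hmemR _).mp hgR).1
  obtain ⟨a, ha⟩ : ∃ a, a = g * z * g⁻¹ := ⟨_, rfl⟩
  obtain ⟨Q2, hQ2⟩ : ∃ Q2 : Subgroup G, Q2 = Q.map (MulAut.conj g).toMonoidHom := ⟨_, rfl⟩
  have hcore2 : Core Q2 a := by rw [hQ2, ha]; exact hcore.conj g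
  have haz : a ≠ z := by
    intro h; apply hgZ; rw [← ha, h]; exact (hZmem z).mpr (Or.inr rfl)
  have ha1 : a ≠ 1 := hcore2.z_ne
  have haa : a * a = 1 := hcore2.z_sq
  have hzQ2 : z ∈ Q2 := by
    rw [hQ2]; exact hcore.z_mem_conj g hgQ (by rw [← ha]; exact haz)
  have hlargeQ : IsLargeExtraspecial Q :=
    isLargeExtraspecial_of_core hcore hsq g hgQ (by rw [← ha]; exact haz)
  have hsq2 : ∀ x ∈ Q2, x * x = 1 ∨ x * x = a := by
    rw [hQ2, ha]; exact sq_conj hcore hsq g
  have hginv : g⁻¹ * a * g⁻¹⁻¹ = z := by rw [ha]; group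
  have hlargeQ2 : IsLargeExtraspecial Q2 :=
    isLargeExtraspecial_of_core hcore2 hsq2 g⁻¹ (by rw [hginv]; exact hzQ2)
      (by rw [hginv]; exact haz.symm)
  rw [← ha] at hgQ hgZ hgR ⊢
  rw [← hQ2]
  have hAz : ∀ α ∈ A, α * z = z * α := by
    intro α hα
    exact ((Subgroup.mem_centralizer_iff.mp (hA hα)) z rfl).symm
  have haA : ∀ α ∈ A, α * a = a * α := ((hmemR a).mp hgR).2
  have hza : z * a = a * z := (hcore.z_comm a hgQ).symm
  have hzR : z ∈ Q ⊓ Subgroup.centralizer (A : Set G) := (hmemR z).mpr ⟨hzQ, hAz⟩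
  obtain ⟨q0, hq0R, hq0a⟩ :=
    exists_swap_centralizer hcore hlargeQ A hAz hAodd hgQ haA ha1 haz
  obtain ⟨y, hyR, hyz⟩ :=
    exists_swap_centralizer hcore2 hlargeQ2 A haA hAodd hzQ2 hAz hz1 haz.symm
  have hgoal3 : ∃ x ∈ (Q ⊓ Subgroup.centralizer (A : Set G)) ⊔
      (Q2 ⊓ Subgroup.centralizer (A : Set G)), x * a * x⁻¹ = z := by
    refine ⟨y * q0, Subgroup.mul_mem _ (Subgroup.mem_sup_right hyR)
      (Subgroup.mem_sup_left hq0R), ?_⟩
    have hya : y * a * y⁻¹ = a := by
      have := hcore2.z_comm y (Subgroup.mem_inf.mp hyR).1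
      calc y * a * y⁻¹ = (a * y) * y⁻¹ := by rw [this]
        _ = a := by group
    calc y * q0 * a * (y * q0)⁻¹ = y * (q0 * a * q0⁻¹) * y⁻¹ := by group
      _ = y * (z * a) * y⁻¹ := by rw [hq0a]
      _ = (y * z * y⁻¹) * (y * a * y⁻¹) := by group
      _ = (a * z) * a := by rw [hyz, hya]
      _ = (z * a) * a := by rw [hza]
      _ = z * (a * a) := by group
      _ = z := by rw [haa, mul_one]
  -- the centralizer X of A ⊔ R
  have hX : ∀ c, c ∈ Subgroup.centralizer
      ((A ⊔ (Q ⊓ Subgroup.centralizer (A : Set G)) : Subgroup G) : Set G) ↔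
      (∀ α ∈ A, α * c = c * α) ∧
        (∀ r ∈ Q ⊓ Subgroup.centralizer (A : Set G), r * c = c * r) := by
    intro c
    rw [Subgroup.mem_centralizer_iff]
    constructor
    · intro h
      exact ⟨fun α hα => h α (Subgroup.mem_sup_left hα),
        fun r hr => h r (Subgroup.mem_sup_right hr)⟩
    · rintro ⟨h1, h2⟩
      have hle : A ⊔ (Q ⊓ Subgroup.centralizer (A : Set G)) ≤
          Subgroup.centralizer ({c} : Set G) := by
        apply sup_le
        · intro α hα
          rw [Subgroup.mem_centralizer_iff]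
          intro y hy
          rw [Set.mem_singleton_iff] at hy
          rw [hy]; exact (h1 α hα).symm
        · intro r hr
          rw [Subgroup.mem_centralizer_iff]
          intro y hy
          rw [Set.mem_singleton_iff] at hy
          rw [hy]; exact (h2 r hr).symm
      intro s hs
      exact ((Subgroup.mem_centralizer_iff.mp (hle hs)) c rfl).symm
  have hzX : z ∈ Subgroup.centralizer
      ((A ⊔ (Q ⊓ Subgroup.centralizer (A : Set G)) : Subgroup G) : Set G) := by
    rw [hX]
    exact ⟨hAz, fun r hr => hcore.z_comm r ((hmemR r).mp hr).1⟩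
  have hzcX : ∀ x ∈ Subgroup.centralizer
      ((A ⊔ (Q ⊓ Subgroup.centralizer (A : Set G)) : Subgroup G) : Set G), x * z = z * x := by
    intro x hx
    exact (((hX x).mp hx).2 z hzR).symm
  have h1' := mem_of_not_four_dvd _ A z hzX hzz hz1 hzcX h4 hO
  have hzM : z ∈ Subgroup.centralizer (A : Set G) ⊔ A := by
    apply Subgroup.mem_sup_left
    rw [Subgroup.mem_centralizer_iff]
    exact hAz
  have hzZ : z ∈ (Subgroup.center ↥Q).map Q.subtype := (hZmem z).mpr (Or.inr rfl)
  have hzA : z ∉ A := fun h => hz1 (eq_one_of_sq_of_odd hAodd h hzz)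
  have hkey : ∀ c : G, c * z * c⁻¹ * z⁻¹ ∈ A → c * z = z * c := by
    intro c hc
    obtain ⟨a2, ha2⟩ : ∃ a2, a2 = c * z * c⁻¹ * z⁻¹ := ⟨_, rfl⟩
    rw [← ha2] at hc
    have h1 : a2 * z = z * a2 := hAz a2 hc
    have h2 : c * z * c⁻¹ = a2 * z := by rw [ha2]; group
    have h3 : (a2 * z) * (a2 * z) = 1 := by
      rw [← h2]
      calc c * z * c⁻¹ * (c * z * c⁻¹) = c * (z * z) * c⁻¹ := by group
        _ = 1 := by rw [hzz]; group
    have h4 : a2 * a2 = 1 := by
      calc a2 * a2 = a2 * a2 * (z * z) := by rw [hzz, mul_one]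
        _ = a2 * (a2 * z) * z := by group
        _ = a2 * (z * a2) * z := by rw [h1]
        _ = (a2 * z) * (a2 * z) := by group
        _ = 1 := h3
    have h5 := eq_one_of_sq_of_odd hAodd hc h4
    calc c * z = (c * z * c⁻¹ * z⁻¹) * (z * c) := by group
      _ = z * c := by rw [← ha2, h5, one_mul]
  refine ⟨?_, ?_, hgoal3⟩
  · have e : ((Q ⊓ Subgroup.centralizer (A : Set G)) ⊔ A : Subgroup G) =
        A ⊔ (Q ⊓ Subgroup.centralizer (A : Set G)) := sup_comm _ _
    rw [e]
    apply le_antisymm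
    · apply sup_le _ le_sup_left
      intro x hx
      rcases h1' x (Subgroup.mem_inf.mp hx).2 with h | h
      · exact Subgroup.mem_sup_left h
      · have : x = z * (z * x) := by rw [← mul_assoc, hzz, one_mul]
        rw [this]
        exact Subgroup.mul_mem _ (Subgroup.mem_sup_right hzZ) (Subgroup.mem_sup_left h)
    · apply sup_le le_sup_right
      intro x hx
      rcases (hZmem x).mp hx with h | h
      · rw [h]; exact Subgroup.one_mem _
      · rw [h]
        exact Subgroup.mem_sup_left (Subgroup.mem_inf.mpr ⟨hzM, hzX⟩)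
  · obtain ⟨x, hxm, hxa⟩ := hgoal3
    have hxM : x ∈ Subgroup.centralizer (A : Set G) ⊔ A := by
      have hle : (Q ⊓ Subgroup.centralizer (A : Set G)) ⊔
          (Q2 ⊓ Subgroup.centralizer (A : Set G)) ≤ Subgroup.centralizer (A : Set G) :=
        sup_le inf_le_right inf_le_right
      exact Subgroup.mem_sup_left (hle hxm)
    have hred : ∀ (c a' : G), a' ∈ A → ∀ p ∈ Q ⊓ Subgroup.centralizer (A : Set G),
        (c * a') * p * (c * a')⁻¹ = c * p * c⁻¹ := by
      intro c a' ha' p hp
      have h1 : a' * p = p * a' := ((hmemR p).mp hp).2 a' ha'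
      calc (c * a') * p * (c * a')⁻¹ = c * (a' * p) * a'⁻¹ * c⁻¹ := by group
        _ = c * (p * a') * a'⁻¹ * c⁻¹ := by rw [h1]
        _ = c * p * c⁻¹ := by group
    apply isLargeExtraspecial_quotient (Subgroup.centralizer (A : Set G) ⊔ A) A
      (Q ⊓ Subgroup.centralizer (A : Set G)) (le_trans inf_le_right le_sup_left) z hzR hzA hzz
      ?_ ?_ ?_ ?_ ?_ ?_ x⁻¹ (Subgroup.inv_mem _ hxM) ?_ ?_
    · intro p hp
      exact hcore.z_comm p ((hmemR p).mp hp).1
    · intro p hp r hr
      exact hcore.comm_mem p ((hmemR p).mp hp).1 r ((hmemR r).mp hr).1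
    · intro x' hxM' hx'
      obtain ⟨c, hc, a', ha', rfl⟩ := mem_centralizer_sup_self hxM'
      have hcA : ∀ α ∈ A, α * c = c * α := Subgroup.mem_centralizer_iff.mp hc
      have hcz : c * z = z * c := by
        apply hkey
        rw [← hred c a' ha' z hzR]; exact hx' z hzR
      have hcR : ∀ r ∈ Q ⊓ Subgroup.centralizer (A : Set G), r * c = c * r := by
        intro r hr
        have hrQ : r ∈ Q := ((hmemR r).mp hr).1
        have h1 : c * r * c⁻¹ * r⁻¹ ∈ A := by rw [← hred c a' ha' r hr]; exact hx' r hr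
        have h2 : c * r * c⁻¹ * r⁻¹ ∈ Q := Q.mul_mem (hcore.norm c hcz r hrQ) (Q.inv_mem hrQ)
        have h3 := eq_one_of_odd_of_two hAodd hcore.two h1 h2
        calc r * c = (c * r * c⁻¹ * r⁻¹)⁻¹ * (c * r) := by group
          _ = c * r := by rw [h3]; group
      have hcX := (hX c).mpr ⟨hcA, hcR⟩
      rcases h1' c hcX with h | h
      · left; exact A.mul_mem h ha'
      · right; rw [hzinv, ← mul_assoc]; exact A.mul_mem h ha'
    · intro x' hxM' hx' p hp
      obtain ⟨c, hc, a', ha', rfl⟩ := mem_centralizer_sup_self hxM'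
      have hcz : c * z = z * c := by
        apply hkey
        rw [← hred c a' ha' z hzR]; exact hx'
      rw [hred c a' ha' p hp]
      refine Subgroup.mem_inf.mpr ⟨hcore.norm c hcz p ((hmemR p).mp hp).1, ?_⟩
      exact Subgroup.mul_mem _ (Subgroup.mul_mem _ hc (Subgroup.mem_inf.mp hp).2)
        (Subgroup.inv_mem _ hc)
    · exact hcore.two.to_le inf_le_left
    · intro p hp
      exact hsq p ((hmemR p).mp hp).1
    · have : x⁻¹ * z * x⁻¹⁻¹ = a := by
        rw [← hxa]; group
      rw [this]; exact hgR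
    · have : x⁻¹ * z * x⁻¹⁻¹ = a := by
        rw [← hxa]; group
      rw [this, hzinv]
      intro h1
      apply haz
      have h2 : (z * a) * (z * a) = 1 := by
        calc (z * a) * (z * a) = z * (a * z) * a := by group
          _ = z * (z * a) * a := by rw [hza]
          _ = (z * z) * (a * a) := by group
          _ = 1 := by rw [hzz, haa, one_mul]
      have h3 := eq_one_of_sq_of_odd hAodd h1 h2
      calc a = z * (z * a) := by rw [← mul_assoc, hzz, one_mul]
        _ = z := by rw [h3, mul_one]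

end Cfsg.Agent.S5428
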