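import Mathlib
import Cfsg.Statements.S5429
import Cfsg.Agent.Lib.Helper9.LargeExtra
import Cfsg.Agent.Lib.Helper9.LargeExtra2
import Cfsg.Agent.Lib.Helper9.LargeExtra4
import Cfsg.Agent.Lib.Helper9.LargeExtra5
import Cfsg.Agent.Lib.Helper9.LargeExtra6
import Cfsg.Agent.Lib.Helper9.LargeExtra7
import Cfsg.Agent.Lib.Helper9.LargeExtra10
import Cfsg.Agent.Lib.Helper9.LargeExtra11

set_option autoImplicit false
open Cfsg

namespace Cfsg.Agent.S5429

open Cfsg.Agent.Lib.Helper9.LargeExtra

/-- Let z be an involution of the finite group G with centralizer C whose generalized Fitting subgroup Q is extraspecial of width at least 3 (order 2^(2w+1), w ≥ 3); let g be an element of G with g z g⁻¹ in Q but outside the centre Z of Q, and t an involution lying in both Q and g Q g⁻¹ that is not conjugate to z; write P for the centralizer of t in Q and suppose that the elements of C acting trivially by conjugation on P modulo the subgroup generated by t and z are exactly the elements of Q. Then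 the image of P in the centralizer of t modulo the subgroup generated by t is a large extraspecial 2-subgroup there, and g z g⁻¹ is conjugate to z inside the subgroup generated by P and the centralizer of t in g Q g⁻¹. -/
theorem result {G : Type*} [Group G] [Finite G] (z : G) (hz : orderOf z = 2) (Q : Subgroup G) (hQC : Q ≤ Subgroup.centralizer ({z} : Set G)) (hF : (Cfsg.generalizedFittingSubgroup ↥(Subgroup.centralizer ({z} : Set G))).map (Subgroup.centralizer ({z} : Set G)).subtype = Q) (hQ : Cfsg.IsExtraspecial 2 ↥Q) (w : ℕ) (hw : 3 ≤ w) (hcard : Nat.card ↥Q = 2 ^ (2 * w + 1)) (g : G) (hgQ : g * z * g⁻¹ ∈ Q) (hgZ : g * z * g⁻¹ ∉ ((Subgroup.center ↥Q).map Q.subtype)) (t : G) (ht : orderOf t = 2) (htQ : t ∈ Q ⊓ (Q).map (MulAut.conj g).toMonoidHom) (htz : ¬ IsConj z t) (P : Subgroup G) (hP : P = Q ⊓ Subgroup.centralizer ({t} : Set G)) (hCP : ∀ c ∈ Subgroup.centralizer ({z} : Set G), (∀ x ∈ P, ∃ y ∈ Subgroup.closure ({t, z} : Set G), c * x * c⁻¹ = x * y) ↔ c ∈ Q) [hn : ((Subgroup.zpowers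 t).subgroupOf (Subgroup.centralizer ({t} : Set G))).Normal] : Cfsg.IsLargeExtraspecial ((P.subgroupOf (Subgroup.centralizer ({t} : Set G))).map (QuotientGroup.mk' ((Subgroup.zpowers t).subgroupOf (Subgroup.centralizer ({t} : Set G))))) ∧ ∃ x ∈ P ⊔ ((Q).map (MulAut.conj g).toMonoidHom ⊓ Subgroup.centralizer ({t} : Set G)), x * (g * z * g⁻¹) * x⁻¹ = z := by
  classical
  haveI : Fact (Nat.Prime 2) := ⟨Nat.prime_two⟩
  have hz1 : z ≠ 1 := by
    intro h; rw [h, orderOf_one] at hz; omega
  have hzz : z * z = 1 := by rw [← pow_two, ← hz, pow_orderOf_eq_one]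
  obtain ⟨hzQ, hZmem, hL2, hL3⟩ := hyps_of_fstar z Q hF hQ hz1
  obtain ⟨z', hcore, hZmem'⟩ := core_of_hyps Q hQ hL2 hL3
  have hzz' : z' = z := by
    rcases (hZmem z').mp ((hZmem' z').mpr (Or.inr rfl)) with h | h
    · exact absurd h hcore.z_ne
    · exact h
  rw [hzz'] at hcore
  clear hZmem' hzz'
  have hsq := sq_cases Q hQ hZmem
  obtain ⟨a, ha⟩ : ∃ a, a = g * z * g⁻¹ := ⟨_, rfl⟩
  obtain ⟨Q2, hQ2⟩ : ∃ Q2 : Subgroup G, Q2 = Q.map (MulAut.conj g).toMonoidHom := ⟨_, rfl⟩
  have hcore2 : Core Q2 a := by rw [hQ2, ha]; exact hcore.conj g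
  have haz : a ≠ z := by
    intro h; apply hgZ; rw [← ha, h]; exact (hZmem z).mpr (Or.inr rfl)
  have ha1 : a ≠ 1 := hcore2.z_ne
  have haa : a * a = 1 := hcore2.z_sq
  have hzQ2 : z ∈ Q2 := by
    rw [hQ2]; exact hcore.z_mem_conj g hgQ (by rw [← ha]; exact haz)
  rw [← ha] at hgQ hgZ ⊢
  rw [← hQ2] at htQ ⊢
  have htQ1 : t ∈ Q := htQ.1
  have htQ2 : t ∈ Q2 := htQ.2
  have ht1 : t ≠ 1 := by
    intro h; rw [h, orderOf_one] at ht; omega
  have htt : t * t = 1 := by rw [← pow_two, ← ht, pow_orderOf_eq_one]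
  have htne : t ≠ z := by
    intro h; apply htz; rw [h]
  have hconj : ∀ c x : G, c * z * c⁻¹ = x → IsConj z x := by
    intro c x h; rw [isConj_iff]; exact ⟨c, h⟩
  have hzt : z * t = t * z := (hcore.z_comm t htQ1).symm
  obtain ⟨qt, hqt, hqtt⟩ := hcore.exists_swap htQ1 ht1 htne
  have hztn : ∀ c : G, c * z * c⁻¹ ≠ z * t := by
    intro c hc
    apply htz
    apply hconj (qt⁻¹ * c)
    calc qt⁻¹ * c * z * (qt⁻¹ * c)⁻¹ = qt⁻¹ * (c * z * c⁻¹) * qt := by group
      _ = qt⁻¹ * (z * t) * qt := by rw [hc]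
      _ = t := hcore.swap_inv_za hqt hqtt
  have htn : ∀ c : G, c * z * c⁻¹ ≠ t := fun c hc => htz (hconj c t hc)
  have hat : a ≠ t := by rw [ha]; exact htn g
  have hazt : a ≠ z * t := by rw [ha]; exact hztn g
  have hta : t * a = a * t := hcore2.z_comm t htQ2
  have hza : z * a = a * z := (hcore.z_comm a hgQ).symm
  subst hP
  have haP : a ∈ Q ⊓ Subgroup.centralizer ({t} : Set G) := mem_cs.mpr ⟨hgQ, hta.symm⟩
  have hzP : z ∈ Q ⊓ Subgroup.centralizer ({t} : Set G) := mem_cs.mpr ⟨hzQ, hzt⟩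
  obtain ⟨q0, hq0P, hq0a⟩ :
      ∃ q0 ∈ Q ⊓ Subgroup.centralizer ({t} : Set G), q0 * a * q0⁻¹ = z * a := by
    by_contra hcon
    push Not at hcon
    have hc : ∀ r ∈ Q, r * t = t * r → a * r = r * a := by
      intro r hr hrt
      rcases hcore.conj_cases hgQ hr with h1 | h1
      · calc a * r = (r * a * r⁻¹) * r := by rw [h1]
          _ = r * a := by group
      · exact absurd h1 (hcon r (mem_cs.mpr ⟨hr, hrt⟩))
    rcases hcore.centralizer_R htQ1 ht1 htne htt hc with h1 | h1 | h1 | h1
    · exact ha1 h1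
    · exact haz h1
    · exact hat h1
    · exact hazt h1
  have hta_ne : t ≠ a := fun h => hat h.symm
  obtain ⟨y, hyP, hyz⟩ :
      ∃ y ∈ Q2 ⊓ Subgroup.centralizer ({t} : Set G), y * z * y⁻¹ = a * z := by
    by_contra hcon
    push Not at hcon
    have hc : ∀ r ∈ Q2, r * t = t * r → z * r = r * z := by
      intro r hr hrt
      rcases hcore2.conj_cases hzQ2 hr with h1 | h1
      · calc z * r = (r * z * r⁻¹) * r := by rw [h1]
          _ = r * z := by group
      · exact absurd h1 (hcon r (mem_cs.mpr ⟨hr, hrt⟩))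
    rcases hcore2.centralizer_R htQ2 ht1 hta_ne htt hc with h1 | h1 | h1 | h1
    · exact hz1 h1
    · exact haz h1.symm
    · exact htne h1.symm
    · apply htn (q0 * g)
      calc q0 * g * z * (q0 * g)⁻¹ = q0 * (g * z * g⁻¹) * q0⁻¹ := by group
        _ = q0 * a * q0⁻¹ := by rw [← ha]
        _ = z * a := hq0a
        _ = a * z := hza
        _ = a * (a * t) := by rw [← h1]
        _ = (a * a) * t := by group
        _ = t := by rw [haa, one_mul]
  have hgoal2 : ∃ x ∈ (Q ⊓ Subgroup.centralizer ({t} : Set G)) ⊔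
      (Q2 ⊓ Subgroup.centralizer ({t} : Set G)), x * a * x⁻¹ = z := by
    refine ⟨y * q0, Subgroup.mul_mem _ (Subgroup.mem_sup_right hyP)
      (Subgroup.mem_sup_left hq0P), ?_⟩
    have hya : y * a * y⁻¹ = a := by
      have := hcore2.z_comm y (mem_cs.mp hyP).1
      calc y * a * y⁻¹ = (a * y) * y⁻¹ := by rw [this]
        _ = a := by group
    calc y * q0 * a * (y * q0)⁻¹ = y * (q0 * a * q0⁻¹) * y⁻¹ := by group
      _ = y * (z * a) * y⁻¹ := by rw [hq0a]
      _ = (y * z * y⁻¹) * (y * a * y⁻¹) := by group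
      _ = (a * z) * a := by rw [hyz, hya]
      _ = (z * a) * a := by rw [hza]
      _ = z * (a * a) := by group
      _ = z := by rw [haa, mul_one]
  refine ⟨?_, hgoal2⟩
  obtain ⟨x, hxm, hxa⟩ := hgoal2
  have hxCt : x ∈ Subgroup.centralizer ({t} : Set G) := by
    have hle : (Q ⊓ Subgroup.centralizer ({t} : Set G)) ⊔
        (Q2 ⊓ Subgroup.centralizer ({t} : Set G)) ≤ Subgroup.centralizer ({t} : Set G) :=
      sup_le inf_le_right inf_le_right
    exact hle hxm
  have hcs : ∀ (x : G), x ∈ Subgroup.centralizer ({t} : Set G) ↔ x * t = t * x := by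
    intro x
    rw [Subgroup.mem_centralizer_iff]
    constructor
    · intro h1; exact (h1 t rfl).symm
    · intro h1 y hy
      rw [Set.mem_singleton_iff] at hy
      rw [hy]; exact h1.symm
  -- an element of C(t) centralizing z modulo <t> centralizes z
  have hkey : ∀ c : G, c * z * c⁻¹ * z⁻¹ ∈ Subgroup.zpowers t → c * z = z * c := by
    intro c hc
    rcases (mem_zpowers_invol htt).mp hc with h1 | h1
    · calc c * z = (c * z * c⁻¹ * z⁻¹) * (z * c) := by group
        _ = z * c := by rw [h1, one_mul]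
    · exfalso
      apply hztn c
      calc c * z * c⁻¹ = (c * z * c⁻¹ * z⁻¹) * z := by group
        _ = t * z := by rw [h1]
        _ = z * t := hzt.symm
  have hzinv : z⁻¹ = z := inv_eq_of_mul_eq_one_right hzz
  apply isLargeExtraspecial_quotient (Subgroup.centralizer ({t} : Set G)) (Subgroup.zpowers t)
    (Q ⊓ Subgroup.centralizer ({t} : Set G)) inf_le_right z hzP ?_ hzz ?_ ?_ ?_ ?_ ?_ ?_
    x⁻¹ (Subgroup.inv_mem _ hxCt) ?_ ?_
  · intro h1
    rcases (mem_zpowers_invol htt).mp h1 with h2 | h2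
    · exact hz1 h2
    · exact htne h2.symm
  · intro p hp
    exact hcore.z_comm p (mem_cs.mp hp).1
  · intro p hp r hr
    exact hcore.comm_mem p (mem_cs.mp hp).1 r (mem_cs.mp hr).1
  · intro c hcCt hc
    have hct : c * t = t * c := (hcs c).mp hcCt
    have hcz : c * z = z * c := hkey c (hc z hzP)
    have hcC : c ∈ Subgroup.centralizer ({z} : Set G) := by
      rw [Subgroup.mem_centralizer_iff]
      intro y hy
      rw [Set.mem_singleton_iff] at hy
      rw [hy]; exact hcz.symm
    have hcQ : c ∈ Q := by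
      rw [← hCP c hcC]
      intro p hp
      have hpt : p * t = t * p := (mem_cs.mp hp).2
      rcases (mem_zpowers_invol htt).mp (hc p hp) with h1 | h1
      · refine ⟨1, Subgroup.one_mem _, ?_⟩
        calc c * p * c⁻¹ = (c * p * c⁻¹ * p⁻¹) * p := by group
          _ = p * 1 := by rw [h1, one_mul, mul_one]
      · refine ⟨t, Subgroup.subset_closure (by simp), ?_⟩
        calc c * p * c⁻¹ = (c * p * c⁻¹ * p⁻¹) * p := by group
          _ = t * p := by rw [h1]
          _ = p * t := hpt.symm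
    -- now c centralizes P
    have hcP : ∀ r ∈ Q, r * t = t * r → c * r = r * c := by
      intro r hr hrt
      have hrP : r ∈ Q ⊓ Subgroup.centralizer ({t} : Set G) := mem_cs.mpr ⟨hr, hrt⟩
      rcases hcore.comm_mem c hcQ r hr with h1 | h1
      · calc c * r = (c * r * c⁻¹ * r⁻¹) * (r * c) := by group
          _ = r * c := by rw [h1, one_mul]
      · exfalso
        have h2 := hc r hrP
        rw [h1] at h2
        rcases (mem_zpowers_invol htt).mp h2 with h3 | h3
        · exact hz1 h3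
        · exact htne h3.symm
    rcases hcore.centralizer_R htQ1 ht1 htne htt hcP with h1 | h1 | h1 | h1
    · left; rw [h1]; exact Subgroup.one_mem _
    · right; rw [h1, hzinv, hzz]; exact Subgroup.one_mem _
    · left; rw [h1]; exact Subgroup.mem_zpowers t
    · right
      rw [h1, hzinv, ← mul_assoc, hzz, one_mul]
      exact Subgroup.mem_zpowers t
  · intro c hcCt hc p hp
    have hct : c * t = t * c := (hcs c).mp hcCt
    have hcz : c * z = z * c := hkey c hc
    have hpt : p * t = t * p := (mem_cs.mp hp).2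
    rw [mem_cs]
    refine ⟨hcore.norm c hcz p (mem_cs.mp hp).1, ?_⟩
    have hct' : c⁻¹ * t * c = t := by
      calc c⁻¹ * t * c = c⁻¹ * (t * c) := by group
        _ = c⁻¹ * (c * t) := by rw [hct]
        _ = t := by group
    calc c * p * c⁻¹ * t = c * (p * (c⁻¹ * t * c)) * c⁻¹ := by group
      _ = c * (p * t) * c⁻¹ := by rw [hct']
      _ = c * (t * p) * c⁻¹ := by rw [hpt]
      _ = (c * t) * p * c⁻¹ := by group
      _ = (t * c) * p * c⁻¹ := by rw [hct]
      _ = t * (c * p * c⁻¹) := by group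
  · exact hcore.two.to_le inf_le_left
  · intro p hp
    exact hsq p (mem_cs.mp hp).1
  · have : x⁻¹ * z * x⁻¹⁻¹ = a := by
      rw [← hxa]; group
    rw [this]; exact haP
  · have : x⁻¹ * z * x⁻¹⁻¹ = a := by
      rw [← hxa]; group
    rw [this, hzinv]
    intro h1
    rcases (mem_zpowers_invol htt).mp h1 with h2 | h2
    · apply haz
      calc a = z * (z * a) := by rw [← mul_assoc, hzz, one_mul]
        _ = z := by rw [h2, mul_one]
    · apply hazt
      calc a = z * (z * a) := by rw [← mul_assoc, hzz, one_mul]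
        _ = z * t := by rw [h2]

end Cfsg.Agent.S5429
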