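import Mathlib
import Cfsg.Statements.S5430
import Cfsg.Agent.Lib.Helper9.PCore
import Cfsg.Agent.Lib.Helper9.LargeExtra
import Cfsg.Agent.Lib.Helper9.LargeExtra2
import Cfsg.Agent.Lib.Helper9.LargeExtra3
import Cfsg.Agent.Lib.Helper9.LargeExtra6
import Cfsg.Agent.Lib.Helper9.LargeExtra7
import Cfsg.Agent.Lib.Helper9.LargeExtra8
import Cfsg.Agent.Lib.Helper9.LargeExtra9

set_option autoImplicit false
open Cfsg

namespace Cfsg.Agent.S5430

open Cfsg.Agent.Lib.Helper9.LargeExtra

/-- Let Q be a large extraspecial 2-subgroup of the finite group G (extraspecial; centralizer equal to its centre; normal in the centralizer of its centre; normalizing no non-trivial subgroup of odd order) with centre generated by z, an involution, of width w ≥ 2 (order 2^(2w+1)); let g be an element outside the centralizer H of z with g z g⁻¹ in Q; write V for the subgroup generated by z and g z g⁻¹, X for the subgroup generated by Q and g Q g⁻¹, R for the subgroup generated by the centralizer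 of z in g Q g⁻¹ and the centralizer of g z g⁻¹ in Q, and E for the intersection of Q and g Q g⁻¹. Then R is the centralizer of V in X and is the largest normal 2-subgroup of X, and X/R is isomorphic to the symmetric group of degree 3; moreover the normalizer of V is the product of X and the centralizer of V in H, X is normal in it, and modulo R it is the direct product of X/R and of the centralizer of V in H modulo R. -/
theorem result {G : Type*} [Group G] [Finite G] (Q : Subgroup G) (hQ : Cfsg.IsLargeExtraspecial Q) (z : G) (hz : ((Subgroup.center ↥Q).map Q.subtype) = Subgroup.zpowers z) (hz2 : orderOf z = 2) (w : ℕ) (hw : 2 ≤ w) (hcard : Nat.card ↥Q = 2 ^ (2 * w + 1)) (g : G) (hgH : g ∉ Subgroup.centralizer ({z} : Set G)) (hgQ : g * z * g⁻¹ ∈ Q) (V X R E : Subgroup G) (hV : V = Subgroup.closure ({z, g * z * g⁻¹} : Set G)) (hX : X = Q ⊔ (Q).map (MulAut.conj g).toMonoidHom) (hR : R = ((Q).map (MulAut.conj g).toMonoidHom ⊓ Subgroup.centralizer ({z} : Set G))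 ⊔ (Q ⊓ Subgroup.centralizer ({g * z * g⁻¹} : Set G))) (hE : E = Q ⊓ (Q).map (MulAut.conj g).toMonoidHom) : R = X ⊓ Subgroup.centralizer (V : Set G) ∧ R = (Cfsg.pCore 2 ↥X).map X.subtype ∧ (∃ h : (R.subgroupOf X).Normal, Nonempty (↥X ⧸ R.subgroupOf X ≃* Equiv.Perm (Fin 3))) ∧ Subgroup.normalizer (V : Set G) = X ⊔ (Subgroup.centralizer ({z} : Set G) ⊓ Subgroup.centralizer (V : Set G)) ∧ (∀ y ∈ Subgroup.normalizer (V : Set G), ∀ x ∈ X, y * x * y⁻¹ ∈ X) ∧ R ≤ Subgroup.centralizer ({z} : Set G) ⊓ Subgroup.centralizer (V : Set G) ∧ (∀ x ∈ X, ∀ c ∈ Subgroup.centralizer ({z} : Set G) ⊓ Subgroup.centralizer (V : Set G), x * c * x⁻¹ * c⁻¹ ∈ R) ∧ X ⊓ (Subgroup.centralizer ({z} : Set G) ⊓ Subgroup.centralizer (V : Set G)) = R := by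
  classical
  haveI : Fact (Nat.Prime 2) := ⟨Nat.prime_two⟩
  obtain ⟨hL1, hL2, hL3, _⟩ := hQ
  obtain ⟨z', hcore, hZmem⟩ := core_of_hyps Q hL1 hL2 hL3
  have hz1 : z ≠ 1 := by
    intro h; rw [h, orderOf_one] at hz2; omega
  have hzz' : z' = z := by
    have h1 : z ∈ (Subgroup.center ↥Q).map Q.subtype := by rw [hz]; exact Subgroup.mem_zpowers z
    rcases (hZmem z).mp h1 with h | h
    · exact absurd h hz1
    · exact h.symm
  rw [hzz'] at hcore hZmem
  obtain ⟨a, ha⟩ : ∃ a, a = g * z * g⁻¹ := ⟨_, rfl⟩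
  obtain ⟨Q2, hQ2⟩ : ∃ Q2 : Subgroup G, Q2 = Q.map (MulAut.conj g).toMonoidHom := ⟨_, rfl⟩
  rw [← ha] at hgQ hV hR
  rw [← hQ2] at hX hR hE
  have haz : a ≠ z := by
    intro h
    apply hgH
    rw [Subgroup.mem_centralizer_iff]
    intro y hy
    rw [Set.mem_singleton_iff] at hy
    rw [hy]
    calc z * g = (g * z * g⁻¹) * g := by rw [← ha, h]
      _ = g * z := by group
  have p : Pair Q Q2 z a := by
    rw [ha, hQ2]
    exact pair_of_core hcore g (by rw [← ha]; exact hgQ) (by rw [← ha]; exact haz)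
  have hcore2 := p.c2
  have hRR : R = RR Q Q2 z a := hR
  obtain ⟨q1, hq1, hq1a⟩ := hcore.exists_swap p.aQ p.a_ne_one p.ne
  obtain ⟨q2, hq2, hq2z⟩ := hcore2.exists_swap p.zQ2 hcore.z_ne p.ne.symm
  have hza : z * a = a * z := p.za_comm
  have haa : a * a = 1 := p.aa
  have hzz : z * z = 1 := p.zz
  have ha1 : a ≠ 1 := p.a_ne_one
  have hza_ne : z ≠ a := fun h => haz h.symm
  have hz_za : z ≠ z * a := by
    intro h; apply ha1
    have : z * 1 = z * a := by rw [mul_one]; exact h
    exact (mul_left_cancel this).symm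
  have ha_za : a ≠ z * a := by
    intro h; apply hz1
    have : 1 * a = z * a := by rw [one_mul]; exact h
    exact (mul_right_cancel this).symm
  have hza1 : z * a ≠ 1 := by
    intro h; apply hza_ne
    calc z = z * (a * a) := by rw [haa, mul_one]
      _ = (z * a) * a := by group
      _ = a := by rw [h, one_mul]
  have hcs : ∀ (c x : G), x ∈ Subgroup.centralizer ({c} : Set G) ↔ x * c = c * x := by
    intro c x
    rw [Subgroup.mem_centralizer_iff]
    constructor
    · intro h1; exact (h1 c rfl).symm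
    · intro h1 y hy
      rw [Set.mem_singleton_iff] at hy
      rw [hy]; exact h1.symm
  have hVmem : ∀ x, x ∈ V ↔ x = 1 ∨ x = z ∨ x = a ∨ x = z * a := by
    intro x
    rw [hV]
    exact mem_closure_pair_invol hzz haa hza.symm x
  have hzV : z ∈ V := (hVmem z).mpr (Or.inr (Or.inl rfl))
  have haV : a ∈ V := (hVmem a).mpr (Or.inr (Or.inr (Or.inl rfl)))
  have hzaV : z * a ∈ V := (hVmem _).mpr (Or.inr (Or.inr (Or.inr rfl)))
  have hCV : ∀ x, x ∈ Subgroup.centralizer (V : Set G) ↔ x * z = z * x ∧ x * a = a * x := by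
    intro x
    rw [Subgroup.mem_centralizer_iff]
    constructor
    · intro h1
      exact ⟨(h1 z hzV).symm, (h1 a haV).symm⟩
    · rintro ⟨h1, h2⟩ v hv
      rcases (hVmem v).mp hv with h | h | h | h
      · rw [h]; simp
      · rw [h]; exact h1.symm
      · rw [h]; exact h2.symm
      · rw [h, mul_assoc, ← h2, ← mul_assoc, ← h1, mul_assoc]
  have hRza : ∀ x ∈ R, x * z = z * x ∧ x * a = a * x := by
    have hle : R ≤ Subgroup.centralizer ({z} : Set G) ⊓ Subgroup.centralizer ({a} : Set G) := by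
      rw [hR]
      apply sup_le
      · intro x hx
        have h1 := mem_cs.mp hx
        rw [Subgroup.mem_inf, hcs, hcs]
        exact ⟨h1.2, hcore2.z_comm x h1.1⟩
      · intro x hx
        have h1 := mem_cs.mp hx
        rw [Subgroup.mem_inf, hcs, hcs]
        exact ⟨hcore.z_comm x h1.1, h1.2⟩
    intro x hx
    have := hle hx
    rw [Subgroup.mem_inf, hcs, hcs] at this
    exact this
  have hRX : R ≤ X := by rw [hRR, hX]; exact p.R_le_X
  have hnormRX : ∀ x ∈ X, ∀ r ∈ R, x * r * x⁻¹ ∈ R := by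
    rw [hRR, hX]; exact p.normR_X
  -- conjugation table
  have c1z : q1 * z * q1⁻¹ = z := hcore.conj_z hq1
  have c1a : q1 * a * q1⁻¹ = z * a := hq1a
  have c1za : q1 * (z * a) * q1⁻¹ = a := hcore.swap_za hq1 hq1a
  have c2a : q2 * a * q2⁻¹ = a := hcore2.conj_z hq2
  have c2z : q2 * z * q2⁻¹ = z * a := by rw [hq2z, hza]
  have c2za : q2 * (z * a) * q2⁻¹ = z := by
    calc q2 * (z * a) * q2⁻¹ = (q2 * z * q2⁻¹) * (q2 * a * q2⁻¹) := by group
      _ = (z * a) * a := by rw [c2z, c2a]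
      _ = z := by rw [mul_assoc, haa, mul_one]
  have c12z : (q1 * q2) * z * (q1 * q2)⁻¹ = a := by
    calc (q1 * q2) * z * (q1 * q2)⁻¹ = q1 * (q2 * z * q2⁻¹) * q1⁻¹ := by group
      _ = a := by rw [c2z, c1za]
  have c12a : (q1 * q2) * a * (q1 * q2)⁻¹ = z * a := by
    calc (q1 * q2) * a * (q1 * q2)⁻¹ = q1 * (q2 * a * q2⁻¹) * q1⁻¹ := by group
      _ = z * a := by rw [c2a, c1a]
  have c21z : (q2 * q1) * z * (q2 * q1)⁻¹ = z * a := by
    calc (q2 * q1) * z * (q2 * q1)⁻¹ = q2 * (q1 * z * q1⁻¹) * q2⁻¹ := by group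
      _ = z * a := by rw [c1z, c2z]
  have c21a : (q2 * q1) * a * (q2 * q1)⁻¹ = z := by
    calc (q2 * q1) * a * (q2 * q1)⁻¹ = q2 * (q1 * a * q1⁻¹) * q2⁻¹ := by group
      _ = z := by rw [c1a, c2za]
  have c121z : (q1 * q2 * q1) * z * (q1 * q2 * q1)⁻¹ = a := by
    calc (q1 * q2 * q1) * z * (q1 * q2 * q1)⁻¹ = q1 * (q2 * (q1 * z * q1⁻¹) * q2⁻¹) * q1⁻¹ := by group
      _ = a := by rw [c1z, c2z, c1za]
  have c121a : (q1 * q2 * q1) * a * (q1 * q2 * q1)⁻¹ = z := by
    calc (q1 * q2 * q1) * a * (q1 * q2 * q1)⁻¹ = q1 * (q2 * (q1 * a * q1⁻¹) * q2⁻¹) * q1⁻¹ := by group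
      _ = z := by rw [c1a, c2za, c1z]
  have hq1X : q1 ∈ X := by rw [hX]; exact Subgroup.mem_sup_left hq1
  have hq2X : q2 ∈ X := by rw [hX]; exact Subgroup.mem_sup_right hq2
  -- key: elements of X centralizing V lie in R
  have KX : ∀ x ∈ X, x * z = z * x → x * a = a * x → x ∈ R := by
    intro x hx hxz hxa
    rw [hX] at hx
    obtain ⟨r, hr, w', hw', rfl⟩ := p.enum hq1 hq1a hq2 hq2z x hx
    rw [← hRR] at hr
    obtain ⟨hrz, hra⟩ := hRza r hr
    have hwz : w' * z * w'⁻¹ = z := by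
      have h1 : (r * w') * z * (r * w')⁻¹ = z := by rw [hxz]; group
      calc w' * z * w'⁻¹ = r⁻¹ * ((r * w') * z * (r * w')⁻¹) * r := by group
        _ = r⁻¹ * z * r := by rw [h1]
        _ = r⁻¹ * (z * r) := by group
        _ = r⁻¹ * (r * z) := by rw [hrz]
        _ = z := by group
    have hwa : w' * a * w'⁻¹ = a := by
      have h1 : (r * w') * a * (r * w')⁻¹ = a := by rw [hxa]; group
      calc w' * a * w'⁻¹ = r⁻¹ * ((r * w') * a * (r * w')⁻¹) * r := by group
        _ = r⁻¹ * a * r := by rw [h1]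
        _ = r⁻¹ * (a * r) := by group
        _ = r⁻¹ * (r * a) := by rw [hra]
        _ = a := by group
    rcases hw' with h | h | h | h | h | h
    · rw [h, mul_one]; exact hr
    · exfalso; rw [h, c1a] at hwa; exact ha_za hwa.symm
    · exfalso; rw [h, c2z] at hwz; exact hz_za hwz.symm
    · exfalso; rw [h, c12z] at hwz; exact haz hwz
    · exfalso; rw [h, c21z] at hwz; exact hz_za hwz.symm
    · exfalso; rw [h, c121z] at hwz; exact haz hwz
  -- X normalizes V
  have hXV : ∀ x ∈ X, ∀ v ∈ V, x * v * x⁻¹ ∈ V := by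
    have hQV : ∀ x ∈ Q, ∀ v ∈ V, x * v * x⁻¹ ∈ V := by
      intro x hx v hv
      have hxz := hcore.conj_z hx
      have hxa : x * a * x⁻¹ ∈ V := by
        rcases hcore.conj_cases p.aQ hx with h1 | h1
        · rw [h1]; exact haV
        · rw [h1]; exact hzaV
      rcases (hVmem v).mp hv with h | h | h | h
      · rw [h]; simp [V.one_mem]
      · rw [h, hxz]; exact hzV
      · rw [h]; exact hxa
      · rw [h]
        have e1 : x * (z * a) * x⁻¹ = (x * z * x⁻¹) * (x * a * x⁻¹) := by group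
        rw [e1, hxz]
        exact V.mul_mem hzV hxa
    have hQ2V : ∀ x ∈ Q2, ∀ v ∈ V, x * v * x⁻¹ ∈ V := by
      intro x hx v hv
      have hxa := hcore2.conj_z hx
      have hxz : x * z * x⁻¹ ∈ V := by
        rcases hcore2.conj_cases p.zQ2 hx with h1 | h1
        · rw [h1]; exact hzV
        · rw [h1, ← hza]; exact hzaV
      rcases (hVmem v).mp hv with h | h | h | h
      · rw [h]; simp [V.one_mem]
      · rw [h]; exact hxz
      · rw [h, hxa]; exact haV
      · rw [h]
        have e1 : x * (z * a) * x⁻¹ = (x * z * x⁻¹) * (x * a * x⁻¹) := by group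
        rw [e1, hxa]
        exact V.mul_mem hxz haV
    rw [hX]; exact normalizes_of_gens hQV hQ2V
  have hXnorm : X ≤ Subgroup.normalizer (V : Set G) := by
    intro x hx
    apply Subgroup.mem_normalizer_fintype
    intro v hv
    exact hXV x hx v hv
  -- the three involutions
  obtain ⟨val, hval⟩ : ∃ val : Fin 3 → G, val = ![z, a, z * a] := ⟨_, rfl⟩
  have hv0 : val 0 = z := by rw [hval]; rfl
  have hv1 : val 1 = a := by rw [hval]; rfl
  have hv2 : val 2 = z * a := by rw [hval]; rfl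
  have hinj : Function.Injective val := by
    intro i j h
    fin_cases i <;> fin_cases j
    · rfl
    · exfalso; change val 0 = val 1 at h; rw [hv0, hv1] at h; exact hza_ne h
    · exfalso; change val 0 = val 2 at h; rw [hv0, hv2] at h; exact hz_za h
    · exfalso; change val 1 = val 0 at h; rw [hv0, hv1] at h; exact hza_ne h.symm
    · rfl
    · exfalso; change val 1 = val 2 at h; rw [hv1, hv2] at h; exact ha_za h
    · exfalso; change val 2 = val 0 at h; rw [hv0, hv2] at h; exact hz_za h.symm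
    · exfalso; change val 2 = val 1 at h; rw [hv1, hv2] at h; exact ha_za h.symm
    · rfl
  have hvalV : ∀ v ∈ V, v ≠ 1 → ∃ j, v = val j := by
    intro v hv hv1'
    rcases (hVmem v).mp hv with h | h | h | h
    · exact absurd h hv1'
    · exact ⟨0, by rw [hv0, h]⟩
    · exact ⟨1, by rw [hv1, h]⟩
    · exact ⟨2, by rw [hv2, h]⟩
  have hval_mem : ∀ i, val i ∈ V ∧ val i ≠ 1 := by
    intro i
    fin_cases i
    · change val 0 ∈ V ∧ val 0 ≠ 1; rw [hv0]; exact ⟨hzV, hz1⟩
    · change val 1 ∈ V ∧ val 1 ≠ 1; rw [hv1]; exact ⟨haV, ha1⟩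
    · change val 2 ∈ V ∧ val 2 ≠ 1; rw [hv2]; exact ⟨hzaV, hza1⟩
  have hconj_val : ∀ n ∈ Subgroup.normalizer (V : Set G), ∀ i, ∃ j, n * val i * n⁻¹ = val j := by
    intro n hn i
    obtain ⟨h1, h2⟩ := hval_mem i
    have h3 : n * val i * n⁻¹ ∈ V := ((Subgroup.mem_normalizer_iff.mp hn) _).mp h1
    have h4 : n * val i * n⁻¹ ≠ 1 := by
      intro h
      apply h2
      calc val i = n⁻¹ * (n * val i * n⁻¹) * n := by group
        _ = 1 := by rw [h]; group
    exact hvalV _ h3 h4
  have tableW : ∀ i j : Fin 3, i ≠ j → ∃ w' ∈ X, w' * z * w'⁻¹ = val i ∧ w' * a * w'⁻¹ = val j := by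
    intro i j hij
    fin_cases i <;> fin_cases j
    · exact absurd rfl hij
    · refine ⟨1, X.one_mem, ?_, ?_⟩
      · change 1 * z * 1⁻¹ = val 0; rw [hv0]; group
      · change 1 * a * 1⁻¹ = val 1; rw [hv1]; group
    · refine ⟨q1, hq1X, ?_, ?_⟩
      · change q1 * z * q1⁻¹ = val 0; rw [hv0]; exact c1z
      · change q1 * a * q1⁻¹ = val 2; rw [hv2]; exact c1a
    · refine ⟨q1 * q2 * q1, X.mul_mem (X.mul_mem hq1X hq2X) hq1X, ?_, ?_⟩
      · change _ = val 1; rw [hv1]; exact c121z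
      · change _ = val 0; rw [hv0]; exact c121a
    · exact absurd rfl hij
    · refine ⟨q1 * q2, X.mul_mem hq1X hq2X, ?_, ?_⟩
      · change _ = val 1; rw [hv1]; exact c12z
      · change _ = val 2; rw [hv2]; exact c12a
    · refine ⟨q2 * q1, X.mul_mem hq2X hq1X, ?_, ?_⟩
      · change _ = val 2; rw [hv2]; exact c21z
      · change _ = val 0; rw [hv0]; exact c21a
    · refine ⟨q2, hq2X, ?_, ?_⟩
      · change _ = val 2; rw [hv2]; exact c2z
      · change _ = val 1; rw [hv1]; exact c2a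
    · exact absurd rfl hij
  -- the permutation representation of X
  obtain ⟨ψ, hψ⟩ := exists_permHom X val hinj (fun n hn i => hconj_val n (hXnorm hn) i)
  have hker : ψ.ker = R.subgroupOf X := by
    ext x
    rw [MonoidHom.mem_ker, Subgroup.mem_subgroupOf]
    constructor
    · intro h1
      have h2 : ∀ i, (x : G) * val i * (x : G)⁻¹ = val i := by
        intro i
        rw [← hψ x i, h1]; rfl
      apply KX x x.2
      · have := h2 0
        rw [hv0] at this
        calc (x : G) * z = ((x : G) * z * (x : G)⁻¹) * x := by group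
          _ = z * x := by rw [this]
      · have := h2 1
        rw [hv1] at this
        calc (x : G) * a = ((x : G) * a * (x : G)⁻¹) * x := by group
          _ = a * x := by rw [this]
    · intro h1
      obtain ⟨hxz, hxa⟩ := hRza x h1
      apply perm3_ext
      · apply hinj
        rw [hψ x 0, hv0, hxz]
        simp only [Equiv.Perm.coe_one, id_eq]
        rw [hv0]; group
      · apply hinj
        rw [hψ x 1, hv1, hxa]
        simp only [Equiv.Perm.coe_one, id_eq]
        rw [hv1]; group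
  have hsurj : Function.Surjective ψ := by
    intro σ
    have hne : σ 0 ≠ σ 1 := by
      intro h
      have := σ.injective h
      exact absurd this (by decide)
    obtain ⟨w', hw'X, hw'z, hw'a⟩ := tableW (σ 0) (σ 1) hne
    refine ⟨⟨w', hw'X⟩, ?_⟩
    apply perm3_ext
    · apply hinj
      rw [hψ ⟨w', hw'X⟩ 0, hv0]
      exact hw'z
    · apply hinj
      rw [hψ ⟨w', hw'X⟩ 1, hv1]
      exact hw'a
  haveI hn : (R.subgroupOf X).Normal := by
    rw [← hker]; exact MonoidHom.normal_ker ψ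
  -- (vi)
  have h6 : R ≤ Subgroup.centralizer ({z} : Set G) ⊓ Subgroup.centralizer (V : Set G) := by
    intro x hx
    obtain ⟨h1, h2⟩ := hRza x hx
    rw [Subgroup.mem_inf, hcs, hCV]
    exact ⟨h1, h1, h2⟩
  -- (vii)
  have h7 : ∀ x ∈ X, ∀ c ∈ Subgroup.centralizer ({z} : Set G) ⊓ Subgroup.centralizer (V : Set G),
      x * c * x⁻¹ * c⁻¹ ∈ R := by
    intro x hx c hc
    rw [Subgroup.mem_inf, hcs, hCV] at hc
    obtain ⟨_, hcz, hca⟩ := hc
    have hx' := hx
    rw [hX, Subgroup.sup_eq_closure] at hx'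
    induction hx' using Subgroup.closure_induction with
    | mem x hx1 =>
      rcases hx1 with h1 | h1
      · have := p.cross' h1 hcz hca
        rw [hRR]
        exact p.R1_le (mem_cs.mpr this)
      · have := p.symm.cross' h1 hca hcz
        rw [hRR]
        exact p.R2_le (mem_cs.mpr this)
    | one => simp [R.one_mem]
    | mul x1 x2 hx1 hx2 ih1 ih2 =>
      have hx1X : x1 ∈ X := by rw [hX, Subgroup.sup_eq_closure]; exact hx1
      have hx2X : x2 ∈ X := by rw [hX, Subgroup.sup_eq_closure]; exact hx2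
      have e1 : x1 * x2 * c * (x1 * x2)⁻¹ * c⁻¹ =
          (x1 * (x2 * c * x2⁻¹ * c⁻¹) * x1⁻¹) * (x1 * c * x1⁻¹ * c⁻¹) := by group
      rw [e1]
      exact R.mul_mem (hnormRX x1 hx1X _ (ih2 hx2X)) (ih1 hx1X)
    | inv x1 hx1 ih1 =>
      have hx1X : x1 ∈ X := by rw [hX, Subgroup.sup_eq_closure]; exact hx1
      have e1 : x1⁻¹ * c * x1⁻¹⁻¹ * c⁻¹ = x1⁻¹ * (x1 * c * x1⁻¹ * c⁻¹)⁻¹ * x1⁻¹⁻¹ := by group
      rw [e1]
      exact hnormRX x1⁻¹ (X.inv_mem hx1X) _ (R.inv_mem (ih1 hx1X))
  -- (iv)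
  have h4 : Subgroup.normalizer (V : Set G) =
      X ⊔ (Subgroup.centralizer ({z} : Set G) ⊓ Subgroup.centralizer (V : Set G)) := by
    apply le_antisymm
    · intro n hn
      obtain ⟨i, hi⟩ := hconj_val n hn 0
      obtain ⟨j, hj⟩ := hconj_val n hn 1
      rw [hv0] at hi
      rw [hv1] at hj
      have hij : i ≠ j := by
        intro h
        apply hza_ne
        have h2 : n * z * n⁻¹ = n * a * n⁻¹ := by rw [hi, hj, h]
        calc z = n⁻¹ * (n * z * n⁻¹) * n := by group
          _ = n⁻¹ * (n * a * n⁻¹) * n := by rw [h2]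
          _ = a := by group
      obtain ⟨w', hw'X, hw'z, hw'a⟩ := tableW i j hij
      have hcz : (w'⁻¹ * n) * z = z * (w'⁻¹ * n) := by
        have h1 : (w'⁻¹ * n) * z * (w'⁻¹ * n)⁻¹ = z := by
          calc (w'⁻¹ * n) * z * (w'⁻¹ * n)⁻¹ = w'⁻¹ * (n * z * n⁻¹) * w' := by group
            _ = w'⁻¹ * (w' * z * w'⁻¹) * w' := by rw [hi, hw'z]
            _ = z := by group
        calc (w'⁻¹ * n) * z = ((w'⁻¹ * n) * z * (w'⁻¹ * n)⁻¹) * (w'⁻¹ * n) := by group
          _ = z * (w'⁻¹ * n) := by rw [h1]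
      have hca : (w'⁻¹ * n) * a = a * (w'⁻¹ * n) := by
        have h1 : (w'⁻¹ * n) * a * (w'⁻¹ * n)⁻¹ = a := by
          calc (w'⁻¹ * n) * a * (w'⁻¹ * n)⁻¹ = w'⁻¹ * (n * a * n⁻¹) * w' := by group
            _ = w'⁻¹ * (w' * a * w'⁻¹) * w' := by rw [hj, hw'a]
            _ = a := by group
        calc (w'⁻¹ * n) * a = ((w'⁻¹ * n) * a * (w'⁻¹ * n)⁻¹) * (w'⁻¹ * n) := by group
          _ = a * (w'⁻¹ * n) := by rw [h1]
      have hcmem : w'⁻¹ * n ∈ Subgroup.centralizer ({z} : Set G) ⊓ Subgroup.centralizer (V : Set G) := by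
        rw [Subgroup.mem_inf, hcs, hCV]
        exact ⟨hcz, hcz, hca⟩
      have e : n = w' * (w'⁻¹ * n) := by group
      rw [e]
      exact Subgroup.mul_mem_sup hw'X hcmem
    · exact sup_le hXnorm (inf_le_right.trans (Subgroup.centralizer_le_normalizer _))
  -- (viii)
  have h8 : X ⊓ (Subgroup.centralizer ({z} : Set G) ⊓ Subgroup.centralizer (V : Set G)) = R := by
    apply le_antisymm
    · intro x hx
      rw [Subgroup.mem_inf, Subgroup.mem_inf, hcs, hCV] at hx
      exact KX x hx.1 hx.2.2.1 hx.2.2.2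
    · exact le_inf hRX h6
  refine ⟨?_, ?_, ⟨hn, ?_⟩, h4, ?_, h6, h7, h8⟩
  · -- (i)
    apply le_antisymm
    · exact le_inf hRX (h6.trans inf_le_right)
    · intro x hx
      rw [Subgroup.mem_inf, hCV] at hx
      exact KX x hx.1 hx.2.1 hx.2.2
  · -- (ii)
    have hR1p : IsPGroup 2 (Q ⊓ Subgroup.centralizer ({a} : Set G) : Subgroup G) :=
      hcore.two.to_le inf_le_left
    have hR2p : IsPGroup 2 (Q2 ⊓ Subgroup.centralizer ({z} : Set G) : Subgroup G) :=
      hcore2.two.to_le inf_le_left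
    have hnorm21 : (Q2 ⊓ Subgroup.centralizer ({z} : Set G) : Subgroup G) ≤
        Subgroup.normalizer ((Q ⊓ Subgroup.centralizer ({a} : Set G) : Subgroup G) : Set G) := by
      intro r hr
      have hr' := mem_cs.mp hr
      apply Subgroup.mem_normalizer_fintype
      intro x hx
      have hx' := mem_cs.mp hx
      rw [SetLike.mem_coe, mem_cs]
      refine ⟨hcore.norm r hr'.2 x hx'.1, ?_⟩
      have hra : r * a = a * r := hcore2.z_comm r hr'.1
      have h1 : r⁻¹ * a * r = a := by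
        calc r⁻¹ * a * r = r⁻¹ * (a * r) := by group
          _ = r⁻¹ * (r * a) := by rw [hra]
          _ = a := by group
      calc (r * x * r⁻¹) * a = r * (x * (r⁻¹ * a * r)) * r⁻¹ := by group
        _ = r * (x * a) * r⁻¹ := by rw [h1]
        _ = r * (a * x) * r⁻¹ := by rw [hx'.2]
        _ = (r * a) * x * r⁻¹ := by group
        _ = (a * r) * x * r⁻¹ := by rw [hra]
        _ = a * (r * x * r⁻¹) := by group
    have hRp : IsPGroup 2 R := by
      rw [hR]
      exact IsPGroup.to_sup_of_normal_right' hR2p hR1p hnorm21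
    have hp2 : IsPGroup 2 (R.subgroupOf X) := by
      have := hRp.comap_subtype (K := X)
      rwa [Subgroup.comap_subtype] at this
    have hle : R.subgroupOf X ≤ Cfsg.pCore 2 ↥X := Cfsg.Agent.Lib.Helper9.le_pCore hn hp2
    apply le_antisymm
    · intro x hx
      exact ⟨⟨x, hRX hx⟩, hle (Subgroup.mem_subgroupOf.mpr hx), rfl⟩
    · rintro _ ⟨x, hx, rfl⟩
      haveI hPn : (Cfsg.pCore 2 ↥X).Normal := Cfsg.Agent.Lib.Helper9.pCore_normal' 2
      have hPp : IsPGroup 2 (Cfsg.pCore 2 ↥X) := Cfsg.Agent.Lib.Helper9.pCore_isPGroup' 2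
      haveI hmn : ((Cfsg.pCore 2 ↥X).map ψ).Normal := hPn.map ψ hsurj
      have hmp : IsPGroup 2 ((Cfsg.pCore 2 ↥X).map ψ) := hPp.map ψ
      have hbot := normal_two_subgroup_perm3 _ hmp
      have h1 : ψ x ∈ (Cfsg.pCore 2 ↥X).map ψ := ⟨x, hx, rfl⟩
      rw [hbot, Subgroup.mem_bot] at h1
      have h2 : x ∈ ψ.ker := MonoidHom.mem_ker.mpr h1
      rw [hker, Subgroup.mem_subgroupOf] at h2
      exact h2
  · -- (iii)
    haveI : ψ.ker.Normal := MonoidHom.normal_ker ψ
    exact ⟨(QuotientGroup.quotientMulEquivOfEq hker.symm).trans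
      (QuotientGroup.quotientKerEquivOfSurjective ψ hsurj)⟩
  · -- (v)
    rw [h4]
    apply normalizes_of_gens
    · intro y hy x hx
      exact X.mul_mem (X.mul_mem hy hx) (X.inv_mem hy)
    · intro c hc x hx
      have h1 := h7 x hx c hc
      have e : c * x * c⁻¹ = (x * c * x⁻¹ * c⁻¹)⁻¹ * x := by group
      rw [e]
      exact X.mul_mem (X.inv_mem (hRX h1)) hx

end Cfsg.Agent.S5430
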