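import Mathlib
import Cfsg.Statements.S5431
import Cfsg.Agent.Lib.Helper9.LargeExtra
import Cfsg.Agent.Lib.Helper9.LargeExtra2
import Cfsg.Agent.Lib.Helper9.LargeExtra3
import Cfsg.Agent.Lib.Helper9.LargeExtra5
import Cfsg.Agent.Lib.Helper9.LargeExtra6

set_option autoImplicit false
open Cfsg
open scoped commutatorElement

namespace Cfsg.Agent.S5431

open Cfsg.Agent.Lib.Helper9.LargeExtra

/-- Let Q be a large extraspecial 2-subgroup of the finite group G (extraspecial; centralizer equal to its centre; normal in the centralizer of its centre; normalizing no non-trivial subgroup of odd order) with centre generated by z, an involution, of width w ≥ 2 (order 2^(2w+1)); let g be an element outside the centralizer H of z with g z g⁻¹ in Q; write V for the subgroup generated by z and g z g⁻¹, X for the subgroup generated by Q and g Q g⁻¹, R for the subgroup generated by the centralizer of z in g Q g⁻¹ and the centralizer of g z g⁻¹ in Q, and E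 for the intersection of Q and g Q g⁻¹. Then V is the centre of R, E lies in the second centre of R, R is nilpotent of class at most 3, E and R/E are elementary abelian, R/E is the direct product of the images of the centralizer of g z g⁻¹ in Q and of the centralizer of z in g Q g⁻¹ (R is their product and they meet in E), and the commutator subgroup of X and E lies in V. -/
theorem result {G : Type*} [Group G] [Finite G] (Q : Subgroup G) (hQ : Cfsg.IsLargeExtraspecial Q) (z : G) (hz : ((Subgroup.center ↥Q).map Q.subtype) = Subgroup.zpowers z) (hz2 : orderOf z = 2) (w : ℕ) (hw : 2 ≤ w) (hcard : Nat.card ↥Q = 2 ^ (2 * w + 1)) (g : G) (hgH : g ∉ Subgroup.centralizer ({z} : Set G)) (hgQ : g * z * g⁻¹ ∈ Q) (V X R E : Subgroup G) (hV : V = Subgroup.closure ({z, g * z * g⁻¹} : Set G)) (hX : X = Q ⊔ (Q).map (MulAut.conj g).toMonoidHom) (hR : R = ((Q).map (MulAut.conj g).toMonoidHom ⊓ Subgroup.centralizer ({z} : Set G)) ⊔ (Q ⊓ Subgroup.centralizer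 ({g * z * g⁻¹} : Set G))) (hE : E = Q ⊓ (Q).map (MulAut.conj g).toMonoidHom) : (Subgroup.center ↥R).map R.subtype = V ∧ E ≤ (Subgroup.upperCentralSeries ↥R 2).map R.subtype ∧ Subgroup.upperCentralSeries ↥R 3 = ⊤ ∧ Cfsg.IsElementaryAbelian 2 E ∧ (∀ x ∈ R, ∀ y ∈ R, x * y * x⁻¹ * y⁻¹ ∈ E ∧ x ^ 2 ∈ E) ∧ ((Q).map (MulAut.conj g).toMonoidHom ⊓ Subgroup.centralizer ({z} : Set G)) ⊓ (Q ⊓ Subgroup.centralizer ({g * z * g⁻¹} : Set G)) = E ∧ ⁅X, E⁆ ≤ V := by
  classical
  obtain ⟨hL1, hL2, hL3, _⟩ := hQ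
  obtain ⟨z', hcore, hZmem⟩ := core_of_hyps Q hL1 hL2 hL3
  have hz1 : z ≠ 1 := by
    intro h; rw [h, orderOf_one] at hz2; omega
  have hzz' : z' = z := by
    have h1 : z ∈ (Subgroup.center ↥Q).map Q.subtype := by rw [hz]; exact Subgroup.mem_zpowers z
    rcases (hZmem z).mp h1 with h | h
    · exact absurd h hz1
    · exact h.symm
  rw [hzz'] at hcore hZmem
  have hsq := sq_cases Q hL1 hZmem
  obtain ⟨a, ha⟩ : ∃ a, a = g * z * g⁻¹ := ⟨_, rfl⟩
  obtain ⟨Q2, hQ2⟩ : ∃ Q2 : Subgroup G, Q2 = Q.map (MulAut.conj g).toMonoidHom := ⟨_, rfl⟩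
  rw [← ha] at hgQ hV hR
  rw [← hQ2] at hX hR hE
  rw [← ha, ← hQ2]
  have haz : a ≠ z := by
    intro h
    apply hgH
    rw [Subgroup.mem_centralizer_iff]
    intro y hy
    rw [Set.mem_singleton_iff] at hy
    rw [hy]
    calc z * g = (g * z * g⁻¹) * g := by rw [← ha, h]
      _ = g * z := by group
  have hcore2 : Core Q2 a := by rw [ha, hQ2]; exact hcore.conj g
  have hsq2 : ∀ x ∈ Q2, x * x = 1 ∨ x * x = a := by rw [ha, hQ2]; exact sq_conj hcore hsq g
  have hzQ2 : z ∈ Q2 := by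
    rw [hQ2]
    exact hcore.z_mem_conj g (by rw [← ha]; exact hgQ) (by rw [← ha]; exact haz)
  have haQ : a ∈ Q := hgQ
  have ha1 : a ≠ 1 := hcore2.z_ne
  have haa : a * a = 1 := hcore2.z_sq
  have hza : z * a = a * z := (hcore.z_comm a haQ).symm
  obtain ⟨R1, hR1⟩ : ∃ R1 : Subgroup G, R1 = Q ⊓ Subgroup.centralizer ({a} : Set G) := ⟨_, rfl⟩
  obtain ⟨R2, hR2⟩ : ∃ R2 : Subgroup G, R2 = Q2 ⊓ Subgroup.centralizer ({z} : Set G) := ⟨_, rfl⟩
  rw [← hR1, ← hR2] at hR
  rw [← hR1, ← hR2]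
  have hcs : ∀ (c x : G), x ∈ Subgroup.centralizer ({c} : Set G) ↔ x * c = c * x := by
    intro c x
    rw [Subgroup.mem_centralizer_iff]
    constructor
    · intro h1; exact (h1 c rfl).symm
    · intro h1 y hy
      rw [Set.mem_singleton_iff] at hy
      rw [hy]; exact h1.symm
  have hmemR1 : ∀ x, x ∈ R1 ↔ x ∈ Q ∧ x * a = a * x := by
    intro x; rw [hR1, Subgroup.mem_inf, hcs]
  have hmemR2 : ∀ x, x ∈ R2 ↔ x ∈ Q2 ∧ x * z = z * x := by
    intro x; rw [hR2, Subgroup.mem_inf, hcs]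
  have hmemE : ∀ x, x ∈ E ↔ x ∈ Q ∧ x ∈ Q2 := by
    intro x; rw [hE, Subgroup.mem_inf]
  have hER1 : E ≤ R1 := by
    intro x hx
    rw [hmemE] at hx
    rw [hmemR1]
    exact ⟨hx.1, hcore2.z_comm x hx.2⟩
  have hER2 : E ≤ R2 := by
    intro x hx
    rw [hmemE] at hx
    rw [hmemR2]
    exact ⟨hx.2, hcore.z_comm x hx.1⟩
  have h1E : (1 : G) ∈ E := E.one_mem
  have hzE : z ∈ E := (hmemE z).mpr ⟨hcore.z_mem, hzQ2⟩
  have haE : a ∈ E := (hmemE a).mpr ⟨haQ, hcore2.z_mem⟩
  have hZE : ∀ x, (x = 1 ∨ x = z) → x ∈ E := by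
    rintro x (h | h)
    · rw [h]; exact h1E
    · rw [h]; exact hzE
  have hAE : ∀ x, (x = 1 ∨ x = a) → x ∈ E := by
    rintro x (h | h)
    · rw [h]; exact h1E
    · rw [h]; exact haE
  -- (6)
  have h6 : R2 ⊓ R1 = E := by
    apply le_antisymm
    · intro x hx
      rw [Subgroup.mem_inf, hmemR1, hmemR2] at hx
      exact (hmemE x).mpr ⟨hx.2.1, hx.1.1⟩
    · exact le_inf hER2 hER1
  -- normalization of E
  have hR1E : ∀ x ∈ R1, ∀ e ∈ E, x * e * x⁻¹ ∈ E := by
    intro x hx e he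
    rw [hmemR1] at hx
    rw [hmemE] at he ⊢
    exact ⟨Q.mul_mem (Q.mul_mem hx.1 he.1) (Q.inv_mem hx.1), hcore2.norm x hx.2 e he.2⟩
  have hR2E : ∀ x ∈ R2, ∀ e ∈ E, x * e * x⁻¹ ∈ E := by
    intro x hx e he
    rw [hmemR2] at hx
    rw [hmemE] at he ⊢
    exact ⟨hcore.norm x hx.2 e he.1, Q2.mul_mem (Q2.mul_mem hx.1 he.2) (Q2.inv_mem hx.1)⟩
  have h11 : ∀ x ∈ R1, ∀ y ∈ R1, x * y * x⁻¹ * y⁻¹ ∈ E := by
    intro x hx y hy
    rw [hmemR1] at hx hy
    exact hZE _ (hcore.comm_mem x hx.1 y hy.1)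
  have h22 : ∀ x ∈ R2, ∀ y ∈ R2, x * y * x⁻¹ * y⁻¹ ∈ E := by
    intro x hx y hy
    rw [hmemR2] at hx hy
    exact hAE _ (hcore2.comm_mem x hx.1 y hy.1)
  have h21 : ∀ x ∈ R2, ∀ y ∈ R1, x * y * x⁻¹ * y⁻¹ ∈ E := by
    intro x hx y hy
    rw [hmemR2] at hx
    rw [hmemR1] at hy
    rw [hmemE]
    constructor
    · exact Q.mul_mem (hcore.norm x hx.2 y hy.1) (Q.inv_mem hy.1)
    · have h1 : y * x⁻¹ * y⁻¹ ∈ Q2 := hcore2.norm y hy.2 x⁻¹ (Q2.inv_mem hx.1)
      have e1 : x * y * x⁻¹ * y⁻¹ = x * (y * x⁻¹ * y⁻¹) := by group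
      rw [e1]
      exact Q2.mul_mem hx.1 h1
  have hcommR : ∀ x ∈ R, ∀ y ∈ R, x * y * x⁻¹ * y⁻¹ ∈ E := by
    rw [hR]
    exact comm_mem_of_gens hR2E hR1E h22 h21 h11
  have hsqR : ∀ x ∈ R, x * x ∈ E := by
    rw [hR]
    apply sq_mem_of_gens (by rw [← hR]; exact hcommR)
    · intro x hx
      rw [hmemR2] at hx
      exact hAE _ (hsq2 x hx.1)
    · intro x hx
      rw [hmemR1] at hx
      exact hZE _ (hsq x hx.1)
  have hVmem : ∀ x, x ∈ V ↔ x = 1 ∨ x = z ∨ x = a ∨ x = z * a := by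
    intro x
    rw [hV]
    exact mem_closure_pair_invol hcore.z_sq haa hza.symm x
  have hR1R : R1 ≤ R := by rw [hR]; exact le_sup_right
  have hR2R : R2 ≤ R := by rw [hR]; exact le_sup_left
  have hER : E ≤ R := hER1.trans hR1R
  -- R centralizes z and a
  have hRza : ∀ x ∈ R, x * z = z * x ∧ x * a = a * x := by
    have hle : R ≤ Subgroup.centralizer ({z} : Set G) ⊓ Subgroup.centralizer ({a} : Set G) := by
      rw [hR]
      apply sup_le
      · intro x hx
        rw [hmemR2] at hx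
        rw [Subgroup.mem_inf, hcs, hcs]
        exact ⟨hx.2, hcore2.z_comm x hx.1⟩
      · intro x hx
        rw [hmemR1] at hx
        rw [Subgroup.mem_inf, hcs, hcs]
        exact ⟨hcore.z_comm x hx.1, hx.2⟩
    intro x hx
    have := hle hx
    rw [Subgroup.mem_inf, hcs, hcs] at this
    exact this
  have hVE : V ≤ E := by
    intro x hx
    rcases (hVmem x).mp hx with h | h | h | h
    · rw [h]; exact h1E
    · rw [h]; exact hzE
    · rw [h]; exact haE
    · rw [h]; exact E.mul_mem hzE haE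
  have hVcomm : ∀ y ∈ R, ∀ v ∈ V, y * v = v * y := by
    intro y hy v hv
    obtain ⟨h1, h2⟩ := hRza y hy
    rcases (hVmem v).mp hv with h | h | h | h
    · rw [h]; simp
    · rw [h]; exact h1
    · rw [h]; exact h2
    · rw [h, ← mul_assoc, h1, mul_assoc, h2, mul_assoc]
  have hVconj : ∀ y ∈ R, ∀ v ∈ V, y * v * y⁻¹ = v := by
    intro y hy v hv
    rw [hVcomm y hy v hv]; group
  -- centre of R
  have hcenR : ∀ c : ↥R, c ∈ Subgroup.center ↥R ↔ (c : G) ∈ V := by
    intro c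
    rw [Subgroup.mem_center_iff]
    constructor
    · intro hc
      rw [hVmem]
      apply hcore.centralizer_R haQ ha1 haz haa
      intro r hrQ hra
      have hrR : r ∈ R := hR1R ((hmemR1 r).mpr ⟨hrQ, hra⟩)
      have := hc ⟨r, hrR⟩
      exact (congrArg Subtype.val this).symm
    · intro hc y
      apply Subtype.ext
      exact hVcomm y y.2 c hc
  -- commutators of E with R lie in V
  have hEV : ∀ e ∈ E, ∀ y ∈ R, e * y * e⁻¹ * y⁻¹ ∈ V := by
    intro e he y hy
    have hy' := hy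
    rw [hR, Subgroup.sup_eq_closure] at hy'
    induction hy' using Subgroup.closure_induction with
    | mem y hy1 =>
      rw [hVmem]
      rcases hy1 with h1 | h1
      · have h2 := (hmemR2 y).mp h1
        rcases hcore2.comm_mem e ((hmemE e).mp he).2 y h2.1 with h3 | h3
        · exact Or.inl h3
        · exact Or.inr (Or.inr (Or.inl h3))
      · have h2 := (hmemR1 y).mp h1
        rcases hcore.comm_mem e ((hmemE e).mp he).1 y h2.1 with h3 | h3
        · exact Or.inl h3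
        · exact Or.inr (Or.inl h3)
    | one => simp [V.one_mem]
    | mul y1 y2 hy1 hy2 ih1 ih2 =>
      have hy1R : y1 ∈ R := by rw [hR, Subgroup.sup_eq_closure]; exact hy1
      have hy2R : y2 ∈ R := by rw [hR, Subgroup.sup_eq_closure]; exact hy2
      have e1 : e * (y1 * y2) * e⁻¹ * (y1 * y2)⁻¹ =
          (e * y1 * e⁻¹ * y1⁻¹) * (y1 * (e * y2 * e⁻¹ * y2⁻¹) * y1⁻¹) := by group
      rw [e1, hVconj y1 hy1R _ (ih2 hy2R)]
      exact V.mul_mem (ih1 hy1R) (ih2 hy2R)
    | inv y1 hy1 ih1 =>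
      have hy1R : y1 ∈ R := by rw [hR, Subgroup.sup_eq_closure]; exact hy1
      have e1 : e * y1⁻¹ * e⁻¹ * y1⁻¹⁻¹ = y1⁻¹ * (e * y1 * e⁻¹ * y1⁻¹)⁻¹ * y1⁻¹⁻¹ := by group
      rw [e1, hVconj y1⁻¹ (R.inv_mem hy1R) _ (V.inv_mem (ih1 hy1R))]
      exact V.inv_mem (ih1 hy1R)
  have hE2 : ∀ e : ↥R, (e : G) ∈ E → e ∈ Subgroup.upperCentralSeries ↥R 2 := by
    intro e he
    rw [show (2 : ℕ) = 1 + 1 from rfl, Subgroup.mem_upperCentralSeries_succ_iff]
    intro y
    rw [Subgroup.upperCentralSeries_one, hcenR]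
    have : ((⁅e, y⁆ : ↥R) : G) = (e : G) * y * (e : G)⁻¹ * (y : G)⁻¹ := by
      simp [commutatorElement_def]
    rw [this]
    exact hEV e he y y.2
  refine ⟨?_, ?_, ?_, ?_, ?_, h6, ?_⟩
  · -- (1)
    ext x
    rw [Subgroup.mem_map]
    constructor
    · rintro ⟨c, hc, rfl⟩
      exact (hcenR c).mp hc
    · intro hx
      exact ⟨⟨x, hER (hVE hx)⟩, (hcenR _).mpr hx, rfl⟩
  · -- (2)
    intro e he
    exact ⟨⟨e, hER he⟩, hE2 _ he, rfl⟩
  · -- (3)
    rw [eq_top_iff]
    intro x _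
    rw [show (3 : ℕ) = 2 + 1 from rfl, Subgroup.mem_upperCentralSeries_succ_iff]
    intro y
    apply hE2
    have : ((⁅x, y⁆ : ↥R) : G) = (x : G) * y * (x : G)⁻¹ * (y : G)⁻¹ := by
      simp [commutatorElement_def]
    rw [this]
    exact hcommR x x.2 y y.2
  · -- (4)
    constructor
    · constructor
      constructor
      intro x y
      apply Subtype.ext
      have hx := (hmemE x).mp x.2
      have hy := (hmemE y).mp y.2
      have hc1 : (x : G) * y * (x : G)⁻¹ * (y : G)⁻¹ = 1 := by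
        rcases hcore.comm_mem x hx.1 y hy.1 with h1 | h1
        · exact h1
        · rcases hcore2.comm_mem x hx.2 y hy.2 with h2 | h2
          · exact h2
          · exfalso; exact haz (h2.symm.trans h1)
      show (x : G) * y = y * x
      calc (x : G) * y = ((x : G) * y * (x : G)⁻¹ * (y : G)⁻¹) * (y * x) := by group
        _ = y * x := by rw [hc1, one_mul]
    · intro x hx
      have hx' := (hmemE x).mp hx
      rw [pow_two]
      rcases hsq x hx'.1 with h1 | h1
      · exact h1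
      · rcases hsq2 x hx'.2 with h2 | h2
        · exact h2
        · exfalso; exact haz (h2.symm.trans h1)
  · -- (5)
    intro x hx y hy
    refine ⟨hcommR x hx y hy, ?_⟩
    rw [pow_two]
    exact hsqR x hx
  · -- (7)
    have hQV : ∀ x ∈ Q, ∀ v ∈ V, x * v * x⁻¹ ∈ V := by
      intro x hx v hv
      have hxz := hcore.conj_z hx
      have hxa : x * a * x⁻¹ ∈ V := by
        rw [hVmem]
        rcases hcore.conj_cases haQ hx with h1 | h1
        · exact Or.inr (Or.inr (Or.inl h1))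
        · exact Or.inr (Or.inr (Or.inr h1))
      rcases (hVmem v).mp hv with h | h | h | h
      · rw [h]; simp [V.one_mem]
      · rw [h, hxz]; exact (hVmem z).mpr (Or.inr (Or.inl rfl))
      · rw [h]; exact hxa
      · rw [h]
        have e1 : x * (z * a) * x⁻¹ = (x * z * x⁻¹) * (x * a * x⁻¹) := by group
        rw [e1, hxz]
        exact V.mul_mem ((hVmem z).mpr (Or.inr (Or.inl rfl))) hxa
    have hQ2V : ∀ x ∈ Q2, ∀ v ∈ V, x * v * x⁻¹ ∈ V := by
      intro x hx v hv
      have hxa := hcore2.conj_z hx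
      have haV : a ∈ V := (hVmem a).mpr (Or.inr (Or.inr (Or.inl rfl)))
      have hxz : x * z * x⁻¹ ∈ V := by
        rw [hVmem]
        rcases hcore2.conj_cases hzQ2 hx with h1 | h1
        · exact Or.inr (Or.inl h1)
        · right; right; right; rw [h1]; exact hza.symm
      rcases (hVmem v).mp hv with h | h | h | h
      · rw [h]; simp [V.one_mem]
      · rw [h]; exact hxz
      · rw [h, hxa]; exact haV
      · rw [h]
        have e1 : x * (z * a) * x⁻¹ = (x * z * x⁻¹) * (x * a * x⁻¹) := by group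
        rw [e1, hxa]
        exact V.mul_mem hxz haV
    have hXV : ∀ x ∈ X, ∀ v ∈ V, x * v * x⁻¹ ∈ V := by
      rw [hX]; exact normalizes_of_gens hQV hQ2V
    rw [Subgroup.commutator_le]
    intro x hx e he
    rw [commutatorElement_def]
    have hx' := hx
    rw [hX, Subgroup.sup_eq_closure] at hx'
    induction hx' using Subgroup.closure_induction with
    | mem x hx1 =>
      rw [hVmem]
      rcases hx1 with h1 | h1
      · rcases hcore.comm_mem x h1 e ((hmemE e).mp he).1 with h3 | h3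
        · exact Or.inl h3
        · exact Or.inr (Or.inl h3)
      · rcases hcore2.comm_mem x h1 e ((hmemE e).mp he).2 with h3 | h3
        · exact Or.inl h3
        · exact Or.inr (Or.inr (Or.inl h3))
    | one => simp [V.one_mem]
    | mul x1 x2 hx1 hx2 ih1 ih2 =>
      have hx1X : x1 ∈ X := by rw [hX, Subgroup.sup_eq_closure]; exact hx1
      have hx2X : x2 ∈ X := by rw [hX, Subgroup.sup_eq_closure]; exact hx2
      have e1 : x1 * x2 * e * (x1 * x2)⁻¹ * e⁻¹ =
          (x1 * (x2 * e * x2⁻¹ * e⁻¹) * x1⁻¹) * (x1 * e * x1⁻¹ * e⁻¹) := by group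
      rw [e1]
      exact V.mul_mem (hXV x1 hx1X _ (ih2 hx2X)) (ih1 hx1X)
    | inv x1 hx1 ih1 =>
      have hx1X : x1 ∈ X := by rw [hX, Subgroup.sup_eq_closure]; exact hx1
      have e1 : x1⁻¹ * e * x1⁻¹⁻¹ * e⁻¹ = x1⁻¹ * (x1 * e * x1⁻¹ * e⁻¹)⁻¹ * x1⁻¹⁻¹ := by group
      rw [e1]
      exact hXV x1⁻¹ (X.inv_mem hx1X) _ (V.inv_mem (ih1 hx1X))

end Cfsg.Agent.S5431
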