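import Cfsg.Statements.S5433
import Mathlib

set_option autoImplicit false
open Cfsg

namespace Cfsg.Agent.S5433

theorem result {G : Type*} [Group G] [Finite G] (Q : Subgroup G) (hQ : Cfsg.IsLargeExtraspecial Q) (L : Subgroup G) [L.Normal] (hQL : Q ≤ L) : L ⊔ Subgroup.normalizer (Q : Set G) = ⊤ := by
  haveI : Fact (Nat.Prime 2) := ⟨Nat.prime_two⟩
  obtain ⟨hex, hCQ, hCZ, -⟩ := hQ
  have hQ2 : IsPGroup 2 Q := hex.1.1
  have hZcard : Nat.card (Subgroup.center Q) = 2 := hex.2
  -- a Sylow 2-subgroup of L containing Q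
  have hQ' : IsPGroup 2 (Q.subgroupOf L) := hQ2.comap_subtype
  obtain ⟨T, hT⟩ := hQ'.exists_le_sylow
  have hfrat := Sylow.normalizer_sup_eq_top T
  have hQT : Q ≤ (T : Subgroup L).map L.subtype := by
    intro q hq
    exact ⟨⟨q, hQL hq⟩, hT (by simpa [Subgroup.mem_subgroupOf] using hq), rfl⟩
  have hTp : IsPGroup 2 ((T : Subgroup L).map L.subtype) := T.isPGroup'.map _
  -- the key: N_G(T') ≤ N_G(Q)
  suffices hkey : Subgroup.normalizer (((T : Subgroup L).map L.subtype : Subgroup G) : Set G) ≤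
      Subgroup.normalizer (Q : Set G) by
    rw [eq_top_iff, ← hfrat, sup_comm]
    exact sup_le_sup_left hkey L
  -- elements of T' centralizing T' lie in Z
  have hcen : ∀ x : G, (∀ y ∈ (T : Subgroup L).map L.subtype, y * x = x * y) →
      x ∈ (Subgroup.center Q).map Q.subtype := by
    intro x hx
    rw [← hCQ, Subgroup.mem_centralizer_iff]
    intro q hq
    exact hx q (hQT hq)
  -- a nontrivial central element of T'
  have hQnt : Nontrivial Q := by
    by_contra h
    rw [not_nontrivial_iff_subsingleton] at h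
    have : Nat.card (Subgroup.center Q) = 1 := Nat.card_unique
    omega
  obtain ⟨q0, hq0⟩ := exists_ne (1 : Q)
  haveI : Nontrivial ((T : Subgroup L).map L.subtype) :=
    ⟨⟨⟨q0, hQT q0.2⟩, 1, fun h => hq0 (Subtype.ext
      (congrArg (fun z : ((T : Subgroup L).map L.subtype) => (z : G)) h))⟩⟩
  have hcnt := hTp.center_nontrivial
  obtain ⟨c, hc⟩ := exists_ne (1 : Subgroup.center ((T : Subgroup L).map L.subtype))
  have hcZ : ((c : ((T : Subgroup L).map L.subtype)) : G) ∈ (Subgroup.center Q).map Q.subtype := by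
    apply hcen
    intro y hy
    have := (Subgroup.mem_center_iff.mp c.2) ⟨y, hy⟩
    exact congrArg Subtype.val this
  have hc1 : ((c : ((T : Subgroup L).map L.subtype)) : G) ≠ 1 := by
    intro h
    apply hc
    apply Subtype.ext
    apply Subtype.ext
    exact h
  -- Z has exactly two elements
  have hZ2 : ∀ x ∈ (Subgroup.center Q).map Q.subtype, ∀ y ∈ (Subgroup.center Q).map Q.subtype,
      x ≠ 1 → y ≠ 1 → x = y := by
    rintro _ ⟨x, hx, rfl⟩ _ ⟨y, hy, rfl⟩ hx1 hy1
    have h2 := (Nat.card_eq_two_iff' (1 : Subgroup.center Q)).mp hZcard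
    obtain ⟨w, -, hw⟩ := h2
    have hx' : (⟨x, hx⟩ : Subgroup.center Q) = w := hw _ (fun h => hx1 (by
      have := congrArg (fun z : Subgroup.center Q => ((z : Q) : G)) h
      simpa using this))
    have hy' : (⟨y, hy⟩ : Subgroup.center Q) = w := hw _ (fun h => hy1 (by
      have := congrArg (fun z : Subgroup.center Q => ((z : Q) : G)) h
      simpa using this))
    have := hx'.trans hy'.symm
    have := congrArg (fun z : Subgroup.center Q => ((z : Q) : G)) this
    simpa using this
  intro n hn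
  apply hCZ
  rw [Subgroup.mem_centralizer_iff]
  intro z hz
  by_cases hz1 : z = 1
  · rw [hz1]; simp
  -- n z n⁻¹ is a nontrivial element centralizing T'
  have hzc : z = ((c : ((T : Subgroup L).map L.subtype)) : G) := hZ2 z hz _ hcZ hz1 hc1
  have hnz : n * z * n⁻¹ ∈ (Subgroup.center Q).map Q.subtype := by
    apply hcen
    intro y hy
    have hy' : n⁻¹ * y * n ∈ (T : Subgroup L).map L.subtype :=
      (Subgroup.mem_normalizer_iff''.mp hn y).mp hy
    have h1 := (Subgroup.mem_center_iff.mp c.2) ⟨_, hy'⟩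
    have h2 : n⁻¹ * y * n * z = z * (n⁻¹ * y * n) := by
      rw [hzc]; exact congrArg Subtype.val h1
    calc y * (n * z * n⁻¹) = n * (n⁻¹ * y * n * z) * n⁻¹ := by group
      _ = n * (z * (n⁻¹ * y * n)) * n⁻¹ := by rw [h2]
      _ = n * z * n⁻¹ * y := by group
  have hnz1 : n * z * n⁻¹ ≠ 1 := by
    intro h
    apply hz1
    have : z = n⁻¹ * (n * z * n⁻¹) * n := by group
    rw [this, h]; group
  have := hZ2 _ hnz z hz hnz1 hz1
  -- n z n⁻¹ = z
  calc z * n = (n * z * n⁻¹) * n := by rw [this]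
    _ = n * z := by group

end Cfsg.Agent.S5433
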