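import Mathlib
import Cfsg.Statements.S5436
import Cfsg.Agent.S5422
import Cfsg.Agent.Lib.Helper9.LargeExtra
import Cfsg.Agent.Lib.Helper9.LargeExtra4
import Cfsg.Agent.Lib.Helper9.ExtraTransport

set_option autoImplicit false
open Cfsg

namespace Cfsg.Agent.S5436

open Cfsg.Agent.Lib.Helper9.LargeExtra

/-- Let z be an involution of the finite group G with centralizer H whose generalized Fitting subgroup Q is extraspecial of width at least 2 (order 2^(2w+1), w ≥ 2); suppose some conjugate of z other than z lies in Q, H/Q is a non-abelian simple group, H acts irreducibly by conjugation on Q modulo the subgroup generated by z (the only H-invariant subgroups of Q containing z are that subgroup and Q), and Q is not the subgroup generated by the conjugates of z lying in H. Then G is simple. -/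
theorem result {G : Type*} [Group G] [Finite G] (z : G) (hz : orderOf z = 2) (Q : Subgroup (Subgroup.centralizer ({z} : Set G))) [Q.Normal] (hF : Cfsg.generalizedFittingSubgroup ↥(Subgroup.centralizer ({z} : Set G)) = Q) (hQ : Cfsg.IsExtraspecial 2 ↥Q) (w : ℕ) (hw : 2 ≤ w) (hcard : Nat.card ↥Q = 2 ^ (2 * w + 1)) (hnwc : ∃ g : G, (∃ hq : g * z * g⁻¹ ∈ Subgroup.centralizer ({z} : Set G), (⟨g * z * g⁻¹, hq⟩ : Subgroup.centralizer ({z} : Set G)) ∈ Q) ∧ g * z * g⁻¹ ≠ z) (hsimp : IsSimpleGroup (↥(Subgroup.centralizer ({z} : Set G)) ⧸ Q)) (hna : ¬ IsMulCommutative (↥(Subgroup.centralizer ({z} : Set G)) ⧸ Q)) (hirr : ∀ W : Subgroup (Subgroup.centralizer ({z} : Set G)), W.Normal → W ≤ Q → (W = Q ∨ ∀ x ∈ W, (x : G) ∈ Subgroup.zpowers z)) (hwcl : Subgroup.closure {x : Subgroup.centralizer ({z} : Set G) | IsConj z (x : G)} ≠ Q) : IsSimpleGroup G := by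
  classical
  have hz1 : z ≠ 1 := by
    intro h; rw [h, orderOf_one] at hz; omega
  have hzz : z * z = 1 := by rw [← pow_two, ← hz, pow_orderOf_eq_one]
  set Q' : Subgroup G := Q.map (Subgroup.centralizer ({z} : Set G)).subtype with hQ'
  have e : ↥Q ≃* ↥Q' := Subgroup.equivMapOfInjective Q (Subgroup.centralizer ({z} : Set G)).subtype (Subgroup.centralizer ({z} : Set G)).subtype_injective
  have hQ'ex : IsExtraspecial 2 ↥Q' := Cfsg.Agent.Lib.Helper9.isExtraspecial_of_mulEquiv e hQ
  have hcard' : Nat.card ↥Q' = 2 ^ (2 * w + 1) := by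
    rw [← hcard]; exact (Nat.card_congr e.toEquiv).symm
  have hF' : (Cfsg.generalizedFittingSubgroup ↥(Subgroup.centralizer ({z} : Set G))).map (Subgroup.centralizer ({z} : Set G)).subtype = Q' := by rw [hF]
  obtain ⟨hzQ, hZmem, hL2, hL3⟩ := hyps_of_fstar z Q' hF' hQ'ex hz1
  set Z : Subgroup G := (Subgroup.center ↥Q').map Q'.subtype with hZdef
  have hzZ : z ∈ Z := (hZmem z).mpr (Or.inr rfl)
  obtain ⟨g, ⟨hq, hgQ⟩, hgz⟩ := hnwc
  have hgQ' : g * z * g⁻¹ ∈ Q' := ⟨⟨g * z * g⁻¹, hq⟩, hgQ, rfl⟩
  have hlarge : Cfsg.IsLargeExtraspecial Q' := by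
    have hg : g ∉ Subgroup.normalizer ((Z : Subgroup G) : Set G) := by
      intro hk
      have h1 : g * z * g⁻¹ ∈ Z := ((Subgroup.mem_normalizer_iff.mp hk) z).mp hzZ
      rcases (hZmem _).mp h1 with h2 | h2
      · apply hz1
        calc z = g⁻¹ * (g * z * g⁻¹) * g := by group
          _ = 1 := by rw [h2]; group
      · exact hgz h2
    have hZg : Z.map (MulAut.conj g).toMonoidHom ≤ Q' := by
      intro x hx
      rw [Subgroup.mem_map] at hx
      obtain ⟨y, hy, rfl⟩ := hx
      simp only [MulEquiv.coe_toMonoidHom, MulAut.conj_apply]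
      rcases (hZmem y).mp hy with h2 | h2
      · rw [h2]; simp [Q'.one_mem]
      · rw [h2]; exact hgQ'
    exact (Cfsg.Agent.S5422.result Q' hQ'ex hL2 hL3 w hw hcard' g hg hZg).2.2
  obtain ⟨z', hcore, hZmem'⟩ := core_of_hyps Q' hQ'ex hL2 hL3
  have hz'z : z' = z := by
    have h1 : z' ∈ Z := (hZmem' z').mpr (Or.inr rfl)
    rcases (hZmem z').mp h1 with h2 | h2
    · exact absurd h2 hcore.z_ne
    · exact h2
  rw [hz'z] at hcore
  apply simple_of_core hcore hlarge.2.2.2
  intro N hN hzN
  -- D : the subgroup generated by conjugates of z in C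
  set D : Subgroup ↥(Subgroup.centralizer ({z} : Set G)) := Subgroup.closure {x : ↥(Subgroup.centralizer ({z} : Set G)) | IsConj z (x : G)} with hD
  have hDN : ∀ d ∈ D, (d : G) ∈ N := by
    intro d hd
    rw [hD] at hd
    induction hd using Subgroup.closure_induction with
    | mem x hx =>
      obtain ⟨c, hc⟩ := isConj_iff.mp hx
      rw [← hc]; exact hN.conj_mem z hzN c
    | one => exact N.one_mem
    | mul x y _ _ ihx ihy => exact N.mul_mem ihx ihy
    | inv x _ ihx => exact N.inv_mem ihx
  haveI hDn : D.Normal := by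
    constructor
    intro d hd c
    rw [hD] at hd
    induction hd using Subgroup.closure_induction with
    | mem x hx =>
      apply Subgroup.subset_closure
      show IsConj z ((c * x * c⁻¹ : ↥(Subgroup.centralizer ({z} : Set G))) : G)
      obtain ⟨k, hk⟩ := isConj_iff.mp hx
      rw [isConj_iff]
      refine ⟨(c : G) * k, ?_⟩
      simp only [Subgroup.coe_mul, Subgroup.coe_inv]
      rw [← hk]; group
    | one => simp [D.one_mem]
    | mul x y _ _ ihx ihy =>
      have : c * (x * y) * c⁻¹ = (c * x * c⁻¹) * (c * y * c⁻¹) := by group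
      rw [this]; exact D.mul_mem ihx ihy
    | inv x _ ihx =>
      have : c * x⁻¹ * c⁻¹ = (c * x * c⁻¹)⁻¹ := by group
      rw [this]; exact D.inv_mem ihx
  -- Q ≤ D
  have hQD : Q ≤ D := by
    haveI : (D ⊓ Q).Normal := inferInstance
    rcases hirr (D ⊓ Q) inferInstance inf_le_right with h1 | h1
    · rw [← h1]; exact inf_le_left
    · exfalso
      have ha : (⟨g * z * g⁻¹, hq⟩ : ↥(Subgroup.centralizer ({z} : Set G))) ∈ D ⊓ Q := by
        refine ⟨?_, hgQ⟩
        apply Subgroup.subset_closure
        show IsConj z (g * z * g⁻¹)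
        exact isConj_iff.mpr ⟨g, rfl⟩
      have h2 := h1 _ ha
      simp only at h2
      obtain ⟨k, hk⟩ := Subgroup.mem_zpowers_iff.mp h2
      have h3 : z ^ (k % 2) = z ^ k := by
        have := zpow_mod_orderOf z k
        rw [hz] at this
        exact this
      rcases Int.emod_two_eq_zero_or_one k with h4 | h4
      · rw [h4, zpow_zero] at h3
        apply hz1
        calc z = g⁻¹ * (g * z * g⁻¹) * g := by group
          _ = 1 := by rw [← hk, ← h3]; group
      · rw [h4, zpow_one] at h3
        exact hgz (by rw [← hk, ← h3])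
  -- D = ⊤
  have hDtop : D = ⊤ := by
    have hmapn : (D.map (QuotientGroup.mk' Q)).Normal :=
      hDn.map _ (QuotientGroup.mk'_surjective Q)
    rcases hsimp.eq_bot_or_eq_top_of_normal _ hmapn with h1 | h1
    · exfalso
      apply hwcl
      apply le_antisymm _ hQD
      intro d hd
      have : QuotientGroup.mk' Q d ∈ D.map (QuotientGroup.mk' Q) := ⟨d, hd, rfl⟩
      rw [h1, Subgroup.mem_bot] at this
      exact (QuotientGroup.eq_one_iff d).mp this
    · rw [eq_top_iff]
      intro c _
      have : QuotientGroup.mk' Q c ∈ D.map (QuotientGroup.mk' Q) := by rw [h1]; exact Subgroup.mem_top _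
      obtain ⟨d, hd, hdc⟩ := this
      have h2 : d⁻¹ * c ∈ Q := by
        have := QuotientGroup.eq.mp hdc
        exact this
      have : c = d * (d⁻¹ * c) := by group
      rw [this]
      exact D.mul_mem hd (hQD h2)
  intro c hc
  have : (⟨c, hc⟩ : ↥(Subgroup.centralizer ({z} : Set G))) ∈ D := by rw [hDtop]; exact Subgroup.mem_top _
  exact hDN _ this

end Cfsg.Agent.S5436
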