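import Cfsg.Statements.S5437
import Mathlib
import Cfsg.Agent.Lib.Helper9.GroupFusion

set_option autoImplicit false
open Cfsg Cfsg.Agent.Lib.Helper9

namespace Cfsg.Agent.S5437

theorem smul_mk_eq_iff {G : Type*} [Group G] (H : Subgroup G) (x g : G) :
    x • (QuotientGroup.mk g : G ⧸ H) = QuotientGroup.mk g ↔ g⁻¹ * x * g ∈ H := by
  rw [MulAction.Quotient.smul_mk, QuotientGroup.eq, smul_eq_mul]
  constructor
  · intro h
    have := H.inv_mem h
    have e : ((x * g)⁻¹ * g)⁻¹ = g⁻¹ * x * g := by group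
    rwa [e] at this
  · intro h
    have := H.inv_mem h
    have e : (g⁻¹ * x * g)⁻¹ = (x * g)⁻¹ * g := by group
    rwa [e] at this

theorem result {G : Type*} [Group G] [Finite G] (I : Set G) (hI : ∀ x ∈ I, orderOf x = 2) (hIc : ∀ g : G, ∀ x ∈ I, g * x * g⁻¹ ∈ I) (H : Subgroup G) : ((∀ x ∈ I, x ∈ H → (∀ g : G, g * x * g⁻¹ ∈ H → ∃ h ∈ H, h * x * h⁻¹ = g * x * g⁻¹) ∧ Subgroup.centralizer ({x} : Set G) ≤ H) ↔ (∀ g : G, g ∉ H → ∀ x ∈ I, ¬ (x ∈ H ∧ x ∈ (H : Subgroup G).map (MulAut.conj g).toMonoidHom))) ∧ ((∀ g : G, g ∉ H → ∀ x ∈ I, ¬ (x ∈ H ∧ x ∈ (H : Subgroup G).map (MulAut.conj g).toMonoidHom)) ↔ ∀ x ∈ I, x ∈ H → ∃! c : G ⧸ H, x • c = c) := by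
  refine ⟨⟨?_, ?_⟩, ⟨?_, ?_⟩⟩
  · -- (1) → (2)
    intro h1 g hg x hxI ⟨hxH, hxg⟩
    rw [mem_map_conj_iff] at hxg
    obtain ⟨hconj, hcent⟩ := h1 x hxI hxH
    have hxg' : g⁻¹ * x * g⁻¹⁻¹ ∈ H := by rwa [inv_inv]
    obtain ⟨h, hh, hhx⟩ := hconj g⁻¹ hxg'
    have hgh : g * h ∈ Subgroup.centralizer ({x} : Set G) := by
      rw [Subgroup.mem_centralizer_iff]
      intro y hy
      rw [Set.mem_singleton_iff] at hy
      rw [hy]
      have : g * (h * x * h⁻¹) * g⁻¹ = x := by rw [hhx]; group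
      calc x * (g * h) = (g * (h * x * h⁻¹) * g⁻¹) * (g * h) := by rw [this]
        _ = g * h * x := by group
    have := hcent hgh
    apply hg
    have e : g = g * h * h⁻¹ := by group
    rw [e]
    exact H.mul_mem this (H.inv_mem hh)
  · -- (2) → (1)
    intro h2 x hxI hxH
    refine ⟨fun g hg => ?_, fun c hc => ?_⟩
    · by_contra hne
      have hgH : g ∉ H := by
        intro hgH
        exact hne ⟨g, hgH, rfl⟩
      apply h2 g hgH (g * x * g⁻¹) (hIc g x hxI)
      refine ⟨hg, ?_⟩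
      rw [mem_map_conj_iff]
      have e : g⁻¹ * (g * x * g⁻¹) * g = x := by group
      rw [e]; exact hxH
    · by_contra hcH
      apply h2 c hcH x hxI
      refine ⟨hxH, ?_⟩
      rw [mem_map_conj_iff]
      have hcx := (Subgroup.mem_centralizer_iff.mp hc) x rfl
      have e : c⁻¹ * x * c = x := by
        calc c⁻¹ * x * c = c⁻¹ * (x * c) := by group
          _ = c⁻¹ * (c * x) := by rw [hcx]
          _ = x := by group
      rw [e]; exact hxH
  · -- (2) → (3)
    intro h2 x hxI hxH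
    refine ⟨QuotientGroup.mk 1, ?_, ?_⟩
    · show x • (QuotientGroup.mk 1 : G ⧸ H) = QuotientGroup.mk 1
      rw [smul_mk_eq_iff]
      simpa using hxH
    · intro c hc
      obtain ⟨g, rfl⟩ := QuotientGroup.mk_surjective c
      rw [smul_mk_eq_iff] at hc
      by_contra hne
      have hgH : g ∉ H := by
        intro hgH
        apply hne
        rw [QuotientGroup.eq]
        simpa using H.inv_mem hgH
      apply h2 g hgH x hxI
      exact ⟨hxH, (mem_map_conj_iff H g x).mpr hc⟩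
  · -- (3) → (2)
    intro h3 g hg x hxI ⟨hxH, hxg⟩
    rw [mem_map_conj_iff] at hxg
    obtain ⟨c, -, huniq⟩ := h3 x hxI hxH
    have e1 : (QuotientGroup.mk 1 : G ⧸ H) = c := huniq _ (by
      show x • (QuotientGroup.mk 1 : G ⧸ H) = QuotientGroup.mk 1
      rw [smul_mk_eq_iff]; simpa using hxH)
    have e2 : (QuotientGroup.mk g : G ⧸ H) = c := huniq _ (by
      show x • (QuotientGroup.mk g : G ⧸ H) = QuotientGroup.mk g
      rw [smul_mk_eq_iff]; exact hxg)
    have := e1.trans e2.symm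
    rw [QuotientGroup.eq] at this
    apply hg
    simpa using this

end Cfsg.Agent.S5437
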