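import Cfsg.Statements.S5438
import Mathlib
import Cfsg.Agent.Lib.Helper9.GroupFusion2

set_option autoImplicit false
open Cfsg Cfsg.Agent.Lib.Helper9

namespace Cfsg.Agent.S5438

theorem smul_mk_eq_iff {G : Type*} [Group G] (H : Subgroup G) (x g : G) :
    x • (QuotientGroup.mk g : G ⧸ H) = QuotientGroup.mk g ↔ g⁻¹ * x * g ∈ H := by
  rw [MulAction.Quotient.smul_mk, QuotientGroup.eq, smul_eq_mul]
  constructor
  · intro h
    have := H.inv_mem h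
    have e : ((x * g)⁻¹ * g)⁻¹ = g⁻¹ * x * g := by group
    rwa [e] at this
  · intro h
    have := H.inv_mem h
    have e : (g⁻¹ * x * g)⁻¹ = (x * g)⁻¹ * g := by group
    rwa [e] at this

theorem orderOf_conj' {G : Type*} [Group G] (g x : G) : orderOf (g * x * g⁻¹) = orderOf x := by
  have := (MulAut.conj g).orderOf_eq x
  rwa [MulAut.conj_apply] at this

theorem isPGroup_zpowers {G : Type*} [Group G] {x : G} (h : ∃ k : ℕ, orderOf x = 2 ^ k) :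
    IsPGroup 2 (Subgroup.zpowers x) := by
  obtain ⟨k, hk⟩ := h
  apply IsPGroup.of_card (n := k)
  rw [Nat.card_zpowers, hk]

theorem result {G : Type*} [Group G] [Finite G] (z : G) (hz : Cfsg.IsTwoCentralInvolution z) (H : Subgroup G) (hzH : z ∈ H) (hfix : ∀ g : G, g⁻¹ * z * g ∈ H → g ∈ H) : Odd H.index ∧ ∀ x ∈ H, (∃ k : ℕ, orderOf x = 2 ^ k) → ∀ g : G, g * x * g⁻¹ ∈ H → ∃ h ∈ H, h * x * h⁻¹ = g * x * g⁻¹ := by
  haveI : Fact (Nat.Prime 2) := ⟨Nat.prime_two⟩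
  obtain ⟨hz2, P, hzP, hzc⟩ := hz
  -- P ≤ C(z) ≤ H
  have hPH : (P : Subgroup G) ≤ H := by
    intro x hx
    apply hfix
    have := hzc x hx
    have e : x⁻¹ * z * x = z := by
      calc x⁻¹ * z * x = x⁻¹ * (z * x) := by group
        _ = x⁻¹ * (x * z) := by rw [this]
        _ = z := by group
    rw [e]; exact hzH
  have hodd : Odd H.index := by
    have h1 : H.index ∣ (P : Subgroup G).index := Subgroup.index_dvd_of_le hPH
    have h2 : ¬ 2 ∣ (P : Subgroup G).index := P.not_dvd_index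
    rw [← Nat.not_even_iff_odd, even_iff_two_dvd]
    intro h3
    exact h2 (h3.trans h1)
  refine ⟨hodd, ?_⟩
  -- unique fixed points of conjugates of z
  have hfixu : ∀ u a : G, (u * z * u⁻¹) • (QuotientGroup.mk a : G ⧸ H) = QuotientGroup.mk a →
      (QuotientGroup.mk a : G ⧸ H) = QuotientGroup.mk u := by
    intro u a h
    rw [smul_mk_eq_iff] at h
    have h1 : (u⁻¹ * a)⁻¹ * z * (u⁻¹ * a) ∈ H := by
      have e : (u⁻¹ * a)⁻¹ * z * (u⁻¹ * a) = a⁻¹ * (u * z * u⁻¹) * a := by group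
      rw [e]; exact h
    have h2 := hfix _ h1
    rw [eq_comm, QuotientGroup.eq]
    exact h2
  -- every 2-element of H is centralized by an H-conjugate of z
  have hcentral : ∀ x ∈ H, (∃ k : ℕ, orderOf x = 2 ^ k) → ∃ u ∈ H, (u * z * u⁻¹) * x = x * (u * z * u⁻¹) := by
    intro x hxH hx2
    obtain ⟨k, hk, hkP⟩ := exists_conj_mem_sylow_of_le P H hPH (Subgroup.zpowers x) (isPGroup_zpowers hx2)
      (by rw [Subgroup.zpowers_le]; exact hxH)
    have h1 := hkP x (Subgroup.mem_zpowers x)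
    have h2 := hzc _ h1
    refine ⟨k⁻¹, H.inv_mem hk, ?_⟩
    rw [inv_inv]
    calc k⁻¹ * z * k * x = k⁻¹ * (z * (k * x * k⁻¹)) * k := by group
      _ = k⁻¹ * ((k * x * k⁻¹) * z) * k := by rw [h2]
      _ = x * (k⁻¹ * z * k) := by group
  intro x hxH hx2 g hgx
  have hy2 : ∃ k : ℕ, orderOf (g * x * g⁻¹) = 2 ^ k := by
    obtain ⟨k, hk⟩ := hx2
    refine ⟨k, ?_⟩
    rw [← hk]
    exact orderOf_conj' g x
  obtain ⟨u₁, hu₁, hc₁⟩ := hcentral x hxH hx2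
  obtain ⟨u₂, hu₂, hc₂⟩ := hcentral _ hgx hy2
  -- work in C = C_G(y)
  have hz₂C : Subgroup.zpowers (u₂ * z * u₂⁻¹) ≤ Subgroup.centralizer ({g * x * g⁻¹} : Set G) := by
    rw [Subgroup.zpowers_le, Subgroup.mem_centralizer_iff]
    intro y hy
    rw [Set.mem_singleton_iff] at hy
    rw [hy]; exact hc₂.symm
  have hz₁C : Subgroup.zpowers (g * (u₁ * z * u₁⁻¹) * g⁻¹) ≤ Subgroup.centralizer ({g * x * g⁻¹} : Set G) := by
    rw [Subgroup.zpowers_le, Subgroup.mem_centralizer_iff]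
    intro y hy
    rw [Set.mem_singleton_iff] at hy
    rw [hy]
    calc g * x * g⁻¹ * (g * (u₁ * z * u₁⁻¹) * g⁻¹) = g * (x * (u₁ * z * u₁⁻¹)) * g⁻¹ := by group
      _ = g * ((u₁ * z * u₁⁻¹) * x) * g⁻¹ := by rw [hc₁]
      _ = g * (u₁ * z * u₁⁻¹) * g⁻¹ * (g * x * g⁻¹) := by group
  have ho : ∀ u : G, orderOf (u * z * u⁻¹) = 2 ^ 1 := by
    intro u; rw [orderOf_conj', hz2]; rfl
  have hp₂ : IsPGroup 2 (Subgroup.zpowers (u₂ * z * u₂⁻¹)) := isPGroup_zpowers ⟨1, ho u₂⟩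
  have hp₁ : IsPGroup 2 (Subgroup.zpowers (g * (u₁ * z * u₁⁻¹) * g⁻¹)) := by
    apply isPGroup_zpowers
    refine ⟨1, ?_⟩
    rw [orderOf_conj']; exact ho u₁
  obtain ⟨T, hzT, hTC, hTp, hTcard⟩ := exists_isPGroup_card_eq hp₂ hz₂C
  obtain ⟨c, hc, hcT⟩ := exists_conj_le_of_card_eq hTC hTcard hp₁ hz₁C
  -- T fixes a point of G ⧸ H
  have hcardodd : ¬ 2 ∣ Nat.card (G ⧸ H) := by
    have : Nat.card (G ⧸ H) = H.index := rfl
    rw [this, ← even_iff_two_dvd, Nat.not_even_iff_odd]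
    exact hodd
  obtain ⟨pt, hpt⟩ := hTp.nonempty_fixed_point_of_prime_not_dvd_card (G ⧸ H) hcardodd
  obtain ⟨a, rfl⟩ := QuotientGroup.mk_surjective pt
  rw [MulAction.mem_fixedPoints] at hpt
  -- z₂ ∈ T fixes pt
  have h1 : (u₂ * z * u₂⁻¹) • (QuotientGroup.mk a : G ⧸ H) = QuotientGroup.mk a :=
    hpt ⟨_, hzT (Subgroup.mem_zpowers _)⟩
  have h2 := hfixu u₂ a h1
  -- (c g u₁) z (c g u₁)⁻¹ ∈ T fixes pt
  have hmem : (c * g * u₁) * z * (c * g * u₁)⁻¹ ∈ T := by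
    apply hcT
    refine ⟨g * (u₁ * z * u₁⁻¹) * g⁻¹, Subgroup.mem_zpowers _, ?_⟩
    simp only [MulEquiv.toMonoidHom_eq_coe, MonoidHom.coe_coe, MulAut.conj_apply]
    group
  have h3 : ((c * g * u₁) * z * (c * g * u₁)⁻¹) • (QuotientGroup.mk a : G ⧸ H) = QuotientGroup.mk a :=
    hpt ⟨_, hmem⟩
  have h4 := hfixu (c * g * u₁) a h3
  have h5 : (QuotientGroup.mk u₂ : G ⧸ H) = QuotientGroup.mk (c * g * u₁) := h2.symm.trans h4
  rw [QuotientGroup.eq] at h5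
  have hcg : c * g ∈ H := by
    have e : c * g = u₂ * (u₂⁻¹ * (c * g * u₁)) * u₁⁻¹ := by group
    rw [e]
    exact H.mul_mem (H.mul_mem hu₂ h5) (H.inv_mem hu₁)
  refine ⟨c * g, hcg, ?_⟩
  have hcy := (Subgroup.mem_centralizer_iff.mp hc) (g * x * g⁻¹) rfl
  calc c * g * x * (c * g)⁻¹ = c * (g * x * g⁻¹) * c⁻¹ := by group
    _ = (g * x * g⁻¹) * c * c⁻¹ := by rw [← hcy]
    _ = g * x * g⁻¹ := by group

end Cfsg.Agent.S5438
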