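import Cfsg.Statements.S5439
import Mathlib
import Cfsg.Agent.Lib.Helper9.Involutions

set_option autoImplicit false
open Cfsg Cfsg.Agent.Lib.Helper9

namespace Cfsg.Agent.S5439

theorem result {G : Type*} [Group G] [Finite G] (I J : Set G) (a₀ b₀ : G) (ha₀ : orderOf a₀ = 2) (hb₀ : orderOf b₀ = 2) (hI : I = {x | IsConj a₀ x}) (hJ : J = {x | IsConj b₀ x}) (hIJ : I ≠ J) (H : Subgroup G) (hfix : ∀ x ∈ I ∪ J, ∃! c : G ⧸ H, x • c = c) (hcent : ∀ a ∈ I, a ∈ H → ∀ b ∈ I ∪ J, b ∈ H → a ≠ b → a * b = b * a → Subgroup.centralizer ({a * b} : Set G) ≤ H) : H = ⊤ := by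
  have hIsq : ∀ x ∈ I, x * x = 1 := by
    intro x hx
    rw [hI] at hx
    obtain ⟨g, rfl⟩ := isConj_iff.mp hx
    apply sq_eq_one_of_orderOf_two
    rw [orderOf_conj_eq]; exact ha₀
  have hJsq : ∀ x ∈ J, x * x = 1 := by
    intro x hx
    rw [hJ] at hx
    obtain ⟨g, rfl⟩ := isConj_iff.mp hx
    apply sq_eq_one_of_orderOf_two
    rw [orderOf_conj_eq]; exact hb₀
  have hDsq : ∀ d ∈ I ∪ J, d * d = 1 := by
    rintro d (hd | hd)
    · exact hIsq d hd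
    · exact hJsq d hd
  have hIconj : ∀ g : G, ∀ d ∈ I, g * d * g⁻¹ ∈ I := by
    intro g d hd
    rw [hI] at hd ⊢
    exact hd.trans (isConj_iff.mpr ⟨g, rfl⟩)
  have hJconj : ∀ g : G, ∀ d ∈ J, g * d * g⁻¹ ∈ J := by
    intro g d hd
    rw [hJ] at hd ⊢
    exact hd.trans (isConj_iff.mpr ⟨g, rfl⟩)
  have hDconj : ∀ g : G, ∀ d ∈ I ∪ J, g * d * g⁻¹ ∈ I ∪ J := by
    rintro g d (hd | hd)
    · exact Or.inl (hIconj g d hd)
    · exact Or.inr (hJconj g d hd)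
  have hnc : ∀ a ∈ I, ∀ b ∈ J, ¬ IsConj a b := by
    intro a ha b hb hab
    apply hIJ
    rw [hI] at ha
    rw [hJ] at hb
    rw [hI, hJ]
    have h0 : IsConj a₀ b₀ := (ha.trans hab).trans hb.symm
    ext x
    exact ⟨fun hx => h0.symm.trans hx, fun hx => h0.trans hx⟩
  -- members of I and J in H
  have hexI : ∃ a ∈ I, a ∈ H := by
    have ha₀I : a₀ ∈ I := by rw [hI]; exact IsConj.refl a₀
    obtain ⟨c, hc, -⟩ := hfix a₀ (Or.inl ha₀I)
    obtain ⟨g, rfl⟩ := QuotientGroup.mk_surjective c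
    rw [smul_mk_eq_self_iff] at hc
    refine ⟨g⁻¹ * a₀ * g, ?_, hc⟩
    have := hIconj g⁻¹ a₀ ha₀I
    rwa [inv_inv] at this
  have hexJ : ∃ b ∈ J, b ∈ H := by
    have hb₀J : b₀ ∈ J := by rw [hJ]; exact IsConj.refl b₀
    obtain ⟨c, hc, -⟩ := hfix b₀ (Or.inr hb₀J)
    obtain ⟨g, rfl⟩ := QuotientGroup.mk_surjective c
    rw [smul_mk_eq_self_iff] at hc
    refine ⟨g⁻¹ * b₀ * g, ?_, hc⟩
    have := hJconj g⁻¹ b₀ hb₀J
    rwa [inv_inv] at this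
  obtain ⟨a, haI, haH⟩ := hexI
  obtain ⟨b₁, hb₁J, hb₁H⟩ := hexJ
  rw [eq_top_iff]
  intro g _
  have hbJ : g * b₁ * g⁻¹ ∈ J := hJconj g b₁ hb₁J
  have ha2 := hIsq a haI
  have hb2 := hJsq _ hbJ
  -- the order of a * b is even
  have heven : Even (orderOf (a * (g * b₁ * g⁻¹))) := by
    rw [← Nat.not_odd_iff_even]
    rintro ⟨m, hm⟩
    have h1 : (a * (g * b₁ * g⁻¹)) ^ (2 * m + 1) = 1 := by rw [← hm]; exact pow_orderOf_eq_one _
    have h2 := conj_of_pow_odd ha2 hb2 h1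
    exact hnc a haI _ hbJ (isConj_iff.mpr ⟨_, h2⟩)
  obtain ⟨k, hk⟩ := heven
  have hnpos : 0 < orderOf (a * (g * b₁ * g⁻¹)) := orderOf_pos _
  have hkpos : 0 < k := by omega
  have hc2 : (a * (g * b₁ * g⁻¹)) ^ k * (a * (g * b₁ * g⁻¹)) ^ k = 1 := by
    rw [← pow_add, ← hk, pow_orderOf_eq_one]
  have hc1 : (a * (g * b₁ * g⁻¹)) ^ k ≠ 1 := by
    intro h
    have := orderOf_dvd_of_pow_eq_one h
    have := Nat.le_of_dvd hkpos this
    omega
  obtain ⟨hca, hcb⟩ := commute_pow_of_pow_two_mul ha2 hb2 hc2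
  -- c fixes the coset H, so c ∈ H
  have hafix : a • (QuotientGroup.mk 1 : G ⧸ H) = QuotientGroup.mk 1 := by
    rw [smul_mk_eq_self_iff]; simpa using haH
  have hcH : (a * (g * b₁ * g⁻¹)) ^ k ∈ H := by
    obtain ⟨p, -, huniq⟩ := hfix a (Or.inl haI)
    have h1 : a • ((a * (g * b₁ * g⁻¹)) ^ k • (QuotientGroup.mk 1 : G ⧸ H)) =
        (a * (g * b₁ * g⁻¹)) ^ k • (QuotientGroup.mk 1 : G ⧸ H) := by
      rw [← mul_smul, hca.eq, mul_smul, hafix]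
    have h2 := (huniq _ h1).trans (huniq _ hafix).symm
    rw [smul_mk_eq_self_iff] at h2
    simpa using h2
  have hacD : a * (a * (g * b₁ * g⁻¹)) ^ k ∈ I ∪ J :=
    mem_of_pow_of_conj_invariant hDsq hDconj (Or.inl haI) (Or.inr hbJ) k
  have hacH : a * (a * (g * b₁ * g⁻¹)) ^ k ∈ H := H.mul_mem haH hcH
  have hne : a ≠ a * (a * (g * b₁ * g⁻¹)) ^ k := by
    intro h
    apply hc1
    have := mul_left_cancel (h.symm.trans (mul_one a).symm)
    exact this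
  have hcomm : a * (a * (a * (g * b₁ * g⁻¹)) ^ k) = a * (a * (g * b₁ * g⁻¹)) ^ k * a :=
    ((Commute.refl a).mul_right hca).eq
  have hcen := hcent a haI haH _ hacD hacH hne hcomm
  have haa : a * (a * (a * (g * b₁ * g⁻¹)) ^ k) = (a * (g * b₁ * g⁻¹)) ^ k := by
    rw [← mul_assoc, ha2, one_mul]
  rw [haa] at hcen
  have hbH : g * b₁ * g⁻¹ ∈ H := by
    apply hcen
    rw [Subgroup.mem_centralizer_iff]
    intro y hy
    rw [Set.mem_singleton_iff] at hy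
    rw [hy]; exact hcb.eq.symm
  -- b fixes both H and gH
  obtain ⟨p, -, huniq⟩ := hfix _ (Or.inr hbJ)
  have h1 : (g * b₁ * g⁻¹) • (QuotientGroup.mk 1 : G ⧸ H) = QuotientGroup.mk 1 := by
    rw [smul_mk_eq_self_iff]; simpa using hbH
  have h2 : (g * b₁ * g⁻¹) • (QuotientGroup.mk g : G ⧸ H) = QuotientGroup.mk g := by
    rw [smul_mk_eq_self_iff]
    have e : g⁻¹ * (g * b₁ * g⁻¹) * g = b₁ := by group
    rw [e]; exact hb₁H
  have h3 := (huniq _ h1).trans (huniq _ h2).symm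
  rw [QuotientGroup.eq] at h3
  simpa using h3

end Cfsg.Agent.S5439
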