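import Mathlib
import Cfsg.Statements.S5459
import Cfsg.Agent.Lib.Helper9.CommGraphLift1
import Cfsg.Agent.Lib.Helper9.CommGraphLift2
import Cfsg.Agent.Lib.Helper9.CommGraphLift3

set_option autoImplicit false
open Cfsg
open Cfsg.Agent

namespace Cfsg.Agent.S5459

/-- Let G be a finite group with a quasisimple normal subgroup L and an involution d such that G is generated by L and d, the centre of L has odd order, and d inverts every element of the centre of L. If the commuting graph on the conjugacy class of the image of d in G modulo the centre of L is connected, then the commuting graph on the conjugacy class of d is connected. -/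
theorem result {G : Type*} [Group G] [Finite G] (L : Subgroup G) [L.Normal] (hL : Cfsg.IsQuasisimple ↥L) (d : G) (hd : orderOf d = 2) (hgen : L ⊔ Subgroup.zpowers d = ⊤) (hodd : Odd (Nat.card ↥(Subgroup.center ↥L))) (hinv : ∀ c ∈ (Subgroup.center ↥L).map L.subtype, d * c * d⁻¹ = c⁻¹) [hn : ((Subgroup.center ↥L).map L.subtype).Normal] (hconn : (Cfsg.commutingGraph (conjugatesOf (QuotientGroup.mk d : G ⧸ (Subgroup.center ↥L).map L.subtype))).Connected) : (Cfsg.commutingGraph (conjugatesOf d)).Connected := by
  have hdd : d * d = 1 := by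
    rw [← pow_two, ← hd]; exact pow_orderOf_eq_one d
  have hsqrt := H9CG.sqrt_of_odd L hodd
  apply H9CG.connected_of_le _ d hdd hinv hsqrt hconn
  apply H9CG.Z_le L hL d hinv hsqrt
  show Subgroup.closure (Group.conjugatesOfSet {d}) ≤ _
  rw [Subgroup.closure_le]
  intro x hx
  rw [Group.mem_conjugatesOfSet_iff] at hx
  obtain ⟨b, hb, hbx⟩ := hx
  rw [Set.mem_singleton_iff] at hb
  subst hb
  have hxD : x ∈ conjugatesOf b := hbx
  have hxq : (QuotientGroup.mk x : G ⧸ (Subgroup.center ↥L).map L.subtype) ∈
      conjugatesOf (QuotientGroup.mk b : G ⧸ (Subgroup.center ↥L).map L.subtype) := by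
    obtain ⟨g, hg⟩ := isConj_iff.1 hbx
    show IsConj _ _
    rw [isConj_iff]
    refine ⟨QuotientGroup.mk g, ?_⟩
    rw [← hg]; simp
  obtain ⟨c, hc, hcx⟩ := H9CG.surj _ b hinv hsqrt ⟨_, hxq⟩ (hconn.preconnected _ _)
  simp only at hcx
  have hz : c⁻¹ * x ∈ (Subgroup.center ↥L).map L.subtype := QuotientGroup.eq.1 hcx
  have e : x = c * (c⁻¹ * x) := by group
  show x ∈ _
  rw [e]
  exact Subgroup.mul_mem_sup (Subgroup.subset_closure hc) hz

end Cfsg.Agent.S5459
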