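import Mathlib
import Cfsg.Statements.S5521
import Cfsg.Agent.Lib.Helper9.M24H

set_option autoImplicit false
open Cfsg

namespace Cfsg.Agent.S5521

open Cfsg.Agent.Lib.Helper9.M24

/-- For every point, some non-identity element of the stabilizer of the five base points fixes it. -/
theorem exists_ne_one_fixing (z : Cfsg.GolayPt) :
    ∃ k ∈ fixer [none, some 0, some 1, some 2, some 3], k ≠ 1 ∧ k z = z := by
  by_contra hcon
  push Not at hcon
  have hinj : Function.Injective
      (fun k : fixer [none, some 0, some 1, some 2, some 3] => (k : Equiv.Perm Cfsg.GolayPt) z) := by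
    intro k₁ k₂ h
    have h1 : ((k₂⁻¹ * k₁ : fixer [none, some 0, some 1, some 2, some 3]) : Equiv.Perm Cfsg.GolayPt) z = z := by
      show ((k₂ : Equiv.Perm Cfsg.GolayPt)⁻¹ * (k₁ : Equiv.Perm Cfsg.GolayPt)) z = z
      rw [Equiv.Perm.mul_apply, Equiv.Perm.inv_eq_iff_eq]
      exact h
    have h2 : ((k₂⁻¹ * k₁ : fixer [none, some 0, some 1, some 2, some 3]) : Equiv.Perm Cfsg.GolayPt) = 1 := by
      by_contra hne
      exact hcon _ (k₂⁻¹ * k₁).2 hne h1
    have h3 : k₂⁻¹ * k₁ = 1 := Subtype.ext h2
    have h4 : k₁ = k₂ := by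
      have := congrArg (fun t => k₂ * t) h3
      simpa using this
    exact h4
  have := Nat.card_le_card_of_injective _ hinj
  rw [card_fixer5, card_golayPt'] at this
  omega

/-- The Mathieu group M₂₄ in its natural action on the 24 coordinate positions of the binary Golay code has minimal base size exactly 7: every set of at most 6 positions is fixed pointwise by some non-identity element of M₂₄, while some set of 7 positions is fixed pointwise only by the identity. -/
theorem result :
    (∀ B : Finset Cfsg.GolayPt, B.card ≤ 6 → ∃ g ∈ Cfsg.M24, g ≠ 1 ∧ ∀ b ∈ B, g b = b) ∧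
    (∃ B : Finset Cfsg.GolayPt, B.card = 7 ∧ ∀ g ∈ Cfsg.M24, (∀ b ∈ B, g b = b) → g = 1) := by
  constructor
  · intro B hB
    obtain ⟨B', hBB', hB'⟩ := Finset.exists_superset_card_eq hB (by rw [Cfsg.Agent.Lib.Helper9.GolayG.card_golayPt]; norm_num)
    obtain ⟨s, hsB', hs⟩ := Finset.exists_subset_card_eq (s := B') (n := 5) (by omega)
    have hdiff : (B' \ s).card = 1 := by rw [Finset.card_sdiff_of_subset hsB']; omega
    obtain ⟨z, hz⟩ := Finset.card_eq_one.mp hdiff
    obtain ⟨g₀, hg₀, hgs⟩ := exists_map_five s {none, some 0, some 1, some 2, some 3} hs (by decide)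
    obtain ⟨k, hk, hk1, hkz⟩ := exists_ne_one_fixing (g₀ z)
    refine ⟨g₀⁻¹ * k * g₀, Subgroup.mul_mem _ (Subgroup.mul_mem _ (Subgroup.inv_mem _ hg₀) hk.1) hg₀, ?_, ?_⟩
    · intro h
      apply hk1
      have := congrArg (fun t => g₀ * t * g₀⁻¹) h
      simpa [mul_assoc] using this
    · intro b hb
      have hb' := hBB' hb
      rw [Equiv.Perm.mul_apply, Equiv.Perm.mul_apply, Equiv.Perm.inv_eq_iff_eq]
      by_cases hbs : b ∈ s
      · have h1 : g₀ b ∈ ({none, some 0, some 1, some 2, some 3} : Finset Cfsg.GolayPt) := by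
          rw [← hgs]; exact Finset.mem_image_of_mem _ hbs
        apply hk.2
        revert h1
        generalize g₀ b = w
        revert w
        decide
      · have : b ∈ B' \ s := Finset.mem_sdiff.mpr ⟨hb', hbs⟩
        rw [hz, Finset.mem_singleton] at this
        rw [this]
        exact hkz
  · refine ⟨{some 4, some 5, none, some 0, some 1, some 2, some 3}, by decide, ?_⟩
    intro g hg hfix
    have : g ∈ fixer [some 4, some 5, none, some 0, some 1, some 2, some 3] := by
      refine ⟨hg, fun p hp => hfix p ?_⟩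
      revert p
      decide
    rw [fixer7_eq_bot, Subgroup.mem_bot] at this
    exact this

end Cfsg.Agent.S5521
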