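import Mathlib
import Cfsg.Statements.S5522
import Cfsg.Agent.Lib.Helper9.M24Ord3
import Cfsg.Agent.Lib.Helper9.M24O

set_option autoImplicit false
open scoped Pointwise
open Cfsg

namespace Cfsg.Agent.S5522

open Cfsg.Agent.Lib.Helper9 Cfsg.Agent.Lib.Helper9.M24

theorem sq_codeSet : CodeSet Cfsg.Spor.squareDodecad := by
  unfold CodeSet Cfsg.Spor.squareDodecad
  rw [indW_support₂]
  exact Submodule.subset_span (Set.mem_union_left _ ⟨0, rfl⟩)

theorem sq_card : Cfsg.Spor.squareDodecad.card = 12 := by decide

theorem zero_mem_sq : (some 0 : GolayPt) ∈ Cfsg.Spor.squareDodecad := by decide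

theorem mem_M11_iff (g : Equiv.Perm GolayPt) :
    g ∈ Cfsg.Spor.M11 ↔ g ∈ M24 ∧ Cfsg.Spor.squareDodecad.image g = Cfsg.Spor.squareDodecad ∧
      g (some 0) = some 0 := by
  unfold Cfsg.Spor.M11 Cfsg.Spor.M12
  rw [Subgroup.mem_inf, Subgroup.mem_inf, MulAction.mem_stabilizer_iff, MulAction.mem_stabilizer_iff]
  constructor
  · rintro ⟨⟨h1, h2⟩, h3⟩
    exact ⟨h1, h2, h3⟩
  · rintro ⟨h1, h2, h3⟩
    exact ⟨⟨h1, h2⟩, h3⟩

theorem aux (d : Finset GolayPt) (hdC : CodeSet d) (hd12 : d.card = 12) (g : Equiv.Perm GolayPt)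
    (hgM : g ∈ M24) (hgd : d.image g = d) (hg0 : g (some 0) = some 0) (p : ℕ) (hp : p = orderOf g)
    (hord : p.Prime) : ∃ x : Cfsg.GolayPt, x ∉ d ∧ g x = x := by
  haveI : Fact p.Prime := ⟨hord⟩
  have hgp : g ^ p = 1 := by rw [hp]; exact pow_orderOf_eq_one g
  have hne : g ≠ 1 := by
    intro h
    rw [h, orderOf_one] at hp
    rw [hp] at hord
    exact Nat.not_prime_one hord
  have hdinv : ∀ y, g y ∈ d ↔ y ∈ d := apply_mem_iff_of_image_eq hgd
  by_cases h12 : p ∣ 12
  · have hp23 : p = 2 ∨ p = 3 := by
      have hle : p ≤ 12 := Nat.le_of_dvd (by norm_num) h12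
      have h2 := hord.two_le
      interval_cases p <;> first | omega | (exfalso; revert hord; decide) | (exfalso; revert h12; decide)
    rcases hp23 with h2 | h3
    · -- involution
      have hsq : g * g = 1 := by rw [h2, pow_two] at hgp; exact hgp
      have hoct := invol_fixSet_mem_octads hgM hsq hne hg0
      have hinter := CodeSet.inter_octad_ne hdC hd12 hoct
      have hlt : (fixSet g ∩ d).card < (fixSet g).card := by
        rw [octads_isOctadSystem.card_eq hoct]
        omega
      obtain ⟨x, hx, hxn⟩ := Finset.exists_mem_notMem_of_card_lt_card hlt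
      refine ⟨x, fun hxd => hxn (Finset.mem_inter.mpr ⟨hx, hxd⟩), (mem_fixSet _ _).mp hx⟩
    · -- order three
      have hcube : g * g * g = 1 := by rw [h3, pow_succ, pow_two] at hgp; exact hgp
      have hg3 : g ^ 3 ^ 1 = 1 := cube_pow hcube
      haveI : Fact (Nat.Prime 3) := ⟨Nat.prime_three⟩
      have hU := ord3_card_fixSet hgM hcube hne hg0
      by_contra hcon
      push Not at hcon
      have hUd : fixSet g ⊆ d := by
        intro y hy
        by_contra hyd
        exact hcon y hyd ((mem_fixSet _ _).mp hy)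
      obtain ⟨s, hsU, hs5⟩ := Finset.exists_subset_card_eq (s := fixSet g) (n := 5) (by omega)
      obtain ⟨O, hO, hsO⟩ := octads_isOctadSystem.exists_block s hs5
      have hOg : O.image g = O := octad_image_eq_of_fix hgM hO hsO (by omega)
        (fun y hy => (mem_fixSet _ _).mp (hsU hy))
      have hOinv : ∀ y, g y ∈ O ↔ y ∈ O := apply_mem_iff_of_image_eq hOg
      have hinter := CodeSet.inter_octad_ne hdC hd12 hO
      have hsOd : s ⊆ O ∩ d := fun y hy => Finset.mem_inter.mpr ⟨hsO hy, hUd (hsU hy)⟩
      have h6 : (O ∩ d).card = 6 := by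
        have := Finset.card_le_card hsOd
        omega
      -- the sixth point of `O ∩ d` is fixed
      obtain ⟨y, hy, hgy⟩ := exists_fixed_of_prime_pow g 3 1 hg3 ((O ∩ d) \ s) (by
          intro y
          rw [Finset.mem_sdiff, Finset.mem_sdiff, Finset.mem_inter, Finset.mem_inter, hOinv, hdinv]
          have : g y ∈ s ↔ y ∈ s := by
            constructor
            · intro h
              have h1 := (mem_fixSet _ _).mp (hsU h)
              have := g.injective h1
              rwa [this] at h
            · intro h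
              rwa [(mem_fixSet _ _).mp (hsU h)]
          rw [this]) (by
          rw [Finset.card_sdiff_of_subset hsOd, h6, hs5]; decide)
      rw [Finset.mem_sdiff, Finset.mem_inter] at hy
      -- so `O` contains six fixed points
      have hsy : insert y s ⊆ fixSet g ∩ O := by
        intro z hz
        rw [Finset.mem_insert] at hz
        rcases hz with rfl | hz
        · exact Finset.mem_inter.mpr ⟨(mem_fixSet _ _).mpr hgy, hy.1.1⟩
        · exact Finset.mem_inter.mpr ⟨hsU hz, hsO hz⟩
      have h6' : 6 ≤ (fixSet g ∩ O).card := by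
        have := Finset.card_le_card hsy
        rwa [Finset.card_insert_of_notMem hy.2, hs5] at this
      have hUO : fixSet g ⊆ O := by
        have h1 : fixSet g ∩ O = fixSet g :=
          Finset.eq_of_subset_of_card_le Finset.inter_subset_left (by rw [hU]; exact h6')
        rw [← h1]
        exact Finset.inter_subset_right
      obtain ⟨z, hz, hgz⟩ := exists_fixed_of_prime_pow g 3 1 hg3 (O \ fixSet g) (by
          intro y
          rw [Finset.mem_sdiff, Finset.mem_sdiff, hOinv, mem_fixSet, mem_fixSet]
          have : g (g y) = g y ↔ g y = y := ⟨fun h => g.injective h, fun h => congrArg g h⟩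
          rw [this]) (by
          rw [Finset.card_sdiff_of_subset hUO, octads_isOctadSystem.card_eq hO, hU]; decide)
      rw [Finset.mem_sdiff] at hz
      exact hz.2 ((mem_fixSet _ _).mpr hgz)
  · -- the prime does not divide 12
    obtain ⟨x, hx, hgx⟩ := exists_fixed_of_prime_pow g p 1 (by rw [pow_one]; exact hgp)
      (Finset.univ \ d) (by
        intro y
        rw [Finset.mem_sdiff, Finset.mem_sdiff, hdinv]
        simp) (by
        rw [Finset.card_sdiff_of_subset (Finset.subset_univ _), Finset.card_univ, hd12]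
        have : Fintype.card GolayPt = 24 := by decide
        rw [this]
        exact h12)
    rw [Finset.mem_sdiff] at hx
    exact ⟨x, hx.2, hgx⟩

theorem result (g : Equiv.Perm Cfsg.GolayPt) (hg : g ∈ Cfsg.Spor.M11) (hord : (orderOf g).Prime) :
    ∃ x : Cfsg.GolayPt, x ∉ Cfsg.Spor.squareDodecad ∧ g x = x := by
  rw [mem_M11_iff] at hg
  obtain ⟨hgM, hgd, hg0⟩ := hg
  exact aux _ sq_codeSet sq_card g hgM hgd hg0 _ rfl hord

end Cfsg.Agent.S5522
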