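import Mathlib
import Cfsg.Statements.S5541

set_option autoImplicit false
open Cfsg

namespace Cfsg.Agent.S5541

/-- Let ρ be a representation of a group H on a finite-dimensional real vector space U whose only ρ-invariant subspaces are the zero subspace and U, and suppose U carries a non-zero ρ-invariant symmetric bilinear form. Then the following are equivalent: (1) there is a non-zero ρ-equivariant commutative bilinear product on U of which every ρ-equivariant bilinear product is a scalar multiple; (2) there is a non-zero ρ-invariant trilinear form on U that is symmetric under all permutations of its arguments and of which every ρ-invariant trilinear form is a scalar multiple. -/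
theorem result {H : Type*} [Group H] {U : Type*} [AddCommGroup U] [Module ℝ U] [FiniteDimensional ℝ U] (ρ : Representation ℝ H U) (hirr : ∀ W : Submodule ℝ U, (∀ g : H, W.map (ρ g) ≤ W) → W = ⊥ ∨ W = ⊤) (B : LinearMap.BilinForm ℝ U) (hB0 : B ≠ 0) (hBs : ∀ u v, B u v = B v u) (hBi : ∀ (g : H) (u v : U), B (ρ g u) (ρ g v) = B u v) : (∃ m : U →ₗ[ℝ] U →ₗ[ℝ] U, m ≠ 0 ∧ (∀ u v, m u v = m v u) ∧ (∀ (g : H) (u v : U), m (ρ g u) (ρ g v) = ρ g (m u v)) ∧ ∀ m' : U →ₗ[ℝ] U →ₗ[ℝ] U, (∀ (g : H) (u v : U), m' (ρ g u) (ρ g v) = ρ g (m' u v)) → ∃ c : ℝ, m' = c • m) ↔ (∃ t : U →ₗ[ℝ] U →ₗ[ℝ] U →ₗ[ℝ] ℝ, t ≠ 0 ∧ (∀ u v w, t u v w = t v u w ∧ t u v w = t u w v) ∧ (∀ (g : H) (u v w : U), t (ρ g u) (ρ g v) (ρ g w) = t u v w) ∧ ∀ t' : U →ₗ[ℝ] U →ₗ[ℝ] U →ₗ[ℝ] ℝ, (∀ (g : H) (u v w : U), t' (ρ g u) (ρ g v) (ρ g w) = t' u v w) → ∃ c : ℝ, t' = c • t) := by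
  classical
  -- nondegeneracy of B
  have hgg : ∀ (g : H) (w : U), ρ g (ρ g⁻¹ w) = w := by
    intro g w
    rw [← Module.End.mul_apply, ← map_mul, mul_inv_cancel, map_one, Module.End.one_apply]
  have hker : LinearMap.ker B = ⊥ := by
    rcases hirr (LinearMap.ker B) (by
      intro g
      rintro _ ⟨u, hu, rfl⟩
      have hu : u ∈ LinearMap.ker B := hu
      rw [LinearMap.mem_ker] at hu ⊢
      apply LinearMap.ext
      intro v
      rw [← hgg g v, hBi, hu]
      rfl) with h | h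
    · exact h
    · exfalso
      apply hB0
      exact LinearMap.ker_eq_top.1 h
  have hsepL : ∀ a : U, (∀ w, B a w = 0) → a = 0 := by
    intro a ha
    have : a ∈ LinearMap.ker B := by
      rw [LinearMap.mem_ker]
      apply LinearMap.ext
      intro w
      exact ha w
    rw [hker] at this
    exact this
  have hinj : ∀ a b : U, (∀ w, B a w = B b w) → a = b := by
    intro a b hab
    apply sub_eq_zero.1
    apply hsepL
    intro w
    rw [map_sub, LinearMap.sub_apply, hab w, sub_self]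
  have hnd : B.Nondegenerate := by
    refine ⟨fun a ha => hsepL a ha, fun a ha => hsepL a (fun w => ?_)⟩
    rw [hBs]
    exact ha w
  -- the correspondence
  set Ψ : (U →ₗ[ℝ] U →ₗ[ℝ] U) → (U →ₗ[ℝ] U →ₗ[ℝ] U →ₗ[ℝ] ℝ) := fun m => m.compr₂ B with hΨ
  set Φ : (U →ₗ[ℝ] U →ₗ[ℝ] U →ₗ[ℝ] ℝ) → (U →ₗ[ℝ] U →ₗ[ℝ] U) :=
    fun t => t.compr₂ ((B.toDual hnd).symm : Module.Dual ℝ U →ₗ[ℝ] U) with hΦ
  have hΨa : ∀ m u v w, Ψ m u v w = B (m u v) w := fun m u v w => rfl
  have hΦa : ∀ t u v w, B (Φ t u v) w = t u v w := by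
    intro t u v w
    show B ((B.toDual hnd).symm (t u v)) w = t u v w
    exact LinearMap.BilinForm.apply_toDual_symm_apply _ _
  have hΨΦ : ∀ t, Ψ (Φ t) = t := by
    intro t
    apply LinearMap.ext; intro u
    apply LinearMap.ext; intro v
    apply LinearMap.ext; intro w
    rw [hΨa, hΦa]
  have hΦΨ : ∀ m, Φ (Ψ m) = m := by
    intro m
    apply LinearMap.ext; intro u
    apply LinearMap.ext; intro v
    apply hinj
    intro w
    rw [hΦa, hΨa]
  have hΨinv : ∀ m : U →ₗ[ℝ] U →ₗ[ℝ] U, (∀ (g : H) (u v : U), m (ρ g u) (ρ g v) = ρ g (m u v)) →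
      ∀ (g : H) (u v w : U), Ψ m (ρ g u) (ρ g v) (ρ g w) = Ψ m u v w := by
    intro m hm g u v w
    rw [hΨa, hΨa, hm, hBi]
  have hΦeq : ∀ t : U →ₗ[ℝ] U →ₗ[ℝ] U →ₗ[ℝ] ℝ,
      (∀ (g : H) (u v w : U), t (ρ g u) (ρ g v) (ρ g w) = t u v w) →
      ∀ (g : H) (u v : U), Φ t (ρ g u) (ρ g v) = ρ g (Φ t u v) := by
    intro t ht g u v
    apply hinj
    intro w
    rw [hΦa]
    conv_lhs => rw [← hgg g w]
    rw [ht, ← hΦa t u v, ← hBi g, hgg]
  have hΨsmul : ∀ (c : ℝ) m, Ψ (c • m) = c • Ψ m := by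
    intro c m
    apply LinearMap.ext; intro u
    apply LinearMap.ext; intro v
    apply LinearMap.ext; intro w
    rw [hΨa]
    simp only [LinearMap.smul_apply, map_smul, hΨa]
  have hΨ0 : ∀ m, Ψ m = 0 → m = 0 := by
    intro m hm
    rw [← hΦΨ m, hm]
    apply LinearMap.ext; intro u
    apply LinearMap.ext; intro v
    apply hinj
    intro w
    rw [hΦa]
    simp
  constructor
  · rintro ⟨m, hm0, hmc, hme, hmu⟩
    have ht0 : Ψ m ≠ 0 := fun h => hm0 (hΨ0 m h)
    have hs12 : ∀ u v w, Ψ m u v w = Ψ m v u w := by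
      intro u v w
      rw [hΨa, hΨa, hmc]
    -- the (23)-twist
    set t' : U →ₗ[ℝ] U →ₗ[ℝ] U →ₗ[ℝ] ℝ := (LinearMap.lflip (R := ℝ) (M := U) (N := U) (P := ℝ)).comp (Ψ m)
      with ht'
    have ht'a : ∀ u v w, t' u v w = Ψ m u w v := fun u v w => rfl
    have ht'inv : ∀ (g : H) (u v w : U), t' (ρ g u) (ρ g v) (ρ g w) = t' u v w := by
      intro g u v w
      rw [ht'a, ht'a, hΨinv m hme]
    obtain ⟨c, hc⟩ := hmu (Φ t') (hΦeq t' ht'inv)
    have hc' : ∀ u v w, Ψ m u w v = c * Ψ m u v w := by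
      intro u v w
      rw [← ht'a, ← hΨΦ t', hc, hΨsmul]
      rfl
    obtain ⟨u₀, v₀, w₀, h₀⟩ : ∃ u v w, Ψ m u v w ≠ 0 := by
      by_contra hcon
      push Not at hcon
      apply ht0
      apply LinearMap.ext; intro u
      apply LinearMap.ext; intro v
      apply LinearMap.ext; intro w
      exact hcon u v w
    have hcc : c * c = 1 := by
      have h1 := hc' u₀ v₀ w₀
      have h2 := hc' u₀ w₀ v₀
      rw [h1] at h2
      have : (c * c - 1) * Ψ m u₀ v₀ w₀ = 0 := by linear_combination -h2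
      rcases mul_eq_zero.1 this with h | h
      · linear_combination h
      · exact absurd h h₀
    have hc1 : c = 1 := by
      rcases mul_self_eq_one_iff.1 hcc with h | h
      · exact h
      · exfalso
        apply h₀
        have e1 := hc' u₀ v₀ w₀
        have e2 := hs12 u₀ w₀ v₀
        have e3 := hc' w₀ v₀ u₀
        have e4 := hs12 w₀ v₀ u₀
        have e5 := hc' v₀ u₀ w₀
        have e6 := hs12 v₀ u₀ w₀
        rw [h] at e1 e3 e5
        linarith
    refine ⟨Ψ m, ht0, ?_, hΨinv m hme, ?_⟩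
    · intro u v w
      refine ⟨hs12 u v w, ?_⟩
      have := hc' u w v
      rw [hc1, one_mul] at this
      exact this
    · intro t'' ht''
      obtain ⟨c₂, hc₂⟩ := hmu (Φ t'') (hΦeq t'' ht'')
      refine ⟨c₂, ?_⟩
      rw [← hΨΦ t'', hc₂, hΨsmul]
  · rintro ⟨t, ht0, hts, hti, htu⟩
    have hm0 : Φ t ≠ 0 := by
      intro h
      apply ht0
      rw [← hΨΦ t, h]
      apply LinearMap.ext; intro u
      apply LinearMap.ext; intro v
      apply LinearMap.ext; intro w
      rw [hΨa]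
      simp
    refine ⟨Φ t, hm0, ?_, hΦeq t hti, ?_⟩
    · intro u v
      apply hinj
      intro w
      rw [hΦa, hΦa]
      exact (hts u v w).1
    · intro m' hm'
      obtain ⟨c, hc⟩ := htu (Ψ m') (hΨinv m' hm')
      refine ⟨c, ?_⟩
      rw [← hΦΨ m', hc]
      apply LinearMap.ext; intro u
      apply LinearMap.ext; intro v
      apply hinj
      intro w
      rw [hΦa]
      simp only [LinearMap.smul_apply, map_smul, smul_eq_mul, hΦa]

end Cfsg.Agent.S5541
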