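import Mathlib
import Cfsg.Statements.S5543

set_option autoImplicit false
open Cfsg

namespace Cfsg.Agent.S5543

/-- Let V be a finite-dimensional real vector space with a commutative bilinear product and a positive-definite symmetric bilinear form that associates with the product and satisfies the Norton inequality (the Majorana setting of the definitions). Let X be a group of linear automorphisms of V in which every element squares to the identity, and suppose every non-identity element x of X is a Majorana involution with an axial vector a(x) of squared length 1, such that for any two distinct non-identity x, y the product a(x) ∘ a(y) equals (1/8)(a(x) + a(y) − a(xy)) (the dihedral subalgebra of type 2A whose third axis belongs to the involution xy). Then X has order at most 4. -/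
theorem result {V : Type*} [AddCommGroup V] [Module ℝ V] [FiniteDimensional ℝ V] (mul : V →ₗ[ℝ] V →ₗ[ℝ] V) (B : LinearMap.BilinForm ℝ V) (hV : Cfsg.Axial.IsMajoranaAmbient mul B) (X : Subgroup (V ≃ₗ[ℝ] V)) (hX : ∀ x ∈ X, x * x = 1) (ax : (V ≃ₗ[ℝ] V) → V) (hax : ∀ x ∈ X, x ≠ 1 → Cfsg.Axial.IsMajoranaPair mul B x (ax x)) (h1 : ∀ x ∈ X, x ≠ 1 → B (ax x) (ax x) = 1) (h2A : ∀ x ∈ X, ∀ y ∈ X, x ≠ 1 → y ≠ 1 → x ≠ y → mul (ax x) (ax y) = (1 / 8 : ℝ) • (ax x + ax y - ax (x * y))) : Nat.card ↥X ≤ 4 := by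
  classical
  by_contra hcard
  push Not at hcard
  obtain ⟨hcomm, hBsymm, hBpos, hBassoc, -⟩ := hV
  haveI : Finite ↥X := Nat.finite_of_card_ne_zero (by omega)
  haveI : Fintype ↥X := Fintype.ofFinite _
  rw [Nat.card_eq_fintype_card] at hcard
  have hnot : ∀ s : Finset ↥X, s.card ≤ 4 → ∃ z : ↥X, z ∉ s := by
    intro s hs
    by_contra hcon
    push Not at hcon
    have : s = Finset.univ := Finset.eq_univ_iff_forall.2 hcon
    rw [this, Finset.card_univ] at hs
    omega
  -- commutativity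
  have hXc : ∀ s ∈ X, ∀ t ∈ X, s * t = t * s := by
    intro s hs t ht
    have h1 := hX (s * t) (X.mul_mem hs ht)
    have h2 := hX s hs
    have h3 := hX t ht
    calc s * t = (t * t) * (s * t) * (s * s) := by rw [h2, h3, one_mul, mul_one]
      _ = t * (t * s) * ((t * s) * s) := by group
      _ = t * ((t * s) * (t * s)) * s := by group
      _ = t * s := by rw [hX (t * s) (X.mul_mem ht hs), mul_one]
  have hidem : ∀ s ∈ X, s ≠ 1 → mul (ax s) (ax s) = ax s := by
    intro s hs hs1
    exact (hax s hs hs1).2.2.1.1.2.1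
  -- products in X
  have hst1 : ∀ s ∈ X, ∀ t ∈ X, s ≠ t → s * t ≠ 1 := by
    intro s hs t ht hne h
    apply hne
    calc s = s * (t * t) := by rw [hX t ht, mul_one]
      _ = (s * t) * t := by group
      _ = t := by rw [h, one_mul]
  have hsst : ∀ s ∈ X, ∀ t : V ≃ₗ[ℝ] V, s * (s * t) = t := by
    intro s hs t
    rw [← mul_assoc, hX s hs, one_mul]
  -- Lemma A
  have hA : ∀ s ∈ X, ∀ t ∈ X, s ≠ 1 → t ≠ 1 → s ≠ t →
      mul (ax s) (ax t - ax (s * t)) = (1 / 4 : ℝ) • (ax t - ax (s * t)) := by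
    intro s hs t ht hs1 ht1 hne
    have hst := X.mul_mem hs ht
    have e1 := h2A s hs t ht hs1 ht1 hne
    have e2 := h2A s hs (s * t) hst hs1 (hst1 s hs t ht hne) (by
      intro h
      apply ht1
      have : s * 1 = s * t := by rw [mul_one]; exact h
      exact (mul_left_cancel this).symm)
    rw [hsst s hs] at e2
    rw [map_sub, e1, e2]
    module
  -- Lemma B
  have hB8 : ∀ s ∈ X, ∀ t ∈ X, s ≠ 1 → t ≠ 1 → s ≠ t → B (ax s) (ax t) = 1 / 8 := by
    intro s hs t ht hs1 ht1 hne
    have hst := X.mul_mem hs ht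
    have hst1' := hst1 s hs t ht hne
    have hsst' : s ≠ s * t := by
      intro h
      apply ht1
      have : s * 1 = s * t := by rw [mul_one]; exact h
      exact (mul_left_cancel this).symm
    have e1 := h2A s hs t ht hs1 ht1 hne
    have e2 := h2A s hs (s * t) hst hs1 hst1' hsst'
    rw [hsst s hs] at e2
    have a1 := hBassoc (ax s) (ax s) (ax t)
    have a2 := hBassoc (ax s) (ax s) (ax (s * t))
    rw [hidem s hs hs1, e1] at a1
    rw [hidem s hs hs1, e2] at a2
    simp only [map_smul, map_add, map_sub, smul_eq_mul, h1 s hs hs1] at a1 a2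
    linarith
  -- choose x, y, z
  obtain ⟨⟨x, hx⟩, hx'⟩ := hnot {1} (by simp)
  have hx1 : x ≠ 1 := by
    intro h
    apply hx'
    simp [h]
  obtain ⟨⟨y, hy⟩, hy'⟩ := hnot {1, ⟨x, hx⟩} (le_trans (Finset.card_insert_le _ _) (by simp))
  have hy1 : y ≠ 1 := by
    intro h
    apply hy'
    simp [h]
  have hxy : x ≠ y := by
    intro h
    apply hy'
    simp [h]
  obtain ⟨⟨z, hz⟩, hz'⟩ := hnot {1, ⟨x, hx⟩, ⟨y, hy⟩, ⟨x * y, X.mul_mem hx hy⟩} (by
    refine le_trans (Finset.card_insert_le _ _) ?_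
    refine le_trans (Nat.succ_le_succ (Finset.card_insert_le _ _)) ?_
    refine le_trans (Nat.succ_le_succ (Nat.succ_le_succ (Finset.card_insert_le _ _))) ?_
    simp)
  have hz1 : z ≠ 1 := by
    intro h
    apply hz'
    simp [h]
  have hxz : x ≠ z := by
    intro h
    apply hz'
    simp [h]
  have hyz : y ≠ z := by
    intro h
    apply hz'
    simp [h]
  have hxyz : x * y ≠ z := by
    intro h
    apply hz'
    simp [h]
  have hxyX := X.mul_mem hx hy
  have hxzX := X.mul_mem hx hz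
  have hyzX := X.mul_mem hy hz
  have hxy1 := hst1 x hx y hy hxy
  have hxz1 := hst1 x hx z hz hxz
  have hyz1 := hst1 y hy z hz hyz
  -- x ≠ y * z
  have hx_yz : x ≠ y * z := by
    intro h
    apply hxyz
    rw [h, hXc y hy z hz, mul_assoc, hX y hy, mul_one]
  set u := ax y - ax (x * y) with hu
  set v := ax z - ax (x * z) with hv
  have hu4 : mul (ax x) u = (1 / 4 : ℝ) • u := hA x hx y hy hx1 hy1 hxy
  have hv4 : mul (ax x) v = (1 / 4 : ℝ) • v := hA x hx z hz hx1 hz1 hxz
  -- the product u * v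
  have p1 := h2A y hy z hz hy1 hz1 hyz
  have p2 := h2A y hy (x * z) hxzX hy1 hxz1 (by
    intro h
    apply hxyz
    rw [h, ← mul_assoc, hX x hx, one_mul])
  have p3 := h2A (x * y) hxyX z hz hxy1 hz1 hxyz
  have p4 := h2A (x * y) hxyX (x * z) hxzX hxy1 hxz1 (by
    intro h
    exact hyz (mul_left_cancel h))
  have q2 : y * (x * z) = x * (y * z) := by
    rw [← mul_assoc, hXc y hy x hx, mul_assoc]
  have q3 : x * y * z = x * (y * z) := mul_assoc _ _ _
  have q4 : x * y * (x * z) = y * z := by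
    rw [hXc x hx y hy, mul_assoc, hsst x hx]
  rw [q2] at p2
  rw [q3] at p3
  rw [q4] at p4
  set w := ax (y * z) - ax (x * (y * z)) with hw
  have huv : mul u v = (-(1 / 4 : ℝ)) • w := by
    rw [hu, hv]
    simp only [map_sub, LinearMap.sub_apply]
    rw [p1, p2, p3, p4, hw]
    module
  have hw4 : mul (ax x) w = (1 / 4 : ℝ) • w := hA x hx (y * z) hyzX hx1 hyz1 hx_yz
  -- fusion rule
  have hpair := hax x hx hx1
  obtain ⟨-, -, ⟨⟨-, -, -, hfus⟩, -⟩, -⟩ := hpair
  have hmem4 : (1 / 4 : ℝ) ∈ Cfsg.Axial.majoranaSpectrum := by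
    simp [Cfsg.Axial.majoranaSpectrum]
  have hue : u ∈ Cfsg.Axial.eigen mul (ax x) (1 / 4) := Module.End.mem_eigenspace_iff.2 hu4
  have hve : v ∈ Cfsg.Axial.eigen mul (ax x) (1 / 4) := Module.End.mem_eigenspace_iff.2 hv4
  have hf := hfus (1 / 4) hmem4 (1 / 4) hmem4 u hue v hve
  have hlaw : Cfsg.Axial.monsterLaw (1 / 4 : ℝ) (1 / 32) (1 / 4) (1 / 4) = {1, 0} := by
    unfold Cfsg.Axial.monsterLaw
    rw [if_neg (by norm_num), if_neg (by norm_num), if_pos ⟨rfl, rfl⟩]
  rw [hlaw, huv] at hf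
  unfold Cfsg.Axial.eigenSum at hf
  rw [iSup_insert, iSup_singleton] at hf
  obtain ⟨e₁, he₁, e₀, he₀, hsum⟩ := Submodule.mem_sup.1 hf
  have he₁' : mul (ax x) e₁ = (1 : ℝ) • e₁ := Module.End.mem_eigenspace_iff.1 he₁
  have he₀' : mul (ax x) e₀ = (0 : ℝ) • e₀ := Module.End.mem_eigenspace_iff.1 he₀
  rw [one_smul] at he₁'
  rw [zero_smul] at he₀'
  have h3 : mul (ax x) (e₁ + e₀) = (1 / 4 : ℝ) • (e₁ + e₀) := by
    rw [hsum, map_smul, hw4, smul_comm]
  rw [map_add, he₁', he₀', add_zero] at h3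
  have h4 : mul (ax x) e₁ = mul (ax x) ((1 / 4 : ℝ) • (e₁ + e₀)) := by rw [← h3]
  rw [map_smul, map_add, he₁', he₀', add_zero] at h4
  have he₁0 : e₁ = 0 := by
    have : (3 / 4 : ℝ) • e₁ = 0 := by
      have : e₁ - (1 / 4 : ℝ) • e₁ = 0 := sub_eq_zero.2 h4
      rw [← this]
      module
    exact (smul_eq_zero.1 this).resolve_left (by norm_num)
  have he₀0 : e₀ = 0 := by
    rw [he₁0, zero_add] at h3
    have : (1 / 4 : ℝ) • e₀ = 0 := h3.symm
    exact (smul_eq_zero.1 this).resolve_left (by norm_num)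
  rw [he₁0, he₀0, add_zero] at hsum
  have hw0 : w = 0 := (smul_eq_zero.1 hsum.symm).resolve_left (by norm_num)
  have heq : ax (y * z) = ax (x * (y * z)) := sub_eq_zero.1 hw0
  have hxyzX := X.mul_mem hx hyzX
  have hb := hB8 (y * z) hyzX (x * (y * z)) hxyzX hyz1 (hst1 x hx (y * z) hyzX hx_yz) (by
    intro h
    apply hx1
    have : 1 * (y * z) = x * (y * z) := by rw [one_mul]; exact h
    exact (mul_right_cancel this).symm)
  rw [← heq, h1 (y * z) hyzX hyz1] at hb
  norm_num at hb

end Cfsg.Agent.S5543
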