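import Mathlib
import Cfsg.Statements.S5545
import Cfsg.Agent.Lib.Helper9.Maj3

set_option autoImplicit false
open Cfsg
open Cfsg.Agent

namespace Cfsg.Agent.S5545

/-- Let V be a finite-dimensional real vector space with a commutative bilinear product and a positive-definite symmetric bilinear form that associates with the product and satisfies the Norton inequality (the Majorana setting of the definitions). Let μ₀, μ₁ be commuting Majorana involutions with distinct axial vectors a₀ ≠ a₁ of squared length 1, each involution having no other axial vector. Then either a₀ and a₁ are orthogonal with a₀ ∘ a₁ = 0 (type 2B), or their inner product is 1/8 and, with a₂ = a₀ + a₁ − 8 a₀ ∘ a₁, the vector a₂ is an idempotent and a₀ ∘ a₂ = (1/8)(a₀ + a₂ − a₁), a₁ ∘ a₂ = (1/8)(a₁ + a₂ − a₀) (type 2A: the three idempotents span a subalgebra with aᵢ ∘ aⱼ = (1/8)(aᵢ + aⱼ − aₖ)). -/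
theorem result {V : Type*} [AddCommGroup V] [Module ℝ V] [FiniteDimensional ℝ V] (mul : V →ₗ[ℝ] V →ₗ[ℝ] V) (B : LinearMap.BilinForm ℝ V) (hV : Cfsg.Axial.IsMajoranaAmbient mul B) (μ₀ μ₁ : V ≃ₗ[ℝ] V) (a₀ a₁ : V) (h₀ : Cfsg.Axial.IsMajoranaPair mul B μ₀ a₀) (h₁ : Cfsg.Axial.IsMajoranaPair mul B μ₁ a₁) (hu₀ : ∀ a : V, Cfsg.Axial.IsMajoranaPair mul B μ₀ a → a = a₀) (hu₁ : ∀ a : V, Cfsg.Axial.IsMajoranaPair mul B μ₁ a → a = a₁) (hn₀ : B a₀ a₀ = 1) (hn₁ : B a₁ a₁ = 1) (hc : μ₀ * μ₁ = μ₁ * μ₀) (hne : a₀ ≠ a₁) : (B a₀ a₁ = 0 ∧ mul a₀ a₁ = 0) ∨ (B a₀ a₁ = 1 / 8 ∧ mul (a₀ + a₁ - (8 : ℝ) • mul a₀ a₁) (a₀ + a₁ - (8 : ℝ) • mul a₀ a₁) = a₀ + a₁ - (8 : ℝ) • mul a₀ a₁ ∧ mul a₀ (a₀ + a₁ - (8 : ℝ) • mul a₀ a₁) = (1 / 8 : ℝ) • (a₀ + (a₀ + a₁ - (8 : ℝ) • mul a₀ a₁) - a₁) ∧ mul a₁ (a₀ + a₁ - (8 : ℝ) • mul a₀ a₁) = (1 / 8 : ℝ) • (a₁ + (a₀ + a₁ - (8 : ℝ) • mul a₀ a₁) - a₀)) := by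
  obtain ⟨hcomm, hsymm, hpos, hassoc, -⟩ := id hV
  obtain ⟨α₀, α₄, hdec, h0, h4⟩ := H9Maj.decomp hV h₀ h₁ hu₁ hc hn₀
  obtain ⟨β₀, β₄, hdec', h0', h4'⟩ := H9Maj.decomp hV h₁ h₀ hu₀ hc.symm hn₁
  have haa : mul a₀ a₀ = a₀ := h₀.2.2.1.1.2.1
  have hbb : mul a₁ a₁ = a₁ := h₁.2.2.1.1.2.1
  obtain ⟨P1, P2, P3⟩ := H9Maj.pairFacts hV haa hbb hn₀ α₀ α₄ hdec h0 h4 h₀.2.2.1.1.2.2.2
  obtain ⟨Q1, Q2, Q3⟩ := H9Maj.pairFacts hV hbb haa hn₁ β₀ β₄ hdec' h0' h4' h₁.2.2.1.1.2.2.2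
  have hba : mul a₁ a₀ = mul a₀ a₁ := hcomm a₁ a₀
  have hBba : B a₁ a₀ = B a₀ a₁ := hsymm a₁ a₀
  rw [hba, hBba] at Q1 Q2
  set t := B a₀ a₁ with ht
  set s := mul a₀ a₁ with hs
  have E₀ := P2 Q1
  have E₁ := Q2 P1
  have hdiff : (t * (1 - 8 * t)) • (a₁ - a₀) = 0 := by
    have : (16 : ℝ) • mul s s - (16 : ℝ) • mul s s = 0 := sub_self _
    conv at this => lhs; lhs; rw [E₀]
    conv at this => lhs; rhs; rw [E₁]
    rw [← this]
    module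
  rcases smul_eq_zero.1 hdiff with h | h
  · rcases mul_eq_zero.1 h with h | h
    · left
      exact ⟨h, P3 h⟩
    · right
      have ht8 : t = 1 / 8 := by linarith
      rw [ht8] at P1 Q1 E₀
      have hsa : mul s a₀ = mul a₀ s := hcomm s a₀
      have hsb : mul s a₁ = mul a₁ s := hcomm s a₁
      refine ⟨ht8, ?_, ?_, ?_⟩
      · simp only [map_add, map_sub, map_smul, LinearMap.add_apply, LinearMap.sub_apply,
          LinearMap.smul_apply, haa, hbb, hba, hsa, hsb, P1, Q1]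
        rw [← hs]
        linear_combination (norm := module) (4 : ℝ) • E₀
      · simp only [map_add, map_sub, map_smul, haa, P1]
        rw [← hs]
        module
      · simp only [map_add, map_sub, map_smul, hbb, hba, Q1]
        module
  · exfalso
    exact hne (sub_eq_zero.1 h).symm

end Cfsg.Agent.S5545
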