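import Cfsg.Statements.S5547
import Cfsg.Agent.Lib.Helper6.PMat
import Cfsg.Agent.Lib.Helper6.Spor.Fi22M78b
import Cfsg.Agent.Lib.Helper6.TCP.Fi22
import Cfsg.Agent.S1696

set_option autoImplicit false
set_option Elab.async false
open Cfsg

namespace Cfsg.Agent.S5547

open Cfsg.Spor Cfsg.Agent.Lib.Helper6.PMat Cfsg.Agent.Lib.Helper6.Fi22M78
open Cfsg.Agent.Lib.Helper6.TC Cfsg.Agent.Lib.Helper6.TCP.Fi22

/-- the packed matrix of a generator -/
def genMx : Fi22.Gen → List ℕ
  | .a => mA | .b => mB | .c => mC | .d => mD | .e => mE | .f => mF | .g => mG | .h => mH | .i => mI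

/-- the packed matrix of a column -/
def gN (c : ℕ) : List ℕ := genMx (gen c)

theorem gen_col (x : Fi22.Gen) : gen (col x) = x := by cases x <;> rfl

theorem good_genMx (x : Fi22.Gen) : Good 13 78 (genMx x) := by
  cases x <;> decide +kernel

theorem good_gN (c : ℕ) : Good 13 78 (gN c) := good_genMx _

/-- the matrix of a generator -/
noncomputable def gM (x : Fi22.Gen) : Matrix (Fin 78) (Fin 78) (ZMod 13) := toMat 13 78 (genMx x)

theorem toMat_word (w : List ℕ) :
    toMat 13 78 (wordM 13 78 gN w) = (w.map fun c => gM (gen c)).prod :=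
  toMat_wordM (by decide) (by decide) (by decide) gN w (fun c _ => good_gN c)

theorem good_word (w : List ℕ) : Good 13 78 (wordM 13 78 gN w) :=
  good_wordM (by decide) (by decide) gN w (fun c _ => good_gN c)

theorem prod_of_word {w : List ℕ} (h : wordM 13 78 gN w = idM 78) :
    (w.map fun c => gM (gen c)).prod = 1 := by
  rw [← toMat_word, h, toMat_idM]

theorem prod_map_replicate_flatten {M : Type*} [Monoid M] (f : ℕ → M) (u : List ℕ) (k : ℕ) :
    (((List.replicate k u).flatten).map f).prod = ((u.map f).prod) ^ k := by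
  induction k with
  | zero => simp
  | succ k ih =>
    rw [List.replicate_succ, List.flatten_cons, List.map_append, List.prod_append, ih, pow_succ']

theorem hp_a_a : wordM 13 78 gN (pairw (col .a) (col .a) (coxLabel Fi22.edges .a .a)) = idM 78 := by
  decide +kernel

theorem hp_a_b : wordM 13 78 gN (pairw (col .a) (col .b) (coxLabel Fi22.edges .a .b)) = idM 78 := by
  decide +kernel

theorem hp_a_c : wordM 13 78 gN (pairw (col .a) (col .c) (coxLabel Fi22.edges .a .c)) = idM 78 := by
  decide +kernel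

theorem hp_a_d : wordM 13 78 gN (pairw (col .a) (col .d) (coxLabel Fi22.edges .a .d)) = idM 78 := by
  decide +kernel

theorem hp_a_e : wordM 13 78 gN (pairw (col .a) (col .e) (coxLabel Fi22.edges .a .e)) = idM 78 := by
  decide +kernel

theorem hp_a_f : wordM 13 78 gN (pairw (col .a) (col .f) (coxLabel Fi22.edges .a .f)) = idM 78 := by
  decide +kernel

theorem hp_a_g : wordM 13 78 gN (pairw (col .a) (col .g) (coxLabel Fi22.edges .a .g)) = idM 78 := by
  decide +kernel

theorem hp_a_h : wordM 13 78 gN (pairw (col .a) (col .h) (coxLabel Fi22.edges .a .h)) = idM 78 := by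
  decide +kernel

theorem hp_a_i : wordM 13 78 gN (pairw (col .a) (col .i) (coxLabel Fi22.edges .a .i)) = idM 78 := by
  decide +kernel

theorem hp_b_b : wordM 13 78 gN (pairw (col .b) (col .b) (coxLabel Fi22.edges .b .b)) = idM 78 := by
  decide +kernel

theorem hp_b_c : wordM 13 78 gN (pairw (col .b) (col .c) (coxLabel Fi22.edges .b .c)) = idM 78 := by
  decide +kernel

theorem hp_b_d : wordM 13 78 gN (pairw (col .b) (col .d) (coxLabel Fi22.edges .b .d)) = idM 78 := by
  decide +kernel

theorem hp_b_e : wordM 13 78 gN (pairw (col .b) (col .e) (coxLabel Fi22.edges .b .e)) = idM 78 := by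
  decide +kernel

theorem hp_b_f : wordM 13 78 gN (pairw (col .b) (col .f) (coxLabel Fi22.edges .b .f)) = idM 78 := by
  decide +kernel

theorem hp_b_g : wordM 13 78 gN (pairw (col .b) (col .g) (coxLabel Fi22.edges .b .g)) = idM 78 := by
  decide +kernel

theorem hp_b_h : wordM 13 78 gN (pairw (col .b) (col .h) (coxLabel Fi22.edges .b .h)) = idM 78 := by
  decide +kernel

theorem hp_b_i : wordM 13 78 gN (pairw (col .b) (col .i) (coxLabel Fi22.edges .b .i)) = idM 78 := by
  decide +kernel

theorem hp_c_c : wordM 13 78 gN (pairw (col .c) (col .c) (coxLabel Fi22.edges .c .c)) = idM 78 := by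
  decide +kernel

theorem hp_c_d : wordM 13 78 gN (pairw (col .c) (col .d) (coxLabel Fi22.edges .c .d)) = idM 78 := by
  decide +kernel

theorem hp_c_e : wordM 13 78 gN (pairw (col .c) (col .e) (coxLabel Fi22.edges .c .e)) = idM 78 := by
  decide +kernel

theorem hp_c_f : wordM 13 78 gN (pairw (col .c) (col .f) (coxLabel Fi22.edges .c .f)) = idM 78 := by
  decide +kernel

theorem hp_c_g : wordM 13 78 gN (pairw (col .c) (col .g) (coxLabel Fi22.edges .c .g)) = idM 78 := by
  decide +kernel

theorem hp_c_h : wordM 13 78 gN (pairw (col .c) (col .h) (coxLabel Fi22.edges .c .h)) = idM 78 := by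
  decide +kernel

theorem hp_c_i : wordM 13 78 gN (pairw (col .c) (col .i) (coxLabel Fi22.edges .c .i)) = idM 78 := by
  decide +kernel

theorem hp_d_d : wordM 13 78 gN (pairw (col .d) (col .d) (coxLabel Fi22.edges .d .d)) = idM 78 := by
  decide +kernel

theorem hp_d_e : wordM 13 78 gN (pairw (col .d) (col .e) (coxLabel Fi22.edges .d .e)) = idM 78 := by
  decide +kernel

theorem hp_d_f : wordM 13 78 gN (pairw (col .d) (col .f) (coxLabel Fi22.edges .d .f)) = idM 78 := by
  decide +kernel

theorem hp_d_g : wordM 13 78 gN (pairw (col .d) (col .g) (coxLabel Fi22.edges .d .g)) = idM 78 := by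
  decide +kernel

theorem hp_d_h : wordM 13 78 gN (pairw (col .d) (col .h) (coxLabel Fi22.edges .d .h)) = idM 78 := by
  decide +kernel

theorem hp_d_i : wordM 13 78 gN (pairw (col .d) (col .i) (coxLabel Fi22.edges .d .i)) = idM 78 := by
  decide +kernel

theorem hp_e_e : wordM 13 78 gN (pairw (col .e) (col .e) (coxLabel Fi22.edges .e .e)) = idM 78 := by
  decide +kernel

theorem hp_e_f : wordM 13 78 gN (pairw (col .e) (col .f) (coxLabel Fi22.edges .e .f)) = idM 78 := by
  decide +kernel

theorem hp_e_g : wordM 13 78 gN (pairw (col .e) (col .g) (coxLabel Fi22.edges .e .g)) = idM 78 := by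
  decide +kernel

theorem hp_e_h : wordM 13 78 gN (pairw (col .e) (col .h) (coxLabel Fi22.edges .e .h)) = idM 78 := by
  decide +kernel

theorem hp_e_i : wordM 13 78 gN (pairw (col .e) (col .i) (coxLabel Fi22.edges .e .i)) = idM 78 := by
  decide +kernel

theorem hp_f_f : wordM 13 78 gN (pairw (col .f) (col .f) (coxLabel Fi22.edges .f .f)) = idM 78 := by
  decide +kernel

theorem hp_f_g : wordM 13 78 gN (pairw (col .f) (col .g) (coxLabel Fi22.edges .f .g)) = idM 78 := by
  decide +kernel

theorem hp_f_h : wordM 13 78 gN (pairw (col .f) (col .h) (coxLabel Fi22.edges .f .h)) = idM 78 := by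
  decide +kernel

theorem hp_f_i : wordM 13 78 gN (pairw (col .f) (col .i) (coxLabel Fi22.edges .f .i)) = idM 78 := by
  decide +kernel

theorem hp_g_g : wordM 13 78 gN (pairw (col .g) (col .g) (coxLabel Fi22.edges .g .g)) = idM 78 := by
  decide +kernel

theorem hp_g_h : wordM 13 78 gN (pairw (col .g) (col .h) (coxLabel Fi22.edges .g .h)) = idM 78 := by
  decide +kernel

theorem hp_g_i : wordM 13 78 gN (pairw (col .g) (col .i) (coxLabel Fi22.edges .g .i)) = idM 78 := by
  decide +kernel

theorem hp_h_h : wordM 13 78 gN (pairw (col .h) (col .h) (coxLabel Fi22.edges .h .h)) = idM 78 := by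
  decide +kernel

theorem hp_h_i : wordM 13 78 gN (pairw (col .h) (col .i) (coxLabel Fi22.edges .h .i)) = idM 78 := by
  decide +kernel

theorem hp_i_i : wordM 13 78 gN (pairw (col .i) (col .i) (coxLabel Fi22.edges .i .i)) = idM 78 := by
  decide +kernel

theorem hpair : ∀ x y : Fi22.Gen, col x ≤ col y →
    wordM 13 78 gN (pairw (col x) (col y) (coxLabel Fi22.edges x y)) = idM 78
  | .a, .a, _ => hp_a_a
  | .a, .b, _ => hp_a_b
  | .a, .c, _ => hp_a_c
  | .a, .d, _ => hp_a_d
  | .a, .e, _ => hp_a_e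
  | .a, .f, _ => hp_a_f
  | .a, .g, _ => hp_a_g
  | .a, .h, _ => hp_a_h
  | .a, .i, _ => hp_a_i
  | .b, .a, h => absurd h (by decide)
  | .b, .b, _ => hp_b_b
  | .b, .c, _ => hp_b_c
  | .b, .d, _ => hp_b_d
  | .b, .e, _ => hp_b_e
  | .b, .f, _ => hp_b_f
  | .b, .g, _ => hp_b_g
  | .b, .h, _ => hp_b_h
  | .b, .i, _ => hp_b_i
  | .c, .a, h => absurd h (by decide)
  | .c, .b, h => absurd h (by decide)
  | .c, .c, _ => hp_c_c
  | .c, .d, _ => hp_c_d
  | .c, .e, _ => hp_c_e
  | .c, .f, _ => hp_c_f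
  | .c, .g, _ => hp_c_g
  | .c, .h, _ => hp_c_h
  | .c, .i, _ => hp_c_i
  | .d, .a, h => absurd h (by decide)
  | .d, .b, h => absurd h (by decide)
  | .d, .c, h => absurd h (by decide)
  | .d, .d, _ => hp_d_d
  | .d, .e, _ => hp_d_e
  | .d, .f, _ => hp_d_f
  | .d, .g, _ => hp_d_g
  | .d, .h, _ => hp_d_h
  | .d, .i, _ => hp_d_i
  | .e, .a, h => absurd h (by decide)
  | .e, .b, h => absurd h (by decide)
  | .e, .c, h => absurd h (by decide)
  | .e, .d, h => absurd h (by decide)
  | .e, .e, _ => hp_e_e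
  | .e, .f, _ => hp_e_f
  | .e, .g, _ => hp_e_g
  | .e, .h, _ => hp_e_h
  | .e, .i, _ => hp_e_i
  | .f, .a, h => absurd h (by decide)
  | .f, .b, h => absurd h (by decide)
  | .f, .c, h => absurd h (by decide)
  | .f, .d, h => absurd h (by decide)
  | .f, .e, h => absurd h (by decide)
  | .f, .f, _ => hp_f_f
  | .f, .g, _ => hp_f_g
  | .f, .h, _ => hp_f_h
  | .f, .i, _ => hp_f_i
  | .g, .a, h => absurd h (by decide)
  | .g, .b, h => absurd h (by decide)
  | .g, .c, h => absurd h (by decide)
  | .g, .d, h => absurd h (by decide)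
  | .g, .e, h => absurd h (by decide)
  | .g, .f, h => absurd h (by decide)
  | .g, .g, _ => hp_g_g
  | .g, .h, _ => hp_g_h
  | .g, .i, _ => hp_g_i
  | .h, .a, h => absurd h (by decide)
  | .h, .b, h => absurd h (by decide)
  | .h, .c, h => absurd h (by decide)
  | .h, .d, h => absurd h (by decide)
  | .h, .e, h => absurd h (by decide)
  | .h, .f, h => absurd h (by decide)
  | .h, .g, h => absurd h (by decide)
  | .h, .h, _ => hp_h_h
  | .h, .i, _ => hp_h_i
  | .i, .a, h => absurd h (by decide)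
  | .i, .b, h => absurd h (by decide)
  | .i, .c, h => absurd h (by decide)
  | .i, .d, h => absurd h (by decide)
  | .i, .e, h => absurd h (by decide)
  | .i, .f, h => absurd h (by decide)
  | .i, .g, h => absurd h (by decide)
  | .i, .h, h => absurd h (by decide)
  | .i, .i, _ => hp_i_i

theorem hcox' (x y : Fi22.Gen) (hxy : col x ≤ col y) : (gM x * gM y) ^ coxLabel Fi22.edges x y = 1 := by
  have h := prod_of_word (hpair x y hxy)
  unfold pairw at h
  rw [prod_map_replicate_flatten] at h
  simpa [gen_col] using h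

theorem hsq (x : Fi22.Gen) : gM x * gM x = 1 := by
  have h := hcox' x x le_rfl
  rwa [coxLabel_self, pow_one] at h

theorem coxLabel_symm (x y : Fi22.Gen) : coxLabel Fi22.edges x y = coxLabel Fi22.edges y x := by
  cases x <;> cases y <;> rfl

/-- the images of the generators in the general linear group -/
noncomputable def φ (x : Fi22.Gen) : GL (Fin 78) (ZMod 13) := ⟨gM x, gM x, hsq x, hsq x⟩

theorem φ_val (x : Fi22.Gen) :
    ((φ x : GL (Fin 78) (ZMod 13)) : Matrix (Fin 78) (Fin 78) (ZMod 13)) = gM x := rfl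

theorem hcoxG (x y : Fi22.Gen) : (φ x * φ y) ^ coxLabel Fi22.edges x y = 1 := by
  have key : ∀ x y : Fi22.Gen, col x ≤ col y → (φ x * φ y) ^ coxLabel Fi22.edges x y = 1 := by
    intro x y hxy
    apply Units.ext
    rw [Units.val_pow_eq_pow_val, Units.val_mul, φ_val, φ_val, Units.val_one]
    exact hcox' x y hxy
  rcases le_total (col x) (col y) with h | h
  · exact key x y h
  · have h1 := key y x h
    rw [coxLabel_symm x y]
    have e : φ x * φ y = (φ y)⁻¹ * (φ y * φ x) * ((φ y)⁻¹)⁻¹ := by group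
    rw [e, conj_pow, h1]
    group

theorem mul_ok {A B C : List ℕ} (hA : Good 13 78 A) (hB : Good 13 78 B) (h : mulM 13 78 A B = C) :
    toMat 13 78 C = toMat 13 78 A * toMat 13 78 B ∧ Good 13 78 C := by
  subst h
  exact ⟨toMat_mulM (by decide) (by decide) A B hA hB, good_mulM (by decide) (by decide) A B hA.1⟩

/-- the tenth power of a word from the chain of squares -/
theorem pow10 {u U V2 V4 V8 : List ℕ} (h1 : wordM 13 78 gN u = U) (h2 : mulM 13 78 U U = V2)
    (h4 : mulM 13 78 V2 V2 = V4) (h8 : mulM 13 78 V4 V4 = V8) (h10 : mulM 13 78 V8 V2 = idM 78) :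
    ((u.map fun c => gM (gen c)).prod) ^ 10 = 1 := by
  have gU : Good 13 78 U := h1 ▸ good_word u
  have eU : toMat 13 78 U = (u.map fun c => gM (gen c)).prod := h1 ▸ toMat_word u
  obtain ⟨e2, g2⟩ := mul_ok gU gU h2
  obtain ⟨e4, g4⟩ := mul_ok g2 g2 h4
  obtain ⟨e8, g8⟩ := mul_ok g4 g4 h8
  obtain ⟨e10, _⟩ := mul_ok g8 g2 h10
  rw [toMat_idM, e8, e4, e2, eU] at e10
  rw [e10]
  simp only [pow_succ, pow_zero, one_mul, mul_assoc]

/-- the ninth power of a word from the chain of squares -/
theorem pow9 {u U V2 V4 V8 : List ℕ} (h1 : wordM 13 78 gN u = U) (h2 : mulM 13 78 U U = V2)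
    (h4 : mulM 13 78 V2 V2 = V4) (h8 : mulM 13 78 V4 V4 = V8) (h9 : mulM 13 78 V8 U = idM 78) :
    ((u.map fun c => gM (gen c)).prod) ^ 9 = 1 := by
  have gU : Good 13 78 U := h1 ▸ good_word u
  have eU : toMat 13 78 U = (u.map fun c => gM (gen c)).prod := h1 ▸ toMat_word u
  obtain ⟨e2, g2⟩ := mul_ok gU gU h2
  obtain ⟨e4, g4⟩ := mul_ok g2 g2 h4
  obtain ⟨e8, g8⟩ := mul_ok g4 g4 h8
  obtain ⟨e9, _⟩ := mul_ok g8 gU h9
  rw [toMat_idM, e8, e4, e2, eU] at e9
  rw [e9]
  simp only [pow_succ, pow_zero, one_mul, mul_assoc]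

theorem h1_1 : wordM 13 78 gN u1 = U1 := by decide +kernel
theorem h1_2 : mulM 13 78 U1 U1 = U1_2 := by decide +kernel
theorem h1_4 : mulM 13 78 U1_2 U1_2 = U1_4 := by decide +kernel
theorem h1_8 : mulM 13 78 U1_4 U1_4 = U1_8 := by decide +kernel
theorem h1_10 : mulM 13 78 U1_8 U1_2 = idM 78 := by decide +kernel

theorem h2_1 : wordM 13 78 gN u2 = U2 := by decide +kernel
theorem h2_2 : mulM 13 78 U2 U2 = U2_2 := by decide +kernel
theorem h2_4 : mulM 13 78 U2_2 U2_2 = U2_4 := by decide +kernel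
theorem h2_8 : mulM 13 78 U2_4 U2_4 = U2_8 := by decide +kernel
theorem h2_9 : mulM 13 78 U2_8 U2 = idM 78 := by decide +kernel

theorem h3_1 : wordM 13 78 gN u3 = U3 := by decide +kernel
theorem h3_2 : mulM 13 78 U3 U3 = U3_2 := by decide +kernel
theorem h3_4 : mulM 13 78 U3_2 U3_2 = U3_4 := by decide +kernel
theorem h3_8 : mulM 13 78 U3_4 U3_4 = U3_8 := by decide +kernel
theorem h3_9 : mulM 13 78 U3_8 U3 = idM 78 := by decide +kernel

theorem lift_word1 : FreeGroup.lift φ (Fi22.d * Fi22.c * Fi22.b * Fi22.d * Fi22.e * Fi22.f * Fi22.d * Fi22.h * Fi22.i) =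
    φ .d * φ .c * φ .b * φ .d * φ .e * φ .f * φ .d * φ .h * φ .i := by
  simp only [map_mul, FreeGroup.lift_apply_of]

theorem lift_word2 : FreeGroup.lift φ (Fi22.a * Fi22.b * Fi22.c * Fi22.d * Fi22.e * Fi22.f * Fi22.h) =
    φ .a * φ .b * φ .c * φ .d * φ .e * φ .f * φ .h := by
  simp only [map_mul, FreeGroup.lift_apply_of]

theorem lift_word3 : FreeGroup.lift φ (Fi22.b * Fi22.c * Fi22.d * Fi22.e * Fi22.f * Fi22.g * Fi22.h) =
    φ .b * φ .c * φ .d * φ .e * φ .f * φ .g * φ .h := by
  simp only [map_mul, FreeGroup.lift_apply_of]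

theorem val_word1 : ((φ .d * φ .c * φ .b * φ .d * φ .e * φ .f * φ .d * φ .h * φ .i : GL (Fin 78) (ZMod 13)) :
    Matrix (Fin 78) (Fin 78) (ZMod 13)) =
    gM .d * gM .c * gM .b * gM .d * gM .e * gM .f * gM .d * gM .h * gM .i := by
  simp only [Units.val_mul, φ_val]

theorem val_word2 : ((φ .a * φ .b * φ .c * φ .d * φ .e * φ .f * φ .h : GL (Fin 78) (ZMod 13)) :
    Matrix (Fin 78) (Fin 78) (ZMod 13)) =
    gM .a * gM .b * gM .c * gM .d * gM .e * gM .f * gM .h := by
  simp only [Units.val_mul, φ_val]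

theorem val_word3 : ((φ .b * φ .c * φ .d * φ .e * φ .f * φ .g * φ .h : GL (Fin 78) (ZMod 13)) :
    Matrix (Fin 78) (Fin 78) (ZMod 13)) =
    gM .b * gM .c * gM .d * gM .e * gM .f * gM .g * gM .h := by
  simp only [Units.val_mul, φ_val]

theorem prod9 {M : Type*} [Monoid M] (a1 a2 a3 a4 a5 a6 a7 a8 a9 : M) :
    [a1, a2, a3, a4, a5, a6, a7, a8, a9].prod = a1 * a2 * a3 * a4 * a5 * a6 * a7 * a8 * a9 := by
  simp only [List.prod_cons, List.prod_nil, mul_one, mul_assoc]

theorem prod7 {M : Type*} [Monoid M] (a1 a2 a3 a4 a5 a6 a7 : M) :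
    [a1, a2, a3, a4, a5, a6, a7].prod = a1 * a2 * a3 * a4 * a5 * a6 * a7 := by
  simp only [List.prod_cons, List.prod_nil, mul_one, mul_assoc]

theorem prod_u1 : (u1.map fun c => gM (gen c)).prod =
    gM .d * gM .c * gM .b * gM .d * gM .e * gM .f * gM .d * gM .h * gM .i := by
  unfold u1
  rw [List.map_cons, List.map_cons, List.map_cons, List.map_cons, List.map_cons, List.map_cons,
    List.map_cons, List.map_cons, List.map_cons, List.map_nil, prod9]
  rfl

theorem prod_u2 : (u2.map fun c => gM (gen c)).prod =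
    gM .a * gM .b * gM .c * gM .d * gM .e * gM .f * gM .h := by
  unfold u2
  rw [List.map_cons, List.map_cons, List.map_cons, List.map_cons, List.map_cons, List.map_cons,
    List.map_cons, List.map_nil, prod7]
  rfl

theorem prod_u3 : (u3.map fun c => gM (gen c)).prod =
    gM .b * gM .c * gM .d * gM .e * gM .f * gM .g * gM .h := by
  unfold u3
  rw [List.map_cons, List.map_cons, List.map_cons, List.map_cons, List.map_cons, List.map_cons,
    List.map_cons, List.map_nil, prod7]
  rfl

theorem hrels : ∀ r ∈ Rels, FreeGroup.lift φ r = 1 := by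
  intro r hr
  rcases hr with hr | hr
  · obtain ⟨x, _, y, _, rfl⟩ := hr
    rw [map_pow, map_mul, FreeGroup.lift_apply_of, FreeGroup.lift_apply_of]
    exact hcoxG x y
  · have hr' : r ∈ Fi22.extra := hr
    simp only [Fi22.extra, List.mem_cons, List.mem_nil_iff, or_false] at hr'
    rcases hr' with rfl | rfl | rfl
    · have h := pow10 h1_1 h1_2 h1_4 h1_8 h1_10
      rw [prod_u1] at h
      rw [map_pow, lift_word1]
      apply Units.ext
      rw [Units.val_pow_eq_pow_val, val_word1, Units.val_one]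
      exact h
    · have h := pow9 h2_1 h2_2 h2_4 h2_8 h2_9
      rw [prod_u2] at h
      rw [map_pow, lift_word2]
      apply Units.ext
      rw [Units.val_pow_eq_pow_val, val_word2, Units.val_one]
      exact h
    · have h := pow9 h3_1 h3_2 h3_4 h3_8 h3_9
      rw [prod_u3] at h
      rw [map_pow, lift_word3]
      apply Units.ext
      rw [Units.val_pow_eq_pow_val, val_word3, Units.val_one]
      exact h

/-- the representation -/
noncomputable def hom : Fi22 →* GL (Fin 78) (ZMod 13) := PresentedGroup.toGroup hrels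

theorem hom_of (x : Fi22.Gen) : hom (PresentedGroup.of x) = φ x := PresentedGroup.toGroup.of hrels

theorem entry : dg (mA.getD 0 0) 1 = 12 := by decide +kernel

theorem φ_a_ne : φ .a ≠ 1 := by
  intro h
  have h1 : gM .a = 1 := by rw [← φ_val, h, Units.val_one]
  have h2 : gM .a (0 : Fin 78) (1 : Fin 78) = ((12 : ℕ) : ZMod 13) := by
    show ((dg (mA.getD ((0 : Fin 78) : ℕ) 0) ((1 : Fin 78) : ℕ) : ℕ) : ZMod 13) = _
    rw [show ((0 : Fin 78) : ℕ) = 0 from rfl, show ((1 : Fin 78) : ℕ) = 1 from rfl, entry]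
  rw [h1, Matrix.one_apply_ne (by decide)] at h2
  revert h2
  decide

/-- The Fischer group Fi₂₂ (the finitely presented 3-transposition group of the definitions) is isomorphic to a subgroup of the general linear group of degree 78 over the field with 13 elements: there is an injective homomorphism into it. -/
theorem result : ∃ f : Cfsg.Spor.Fi22 →* GL (Fin 78) (ZMod 13), Function.Injective f := by
  have : IsSimpleGroup Fi22 := Cfsg.Agent.S1696.result.1
  refine ⟨hom, ?_⟩
  rw [← MonoidHom.ker_eq_bot_iff]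
  rcases IsSimpleGroup.eq_bot_or_eq_top_of_normal hom.ker inferInstance with h | h
  · exact h
  · exfalso
    apply φ_a_ne
    rw [← hom_of]
    have : (PresentedGroup.of Fi22.Gen.a : Fi22) ∈ hom.ker := by rw [h]; trivial
    exact this

end Cfsg.Agent.S5547
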