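import Mathlib
import Cfsg.Statements.S5548
import Cfsg.Agent.Lib.Helper9.M24M

set_option autoImplicit false
open Cfsg

namespace Cfsg.Agent.S5548

open Cfsg.Agent.Lib.Helper9.GolayG Cfsg.Agent.Lib.Helper9 Cfsg.Agent.Lib.Helper9.M24

/-- For the automorphism group of the length-24 binary Golay code of the definitions (the Mathieu group of degree 24) acting on binary words of length 24 by permuting coordinates, the only invariant subspaces of the space of all words are: zero, the span of the all-ones word, the code itself, the even-weight words, and the whole space. (So the permutation module has a unique composition series.) -/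
theorem result (W : Submodule (ZMod 2) (Cfsg.GolayPt → ZMod 2)) (hW : ∀ σ ∈ Cfsg.M24, ∀ w ∈ W, (fun p => w (σ.symm p)) ∈ W) : W = ⊥ ∨ W = Submodule.span (ZMod 2) {fun _ => (1 : ZMod 2)} ∨ W = Cfsg.golayCode ∨ (W : Set (Cfsg.GolayPt → ZMod 2)) = {w | ∑ p, w p = 0} ∨ W = ⊤ := by
  have hC := golayCode_isAbsGolay
  have hone : (fun _ : Cfsg.GolayPt => (1 : ZMod 2)) = (1 : GolayPt → ZMod 2) := rfl
  rw [hone]
  have hW' : ∀ σ ∈ M24, ∀ w ∈ W, permAct σ w ∈ W := hW
  by_cases hle : W ≤ golayCode
  · by_cases hle1 : W ≤ Submodule.span (ZMod 2) {(1 : GolayPt → ZMod 2)}
    · by_cases h1 : (1 : GolayPt → ZMod 2) ∈ W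
      · right; left
        apply le_antisymm hle1
        rw [Submodule.span_le]
        intro x hx
        rw [Set.mem_singleton_iff] at hx
        rw [hx]; exact h1
      · left
        rw [eq_bot_iff]
        intro w hw
        have h2 := hle1 hw
        rw [Submodule.mem_span_singleton] at h2
        obtain ⟨a, ha⟩ := h2
        rw [Submodule.mem_bot]
        rcases zmod2_cases a with h0 | h1'
        · rw [h0, zero_smul] at ha; exact ha.symm
        · rw [h1', one_smul] at ha
          rw [← ha] at hw
          exact absurd hw h1
    · right; right; left
      apply le_antisymm hle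
      obtain ⟨w, hwW, hwn⟩ := SetLike.not_le_iff_exists.mp hle1
      have hw0 : w ≠ 0 := by
        rintro rfl
        exact hwn (Submodule.zero_mem _)
      have hw1 : w ≠ 1 := by
        rintro rfl
        exact hwn (Submodule.subset_span rfl)
      exact code_le_of_mem W hW' hwW (hle hwW) hw0 hw1
  · right; right; right
    have heven := even_mem_of_not_le W hW' hle
    by_cases hall : ∀ w ∈ W, ∑ p, w p = 0
    · left
      ext v
      constructor
      · intro hv; exact hall v hv
      · intro hv; exact heven v hv
    · right
      push Not at hall
      obtain ⟨w, hwW, hw⟩ := hall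
      have hw1 : ∑ p, w p = 1 := by
        rcases zmod2_cases (∑ p, w p) with h | h
        · exact absurd h hw
        · exact h
      rw [eq_top_iff]
      intro v _
      rcases zmod2_cases (∑ p, v p) with h | h
      · exact heven v h
      · have h2 : ∑ p, (v + w) p = 0 := by
          have : ∑ p, (v + w) p = ∑ p, v p + ∑ p, w p := by
            rw [← Finset.sum_add_distrib]
            rfl
          rw [this, h, hw1]
          decide
        have h3 := heven _ h2
        have h4 : v = v + w + w := by rw [add_assoc, add_self_word, add_zero]
        rw [h4]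
        exact W.add_mem h3 hwW

end Cfsg.Agent.S5548
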