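import Mathlib
import Cfsg.Statements.S5549
import Cfsg.Agent.Lib.Helper9.GolayDual3
import Cfsg.Agent.Lib.Helper9.GolayConcrete
import Cfsg.Agent.Lib.Helper1.Golay5

set_option autoImplicit false
open Cfsg
open Cfsg.Agent.Lib.Helper9

namespace Cfsg.Agent.S5549

/-- Let X be a group of linear automorphisms of the length-24 binary Golay code of the definitions that fix the all-ones word, containing the coordinate-permutation action of every element of the code's automorphism group (the Mathieu group of degree 24), and such that every element of X sends each codeword into its orbit under that Mathieu group up to adding the all-ones word (X has the same orbits as the Mathieu group on the code modulo the all-ones word). Then every element of X agrees, modulo the all-ones word, with the action of a single element of the Mathieu group: X induces exactly the Mathieu group on the code modulo the all-ones word. -/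
theorem result (X : Subgroup (↥Cfsg.golayCode ≃ₗ[ZMod 2] ↥Cfsg.golayCode)) (h1 : ∀ x ∈ X, ∀ e : ↥Cfsg.golayCode, (e : (Cfsg.GolayPt → ZMod 2)) = (fun _ => (1 : ZMod 2)) → x e = e) (hM : ∀ σ ∈ Cfsg.M24, ∃ x ∈ X, ∀ c : ↥Cfsg.golayCode, ((x c : ↥Cfsg.golayCode) : (Cfsg.GolayPt → ZMod 2)) = fun p => (c : (Cfsg.GolayPt → ZMod 2)) (σ.symm p)) (horb : ∀ x ∈ X, ∀ c : ↥Cfsg.golayCode, ∃ σ ∈ Cfsg.M24, ((x c : ↥Cfsg.golayCode) : (Cfsg.GolayPt → ZMod 2)) = (fun p => (c : (Cfsg.GolayPt → ZMod 2)) (σ.symm p)) ∨ ((x c : ↥Cfsg.golayCode) : (Cfsg.GolayPt → ZMod 2)) = (fun p => (c : (Cfsg.GolayPt → ZMod 2)) (σ.symm p)) + fun _ => (1 : ZMod 2)) (x : ↥Cfsg.golayCode ≃ₗ[ZMod 2] ↥Cfsg.golayCode) (hx : x ∈ X) : ∃ σ ∈ Cfsg.M24, ∀ c : ↥Cfsg.golayCode, ((x c : ↥Cfsg.golayCode) : (Cfsg.GolayPt → ZMod 2)) = (fun p => (c : (Cfsg.GolayPt → ZMod 2)) (σ.symm p)) ∨ ((x c : ↥Cfsg.golayCode) : (Cfsg.GolayPt → ZMod 2)) = (fun p => (c : (Cfsg.GolayPt → ZMod 2)) (σ.symm p)) + fun _ => (1 : ZMod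 2) := by
  classical
  have hC := GolayG.golayCode_isAbsGolay
  have hx1 : ((x ⟨1, GolayG.one_mem hC⟩ : Cfsg.golayCode) : Cfsg.GolayPt → ZMod 2) = 1 := by
    rw [h1 x hx ⟨1, GolayG.one_mem hC⟩ rfl]
  have hperm : ∀ (σ : Equiv.Perm Cfsg.GolayPt) (w : Cfsg.GolayPt → ZMod 2),
      hammingNorm (fun p => w (σ.symm p)) = hammingNorm w := by
    intro σ w
    rw [hammingNorm_eq_card_support₂, hammingNorm_eq_card_support₂,
      ← Cfsg.Agent.Lib.Helper1.smul_support₂, Finset.card_smul_finset]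
  have hwt : ∀ c : Cfsg.golayCode,
      hammingNorm ((x c : Cfsg.golayCode) : Cfsg.GolayPt → ZMod 2) =
        hammingNorm (c : Cfsg.GolayPt → ZMod 2) ∨
      hammingNorm ((x c : Cfsg.golayCode) : Cfsg.GolayPt → ZMod 2) +
        hammingNorm (c : Cfsg.GolayPt → ZMod 2) = 24 := by
    intro c
    obtain ⟨σ, _, h | h⟩ := horb x hx c
    · left
      rw [h, hperm]
    · right
      rw [h]
      have h2 := GolayG.hammingNorm_add_one (fun p => (c : Cfsg.GolayPt → ZMod 2) (σ.symm p))
      rw [hC.hcard, hperm] at h2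
      exact h2
  obtain ⟨τ, g, hτ⟩ := GolayG.linear_aut_is_perm hC x hx1 hwt
  refine ⟨τ.symm, ?_, ?_⟩
  · apply Cfsg.Agent.Lib.Helper1.mem_M24_of_preserves
    intro w hw
    rw [Equiv.symm_symm]
    have h2 : (fun p => w (τ p)) =
        ((x ⟨w, hw⟩ : Cfsg.golayCode) : Cfsg.GolayPt → ZMod 2) +
          g ⟨w, hw⟩ • (1 : Cfsg.GolayPt → ZMod 2) := by
      funext p
      have h3 := hτ ⟨w, hw⟩ p
      simp only [Pi.add_apply, Pi.smul_apply, Pi.one_apply, smul_eq_mul, mul_one]
      rw [h3, add_assoc, CharTwo.add_self_eq_zero, add_zero]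
    rw [h2]
    exact Cfsg.golayCode.add_mem (x ⟨w, hw⟩).2 (Cfsg.golayCode.smul_mem _ (GolayG.one_mem hC))
  · intro c
    rw [Equiv.symm_symm]
    rcases zmod2_cases (g c) with h0 | h1'
    · left
      funext p
      rw [hτ c p, h0, add_zero]
    · right
      funext p
      rw [hτ c p, h1']
      rfl

end Cfsg.Agent.S5549
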