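import Mathlib
import Cfsg.Statements.S5550
import Cfsg.Agent.Lib.Helper9.M24X

set_option autoImplicit false
open Cfsg

namespace Cfsg.Agent.S5550

open Cfsg.Agent.Lib.Helper9.GolayG Cfsg.Agent.Lib.Helper9 Cfsg.Agent.Lib.Helper9.M24

/-- Let u be a word of the length-24 binary Golay code of the definitions (possibly zero or all-ones) and w any binary word of length 24 outside the code. Then some automorphism of the code (a coordinate permutation preserving it) fixes u but moves w to a word not congruent to w modulo the code: the stabilizer of a codeword fixes no non-zero element of the quotient of the space of all words by the code. -/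
theorem result (u : (Cfsg.GolayPt → ZMod 2)) (hu : u ∈ Cfsg.golayCode) (w : (Cfsg.GolayPt → ZMod 2)) (hw : w ∉ Cfsg.golayCode) : ∃ σ ∈ Cfsg.M24, (fun p => u (σ.symm p)) = u ∧ (fun p => w (σ.symm p)) - w ∉ Cfsg.golayCode := by
  obtain ⟨l, hl4, hlw⟩ := exists_leader w
  have hl0 : l ≠ 0 := by
    rintro rfl
    rw [zero_add] at hlw
    exact hw hlw
  have hU : CodeSet (support₂ u) := by
    unfold CodeSet
    rw [indW_support₂]
    exact hu
  have hL0 : (support₂ l).Nonempty := by
    rw [Finset.nonempty_iff_ne_empty]
    intro he
    apply hl0
    apply support₂_injective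
    rw [he]
    apply Finset.ext
    intro i
    rw [mem_support₂]
    simp
  have hL4 : (support₂ l).card ≤ 4 := by rw [← hammingNorm_eq_card_support₂]; exact hl4
  obtain ⟨σ, hσ, hσU, hnot⟩ := exists_move_not_code hU hL0 hL4
  refine ⟨σ, hσ, ?_, ?_⟩
  · show permAct σ u = u
    apply support₂_injective
    rw [support₂_permAct, hσU]
  · show permAct σ w - w ∉ golayCode
    intro hmem
    apply hnot
    unfold CodeSet
    rw [indW_symmDiff, ← permAct_indW, indW_support₂]
    -- `l = (l + w) + w`
    have h1 : permAct σ (l + w) ∈ golayCode := permAct_mem_code hσ hlw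
    rw [permAct_add] at h1
    rw [sub_eq_add_word] at hmem
    have h2 : permAct σ l + l = (permAct σ l + permAct σ w) + (permAct σ w + w) + (l + w) := by
      have e1 : ∀ a b c d : GolayPt → ZMod 2, (a + b) + (b + c) + (d + c) = a + d + ((b + b) + (c + c)) := by
        intro a b c d; abel
      rw [e1, add_self_word, add_self_word, add_zero, add_zero]
    rw [h2]
    exact golayCode.add_mem (golayCode.add_mem h1 hmem) hlw

end Cfsg.Agent.S5550
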