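import Mathlib
import Cfsg.Statements.S5553
import Cfsg.Agent.Lib.Helper1.Leech3
import Cfsg.Agent.Lib.Helper1.Golay3

set_option autoImplicit false
open scoped Pointwise
open Cfsg

namespace Cfsg.Agent.S5553

open Cfsg.Agent.Lib.Helper1

theorem lattice_facts {x : GolayPt → ℤ} (hx : x ∈ leechLattice) :
    ∃ m : ℤ, (∀ i, x i ≡ m [ZMOD 2]) ∧ (∑ i, x i ≡ 4 * m [ZMOD 8]) ∧ ∀ k : ℤ, lvl x k ∈ gC :=
  (mem_leechLattice_iff x).mp hx

theorem sub_even {x : GolayPt → ℤ} (hx : x ∈ leechLattice) (i : GolayPt) : (2 : ℤ) ∣ x i - x none := by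
  obtain ⟨m, h1, -, -⟩ := lattice_facts hx
  exact Int.ModEq.dvd ((h1 none).trans (h1 i).symm)

/-- The sublattice of the even vectors whose coordinates are all congruent modulo 4. -/
def subA : AddSubgroup (GolayPt → ℤ) where
  carrier := {x | x ∈ leechLattice ∧ (2 : ℤ) ∣ x none ∧ ∀ i, (4 : ℤ) ∣ x i - x none}
  zero_mem' := ⟨leechLattice.zero_mem, by simp, by simp⟩
  add_mem' := by
    rintro a b ⟨ha1, ha2, ha3⟩ ⟨hb1, hb2, hb3⟩
    refine ⟨leechLattice.add_mem ha1 hb1, ?_, fun i => ?_⟩
    · simp only [Pi.add_apply]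
      exact dvd_add ha2 hb2
    · have : (a + b) i - (a + b) none = (a i - a none) + (b i - b none) := by
        simp only [Pi.add_apply]
        ring
      rw [this]
      exact dvd_add (ha3 i) (hb3 i)
  neg_mem' := by
    rintro a ⟨ha1, ha2, ha3⟩
    refine ⟨leechLattice.neg_mem ha1, ?_, fun i => ?_⟩
    · simp only [Pi.neg_apply]
      exact (dvd_neg).mpr ha2
    · have : (-a) i - (-a) none = -(a i - a none) := by
        simp only [Pi.neg_apply]
        ring
      rw [this]
      exact (dvd_neg).mpr (ha3 i)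

theorem mem_subA {x : GolayPt → ℤ} :
    x ∈ subA ↔ x ∈ leechLattice ∧ (2 : ℤ) ∣ x none ∧ ∀ i, (4 : ℤ) ∣ x i - x none := Iff.rfl

/-- The values of the homomorphism onto the code. -/
def fval (x : GolayPt → ℤ) : GolayPt → ZMod 2 := fun i => (((x i - x none) / 2 + x none : ℤ) : ZMod 2)

theorem fval_add {x y : GolayPt → ℤ} (hx : x ∈ leechLattice) (hy : y ∈ leechLattice) :
    fval (x + y) = fval x + fval y := by
  funext i
  unfold fval
  simp only [Pi.add_apply]
  have h1 : (x i + y i - (x none + y none)) = (x i - x none) + (y i - y none) := by ring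
  rw [h1, Int.add_ediv_of_dvd_left (sub_even hx i)]
  push_cast
  ring

theorem cast_ne_zero_iff (z : ℤ) : ((z : ℤ) : ZMod 2) ≠ 0 ↔ z % 2 = 1 := by
  rw [Ne, ZMod.intCast_zmod_eq_zero_iff_dvd]
  omega

theorem support_fval {x : GolayPt → ℤ} (hx : x ∈ leechLattice) :
    support₂ (fval x) = if (2 : ℤ) ∣ x none then lvl x (x none + 2) else lvl x (x none) := by
  ext i
  unfold support₂ fval
  rw [Finset.mem_filter, cast_ne_zero_iff]
  simp only [Finset.mem_univ, true_and]
  obtain ⟨e, he⟩ := sub_even hx i
  have hxi : x i = x none + 2 * e := by omega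
  rw [he, Int.mul_ediv_cancel_left _ (by norm_num : (2 : ℤ) ≠ 0)]
  split_ifs with h
  · rw [Finset.mem_filter]
    simp only [Finset.mem_univ, true_and, Int.ModEq]
    rw [hxi]
    omega
  · rw [Finset.mem_filter]
    simp only [Finset.mem_univ, true_and, Int.ModEq]
    rw [hxi]
    omega

theorem mem_golayCode_of_support {w : GolayPt → ZMod 2} (h : support₂ w ∈ gC) : w ∈ golayCode := by
  obtain ⟨v, hv, hvw⟩ := h
  rw [← support₂_injective hvw]
  exact hv

theorem fval_mem {x : GolayPt → ℤ} (hx : x ∈ leechLattice) : fval x ∈ golayCode := by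
  apply mem_golayCode_of_support
  rw [support_fval hx]
  obtain ⟨m, -, -, h3⟩ := lattice_facts hx
  split_ifs
  · exact h3 _
  · exact h3 _

/-- The homomorphism of the lattice onto the code. -/
def fhom : ↥leechLattice →+ ↥golayCode where
  toFun x := ⟨fval x.1, fval_mem x.2⟩
  map_zero' := by
    apply Subtype.ext
    funext i
    show fval 0 i = 0
    unfold fval
    simp
  map_add' x y := by
    apply Subtype.ext
    exact fval_add x.2 y.2

theorem fval_eq_zero_iff {x : GolayPt → ℤ} (hx : x ∈ leechLattice) : fval x = 0 ↔ x ∈ subA := by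
  rw [mem_subA]
  constructor
  · intro h
    have h0 : ∀ i, (2 : ℤ) ∣ (x i - x none) / 2 + x none := by
      intro i
      have := congrFun h i
      unfold fval at this
      rwa [Pi.zero_apply, ZMod.intCast_zmod_eq_zero_iff_dvd] at this
    have hn : (2 : ℤ) ∣ x none := by
      have := h0 none
      rwa [sub_self, Int.zero_ediv, zero_add] at this
    refine ⟨hx, hn, fun i => ?_⟩
    obtain ⟨e, he⟩ := sub_even hx i
    have := h0 i
    rw [he, Int.mul_ediv_cancel_left _ (by norm_num : (2 : ℤ) ≠ 0)] at this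
    rw [he]
    omega
  · rintro ⟨-, hn, h4⟩
    funext i
    unfold fval
    rw [Pi.zero_apply, ZMod.intCast_zmod_eq_zero_iff_dvd]
    obtain ⟨e, he⟩ := h4 i
    rw [he]
    omega

theorem ker_fhom : fhom.ker = subA.addSubgroupOf leechLattice := by
  ext x
  rw [AddMonoidHom.mem_ker, AddSubgroup.mem_addSubgroupOf, ← fval_eq_zero_iff x.2]
  constructor
  · intro h
    exact congrArg Subtype.val h
  · intro h
    exact Subtype.ext h

/-- Twice the indicator vector of a set. -/
def twoInd (s : Finset GolayPt) : GolayPt → ℤ := fun i => if i ∈ s then 2 else 0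

theorem twoInd_mem {s : Finset GolayPt} (hs : s ∈ gC) : twoInd s ∈ leechLattice := by
  rw [mem_leechLattice_iff]
  refine ⟨0, fun i => ?_, ?_, fun k => ?_⟩
  · unfold twoInd
    split_ifs <;> decide
  · unfold twoInd
    rw [sum_ite_const]
    obtain ⟨t, ht⟩ := gC_card_dvd hs
    rw [ht]
    simp only [Int.ModEq]
    push_cast
    omega
  · have h4 : k % 4 = 0 ∨ k % 4 = 1 ∨ k % 4 = 2 ∨ k % 4 = 3 := by omega
    rcases h4 with h4 | h4 | h4 | h4
    · have : lvl (twoInd s) k = sᶜ := by
        ext i
        rw [Finset.mem_filter, Finset.mem_compl]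
        simp only [Finset.mem_univ, true_and, Int.ModEq, twoInd]
        split_ifs with hi
        · simp only [hi, not_true_eq_false, iff_false]
          omega
        · simp only [hi, not_false_eq_true, iff_true]
          omega
      show lvl (twoInd s) k ∈ gC
      rw [this]
      exact gC_compl hs
    · have : lvl (twoInd s) k = ∅ := by
        ext i
        rw [Finset.mem_filter]
        simp only [Finset.mem_univ, true_and, Int.ModEq, twoInd, Finset.notMem_empty, iff_false]
        split_ifs <;> omega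
      show lvl (twoInd s) k ∈ gC
      rw [this]
      exact gC_empty
    · have : lvl (twoInd s) k = s := by
        ext i
        rw [Finset.mem_filter]
        simp only [Finset.mem_univ, true_and, Int.ModEq, twoInd]
        split_ifs with hi
        · simp only [hi, iff_true]
          omega
        · simp only [hi, iff_false]
          omega
      show lvl (twoInd s) k ∈ gC
      rw [this]
      exact hs
    · have : lvl (twoInd s) k = ∅ := by
        ext i
        rw [Finset.mem_filter]
        simp only [Finset.mem_univ, true_and, Int.ModEq, twoInd, Finset.notMem_empty, iff_false]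
        split_ifs <;> omega
      show lvl (twoInd s) k ∈ gC
      rw [this]
      exact gC_empty

theorem zmod2_cases (a : ZMod 2) : a = 0 ∨ a = 1 := by
  revert a
  decide

theorem fval_twoInd {s : Finset GolayPt} (hn : none ∉ s) (i : GolayPt) :
    fval (twoInd s) i = if i ∈ s then 1 else 0 := by
  unfold fval twoInd
  rw [if_neg hn]
  split_ifs <;> simp

theorem fval_vecV : fval Cfsg.Spor.vecV = fun _ => 1 := by
  funext i
  revert i
  decide

theorem vecV_mem : Cfsg.Spor.vecV ∈ leechLattice :=
  AddSubgroup.subset_closure Cfsg.Spor.vecV_mem_leechSet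

theorem mem_support₂_iff (c : GolayPt → ZMod 2) (i : GolayPt) : i ∈ support₂ c ↔ c i = 1 := by
  unfold support₂
  rw [Finset.mem_filter]
  simp only [Finset.mem_univ, true_and]
  rcases zmod2_cases (c i) with h | h <;> rw [h] <;> decide

theorem word_eq_ind (c : GolayPt → ZMod 2) (i : GolayPt) : c i = if i ∈ support₂ c then 1 else 0 := by
  by_cases hi : i ∈ support₂ c
  · rw [if_pos hi]
    exact (mem_support₂_iff c i).mp hi
  · rw [if_neg hi]
    rcases zmod2_cases (c i) with h | h
    · exact h
    · exact absurd ((mem_support₂_iff c i).mpr h) hi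

theorem fhom_surjective : Function.Surjective fhom := by
  rintro ⟨c, hc⟩
  have hs : support₂ c ∈ gC := ⟨c, hc, rfl⟩
  by_cases hn : none ∈ support₂ c
  · have hs' : (support₂ c)ᶜ ∈ gC := gC_compl hs
    have hn' : none ∉ (support₂ c)ᶜ := by
      rw [Finset.mem_compl]
      exact fun h => h hn
    refine ⟨⟨Cfsg.Spor.vecV + twoInd (support₂ c)ᶜ, leechLattice.add_mem vecV_mem (twoInd_mem hs')⟩, ?_⟩
    apply Subtype.ext
    show fval (Cfsg.Spor.vecV + twoInd (support₂ c)ᶜ) = c
    rw [fval_add vecV_mem (twoInd_mem hs'), fval_vecV]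
    funext i
    rw [Pi.add_apply, fval_twoInd hn', word_eq_ind c i]
    by_cases hi : i ∈ support₂ c
    · rw [if_pos hi, if_neg (by rw [Finset.mem_compl]; exact fun h => h hi), add_zero]
    · rw [if_neg hi, if_pos (Finset.mem_compl.mpr hi)]
      decide
  · refine ⟨⟨twoInd (support₂ c), twoInd_mem hs⟩, ?_⟩
    apply Subtype.ext
    show fval (twoInd (support₂ c)) = c
    funext i
    rw [fval_twoInd hn, word_eq_ind c i]

theorem card_code : Nat.card ↥golayCode = 4096 := by
  have := ncard_golayCode
  rw [← Nat.card_coe_set_eq] at this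
  exact this

theorem index_subA : (subA.addSubgroupOf leechLattice).index = 2 ^ 12 := by
  rw [← ker_fhom, AddSubgroup.index_ker, AddMonoidHom.range_eq_top.mpr fhom_surjective, AddSubgroup.card_top,
    card_code]
  norm_num

theorem sq_mod_of_two {a : ℤ} (h : a % 4 = 2) : a ^ 2 % 32 = 4 := by
  obtain ⟨y, rfl⟩ : ∃ y, a = 4 * y + 2 := ⟨a / 4, by omega⟩
  have : (4 * y + 2) ^ 2 = 32 * (y * (y + 1) / 2) + 4 := by
    have h2 : (2 : ℤ) ∣ y * (y + 1) := by
      rcases Int.even_or_odd y with ⟨k, hk⟩ | ⟨k, hk⟩
      · exact ⟨k * (y + 1), by rw [hk]; ring⟩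
      · exact ⟨y * (k + 1), by rw [hk]; ring⟩
    obtain ⟨t, ht⟩ := h2
    rw [ht, Int.mul_ediv_cancel_left _ (by norm_num : (2 : ℤ) ≠ 0)]
    have : (4 * y + 2) ^ 2 = 16 * (y * (y + 1)) + 4 := by ring
    rw [this, ht]
    ring
  rw [this]
  omega

theorem sqNorm_dvd_subA {v : GolayPt → ℤ} (hv : v ∈ subA) : (32 : ℤ) ∣ sqNorm v := by
  obtain ⟨hL, h2, h4⟩ := mem_subA.mp hv
  unfold sqNorm
  by_cases h0 : (4 : ℤ) ∣ v none
  · -- all coordinates are multiples of 4
    have hy : ∀ i, ∃ y : ℤ, v i = 4 * y := by
      intro i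
      have := dvd_add (h4 i) h0
      rw [sub_add_cancel] at this
      exact this
    choose y hy using hy
    obtain ⟨m, hm1, hm2, -⟩ := lattice_facts hL
    have hm : m % 2 = 0 := by
      have := hm1 none
      unfold Int.ModEq at this
      omega
    have hsum : (∑ i, v i) % 8 = 0 := by
      unfold Int.ModEq at hm2
      omega
    have hsum' : (∑ i, v i) = 4 * ∑ i, y i := by
      rw [Finset.mul_sum]
      exact Finset.sum_congr rfl (fun i _ => hy i)
    have hyeven : (∑ i, y i) % 2 = 0 := by omega
    have hsq : ∑ i, v i ^ 2 = 16 * ∑ i, y i ^ 2 := by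
      rw [Finset.mul_sum]
      apply Finset.sum_congr rfl
      intro i _
      rw [hy i]
      ring
    have hpar : (∑ i, y i ^ 2) % 2 = (∑ i, y i) % 2 := by
      have : (((∑ i, y i ^ 2 : ℤ)) : ZMod 2) = ((∑ i, y i : ℤ) : ZMod 2) := by
        push_cast
        apply Finset.sum_congr rfl
        intro i _
        rcases zmod2_cases ((y i : ℤ) : ZMod 2) with h | h <;> rw [h] <;> decide
      have := (ZMod.intCast_eq_intCast_iff _ _ 2).mp this
      exact this
    rw [hsq]
    have : (∑ i, y i ^ 2) % 2 = 0 := by rw [hpar]; exact hyeven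
    omega
  · have hmod : ∀ i, v i % 4 = 2 := by
      intro i
      obtain ⟨e, he⟩ := h4 i
      omega
    have hcast : (((∑ i, v i ^ 2 : ℤ)) : ZMod 32) = 0 := by
      push_cast
      have : ∀ i : GolayPt, ((v i : ℤ) : ZMod 32) ^ 2 = 4 := by
        intro i
        have h := sq_mod_of_two (hmod i)
        have : ((v i ^ 2 : ℤ) : ZMod 32) = ((4 : ℤ) : ZMod 32) := by
          rw [ZMod.intCast_eq_intCast_iff]
          unfold Int.ModEq
          omega
        push_cast at this
        exact this
      rw [Finset.sum_congr rfl (fun i _ => this i), Finset.sum_const, Finset.card_univ, card_golayPt]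
      decide
    exact (ZMod.intCast_zmod_eq_zero_iff_dvd _ 32).mp hcast

/-- The Leech lattice of the definitions has an additive subgroup A containing twice the lattice, of index 2^12 in the lattice, all of whose vectors have squared length divisible by 32: the invariant quadratic form 'squared length over 16 modulo 2' on the lattice modulo twice the lattice (a 24-dimensional space over the field with two elements) vanishes on a 12-dimensional subspace, so it is of plus type. -/
theorem result : ∃ A : AddSubgroup (Cfsg.GolayPt → ℤ), A ≤ Cfsg.leechLattice ∧ (∀ v ∈ Cfsg.leechLattice, (2 : ℤ) • v ∈ A) ∧ (A.addSubgroupOf Cfsg.leechLattice).index = 2 ^ 12 ∧ ∀ v ∈ A, (32 : ℤ) ∣ Cfsg.sqNorm v := by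
  refine ⟨subA, fun x hx => hx.1, ?_, index_subA, fun v hv => sqNorm_dvd_subA hv⟩
  intro v hv
  rw [mem_subA]
  refine ⟨leechLattice.zsmul_mem hv 2, ?_, fun i => ?_⟩
  · simp only [Pi.smul_apply, smul_eq_mul]
    exact dvd_mul_right 2 _
  · simp only [Pi.smul_apply, smul_eq_mul]
    obtain ⟨e, he⟩ := sub_even hv i
    exact ⟨e, by rw [← mul_sub, he]; ring⟩

end Cfsg.Agent.S5553
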