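import Cfsg.Statements.S5562
import Mathlib
import Cfsg.Agent.Lib.Helper9.Involutions

set_option autoImplicit false
open Cfsg Cfsg.Agent.Lib.Helper9

namespace Cfsg.Agent.S5562

variable {G : Type*} [Group G]

/-- In a group, two elements of odd order with the same square are equal. -/
theorem eq_of_sq_eq_of_odd {p q : G} (hp : Odd (orderOf p)) (hq : Odd (orderOf q)) (h : p ^ 2 = q ^ 2) : p = q := by
  obtain ⟨s, hs⟩ := hp
  obtain ⟨s', hs'⟩ := hq
  have hpw : p = (p ^ 2) ^ (s + 1) := by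
    rw [← pow_mul]
    have : 2 * (s + 1) = orderOf p + 1 := by omega
    rw [this, pow_succ, pow_orderOf_eq_one, one_mul]
  have hqw : q = (p ^ 2) ^ (s' + 1) := by
    rw [h, ← pow_mul]
    have : 2 * (s' + 1) = orderOf q + 1 := by omega
    rw [this, pow_succ, pow_orderOf_eq_one, one_mul]
  have hcomm : Commute p q := by
    rw [hpw, hqw]
    exact (Commute.refl (p ^ 2)).pow_pow _ _
  have hr2 : (p * q⁻¹) ^ 2 = 1 := by
    rw [(hcomm.inv_right).mul_pow, inv_pow, h, mul_inv_cancel]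
  have hpm : p ∈ Subgroup.zpowers (p ^ 2) := by
    have : (p ^ 2) ^ (s + 1) ∈ Subgroup.zpowers (p ^ 2) := Subgroup.pow_mem _ (Subgroup.mem_zpowers _) _
    rwa [← hpw] at this
  have hqm : q ∈ Subgroup.zpowers (p ^ 2) := by
    have : (p ^ 2) ^ (s' + 1) ∈ Subgroup.zpowers (p ^ 2) := Subgroup.pow_mem _ (Subgroup.mem_zpowers _) _
    rwa [← hqw] at this
  have hrmem : p * q⁻¹ ∈ Subgroup.zpowers (p ^ 2) :=
    Subgroup.mul_mem _ hpm (Subgroup.inv_mem _ hqm)
  have hdvd1 : orderOf (p * q⁻¹) ∣ orderOf (p ^ 2) := orderOf_dvd_of_mem_zpowers hrmem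
  have hdvd2 : orderOf (p ^ 2) ∣ orderOf p := orderOf_pow_dvd 2
  have hodd : Odd (orderOf (p * q⁻¹)) := by
    have : Odd (orderOf p) := ⟨s, hs⟩
    exact this.of_dvd_nat (hdvd1.trans hdvd2)
  have hdvd3 : orderOf (p * q⁻¹) ∣ 2 := orderOf_dvd_of_pow_eq_one hr2
  have h1 : orderOf (p * q⁻¹) = 1 := by
    have hle := Nat.le_of_dvd (by norm_num) hdvd3
    obtain ⟨t, ht⟩ := hodd
    omega
  have := orderOf_eq_one_iff.mp h1
  exact mul_inv_eq_one.mp this

theorem result {G : Type*} [Group G] [Finite G] (d : G) (hd : orderOf d = 2)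
    (hodd : ∀ a ∈ conjugatesOf d, ∀ b ∈ conjugatesOf d, Odd (orderOf (a * b)))
    (x : G) (hx : orderOf x = 2) :
    ∀ e ∈ conjugatesOf d,
      ∃! a : G, a ∈ conjugatesOf d ∧ Commute a x ∧ Commute e (a * x) := by
  intro e he
  have hDsq : ∀ y ∈ conjugatesOf d, y * y = 1 := by
    intro y hy
    have hy' : IsConj d y := hy
    obtain ⟨g, rfl⟩ := isConj_iff.mp hy'
    apply sq_eq_one_of_orderOf_two
    rw [orderOf_conj_eq]; exact hd
  have hDconj : ∀ g : G, ∀ y ∈ conjugatesOf d, g * y * g⁻¹ ∈ conjugatesOf d := by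
    intro g y hy
    have hy' : IsConj d y := hy
    exact (hy'.trans (isConj_iff.mpr ⟨g, rfl⟩) : IsConj d (g * y * g⁻¹))
  have hx2 : x * x = 1 := sq_eq_one_of_orderOf_two hx
  have hxinv : x⁻¹ = x := inv_eq_self_of_sq hx2
  have he2 := hDsq e he
  have heinv : e⁻¹ = e := inv_eq_self_of_sq he2
  obtain ⟨ex, hexdef⟩ : ∃ ex, ex = x * e * x⁻¹ := ⟨_, rfl⟩
  have hexD : ex ∈ conjugatesOf d := hexdef ▸ hDconj x e he
  have hex2 := hDsq _ hexD
  have hexinv : ex⁻¹ = ex := inv_eq_self_of_sq hex2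
  have hxex : x * ex * x⁻¹ = e := by
    rw [hexdef]
    calc x * (x * e * x⁻¹) * x⁻¹ = (x * x) * e * (x * x)⁻¹ := by group
      _ = e := by rw [hx2]; group
  obtain ⟨w, hwdef⟩ : ∃ w, w = e * ex := ⟨_, rfl⟩
  obtain ⟨j, hj⟩ := hodd e he _ hexD
  rw [← hwdef] at hj
  have hwpow : w ^ (2 * j + 1) = 1 := by rw [← hj]; exact pow_orderOf_eq_one _
  have hwinv : w⁻¹ = ex * e := by
    rw [hwdef, mul_inv_rev, hexinv, heinv]
  have hxw : x * w * x⁻¹ = w⁻¹ := by
    rw [hwinv, hwdef]
    calc x * (e * ex) * x⁻¹ = (x * e * x⁻¹) * (x * ex * x⁻¹) := by group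
      _ = ex * e := by rw [hxex, ← hexdef]
  have hwj : (w ^ (j + 1))⁻¹ = w ^ j := by
    apply inv_eq_of_mul_eq_one_right
    rw [← pow_add]
    have : j + 1 + j = 2 * j + 1 := by omega
    rw [this]; exact hwpow
  have hwjj : w ^ j * w ^ j = w⁻¹ := by
    apply eq_inv_of_mul_eq_one_left
    rw [← pow_add, ← pow_succ]
    have : j + j + 1 = 2 * j + 1 := by omega
    rw [this]; exact hwpow
  have hewe : e * w ^ (j + 1) * e = (w ^ (j + 1))⁻¹ := by
    have h1 := conj_pow_left he2 hex2 (j + 1)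
    rw [heinv, ← hwdef] at h1
    exact h1
  -- key facts about a' : if a' ∈ D commutes with x and e commutes with a' x then (e a')^2 = w
  have hkey : ∀ a' ∈ conjugatesOf d, Commute a' x → Commute e (a' * x) → (e * a') ^ 2 = w := by
    intro a' ha' hcx hce
    have ha'2 := hDsq a' ha'
    have ha'inv : a'⁻¹ = a' := inv_eq_self_of_sq ha'2
    have h1 : a' * ex * a' = e := by
      have h0 : (a' * x) * e * (a' * x)⁻¹ = e := by
        rw [← hce.eq]; group
      calc a' * ex * a' = (a' * x) * e * (a' * x)⁻¹ := by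
            rw [hexdef, mul_inv_rev, ha'inv]; group
        _ = e := h0
    have h2 : a' * e * a' = ex := by
      calc a' * e * a' = a' * (a' * ex * a') * a' := by rw [h1]
        _ = (a' * a') * ex * (a' * a') := by group
        _ = ex := by rw [ha'2, one_mul, mul_one]
    rw [pow_two, hwdef]
    calc e * a' * (e * a') = e * (a' * e * a') := by group
      _ = e * ex := by rw [h2]
  -- existence
  obtain ⟨a, hadef⟩ : ∃ a, a = e * w ^ (j + 1) := ⟨_, rfl⟩
  have haD : a ∈ conjugatesOf d := by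
    rw [hadef, hwdef]
    exact mem_of_pow_of_conj_invariant hDsq hDconj he hexD (j + 1)
  have ha2 := hDsq a haD
  have hainv : a⁻¹ = a := inv_eq_self_of_sq ha2
  have hax : Commute a x := by
    have h1 : x * a * x⁻¹ = a := by
      rw [hadef]
      calc x * (e * w ^ (j + 1)) * x⁻¹ = (x * e * x⁻¹) * (x * w ^ (j + 1) * x⁻¹) := by group
        _ = ex * (w ^ (j + 1))⁻¹ := by rw [← conj_pow, hxw, inv_pow, ← hexdef]
        _ = ex * w ^ j := by rw [hwj]
        _ = (e * e) * ex * w ^ j := by rw [he2, one_mul]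
        _ = e * (w * w ^ j) := by rw [mul_assoc e e ex, ← hwdef, mul_assoc]
        _ = e * w ^ (j + 1) := by rw [← pow_succ']
    show a * x = x * a
    calc a * x = (x * a * x⁻¹) * x := by rw [h1]
      _ = x * a := by group
  have haea : a * e * a = ex := by
    rw [hadef]
    calc e * w ^ (j + 1) * e * (e * w ^ (j + 1)) = (e * w ^ (j + 1) * e) * (e * w ^ (j + 1) * e) * e := by
          have hR : (e * w ^ (j + 1) * e) * (e * w ^ (j + 1) * e) * e =
              e * w ^ (j + 1) * (e * e) * w ^ (j + 1) * (e * e) := by group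
          have hL : e * w ^ (j + 1) * e * (e * w ^ (j + 1)) =
              e * w ^ (j + 1) * (e * e) * w ^ (j + 1) := by group
          rw [hR, hL, he2, mul_one, mul_one]
      _ = w ^ j * w ^ j * e := by rw [hewe, hwj]
      _ = ex * (e * e) := by rw [hwjj, hwinv]; group
      _ = ex := by rw [he2, mul_one]
  have haexa : a * ex * a = e := by
    calc a * ex * a = a * (a * e * a) * a := by rw [haea]
      _ = (a * a) * e * (a * a) := by group
      _ = e := by rw [ha2, one_mul, mul_one]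
  have hace : Commute e (a * x) := by
    have h3 : (a * x) * e * (a * x)⁻¹ = e := by
      calc (a * x) * e * (a * x)⁻¹ = a * (x * e * x⁻¹) * a⁻¹ := by group
        _ = e := by rw [← hexdef, hainv, haexa]
    show e * (a * x) = (a * x) * e
    calc e * (a * x) = ((a * x) * e * (a * x)⁻¹) * (a * x) := by rw [h3]
      _ = (a * x) * e := by group
  refine ⟨a, ⟨haD, hax, hace⟩, ?_⟩
  -- uniqueness
  rintro a' ⟨ha'D, ha'x, ha'e⟩
  have h1 := hkey a' ha'D ha'x ha'e
  have h2 := hkey _ haD hax hace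
  have h3 : e * a' = e * a :=
    eq_of_sq_eq_of_odd (hodd e he a' ha'D) (hodd e he _ haD) (h1.trans h2.symm)
  exact mul_left_cancel h3

end Cfsg.Agent.S5562
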