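import Mathlib
import Cfsg.Statements.S5594
import Cfsg.Agent.S0372
import Cfsg.Agent.Lib.Helper1.LeechAut
import Cfsg.Agent.Lib.Helper1.LeechCenter

set_option autoImplicit false
open Cfsg

namespace Cfsg.Agent.S5594

open Cfsg.Agent.Lib.Helper1 Cfsg.Agent.Lib.Helper1.LeechAut Cfsg.Agent.Lib.Helper1.LeechCross

/-- the dodecad of squares -/
def cQ : Finset GolayPt := support₂ (qrWord 0)

theorem cQ_mem : cQ ∈ gC := ⟨qrWord 0, Submodule.subset_span (Or.inl ⟨0, rfl⟩), rfl⟩

theorem cQ_swap : ∀ i : GolayPt, (i ∈ cQ ↔ ¬ projInv i ∈ cQ) := by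
  unfold cQ support₂ qrWord
  decide

theorem projInv_sq : ∀ i : GolayPt, projInv (projInv i) = i := by decide

/-- The automorphism group of the Leech lattice contains the negation map, and the subgroup of order 2 it generates has no complement: the automorphism group is a non-split extension of its quotient by that subgroup (it is not the direct product of a group of order 2 with the first Conway group). -/
theorem result :
    ∃ n : ↥Cfsg.Co0, (∀ v : ↥Cfsg.leechLattice, ((n • v : ↥Cfsg.leechLattice) : Cfsg.GolayPt → ℤ) = -(v : Cfsg.GolayPt → ℤ)) ∧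
    ∀ K : Subgroup ↥Cfsg.Co0, ¬ (Subgroup.zpowers n).IsComplement' K := by
  refine ⟨negC, negC_apply, ?_⟩
  intro K hK
  obtain ⟨g, hg⟩ : ∃ g : ↥Co0, g * g = negC := by
    refine ⟨epsC cQ cQ_mem * permC projInv Cfsg.Agent.S0372.result, ?_⟩
    apply Subtype.ext
    apply Equiv.ext
    intro v
    apply Subtype.ext
    show ((((epsC cQ cQ_mem * permC projInv Cfsg.Agent.S0372.result) •
      ((epsC cQ cQ_mem * permC projInv Cfsg.Agent.S0372.result) • v)) : ↥leechLattice) :
        GolayPt → ℤ) = ((negC • v : ↥leechLattice) : GolayPt → ℤ)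
    rw [mul_smul, mul_smul, negC_apply, epsC_apply, permC_apply, epsC_apply, permC_apply]
    ext i
    unfold epsF permF
    simp only [Pi.neg_apply, projInv_sq]
    by_cases hi : i ∈ cQ
    · have h3 : ¬ projInv i ∈ cQ := (cQ_swap i).mp hi
      rw [if_pos hi, if_neg h3]
    · have h3 : projInv i ∈ cQ := by
        by_contra h; exact hi ((cQ_swap i).mpr h)
      rw [if_neg hi, if_pos h3]
  -- decompose g along the complement
  obtain ⟨⟨a, k⟩, hak, _⟩ := hK.existsUnique g
  simp only at hak
  have hacen : ∀ x : ↥Co0, x * (a : ↥Co0) = a * x := by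
    intro x
    obtain ⟨m, hm⟩ := Subgroup.mem_zpowers_iff.mp a.2
    rw [← hm]
    have hc : Commute x negC := (Subgroup.mem_center_iff.mp negC_central x)
    exact (hc.zpow_right m).eq
  have hnn : (negC : ↥Co0) * negC = 1 := by
    apply Subtype.ext
    apply Equiv.ext
    intro v
    apply Subtype.ext
    show (((negC • (negC • v)) : ↥leechLattice) : GolayPt → ℤ) = (v : GolayPt → ℤ)
    rw [negC_apply, negC_apply]
    simp
  have haa : (a : ↥Co0) * a = 1 := by
    obtain ⟨m, hm⟩ := Subgroup.mem_zpowers_iff.mp a.2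
    rw [← hm, ← zpow_add, ← two_mul, zpow_mul, zpow_two, hnn, one_zpow]
  have hkk : (k : ↥Co0) * k = negC := by
    rw [← hg, ← hak]
    calc (k : ↥Co0) * k = ((a : ↥Co0) * a) * (k * k) := by rw [haa, one_mul]
      _ = a * (a * k) * k := by group
      _ = a * (k * a) * k := by rw [hacen k]
      _ = (a * k) * (a * k) := by group
  have hmem : negC ∈ Subgroup.zpowers negC ⊓ K := by
    refine Subgroup.mem_inf.mpr ⟨Subgroup.mem_zpowers _, ?_⟩
    rw [← hkk]
    exact K.mul_mem k.2 k.2
  have hdisj := hK.disjoint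
  rw [disjoint_iff] at hdisj
  rw [hdisj, Subgroup.mem_bot] at hmem
  exact negC_ne_one hmem

end Cfsg.Agent.S5594
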