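import Mathlib
import Cfsg.Statements.S5596
import Cfsg.Agent.Lib.Helper9.LargeExtra
import Cfsg.Agent.Lib.Helper9.LargeExtra2
import Cfsg.Agent.Lib.Helper9.LargeExtra13
import Cfsg.Agent.Lib.Helper9.LargeExtra14
import Cfsg.Agent.Lib.Helper9.LargeExtra15
import Cfsg.Agent.Lib.Helper9.LargeExtra16

set_option autoImplicit false
open Cfsg

namespace Cfsg.Agent.S5596

open Cfsg.Agent.Lib.Helper9.LargeExtra

/-- Setting: `z` is an involution of the finite group `G`; for each element `x`, `Q x` is the largest normal 2-subgroup of the centralizer of `x`; `Q z` is extraspecial and contains its own centralizer in `G`. A subgroup `U` is singular when it is elementary abelian, every non-identity element of `U` is conjugate to `z`, and any two non-identity elements `u`, `v` of `U` are orthogonal (`v ∈ Q u`). Write `QU` for the intersection of the `Q u` and `LU` for the join of the `Q u` over the non-identity `u` in `U`. If `U` is singular of order `2 ^ n` with `n ≥ 2`, then `U ≤ QU ≤ LU`, `LU` normalizes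 `U`, and `LU` induces on `U` its full automorphism group (the general linear group of dimension `n` over the field with two elements): every automorphism of `U` is conjugation by some element of `LU`. -/
theorem result {G : Type*} [Group G] [Finite G]
    (Q : G → Subgroup G)
    (hQ : ∀ x : G, Q x = (Cfsg.pCore 2 ↥(Subgroup.centralizer ({x} : Set G))).map (Subgroup.centralizer ({x} : Set G)).subtype)
    (z : G) (hz : orderOf z = 2) (hE : Cfsg.IsExtraspecial 2 ↥(Q z))
    (hC : Subgroup.centralizer ((Q z : Subgroup G) : Set G) ≤ Q z)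
    (U : Subgroup G) (hU2 : ∀ u ∈ U, u * u = 1)
    (hS : ∀ u ∈ U, u ≠ 1 → ∃ g : G, g * z * g⁻¹ = u)
    (hO : ∀ u ∈ U, ∀ v ∈ U, u ≠ 1 → v ≠ 1 → v ∈ Q u)
    (QU LU : Subgroup G) (hQU : QU = ⨅ u ∈ ((U : Set G) \ {1}), Q u) (hLU : LU = ⨆ u ∈ ((U : Set G) \ {1}), Q u)
    (n : ℕ) (hn : 2 ≤ n) (hcard : Nat.card ↥U = 2 ^ n) :
    U ≤ QU ∧ QU ≤ LU ∧ LU ≤ Subgroup.normalizer (U : Set G) ∧
      ∀ φ : ↥U ≃* ↥U, ∃ g ∈ LU, ∀ u : ↥U, g * (u : G) * g⁻¹ = ((φ u : ↥U) : G) := by
  classical
  have hfun : Q = fun x => QQ x := funext hQ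
  subst hfun
  beta_reduce at *
  obtain ⟨hcore, _⟩ := core_of_QQ z hz hE hC
  subst hQU hLU
  have hcoreU : ∀ u ∈ U, u ≠ 1 → Core (QQ u) u := by
    intro u hu hu1
    obtain ⟨g, hg⟩ := hS u hu hu1
    rw [← hg]; exact core_QQ_conj hcore g
  have hQUmem : ∀ x, x ∈ (⨅ u ∈ ((U : Set G) \ {1}), QQ u) ↔
      ∀ u ∈ U, u ≠ 1 → x ∈ QQ u := by
    intro x
    rw [Subgroup.mem_iInf]
    constructor
    · intro h u hu hu1
      exact (Subgroup.mem_iInf.mp (h u)) ⟨hu, fun h' => hu1 (Set.mem_singleton_iff.mp h')⟩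
    · intro h u
      rw [Subgroup.mem_iInf]
      rintro ⟨hu, hu1⟩
      exact h u hu (fun h' => hu1 (Set.mem_singleton_iff.mpr h'))
  have hUQ : ∀ u ∈ U, u ≠ 1 → U ≤ QQ u := by
    intro u hu hu1 v hv
    by_cases hv1 : v = 1
    · rw [hv1]; exact Subgroup.one_mem _
    · exact hO u hu v hv hu1 hv1
  have hgen : ∀ u ∈ U, u ≠ 1 → ∀ g ∈ QQ u, ∀ v ∈ U, g * v * g⁻¹ ∈ U := by
    intro u hu hu1 g hg v hv
    have hc := hcoreU u hu hu1
    have hvQ : v ∈ QQ u := hUQ u hu hu1 hv
    rcases hc.conj_cases hvQ hg with h1 | h1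
    · rw [h1]; exact hv
    · rw [h1]; exact U.mul_mem hu hv
  have hle : ∀ u ∈ U, u ≠ 1 → QQ u ≤ (⨆ u ∈ ((U : Set G) \ {1}), QQ u) := by
    intro u hu hu1
    exact le_iSup₂ (f := fun (u : G) (_ : u ∈ (U : Set G) \ {1}) => QQ u) u
      ⟨hu, fun h' => hu1 (Set.mem_singleton_iff.mp h')⟩
  have hLUprop : ∀ g ∈ (⨆ u ∈ ((U : Set G) \ {1}), QQ u), ∀ v ∈ U, g * v * g⁻¹ ∈ U := by
    intro g hg
    rw [iSup_subtype'] at hg
    refine Subgroup.iSup_induction (S := fun i : {u // u ∈ (U : Set G) \ {1}} => QQ i.1)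
      (C := fun g => ∀ v ∈ U, g * v * g⁻¹ ∈ U) hg ?_ ?_ ?_
    · rintro ⟨u, hu, hu1⟩ g hg
      exact hgen u hu (fun h' => hu1 (Set.mem_singleton_iff.mpr h')) g hg
    · intro v hv; simpa using hv
    · intro g1 g2 h1a h2a v hv
      have e : g1 * g2 * v * (g1 * g2)⁻¹ = g1 * (g2 * v * g2⁻¹) * g1⁻¹ := by group
      rw [e]
      exact h1a _ (h2a v hv)
  have hLUprop' : ∀ g ∈ (⨆ u ∈ ((U : Set G) \ {1}), QQ u), ∀ v ∈ U, g⁻¹ * v * g ∈ U := by
    intro g hg v hv
    have := hLUprop g⁻¹ (Subgroup.inv_mem _ hg) v hv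
    rwa [inv_inv] at this
  have hUab := comm_of_invol hU2
  obtain ⟨u1, hu1U, hu11⟩ : ∃ u ∈ U, u ≠ 1 := by
    by_contra hcon
    push Not at hcon
    have hbot : U = ⊥ := (Subgroup.eq_bot_iff_forall U).mpr hcon
    rw [hbot, Subgroup.card_bot] at hcard
    have : 2 ^ n ≥ 2 ^ 2 := Nat.pow_le_pow_right (by norm_num) hn
    omega
  refine ⟨?_, ?_, ?_, ?_⟩
  · intro v hv
    rw [hQUmem]
    intro u hu hu1
    exact hUQ u hu hu1 hv
  · intro x hx
    exact hle u1 hu1U hu11 ((hQUmem x).mp hx u1 hu1U hu11)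
  · intro g hg
    apply Subgroup.mem_normalizer_fintype
    intro v hv
    exact hLUprop g hg v hv
  · have hP : ∀ F : Subgroup G, F ≤ U → ∀ φ : ↥U ≃* ↥U,
        (∀ f (_ : f ∈ F) (hfU : f ∈ U), ((φ ⟨f, hfU⟩ : ↥U) : G) = f) →
        ∃ g ∈ (⨆ u ∈ ((U : Set G) \ {1}), QQ u), ∀ u : ↥U, g * (u : G) * g⁻¹ = ((φ u : ↥U) : G) := by
      intro F
      induction F using WellFoundedGT.induction with
      | ind F ih =>
      intro hFU φ hφ
      by_cases hFU' : F = U
      · refine ⟨1, Subgroup.one_mem _, ?_⟩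
        intro u
        have := hφ u.1 (by rw [hFU']; exact u.2) u.2
        rw [one_mul, inv_one, mul_one]
        exact this.symm
      · obtain ⟨b, hbU, hbF⟩ := SetLike.exists_of_lt (lt_of_le_of_ne hFU hFU')
        obtain ⟨w, hw⟩ : ∃ w : G, w = ((φ ⟨b, hbU⟩ : ↥U) : G) := ⟨_, rfl⟩
        have hwU : w ∈ U := by rw [hw]; exact (φ ⟨b, hbU⟩).2
        have hbb : b * b = 1 := hU2 b hbU
        have hww : w * w = 1 := hU2 w hwU
        have hwF : w ∉ F := by
          intro h
          apply hbF
          have h1 := hφ w h hwU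
          have h2 : φ ⟨w, hwU⟩ = φ ⟨b, hbU⟩ := by
            apply Subtype.ext
            rw [h1, hw]
          have h3 := φ.injective h2
          have h4 : w = b := congrArg Subtype.val h3
          rw [← h4]; exact h
        -- the element g1
        obtain ⟨g1, hg1LU, hg1F, hg1w⟩ : ∃ g1 ∈ (⨆ u ∈ ((U : Set G) \ {1}), QQ u),
            (∀ f ∈ F, g1 * f * g1⁻¹ = f) ∧ g1 * w * g1⁻¹ = b := by
          by_cases hwb : w = b
          · refine ⟨1, Subgroup.one_mem _, ?_, ?_⟩
            · intro f _; simp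
            · rw [hwb]; simp
          · obtain ⟨u0, hu0⟩ : ∃ u0, u0 = w * b := ⟨_, rfl⟩
            have hu0U : u0 ∈ U := by rw [hu0]; exact U.mul_mem hwU hbU
            have hu01 : u0 ≠ 1 := by
              intro h
              apply hwb
              rw [hu0] at h
              calc w = w * b * b := by rw [mul_assoc, hbb, mul_one]
                _ = b := by rw [h, one_mul]
            have hc := hcoreU u0 hu0U hu01
            have hUQ0 := hUQ u0 hu0U hu01
            have hu0F : ∀ f ∈ F, u0 * f = f * u0 := fun f hf => hUab u0 hu0U f (hFU hf)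
            have hBQ : F ⊔ Subgroup.zpowers u0 ≤ QQ u0 :=
              sup_le (hFU.trans hUQ0) (Subgroup.zpowers_le.mpr hc.z_mem)
            have hu0B : u0 ∈ F ⊔ Subgroup.zpowers u0 :=
              Subgroup.mem_sup_right (Subgroup.mem_zpowers u0)
            have hwB : w ∉ F ⊔ Subgroup.zpowers u0 := by
              intro h
              obtain ⟨f, hf, h1 | h1⟩ := mem_sup_zpowers_invol hc.z_sq hu0F h
              · exact hwF (h1 ▸ hf)
              · apply hbF
                have h2 : f * b = 1 := by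
                  have h3 : w = w * (f * b) := by
                    calc w = f * u0 := h1
                      _ = f * (w * b) := by rw [hu0]
                      _ = (f * w) * b := by group
                      _ = (w * f) * b := by rw [hUab f (hFU hf) w hwU]
                      _ = w * (f * b) := by group
                  have h4 : w * 1 = w * (f * b) := by rw [mul_one]; exact h3
                  exact (mul_left_cancel h4).symm
                have h5 : b = f⁻¹ := by
                  calc b = f⁻¹ * (f * b) := by group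
                    _ = f⁻¹ := by rw [h2, mul_one]
                rw [h5]; exact F.inv_mem hf
            have hex : ∃ r ∈ QQ u0, (∀ c ∈ F ⊔ Subgroup.zpowers u0, r * c = c * r) ∧
                w * r ≠ r * w := by
              by_contra hcon
              push Not at hcon
              exact hwB (hc.double_centralizer _ hBQ hu0B w (hUQ0 hwU) hcon)
            obtain ⟨r, hr, hrB, hrw⟩ := hex
            refine ⟨r, hle u0 hu0U hu01 hr, ?_, ?_⟩
            · intro f hf
              have := hrB f (Subgroup.mem_sup_left hf)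
              calc r * f * r⁻¹ = (f * r) * r⁻¹ := by rw [this]
                _ = f := by group
            · rcases hc.conj_cases (hUQ0 hwU) hr with h1 | h1
              · exfalso; apply hrw
                calc w * r = (r * w * r⁻¹) * r := by rw [h1]
                  _ = r * w := by group
              · rw [h1, hu0]
                calc w * b * w = w * (b * w) := by group
                  _ = w * (w * b) := by rw [hUab b hbU w hwU]
                  _ = (w * w) * b := by group
                  _ = b := by rw [hww, one_mul]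
        -- compose
        obtain ⟨ψ, hψ⟩ : ∃ ψ : ↥U ≃* ↥U, ∀ u : ↥U, ((ψ u : ↥U) : G) = g1 * u * g1⁻¹ :=
          ⟨conjEquiv U g1 (hLUprop g1 hg1LU) (hLUprop' g1 hg1LU), fun u => rfl⟩
        have hlt : F < F ⊔ Subgroup.zpowers b :=
          left_lt_sup.mpr (fun h => hbF (h (Subgroup.mem_zpowers b)))
        have hF'U : F ⊔ Subgroup.zpowers b ≤ U := sup_le hFU (Subgroup.zpowers_le.mpr hbU)
        have hbF' : ∀ f ∈ F, b * f = f * b := fun f hf => hUab b hbU f (hFU hf)
        have hφ' : ∀ f (_ : f ∈ F ⊔ Subgroup.zpowers b) (hfU : f ∈ U),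
            (((φ.trans ψ) ⟨f, hfU⟩ : ↥U) : G) = f := by
          have hfixF : ∀ f (_ : f ∈ F) (hfU : f ∈ U), (((φ.trans ψ) ⟨f, hfU⟩ : ↥U) : G) = f := by
            intro f hf hfU
            rw [MulEquiv.trans_apply, hψ, hφ f hf hfU]
            exact hg1F f hf
          have hfixb : (((φ.trans ψ) ⟨b, hbU⟩ : ↥U) : G) = b := by
            rw [MulEquiv.trans_apply, hψ, ← hw]
            exact hg1w
          intro x hx hxU
          obtain ⟨f, hf, h1 | h1⟩ := mem_sup_zpowers_invol hbb hbF' hx
          · subst h1; exact hfixF x hf hxU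
          · have e : (⟨x, hxU⟩ : ↥U) = ⟨f, hFU hf⟩ * ⟨b, hbU⟩ := Subtype.ext h1
            rw [e, map_mul, Subgroup.coe_mul, hfixF f hf (hFU hf), hfixb, h1]
        obtain ⟨g', hg'LU, hg'⟩ := ih (F ⊔ Subgroup.zpowers b) hlt hF'U (φ.trans ψ) hφ'
        refine ⟨g1⁻¹ * g', Subgroup.mul_mem _ (Subgroup.inv_mem _ hg1LU) hg'LU, ?_⟩
        intro u
        have h1 := hg' u
        rw [MulEquiv.trans_apply, hψ] at h1
        calc g1⁻¹ * g' * (u : G) * (g1⁻¹ * g')⁻¹ = g1⁻¹ * (g' * (u : G) * g'⁻¹) * g1 := by group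
          _ = g1⁻¹ * (g1 * ((φ u : ↥U) : G) * g1⁻¹) * g1 := by rw [h1]
          _ = ((φ u : ↥U) : G) := by group
    intro φ
    exact hP ⊥ bot_le φ (by
      intro f hf hfU
      rw [Subgroup.mem_bot] at hf
      subst hf
      have : (⟨1, hfU⟩ : ↥U) = 1 := rfl
      rw [this, map_one]; rfl)

end Cfsg.Agent.S5596
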