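import Mathlib
import Cfsg.Statements.S5597
import Cfsg.Agent.Lib.Helper9.LargeExtra
import Cfsg.Agent.Lib.Helper9.LargeExtra2
import Cfsg.Agent.Lib.Helper9.LargeExtra13
import Cfsg.Agent.Lib.Helper9.LargeExtra14
import Cfsg.Agent.Lib.Helper9.LargeExtra15

set_option autoImplicit false
open Cfsg

namespace Cfsg.Agent.S5597

open Cfsg.Agent.Lib.Helper9.LargeExtra

/-- Setting: `z` is an involution of the finite group `G`; for each element `x`, `Q x` is the largest normal 2-subgroup of the centralizer of `x`; `Q z` is extraspecial and contains its own centralizer in `G`. A subgroup `U` is singular when it is elementary abelian, every non-identity element of `U` is conjugate to `z`, and any two non-identity elements `u`, `v` of `U` are orthogonal (`v ∈ Q u`). Write `QU` for the intersection of the `Q u` and `LU` for the join of the `Q u` over the non-identity `u` in `U`. If `U` is a non-trivial singular subgroup, then `LU` acts trivially on `QU / U` (every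 commutator of an element of `LU` with an element of `QU` lies in `U`), and for every `x` in `QU` outside `U` the centralizer of `U` in `LU` permutes the coset `x U` transitively: each `x u` with `u ∈ U` is a conjugate of `x` by an element of `LU` centralizing `U`. -/
theorem result {G : Type*} [Group G] [Finite G]
    (Q : G → Subgroup G)
    (hQ : ∀ x : G, Q x = (Cfsg.pCore 2 ↥(Subgroup.centralizer ({x} : Set G))).map (Subgroup.centralizer ({x} : Set G)).subtype)
    (z : G) (hz : orderOf z = 2) (hE : Cfsg.IsExtraspecial 2 ↥(Q z))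
    (hC : Subgroup.centralizer ((Q z : Subgroup G) : Set G) ≤ Q z)
    (U : Subgroup G) (hU2 : ∀ u ∈ U, u * u = 1)
    (hS : ∀ u ∈ U, u ≠ 1 → ∃ g : G, g * z * g⁻¹ = u)
    (hO : ∀ u ∈ U, ∀ v ∈ U, u ≠ 1 → v ≠ 1 → v ∈ Q u)
    (QU LU : Subgroup G) (hQU : QU = ⨅ u ∈ ((U : Set G) \ {1}), Q u) (hLU : LU = ⨆ u ∈ ((U : Set G) \ {1}), Q u)
    (hU : U ≠ ⊥) :
    (∀ g ∈ LU, ∀ x ∈ QU, g * x * g⁻¹ * x⁻¹ ∈ U) ∧
      ∀ x ∈ QU, x ∉ U → ∀ u ∈ U, ∃ g ∈ LU ⊓ Subgroup.centralizer (U : Set G), g * x * g⁻¹ = x * u := by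
  classical
  have hfun : Q = fun x => QQ x := funext hQ
  subst hfun
  beta_reduce at *
  obtain ⟨hcore, _⟩ := core_of_QQ z hz hE hC
  subst hQU hLU
  have hcoreU : ∀ u ∈ U, u ≠ 1 → Core (QQ u) u := by
    intro u hu hu1
    obtain ⟨g, hg⟩ := hS u hu hu1
    rw [← hg]; exact core_QQ_conj hcore g
  have hQUmem : ∀ x, x ∈ (⨅ u ∈ ((U : Set G) \ {1}), QQ u) ↔
      ∀ u ∈ U, u ≠ 1 → x ∈ QQ u := by
    intro x
    rw [Subgroup.mem_iInf]
    constructor
    · intro h u hu hu1
      exact (Subgroup.mem_iInf.mp (h u)) ⟨hu, fun h' => hu1 (Set.mem_singleton_iff.mp h')⟩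
    · intro h u
      rw [Subgroup.mem_iInf]
      rintro ⟨hu, hu1⟩
      exact h u hu (fun h' => hu1 (Set.mem_singleton_iff.mpr h'))
  have hgen : ∀ u ∈ U, u ≠ 1 → ∀ g ∈ QQ u, (∀ v ∈ U, g * v * g⁻¹ ∈ U) ∧
      (∀ x ∈ (⨅ u ∈ ((U : Set G) \ {1}), QQ u), g * x * g⁻¹ * x⁻¹ ∈ U) := by
    intro u hu hu1 g hg
    have hc := hcoreU u hu hu1
    constructor
    · intro v hv
      by_cases hv1 : v = 1
      · rw [hv1]; simp [U.one_mem]
      · have hvQ : v ∈ QQ u := hO u hu v hv hu1 hv1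
        rcases hc.conj_cases hvQ hg with h1 | h1
        · rw [h1]; exact hv
        · rw [h1]; exact U.mul_mem hu hv
    · intro x hx
      have hxQ : x ∈ QQ u := (hQUmem x).mp hx u hu hu1
      rcases hc.comm_mem g hg x hxQ with h1 | h1
      · rw [h1]; exact U.one_mem
      · rw [h1]; exact hu
  have hLUprop : ∀ g ∈ (⨆ u ∈ ((U : Set G) \ {1}), QQ u), (∀ v ∈ U, g * v * g⁻¹ ∈ U) ∧
      (∀ x ∈ (⨅ u ∈ ((U : Set G) \ {1}), QQ u), g * x * g⁻¹ * x⁻¹ ∈ U) := by
    intro g hg
    rw [iSup_subtype'] at hg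
    refine Subgroup.iSup_induction (S := fun i : {u // u ∈ (U : Set G) \ {1}} => QQ i.1)
      (C := fun g => (∀ v ∈ U, g * v * g⁻¹ ∈ U) ∧
        (∀ x ∈ (⨅ u ∈ ((U : Set G) \ {1}), QQ u), g * x * g⁻¹ * x⁻¹ ∈ U)) hg ?_ ?_ ?_
    · rintro ⟨u, hu, hu1⟩ g hg
      exact hgen u hu (fun h' => hu1 (Set.mem_singleton_iff.mpr h')) g hg
    · constructor
      · intro v hv; simpa using hv
      · intro x _; simp [U.one_mem]
    · rintro g1 g2 ⟨h1a, h1b⟩ ⟨h2a, h2b⟩
      constructor
      · intro v hv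
        have e : g1 * g2 * v * (g1 * g2)⁻¹ = g1 * (g2 * v * g2⁻¹) * g1⁻¹ := by group
        rw [e]
        exact h1a _ (h2a v hv)
      · intro x hx
        have e : g1 * g2 * x * (g1 * g2)⁻¹ * x⁻¹ =
            (g1 * (g2 * x * g2⁻¹ * x⁻¹) * g1⁻¹) * (g1 * x * g1⁻¹ * x⁻¹) := by group
        rw [e]
        exact U.mul_mem (h1a _ (h2b x hx)) (h1b x hx)
  refine ⟨fun g hg x hx => (hLUprop g hg).2 x hx, ?_⟩
  intro x hx hxU u hu
  by_cases hu1 : u = 1
  · refine ⟨1, Subgroup.one_mem _, ?_⟩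
    rw [hu1]; simp
  · have hc := hcoreU u hu hu1
    have hxQ : x ∈ QQ u := (hQUmem x).mp hx u hu hu1
    have hUQ : U ≤ QQ u := by
      intro v hv
      by_cases hv1 : v = 1
      · rw [hv1]; exact Subgroup.one_mem _
      · exact hO u hu v hv hu1 hv1
    by_contra hcon
    push Not at hcon
    apply hxU
    apply hc.double_centralizer U hUQ hu x hxQ
    intro r hr hrU
    have hrLU : r ∈ (⨆ u ∈ ((U : Set G) \ {1}), QQ u) := by
      have hle : QQ u ≤ (⨆ u ∈ ((U : Set G) \ {1}), QQ u) :=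
        le_iSup₂ (f := fun (u : G) (_ : u ∈ (U : Set G) \ {1}) => QQ u) u
          ⟨hu, fun h' => hu1 (Set.mem_singleton_iff.mp h')⟩
      exact hle hr
    have hrC : r ∈ Subgroup.centralizer (U : Set G) := by
      rw [Subgroup.mem_centralizer_iff]
      intro b hb
      exact (hrU b hb).symm
    have h1 := hcon r (Subgroup.mem_inf.mpr ⟨hrLU, hrC⟩)
    rcases hc.conj_cases hxQ hr with h2 | h2
    · calc x * r = (r * x * r⁻¹) * r := by rw [h2]
        _ = r * x := by group
    · exfalso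
      apply h1
      rw [h2]
      exact (hc.z_comm x hxQ).symm

end Cfsg.Agent.S5597
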