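import Mathlib
import Cfsg.Statements.S5598
import Cfsg.Agent.Lib.Helper9.LargeExtra
import Cfsg.Agent.Lib.Helper9.LargeExtra2
import Cfsg.Agent.Lib.Helper9.LargeExtra13
import Cfsg.Agent.Lib.Helper9.LargeExtra14

set_option autoImplicit false
open Cfsg

namespace Cfsg.Agent.S5598

open Cfsg.Agent.Lib.Helper9.LargeExtra

/-- Setting: `z` is an involution of the finite group `G`; for each element `x`, `Q x` is the largest normal 2-subgroup of the centralizer of `x`; `Q z` is extraspecial and contains its own centralizer in `G`. A subgroup `U` is singular when it is elementary abelian, every non-identity element of `U` is conjugate to `z`, and any two non-identity elements `u`, `v` of `U` are orthogonal (`v ∈ Q u`). Write `QU` for the intersection of the `Q u` and `LU` for the join of the `Q u` over the non-identity `u` in `U`. If the singular subgroup `U` is generated by a set `T` of non-identity elements, then `QU` is already the intersection of the `Q t` over `t ∈ T`. -/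
theorem result {G : Type*} [Group G] [Finite G]
    (Q : G → Subgroup G)
    (hQ : ∀ x : G, Q x = (Cfsg.pCore 2 ↥(Subgroup.centralizer ({x} : Set G))).map (Subgroup.centralizer ({x} : Set G)).subtype)
    (z : G) (hz : orderOf z = 2) (hE : Cfsg.IsExtraspecial 2 ↥(Q z))
    (hC : Subgroup.centralizer ((Q z : Subgroup G) : Set G) ≤ Q z)
    (U : Subgroup G) (hU2 : ∀ u ∈ U, u * u = 1)
    (hS : ∀ u ∈ U, u ≠ 1 → ∃ g : G, g * z * g⁻¹ = u)
    (hO : ∀ u ∈ U, ∀ v ∈ U, u ≠ 1 → v ≠ 1 → v ∈ Q u)
    (QU LU : Subgroup G) (hQU : QU = ⨅ u ∈ ((U : Set G) \ {1}), Q u) (hLU : LU = ⨆ u ∈ ((U : Set G) \ {1}), Q u)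
    (T : Set G) (hT : Subgroup.closure T = U) (hT1 : (1 : G) ∉ T) :
    QU = ⨅ t ∈ T, Q t := by
  classical
  have hfun : Q = fun x => QQ x := funext hQ
  subst hfun
  beta_reduce at *
  obtain ⟨hcore, _⟩ := core_of_QQ z hz hE hC
  subst hQU
  have hTU : T ⊆ (U : Set G) := by rw [← hT]; exact Subgroup.subset_closure
  apply le_antisymm
  · apply le_iInf₂
    intro t ht
    apply iInf₂_le t
    refine ⟨hTU ht, ?_⟩
    intro h1
    rw [Set.mem_singleton_iff] at h1
    exact hT1 (h1 ▸ ht)
  · apply le_iInf₂
    intro u hu
    obtain ⟨huU, hu1⟩ := hu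
    rw [Set.mem_singleton_iff] at hu1
    intro x hx
    have hxT : ∀ t ∈ T, x ∈ QQ t := by
      intro t ht
      have h1 := (Subgroup.mem_iInf.mp hx) t
      exact (Subgroup.mem_iInf.mp h1) ht
    have key : ∀ u (_ : u ∈ Subgroup.closure T), u ≠ 1 → x ∈ QQ u := by
      intro u hu
      induction hu using Subgroup.closure_induction with
      | mem t ht => intro _; exact hxT t ht
      | one => intro h; exact absurd rfl h
      | mul a b ha hb iha ihb =>
        intro hab
        by_cases ha1 : a = 1
        · rw [ha1, one_mul]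
          apply ihb
          intro hb1; apply hab; rw [ha1, hb1, one_mul]
        by_cases hb1 : b = 1
        · rw [hb1, mul_one]
          exact iha ha1
        have haU : a ∈ U := by rw [← hT]; exact ha
        have hbU : b ∈ U := by rw [← hT]; exact hb
        have hne : b ≠ a := by
          intro h; apply hab; rw [h]; exact hU2 a haU
        obtain ⟨ga, hga⟩ := hS a haU ha1
        obtain ⟨gb, hgb⟩ := hS b hbU hb1
        have hca : Core (QQ a) a := by rw [← hga]; exact core_QQ_conj hcore ga
        have hba : b = (gb * ga⁻¹) * a * (gb * ga⁻¹)⁻¹ := by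
          rw [← hgb, ← hga]; group
        have hbQ : b ∈ QQ a := hO a haU b hbU ha1 hb1
        have h1 := QQ_inter_le hca (gb * ga⁻¹) (by rw [← hba]; exact hbQ)
          (by rw [← hba]; exact hne)
        rw [← hba] at h1
        exact h1 (Subgroup.mem_inf.mpr ⟨iha ha1, ihb hb1⟩)
      | inv a ha iha =>
        intro ha1
        have haU : a ∈ U := by rw [← hT]; exact ha
        have : a⁻¹ = a := inv_eq_of_mul_eq_one_right (hU2 a haU)
        rw [this]
        apply iha
        intro h; apply ha1; rw [h, inv_one]
    exact key u (by rw [hT]; exact huU) hu1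

end Cfsg.Agent.S5598
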