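import Mathlib
import Cfsg.Statements.S5600
import Cfsg.Agent.Lib.Helper9.M24Q

set_option autoImplicit false
open scoped Pointwise
open Cfsg

namespace Cfsg.Agent.S5600

open Cfsg.Agent.Lib.Helper9.M24

theorem card_fix_eq_KO (E : Finset Cfsg.GolayPt) :
    Nat.card {g : Equiv.Perm Cfsg.GolayPt // g ∈ Cfsg.M24 ∧ ∀ p ∈ E, g p = p} = Nat.card (KO E) :=
  Nat.card_congr (Equiv.subtypeEquivRight (fun g => (mem_KO_iff E g).symm))

/-- Although the group of the length-24 code is only 5-transitive on the 24 points, it induces the full symmetric group on every 6-element subset: every permutation of a 6-set E is the restriction of an element of the group mapping E to itself. The pointwise stabiliser of E has order 16 when E lies in an octad and order 3 otherwise; in the latter case the setwise stabiliser of E has order 2160. -/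
theorem result (E : Finset Cfsg.GolayPt) (hE : E.card = 6) : (∀ σ : Equiv.Perm ↥E, ∃ g ∈ Cfsg.M24, ∀ p : ↥E, g p = σ p) ∧ ((∃ o ∈ Cfsg.octads, E ⊆ o) → Nat.card {g : Equiv.Perm Cfsg.GolayPt // g ∈ Cfsg.M24 ∧ ∀ p ∈ E, g p = p} = 16) ∧ ((¬ ∃ o ∈ Cfsg.octads, E ⊆ o) → Nat.card {g : Equiv.Perm Cfsg.GolayPt // g ∈ Cfsg.M24 ∧ ∀ p ∈ E, g p = p} = 3 ∧ Nat.card ↥(MulAction.stabilizer Cfsg.M24 E) = 2160) := by
  refine ⟨fun σ => exists_extend_six E hE σ, ?_, ?_⟩
  · rintro ⟨o, ho, hEo⟩
    rw [card_fix_eq_KO]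
    exact card_KO_six ho hEo hE
  · intro hno
    have h3 := card_KO_six_of_not_octad hE hno
    refine ⟨by rw [card_fix_eq_KO]; exact h3, ?_⟩
    rw [card_stabilizer_six hE, h3]

end Cfsg.Agent.S5600
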