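import Mathlib
import Cfsg.Statements.S5601
import Cfsg.Agent.Lib.Helper9.M24Ord3

set_option autoImplicit false
open scoped Pointwise
open Cfsg

namespace Cfsg.Agent.S5601

open Cfsg.Agent.Lib.Helper9.M24

/-- The set of common fixed points of a subgroup. -/
def fixedOf (X : Subgroup ↥Cfsg.M24) : Set GolayPt :=
  {p : Cfsg.GolayPt | ∀ x ∈ X, ((x : ↥Cfsg.M24) : Equiv.Perm Cfsg.GolayPt) p = p}

theorem exists_generator (X : Subgroup ↥Cfsg.M24) (hX : Nat.card X = 3) :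
    ∃ g : ↥Cfsg.M24, g ∈ X ∧ g ≠ 1 ∧ g ^ 3 = 1 ∧ X = Subgroup.zpowers g := by
  haveI : Fact (Nat.Prime 3) := ⟨Nat.prime_three⟩
  haveI : Finite ↥X := Nat.finite_of_card_ne_zero (by rw [hX]; decide)
  haveI : Nontrivial ↥X := (Finite.one_lt_card_iff_nontrivial).mp (by rw [hX]; decide)
  obtain ⟨g, hg⟩ := exists_ne (1 : ↥X)
  haveI : Fact (Nat.card ↥X).Prime := ⟨by rw [hX]; exact Nat.prime_three⟩
  have htop : Subgroup.zpowers g = ⊤ :=
    (Subgroup.eq_bot_or_eq_top_of_prime_card (Subgroup.zpowers g)).resolve_left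
      (fun h => hg (Subgroup.zpowers_eq_bot.mp h))
  have h3 : g ^ 3 = 1 := by
    have := pow_card_eq_one' (G := ↥X) (x := g)
    rwa [hX] at this
  refine ⟨g.1, g.2, ?_, ?_, ?_⟩
  · intro h
    exact hg (Subtype.ext h)
  · have := congrArg Subtype.val h3
    simpa using this
  · apply le_antisymm
    · intro x hx
      have : (⟨x, hx⟩ : ↥X) ∈ Subgroup.zpowers g := by rw [htop]; trivial
      rw [Subgroup.mem_zpowers_iff] at this ⊢
      obtain ⟨n, hn⟩ := this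
      refine ⟨n, ?_⟩
      have := congrArg Subtype.val hn
      simpa using this
    · rw [Subgroup.zpowers_le]
      exact g.2

theorem fixedOf_zpowers (g : ↥Cfsg.M24) :
    fixedOf (Subgroup.zpowers g) = ↑(fixSet (g : Equiv.Perm GolayPt)) := by
  ext p
  unfold fixedOf
  rw [Set.mem_setOf_eq, Finset.mem_coe, mem_fixSet]
  constructor
  · intro h
    exact h g (Subgroup.mem_zpowers g)
  · intro h x hx
    rw [Subgroup.mem_zpowers_iff] at hx
    obtain ⟨n, rfl⟩ := hx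
    rw [Subgroup.coe_zpow]
    exact Equiv.Perm.zpow_apply_eq_self_of_apply_eq_self h n

theorem cube_of_pow {g : ↥Cfsg.M24} (h : g ^ 3 = 1) :
    (g : Equiv.Perm GolayPt) * (g : Equiv.Perm GolayPt) * (g : Equiv.Perm GolayPt) = 1 := by
  have := congrArg Subtype.val h
  rw [Subgroup.coe_pow, pow_succ, pow_two] at this
  exact this

theorem coe_ne_one {g : ↥Cfsg.M24} (h : g ≠ 1) : (g : Equiv.Perm GolayPt) ≠ 1 := by
  intro h'
  exact h (Subtype.ext h')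

theorem ncard_fixedOf (g : ↥Cfsg.M24) (hne : g ≠ 1) (h3 : g ^ 3 = 1) :
    ((∃ a, (g : Equiv.Perm GolayPt) a = a) → (fixedOf (Subgroup.zpowers g)).ncard = 6) ∧
    ((∀ a, (g : Equiv.Perm GolayPt) a ≠ a) → (fixedOf (Subgroup.zpowers g)).ncard = 0) := by
  rw [fixedOf_zpowers, Set.ncard_coe_finset]
  constructor
  · rintro ⟨a, ha⟩
    exact ord3_card_fixSet g.2 (cube_of_pow h3) (coe_ne_one hne) ha
  · intro h
    rw [Finset.card_eq_zero, Finset.eq_empty_iff_forall_notMem]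
    intro p hp
    rw [mem_fixSet] at hp
    exact h p hp

theorem card_zpowers_of_cube {g : ↥Cfsg.M24} (hne : g ≠ 1) (h3 : g ^ 3 = 1) :
    Nat.card (Subgroup.zpowers g) = 3 := by
  haveI : Fact (Nat.Prime 3) := ⟨Nat.prime_three⟩
  rw [Nat.card_zpowers]
  exact orderOf_eq_prime h3 hne

theorem conj_zpowers (k g h : ↥Cfsg.M24) (hk : k * g * k⁻¹ = h) :
    MulAut.conj k • Subgroup.zpowers g = Subgroup.zpowers h := by
  change (Subgroup.zpowers g).map (MulAut.conj k).toMonoidHom = Subgroup.zpowers h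
  rw [MonoidHom.map_zpowers]
  congr 1

theorem conj_eq_of_conj {g h r k₁ k₂ : Equiv.Perm GolayPt} (h1 : k₁ * g * k₁⁻¹ = r) (h2 : k₂ * h * k₂⁻¹ = r) :
    (k₂⁻¹ * k₁) * g * (k₂⁻¹ * k₁)⁻¹ = h := by
  have : h = k₂⁻¹ * r * k₂ := by rw [← h2]; group
  rw [this, ← h1]
  group

theorem result : (∀ X : Subgroup ↥Cfsg.M24, Nat.card X = 3 → {p : Cfsg.GolayPt | ∀ x ∈ X, ((x : ↥Cfsg.M24) : Equiv.Perm Cfsg.GolayPt) p = p}.ncard = 6 ∨ {p : Cfsg.GolayPt | ∀ x ∈ X, ((x : ↥Cfsg.M24) : Equiv.Perm Cfsg.GolayPt) p = p}.ncard = 0) ∧ (∃ X : Subgroup ↥Cfsg.M24, Nat.card X = 3 ∧ {p : Cfsg.GolayPt | ∀ x ∈ X, ((x : ↥Cfsg.M24) : Equiv.Perm Cfsg.GolayPt) p = p}.ncard = 6) ∧ (∃ X : Subgroup ↥Cfsg.M24, Nat.card X = 3 ∧ {p : Cfsg.GolayPt | ∀ x ∈ X, ((x : ↥Cfsg.M24) : Equiv.Perm Cfsg.GolayPt) p = p}.ncard = 0) ∧ ∀ X Y : Subgroup ↥Cfsg.M24, Nat.card X = 3 → Nat.card Y = 3 → {p : Cfsg.GolayPt | ∀ x ∈ X, ((x : ↥Cfsg.M24)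 : Equiv.Perm Cfsg.GolayPt) p = p}.ncard = {p : Cfsg.GolayPt | ∀ x ∈ Y, ((x : ↥Cfsg.M24) : Equiv.Perm Cfsg.GolayPt) p = p}.ncard → ∃ k : ↥Cfsg.M24, MulAut.conj k • X = Y := by
  change (∀ X : Subgroup ↥Cfsg.M24, Nat.card X = 3 → (fixedOf X).ncard = 6 ∨ (fixedOf X).ncard = 0) ∧
    (∃ X : Subgroup ↥Cfsg.M24, Nat.card X = 3 ∧ (fixedOf X).ncard = 6) ∧
    (∃ X : Subgroup ↥Cfsg.M24, Nat.card X = 3 ∧ (fixedOf X).ncard = 0) ∧
    ∀ X Y : Subgroup ↥Cfsg.M24, Nat.card X = 3 → Nat.card Y = 3 → (fixedOf X).ncard = (fixedOf Y).ncard →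
      ∃ k : ↥Cfsg.M24, MulAut.conj k • X = Y
  refine ⟨?_, ?_, ?_, ?_⟩
  · intro X hX
    obtain ⟨g, -, hne, h3, rfl⟩ := exists_generator X hX
    by_cases hf : ∀ a, (g : Equiv.Perm GolayPt) a ≠ a
    · exact Or.inr ((ncard_fixedOf g hne h3).2 hf)
    · push Not at hf
      exact Or.inl ((ncard_fixedOf g hne h3).1 hf)
  · set g : ↥Cfsg.M24 := ⟨tperm g3A, g3A_mem⟩ with hg
    have hne : g ≠ 1 := fun h => g3A_ne_one (congrArg Subtype.val h)
    have h3 : g ^ 3 = 1 := by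
      apply Subtype.ext
      rw [Subgroup.coe_pow, pow_succ, pow_two]
      exact g3A_cube
    refine ⟨Subgroup.zpowers g, card_zpowers_of_cube hne h3, ?_⟩
    apply (ncard_fixedOf g hne h3).1
    have hcard := g3A_card_fix
    obtain ⟨a, ha⟩ : (fixSet (tperm g3A)).Nonempty := Finset.card_pos.mp (by rw [hcard]; norm_num)
    exact ⟨a, (mem_fixSet _ _).mp ha⟩
  · set g : ↥Cfsg.M24 := ⟨tperm g3B, g3B_mem⟩ with hg
    have hne : g ≠ 1 := by
      intro h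
      have h' : tperm g3B = 1 := congrArg Subtype.val h
      exact g3B_fpf none (by rw [h']; rfl)
    have h3 : g ^ 3 = 1 := by
      apply Subtype.ext
      rw [Subgroup.coe_pow, pow_succ, pow_two]
      exact g3B_cube
    refine ⟨Subgroup.zpowers g, card_zpowers_of_cube hne h3, ?_⟩
    exact (ncard_fixedOf g hne h3).2 g3B_fpf
  · intro X Y hX hY hXY
    obtain ⟨g, -, hgne, hg3, rfl⟩ := exists_generator X hX
    obtain ⟨h, -, hhne, hh3, rfl⟩ := exists_generator Y hY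
    by_cases hf : ∀ a, (g : Equiv.Perm GolayPt) a ≠ a
    · have hf' : ∀ a, (h : Equiv.Perm GolayPt) a ≠ a := by
        by_contra hcon
        push Not at hcon
        rw [(ncard_fixedOf g hgne hg3).2 hf, (ncard_fixedOf h hhne hh3).1 hcon] at hXY
        norm_num at hXY
      obtain ⟨k₁, hk₁, e₁⟩ := ord3_conj_3B g.2 (cube_of_pow hg3) hf
      obtain ⟨k₂, hk₂, e₂⟩ := ord3_conj_3B h.2 (cube_of_pow hh3) hf'
      refine ⟨⟨k₂⁻¹ * k₁, Subgroup.mul_mem _ (Subgroup.inv_mem _ hk₂) hk₁⟩, ?_⟩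
      apply conj_zpowers
      apply Subtype.ext
      exact conj_eq_of_conj e₁ e₂
    · push Not at hf
      have hf' : ∃ a, (h : Equiv.Perm GolayPt) a = a := by
        by_contra hcon
        push Not at hcon
        rw [(ncard_fixedOf g hgne hg3).1 hf, (ncard_fixedOf h hhne hh3).2 hcon] at hXY
        norm_num at hXY
      obtain ⟨a, ha⟩ := hf
      obtain ⟨b, hb⟩ := hf'
      obtain ⟨k₁, hk₁, e₁⟩ := ord3_conj_3A g.2 (cube_of_pow hg3) (coe_ne_one hgne) ha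
      obtain ⟨k₂, hk₂, e₂⟩ := ord3_conj_3A h.2 (cube_of_pow hh3) (coe_ne_one hhne) hb
      refine ⟨⟨k₂⁻¹ * k₁, Subgroup.mul_mem _ (Subgroup.inv_mem _ hk₂) hk₁⟩, ?_⟩
      apply conj_zpowers
      apply Subtype.ext
      exact conj_eq_of_conj e₁ e₂

end Cfsg.Agent.S5601
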