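import Mathlib
import Cfsg.Statements.S5604
import Cfsg.Agent.Lib.Helper9.S5604Ref

set_option autoImplicit false
open scoped Pointwise
open Cfsg

namespace Cfsg.Agent.S5604

open Cfsg.Agent.Lib.Helper9.M24

theorem exists_generator7 (X : Subgroup ↥Cfsg.M24) (hX : Nat.card X = 7) :
    ∃ g : ↥Cfsg.M24, g ≠ 1 ∧ g ^ 7 = 1 ∧ X = Subgroup.zpowers g := by
  have hp : Nat.Prime 7 := by norm_num
  haveI : Fact (Nat.Prime 7) := ⟨hp⟩
  haveI : Finite ↥X := Nat.finite_of_card_ne_zero (by rw [hX]; decide)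
  haveI : Nontrivial ↥X := (Finite.one_lt_card_iff_nontrivial).mp (by rw [hX]; decide)
  obtain ⟨g, hg⟩ := exists_ne (1 : ↥X)
  haveI : Fact (Nat.card ↥X).Prime := ⟨by rw [hX]; exact hp⟩
  have htop : Subgroup.zpowers g = ⊤ :=
    (Subgroup.eq_bot_or_eq_top_of_prime_card (Subgroup.zpowers g)).resolve_left
      (fun h => hg (Subgroup.zpowers_eq_bot.mp h))
  have h7 : g ^ 7 = 1 := by
    have := pow_card_eq_one' (G := ↥X) (x := g)
    rwa [hX] at this
  refine ⟨g.1, ?_, ?_, ?_⟩
  · intro h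
    exact hg (Subtype.ext h)
  · have := congrArg Subtype.val h7
    simpa using this
  · apply le_antisymm
    · intro x hx
      have : (⟨x, hx⟩ : ↥X) ∈ Subgroup.zpowers g := by rw [htop]; trivial
      rw [Subgroup.mem_zpowers_iff] at this ⊢
      obtain ⟨n, hn⟩ := this
      refine ⟨n, ?_⟩
      have := congrArg Subtype.val hn
      simpa using this
    · rw [Subgroup.zpowers_le]
      exact g.2

theorem mem_normalizer_zpowers {G : Type*} [Group G] [Finite G] {g : G} (h7 : g ^ 7 = 1) (hne : g ≠ 1) (n : G) :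
    n ∈ Subgroup.normalizer ((Subgroup.zpowers g : Subgroup G) : Set G) ↔
      ∃ i, 1 ≤ i ∧ i ≤ 6 ∧ n * g = g ^ i * n := by
  haveI : Fact (Nat.Prime 7) := ⟨by norm_num⟩
  have hord : orderOf g = 7 := orderOf_eq_prime h7 hne
  constructor
  · intro hn
    have h1 : n * g * n⁻¹ ∈ Subgroup.zpowers g :=
      (Subgroup.mem_normalizer_iff.mp hn g).mp (Subgroup.mem_zpowers g)
    obtain ⟨z, hz⟩ := Subgroup.mem_zpowers_iff.mp h1
    have hz' : g ^ (z % 7) = n * g * n⁻¹ := by
      have := zpow_mod_orderOf g z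
      rw [hord] at this
      rw [← hz, ← this]
      rfl
    have hnn : 0 ≤ z % 7 := Int.emod_nonneg _ (by norm_num)
    have hlt : z % 7 < 7 := Int.emod_lt_of_pos _ (by norm_num)
    obtain ⟨i, hi⟩ := Int.eq_ofNat_of_zero_le hnn
    rw [hi, zpow_natCast] at hz'
    have hi7 : i < 7 := by omega
    refine ⟨i, ?_, by omega, ?_⟩
    · by_contra hcon
      have : i = 0 := by omega
      rw [this, pow_zero] at hz'
      apply hne
      have : g = n⁻¹ * (n * g * n⁻¹) * n := by group
      rw [this, ← hz']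
      group
    · rw [hz']
      group
  · rintro ⟨i, -, -, hrel⟩
    apply Subgroup.mem_normalizer_fintype
    intro h hh
    obtain ⟨z, rfl⟩ := Subgroup.mem_zpowers_iff.mp hh
    have hconj : n * g * n⁻¹ = g ^ i := by rw [hrel]; group
    have : n * g ^ z * n⁻¹ = (g ^ i) ^ z := by
      rw [← hconj]
      exact (conj_zpow (a := n) (b := g) (i := z)).symm
    rw [SetLike.mem_coe, this]
    exact Subgroup.zpow_mem _ (Subgroup.pow_mem _ (Subgroup.mem_zpowers g) i) z

theorem mem_centralizer_zpowers {G : Type*} [Group G] (g c : G) :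
    c ∈ Subgroup.centralizer ((Subgroup.zpowers g : Subgroup G) : Set G) ↔ c * g = g * c := by
  rw [Subgroup.mem_centralizer_iff]
  constructor
  · intro h
    exact (h g (Subgroup.mem_zpowers g)).symm
  · intro h x hx
    obtain ⟨z, rfl⟩ := Subgroup.mem_zpowers_iff.mp hx
    have hc : Commute c g := h
    exact (hc.zpow_right z).symm

/-- Transport of cardinalities along conjugation by an element of the group of the code. -/
theorem card_transport {k : Equiv.Perm GolayPt} (hk : k ∈ M24) (P : ↥M24 → Prop)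
    (Q : Equiv.Perm GolayPt → Prop) (hQ : ∀ m, Q m → m ∈ M24)
    (hPQ : ∀ n : ↥M24, P n ↔ Q (k * (n : Equiv.Perm GolayPt) * k⁻¹)) :
    Nat.card {n : ↥M24 // P n} = Nat.card {m : Equiv.Perm GolayPt // Q m} := by
  have hk' : k⁻¹ ∈ M24 := Subgroup.inv_mem _ hk
  refine Nat.card_congr
    { toFun := fun n => ⟨k * (n.1 : Equiv.Perm GolayPt) * k⁻¹, (hPQ n.1).mp n.2⟩
      invFun := fun m => ⟨⟨k⁻¹ * m.1 * k, Subgroup.mul_mem _ (Subgroup.mul_mem _ hk' (hQ _ m.2)) hk⟩,
        (hPQ _).mpr (by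
          have : k * (k⁻¹ * m.1 * k) * k⁻¹ = m.1 := by group
          show Q (k * (k⁻¹ * m.1 * k) * k⁻¹)
          rw [this]
          exact m.2)⟩
      left_inv := fun n => by
        apply Subtype.ext
        apply Subtype.ext
        show k⁻¹ * (k * (n.1 : Equiv.Perm GolayPt) * k⁻¹) * k = n.1
        group
      right_inv := fun m => by
        apply Subtype.ext
        show k * (k⁻¹ * m.1 * k) * k⁻¹ = m.1
        group }

theorem conj_rel {k n g t : Equiv.Perm GolayPt} (hkg : k * g * k⁻¹ = t) (i : ℕ) :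
    n * g = g ^ i * n ↔ (k * n * k⁻¹) * t = t ^ i * (k * n * k⁻¹) := by
  rw [← hkg, conj_pow]
  constructor
  · intro h
    have : k * n * k⁻¹ * (k * g * k⁻¹) = k * (n * g) * k⁻¹ := by group
    rw [this, h]
    group
  · intro h
    have e1 : n * g = k⁻¹ * (k * n * k⁻¹ * (k * g * k⁻¹)) * k := by group
    rw [e1, h]
    group

/-- For a subgroup S of order 7 of the group of the length-24 code (a Sylow 7-subgroup): the normaliser of S has order 126, the centraliser of S has order 42 and is non-abelian, and the whole normaliser leaves some trio invariant. (These are the orders of a Frobenius group of order 21 times a symmetric group of degree 3; the isomorphism type itself is not asserted here.) -/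
theorem result (S : Subgroup ↥Cfsg.M24) (hS : Nat.card S = 7) : Nat.card ↥(Subgroup.normalizer (S : Set ↥Cfsg.M24)) = 126 ∧ Nat.card ↥(Subgroup.centralizer (S : Set ↥Cfsg.M24)) = 42 ∧ (∃ x ∈ Subgroup.centralizer (S : Set ↥Cfsg.M24), ∃ y ∈ Subgroup.centralizer (S : Set ↥Cfsg.M24), x * y ≠ y * x) ∧ ∃ T ∈ Cfsg.trios, ∀ n ∈ Subgroup.normalizer (S : Set ↥Cfsg.M24), ((n : ↥Cfsg.M24) : Equiv.Perm Cfsg.GolayPt) • T = T := by
  -- a generator conjugate to the reference element
  obtain ⟨g, hne, h7, hSg, k, hk, hkg⟩ : ∃ g : ↥M24, g ≠ 1 ∧ g ^ 7 = 1 ∧ S = Subgroup.zpowers g ∧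
      ∃ k ∈ M24, k * (g : Equiv.Perm GolayPt) * k⁻¹ = tperm g7 := by
    obtain ⟨g, hne, h7, hSg⟩ := exists_generator7 S hS
    have h7' : (g : Equiv.Perm GolayPt) ^ 7 = 1 := by
      have := congrArg Subtype.val h7
      simpa using this
    have hne' : (g : Equiv.Perm GolayPt) ≠ 1 := fun h => hne (Subtype.ext h)
    obtain ⟨k, hk, hkg | hkg⟩ := ord7_conj_ref g.2 h7' hne'
    · exact ⟨g, hne, h7, hSg, k, hk, hkg⟩
    · refine ⟨g⁻¹, ?_, ?_, ?_, k, hk, ?_⟩
      · intro h
        exact hne (inv_eq_one.mp h)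
      · rw [inv_pow, h7, inv_one]
      · rw [Subgroup.zpowers_inv]
        exact hSg
      · have : k * ((g⁻¹ : ↥M24) : Equiv.Perm GolayPt) * k⁻¹ = (k * (g : Equiv.Perm GolayPt) * k⁻¹)⁻¹ := by
          rw [Subgroup.coe_inv]
          group
        rw [this, hkg, inv_inv]
  subst hSg
  have hk' : k⁻¹ ∈ M24 := Subgroup.inv_mem _ hk
  -- membership characterizations
  have hN : ∀ n : ↥M24, n ∈ Subgroup.normalizer ((Subgroup.zpowers g : Subgroup ↥M24) : Set ↥M24) ↔
      k * (n : Equiv.Perm GolayPt) * k⁻¹ ∈ normRef := by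
    intro n
    rw [mem_normalizer_zpowers h7 hne]
    constructor
    · rintro ⟨i, h1, h6, hrel⟩
      refine ⟨Subgroup.mul_mem _ (Subgroup.mul_mem _ hk n.2) hk', i, h1, h6, ?_⟩
      rw [← conj_rel hkg]
      have := congrArg Subtype.val hrel
      simpa using this
    · rintro ⟨-, i, h1, h6, hrel⟩
      refine ⟨i, h1, h6, ?_⟩
      rw [← conj_rel hkg] at hrel
      apply Subtype.ext
      simpa using hrel
  have hC : ∀ c : ↥M24, c ∈ Subgroup.centralizer ((Subgroup.zpowers g : Subgroup ↥M24) : Set ↥M24) ↔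
      k * (c : Equiv.Perm GolayPt) * k⁻¹ ∈ centM (tperm g7) := by
    intro c
    rw [mem_centralizer_zpowers, mem_centM]
    constructor
    · intro hrel
      refine ⟨Subgroup.mul_mem _ (Subgroup.mul_mem _ hk c.2) hk', ?_⟩
      have h1 := (conj_rel (n := (c : Equiv.Perm GolayPt)) hkg 1).mp (by
        rw [pow_one]
        have := congrArg Subtype.val hrel
        simpa using this)
      rwa [pow_one] at h1
    · rintro ⟨-, hrel⟩
      have h1 := (conj_rel (n := (c : Equiv.Perm GolayPt)) hkg 1).mpr (by rw [pow_one]; exact hrel)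
      rw [pow_one] at h1
      apply Subtype.ext
      simpa using h1
  refine ⟨?_, ?_, ?_, ?_⟩
  · rw [← card_normRef]
    exact card_transport hk _ (fun m => m ∈ normRef) (fun m hm => hm.1) hN
  · rw [← card_cent7]
    exact card_transport hk _ (fun m => m ∈ centM (tperm g7)) (fun m hm => hm.1) hC
  · obtain ⟨x, hx, y, hy, hxy⟩ := cent7_nonabelian
    have hconj : ∀ m ∈ centM (tperm g7), k * (k⁻¹ * m * k) * k⁻¹ ∈ centM (tperm g7) := by
      intro m hm
      have : k * (k⁻¹ * m * k) * k⁻¹ = m := by group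
      rw [this]
      exact hm
    refine ⟨⟨k⁻¹ * x * k, Subgroup.mul_mem _ (Subgroup.mul_mem _ hk' hx.1) hk⟩, (hC _).mpr (hconj x hx),
      ⟨k⁻¹ * y * k, Subgroup.mul_mem _ (Subgroup.mul_mem _ hk' hy.1) hk⟩, (hC _).mpr (hconj y hy), ?_⟩
    intro h
    apply hxy
    have h' : (k⁻¹ * x * k) * (k⁻¹ * y * k) = (k⁻¹ * y * k) * (k⁻¹ * x * k) := congrArg Subtype.val h
    have e1 : x * y = k * ((k⁻¹ * x * k) * (k⁻¹ * y * k)) * k⁻¹ := by group
    rw [e1, h']
    group
  · refine ⟨k⁻¹ • trioF s5604_trio, trios_smul hk' (trioF_mem_trios s5604_trio_v), ?_⟩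
    intro n hn
    have := normRef_fix_trio ((hN n).mp hn)
    rw [mul_smul, mul_smul, smul_eq_iff_eq_inv_smul] at this
    exact this

end Cfsg.Agent.S5604
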