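import Mathlib
import Cfsg.Statements.S5605
import Cfsg.Agent.Lib.Helper9.M24Counts

set_option autoImplicit false
open scoped Pointwise
open Cfsg

namespace Cfsg.Agent.S5605

open Cfsg.Agent.Lib.Helper9.M24

/-- An involution of the group of the length-24 code with exactly 8 fixed points maps to themselves exactly 71 octads, exactly 99 trios and exactly 91 sextets. -/
theorem result (g : Equiv.Perm Cfsg.GolayPt) (hg : g ∈ Cfsg.M24) (h₂ : orderOf g = 2) (h₈ : (Finset.univ.filter fun p => g p = p).card = 8) : {o : Finset Cfsg.GolayPt | o ∈ Cfsg.octads ∧ g • o = o}.ncard = 71 ∧ {T : Finset (Finset Cfsg.GolayPt) | T ∈ Cfsg.trios ∧ g • T = T}.ncard = 99 ∧ {S : Finset (Finset Cfsg.GolayPt) | S ∈ Cfsg.sextets ∧ g • S = S}.ncard = 91 := by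
  obtain ⟨hsq, hne⟩ := order_two_facts h₂
  obtain ⟨a, ha⟩ := exists_fixed_of_card_pos (g := g) (by rw [h₈]; norm_num)
  obtain ⟨k, hk, hconj⟩ := invol_conj_2A hg hsq hne ha
  obtain ⟨e1, e2, e3, -⟩ := count_transport hk hconj
  rw [e1, e2, e3]
  exact ⟨g2A_octads, g2A_trios, g2A_sextets⟩

end Cfsg.Agent.S5605
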