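import Mathlib
import Cfsg.Statements.S5607
import Cfsg.Agent.Lib.Helper9.S5607Ref
import Cfsg.Agent.Lib.Helper9.M24Inv
import Cfsg.Agent.Lib.Helper9.M24Counts

set_option autoImplicit false
open scoped Pointwise
open Cfsg

namespace Cfsg.Agent.S5607

open Cfsg.Agent.Lib.Helper9.M24

theorem fpfRef_facts : tperm fpfRef ∈ M24 ∧ tperm fpfRef * tperm fpfRef = 1 ∧ (∀ p, tperm fpfRef p ≠ p) ∧
    tperm fpfRef • sextOf (mset s5607_m0) = sextOf (mset s5607_m0) := by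
  have h := fpfRef_ok
  simp only [Bool.and_eq_true] at h
  obtain ⟨⟨⟨⟨h1, h2⟩, h3⟩, h4⟩, h5⟩ := h
  have hm := tperm_mem h1 h2
  rw [sextFixS_eq h1 m0_lt] at h5
  exact ⟨hm, sq_of_isInvol h1 h3, fpf_of_isFpf h1 h4, (smul_sextOf_mset_iff h1 hm m0_lt m0_card).mpr h5⟩

theorem mem_centM_conj {m t₁ c : Equiv.Perm GolayPt} (hm : m ∈ M24) :
    c ∈ centM (m * t₁ * m⁻¹) ↔ m⁻¹ * c * m ∈ centM t₁ := by
  rw [mem_centM, mem_centM]
  have hm' : m⁻¹ ∈ M24 := Subgroup.inv_mem _ hm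
  constructor
  · rintro ⟨h1, h2⟩
    refine ⟨Subgroup.mul_mem _ (Subgroup.mul_mem _ hm' h1) hm, ?_⟩
    have : m⁻¹ * (c * (m * t₁ * m⁻¹)) * m = m⁻¹ * ((m * t₁ * m⁻¹) * c) * m := by rw [h2]
    simp only [mul_assoc, inv_mul_cancel_left, inv_mul_cancel, mul_one] at this ⊢
    exact this
  · rintro ⟨h1, h2⟩
    refine ⟨?_, ?_⟩
    · have := Subgroup.mul_mem _ (Subgroup.mul_mem _ hm h1) hm'
      simpa [mul_assoc] using this
    · have : m * (m⁻¹ * c * m * t₁) * m⁻¹ = m * (t₁ * (m⁻¹ * c * m)) * m⁻¹ := by rw [h2]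
      simp only [mul_assoc, mul_inv_cancel_left, mul_inv_cancel, mul_one] at this ⊢
      exact this

/-- For a fixed-point-free involution t of the group of the length-24 code: its centraliser in that group has order 7680, is transitive on the 24 points, and is contained, together with t, in the stabiliser of some sextet. -/
theorem result (t : Equiv.Perm Cfsg.GolayPt) (ht : t ∈ Cfsg.M24) (h₂ : orderOf t = 2) (h₀ : ∀ p, t p ≠ p) : Nat.card {c : Equiv.Perm Cfsg.GolayPt // c ∈ Cfsg.M24 ∧ c * t = t * c} = 7680 ∧ (∀ p q : Cfsg.GolayPt, ∃ c ∈ Cfsg.M24, c * t = t * c ∧ c p = q) ∧ ∃ S ∈ Cfsg.sextets, t • S = S ∧ ∀ c ∈ Cfsg.M24, c * t = t * c → c • S = S := by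
  obtain ⟨hsq, -⟩ := order_two_facts h₂
  obtain ⟨r1, r2, r3, r4⟩ := fpfRef_facts
  obtain ⟨k, hk, hkt⟩ := invol_conj_2B ht hsq h₀
  obtain ⟨k₁, hk₁, hkt₁⟩ := invol_conj_2B r1 r2 r3
  have hm : k⁻¹ * k₁ ∈ M24 := Subgroup.mul_mem _ (Subgroup.inv_mem _ hk) hk₁
  have ht_eq : t = (k⁻¹ * k₁) * tperm fpfRef * (k⁻¹ * k₁)⁻¹ := by
    have : k₁ * tperm fpfRef * k₁⁻¹ = k * t * k⁻¹ := by rw [hkt, hkt₁]
    have h2 : t = k⁻¹ * (k * t * k⁻¹) * k := by group
    rw [h2, ← this]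
    group
  set m := k⁻¹ * k₁ with hmdef
  have hmem : ∀ c, (c ∈ M24 ∧ c * t = t * c) ↔ m⁻¹ * c * m ∈ centM (tperm fpfRef) := by
    intro c
    rw [ht_eq]
    exact mem_centM_conj hm
  refine ⟨?_, ?_, ?_⟩
  · rw [← card_K0]
    refine Nat.card_congr
      { toFun := fun c => ⟨m⁻¹ * c.1 * m, (hmem c.1).mp c.2⟩
        invFun := fun c => ⟨m * c.1 * m⁻¹, (hmem _).mpr (by
          have : m⁻¹ * (m * c.1 * m⁻¹) * m = c.1 := by group
          rw [this]
          exact c.2)⟩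
        left_inv := fun c => by
          apply Subtype.ext
          show m * (m⁻¹ * c.1 * m) * m⁻¹ = c.1
          group
        right_inv := fun c => by
          apply Subtype.ext
          show m⁻¹ * (m * c.1 * m⁻¹) * m = c.1
          group }
  · intro p q
    obtain ⟨c₁, hc₁, hc₁pq⟩ := K0_transitive (m⁻¹ p) (m⁻¹ q)
    have hc : m⁻¹ * (m * c₁ * m⁻¹) * m ∈ centM (tperm fpfRef) := by
      have : m⁻¹ * (m * c₁ * m⁻¹) * m = c₁ := by group
      rw [this]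
      exact hc₁
    obtain ⟨h1, h2⟩ := (hmem _).mpr hc
    refine ⟨m * c₁ * m⁻¹, h1, h2, ?_⟩
    rw [Equiv.Perm.mul_apply, Equiv.Perm.mul_apply, hc₁pq, ← Equiv.Perm.mul_apply, mul_inv_cancel]
    rfl
  · refine ⟨m • sextOf (mset s5607_m0), sextets_smul hm (sextOf_mem_sextets m0_card), ?_, ?_⟩
    · rw [ht_eq, mul_smul, mul_smul, inv_smul_smul, r4]
    · intro c hc hct
      have := K0_fix_sext ((hmem c).mp ⟨hc, hct⟩)
      rw [mul_smul, mul_smul, inv_smul_eq_iff] at this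
      exact this

end Cfsg.Agent.S5607
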