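import Mathlib
import Cfsg.Statements.S5608
import Cfsg.Agent.Lib.Helper9.M24Comm

set_option autoImplicit false
open scoped Pointwise
open Cfsg

namespace Cfsg.Agent.S5608

open Cfsg.Agent.Lib.Helper9.M24

theorem result (x s : Equiv.Perm Cfsg.GolayPt) (hx : x ∈ Cfsg.M24) (hs : s ∈ Cfsg.M24) (h₃ : orderOf x = 3) (h₂ : orderOf s = 2) (hc : Commute x s) : ((Finset.univ.filter fun p => x p = p).card = 6 ∧ (Finset.univ.filter fun p => s p = p).card = 8) ∨ ((Finset.univ.filter fun p => x p = p).card = 0 ∧ (Finset.univ.filter fun p => s p = p).card = 0) := by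
  haveI : Fact (Nat.Prime 3) := ⟨Nat.prime_three⟩
  haveI : Fact (Nat.Prime 2) := ⟨Nat.prime_two⟩
  rw [orderOf_eq_prime_iff] at h₃ h₂
  have hx3 : x * x * x = 1 := by
    have := h₃.1
    rwa [pow_succ, pow_two] at this
  have hs2 : s * s = 1 := by
    have := h₂.1
    rwa [pow_two] at this
  have hcomm : x * s = s * x := hc
  change ((fixSet x).card = 6 ∧ (fixSet s).card = 8) ∨ ((fixSet x).card = 0 ∧ (fixSet s).card = 0)
  have hempty : ∀ g : Equiv.Perm GolayPt, (∀ p, g p ≠ p) → (fixSet g).card = 0 := by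
    intro g hg
    rw [Finset.card_eq_zero, Finset.eq_empty_iff_forall_notMem]
    intro p hp
    exact hg p ((mem_fixSet _ _).mp hp)
  by_cases hxf : ∀ p, x p ≠ p
  · by_cases hsf : ∀ p, s p ≠ p
    · exact Or.inr ⟨hempty x hxf, hempty s hsf⟩
    · exfalso
      push Not at hsf
      obtain ⟨a, ha⟩ := hsf
      have hoct := invol_fixSet_mem_octads hs hs2 h₂.2 ha
      -- `x` permutes the fixed points of `s`
      have hinv : ∀ y, x y ∈ fixSet s ↔ y ∈ fixSet s := by
        intro y
        rw [mem_fixSet, mem_fixSet]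
        have h1 : s (x y) = x (s y) := by
          have := congrArg (fun f : Equiv.Perm GolayPt => f y) hcomm
          simpa using this.symm
        rw [h1]
        exact ⟨fun h => x.injective h, fun h => by rw [h]⟩
      obtain ⟨z, -, hz⟩ := exists_fixed_of_prime_pow x 3 1 (cube_pow hx3) (fixSet s) hinv (by
        rw [octads_isOctadSystem.card_eq hoct]; decide)
      exact hxf z hz
  · push Not at hxf
    obtain ⟨a, ha⟩ := hxf
    by_cases hsf : ∀ p, s p ≠ p
    · exact (not_commute_fpf_invol_ord3 hx hs hx3 h₃.2 ha hs2 hsf hcomm).elim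
    · push Not at hsf
      obtain ⟨b, hb⟩ := hsf
      left
      exact ⟨ord3_card_fixSet hx hx3 h₃.2 ha,
        octads_isOctadSystem.card_eq (invol_fixSet_mem_octads hs hs2 h₂.2 hb)⟩

end Cfsg.Agent.S5608
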