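import Mathlib
import Cfsg.Statements.S5609
import Cfsg.Agent.Lib.Helper9.M24Y

set_option autoImplicit false
open Cfsg

namespace Cfsg.Agent.S5609

open Cfsg.Agent.Lib.Helper9.M24

theorem adj_iff (a b : ↥Cfsg.octads) :
    (Cfsg.blockGraph Cfsg.octads).Adj a b ↔ a ≠ b ∧ Disjoint (a : Finset Cfsg.GolayPt) (b : Finset Cfsg.GolayPt) := by
  unfold Cfsg.blockGraph
  rw [SimpleGraph.fromRel_adj]
  constructor
  · rintro ⟨hne, h | h⟩
    · exact ⟨hne, h⟩
    · exact ⟨hne, h.symm⟩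
  · rintro ⟨hne, h⟩
    exact ⟨hne, Or.inl h⟩

theorem card_pos_octad (a : ↥Cfsg.octads) : 0 < (a : Finset Cfsg.GolayPt).card := by
  rw [octads_isOctadSystem.card_eq a.2]; norm_num

theorem ne_of_disjoint {a b : ↥Cfsg.octads} (h : Disjoint (a : Finset Cfsg.GolayPt) (b : Finset Cfsg.GolayPt)) :
    a ≠ b := by
  rintro rfl
  have := card_pos_octad a
  rw [disjoint_self, Finset.bot_eq_empty] at h
  rw [h, Finset.card_empty] at this
  exact lt_irrefl _ this

theorem adj_of_disjoint {a b : ↥Cfsg.octads} (h : Disjoint (a : Finset Cfsg.GolayPt) (b : Finset Cfsg.GolayPt)) :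
    (Cfsg.blockGraph Cfsg.octads).Adj a b := (adj_iff a b).mpr ⟨ne_of_disjoint h, h⟩

theorem not_adj_of_inter {a b : ↥Cfsg.octads} (h : ((a : Finset Cfsg.GolayPt) ∩ (b : Finset Cfsg.GolayPt)).card ≠ 0) :
    ¬ (Cfsg.blockGraph Cfsg.octads).Adj a b := by
  intro hadj
  rw [adj_iff] at hadj
  apply h
  rw [Finset.card_eq_zero, ← Finset.disjoint_iff_inter_eq_empty]
  exact hadj.2

theorem key0 (a b : ↥Cfsg.octads) (h : ((a : Finset Cfsg.GolayPt) ∩ (b : Finset Cfsg.GolayPt)).card = 0) :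
    (Cfsg.blockGraph Cfsg.octads).dist a b = 1 := by
  rw [SimpleGraph.dist_eq_one_iff_adj]
  apply adj_of_disjoint
  rw [Finset.disjoint_iff_inter_eq_empty, ← Finset.card_eq_zero]
  exact h

theorem key4 (a b : ↥Cfsg.octads) (h : ((a : Finset Cfsg.GolayPt) ∩ (b : Finset Cfsg.GolayPt)).card = 4) :
    (Cfsg.blockGraph Cfsg.octads).dist a b = 2 := by
  obtain ⟨c, hc, hca, hcb⟩ := exists_disjoint_of_inter_four a.2 b.2 h
  have h1 : (Cfsg.blockGraph Cfsg.octads).Adj a ⟨c, hc⟩ := adj_of_disjoint hca.symm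
  have h2 : (Cfsg.blockGraph Cfsg.octads).Adj ⟨c, hc⟩ b := adj_of_disjoint hcb
  have hw := SimpleGraph.dist_le (SimpleGraph.Walk.cons h1 (SimpleGraph.Walk.cons h2 SimpleGraph.Walk.nil))
  rw [SimpleGraph.Walk.length_cons, SimpleGraph.Walk.length_cons, SimpleGraph.Walk.length_nil] at hw
  have hreach : (Cfsg.blockGraph Cfsg.octads).Reachable a b :=
    ⟨SimpleGraph.Walk.cons h1 (SimpleGraph.Walk.cons h2 SimpleGraph.Walk.nil)⟩
  have hne : a ≠ b := by
    rintro rfl
    rw [Finset.inter_self, octads_isOctadSystem.card_eq a.2] at h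
    omega
  have hlt := hreach.one_lt_dist_of_ne_of_not_adj hne (not_adj_of_inter (by omega))
  omega

theorem key2 (a b : ↥Cfsg.octads) (h : ((a : Finset Cfsg.GolayPt) ∩ (b : Finset Cfsg.GolayPt)).card = 2) :
    (Cfsg.blockGraph Cfsg.octads).dist a b = 3 := by
  obtain ⟨x, hx, hxa, hxb⟩ := exists_disjoint_four_of_inter_two a.2 b.2 h
  obtain ⟨y, hy, hyx, hyb⟩ := exists_disjoint_of_inter_four hx b.2 hxb
  have h1 : (Cfsg.blockGraph Cfsg.octads).Adj a ⟨x, hx⟩ := adj_of_disjoint hxa.symm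
  have h2 : (Cfsg.blockGraph Cfsg.octads).Adj ⟨x, hx⟩ ⟨y, hy⟩ := adj_of_disjoint hyx.symm
  have h3 : (Cfsg.blockGraph Cfsg.octads).Adj ⟨y, hy⟩ b := adj_of_disjoint hyb
  have hw := SimpleGraph.dist_le (SimpleGraph.Walk.cons h1 (SimpleGraph.Walk.cons h2
    (SimpleGraph.Walk.cons h3 SimpleGraph.Walk.nil)))
  rw [SimpleGraph.Walk.length_cons, SimpleGraph.Walk.length_cons, SimpleGraph.Walk.length_cons,
    SimpleGraph.Walk.length_nil] at hw
  have hreach : (Cfsg.blockGraph Cfsg.octads).Reachable a b :=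
    ⟨SimpleGraph.Walk.cons h1 (SimpleGraph.Walk.cons h2 (SimpleGraph.Walk.cons h3 SimpleGraph.Walk.nil))⟩
  have hne : a ≠ b := by
    rintro rfl
    rw [Finset.inter_self, octads_isOctadSystem.card_eq a.2] at h
    omega
  have hlt := hreach.one_lt_dist_of_ne_of_not_adj hne (not_adj_of_inter (by omega))
  have hne2 : (Cfsg.blockGraph Cfsg.octads).dist a b ≠ 2 := by
    intro h2'
    obtain ⟨p, hp⟩ := hreach.exists_walk_length_eq_dist
    rw [h2'] at hp
    cases p with
    | nil => simp at hp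
    | cons hadj q =>
      cases q with
      | nil => simp at hp
      | cons hadj' r =>
        cases r with
        | nil =>
          rw [adj_iff] at hadj hadj'
          exact not_disjoint_of_inter_two a.2 b.2 (Subtype.mem _) h hadj.2.symm hadj'.2
        | cons _ _ =>
          simp at hp
  omega

/-- In the graph on the 759 octads of the length-24 code in which two octads are adjacent when they are disjoint, the graph is connected (of diameter 3) and two distinct octads are at distance 1, 2 or 3 exactly when they meet in 0, 4 or 2 points respectively. -/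
theorem result (o o' : Finset Cfsg.GolayPt) (ho : o ∈ Cfsg.octads) (ho' : o' ∈ Cfsg.octads) (hne : o ≠ o') : (Cfsg.blockGraph Cfsg.octads).Connected ∧ ((Cfsg.blockGraph Cfsg.octads).dist ⟨o, ho⟩ ⟨o', ho'⟩ = 1 ↔ (o ∩ o').card = 0) ∧ ((Cfsg.blockGraph Cfsg.octads).dist ⟨o, ho⟩ ⟨o', ho'⟩ = 2 ↔ (o ∩ o').card = 4) ∧ ((Cfsg.blockGraph Cfsg.octads).dist ⟨o, ho⟩ ⟨o', ho'⟩ = 3 ↔ (o ∩ o').card = 2) := by
  have hcases : ∀ a b : ↥Cfsg.octads, a ≠ b →
      ((a : Finset Cfsg.GolayPt) ∩ (b : Finset Cfsg.GolayPt)).card = 0 ∨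
      ((a : Finset Cfsg.GolayPt) ∩ (b : Finset Cfsg.GolayPt)).card = 2 ∨
      ((a : Finset Cfsg.GolayPt) ∩ (b : Finset Cfsg.GolayPt)).card = 4 := by
    intro a b hab
    have hab' : (a : Finset Cfsg.GolayPt) ≠ (b : Finset Cfsg.GolayPt) := fun h => hab (Subtype.ext h)
    rcases octads_isOctadSystem.inter a.1 a.2 b.1 b.2 hab' with h | h | ⟨h, -⟩
    · exact Or.inl h
    · exact Or.inr (Or.inl h)
    · exact Or.inr (Or.inr h)
  have hdistpos : ∀ a b : ↥Cfsg.octads, a ≠ b → (Cfsg.blockGraph Cfsg.octads).dist a b ≠ 0 := by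
    intro a b hab
    rcases hcases a b hab with h | h | h
    · rw [key0 a b h]; norm_num
    · rw [key2 a b h]; norm_num
    · rw [key4 a b h]; norm_num
  refine ⟨?_, ?_, ?_, ?_⟩
  · haveI : Nonempty ↥Cfsg.octads := ⟨⟨o, ho⟩⟩
    refine SimpleGraph.Connected.mk ?_
    intro a b
    by_cases hab : a = b
    · rw [hab]
    · exact SimpleGraph.Reachable.of_dist_ne_zero (hdistpos a b hab)
  all_goals
    have hne' : (⟨o, ho⟩ : ↥Cfsg.octads) ≠ ⟨o', ho'⟩ := fun h => hne (congrArg Subtype.val h)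
    have h0 := key0 ⟨o, ho⟩ ⟨o', ho'⟩
    have h2 := key2 ⟨o, ho⟩ ⟨o', ho'⟩
    have h4 := key4 ⟨o, ho⟩ ⟨o', ho'⟩
    have hc := hcases ⟨o, ho⟩ ⟨o', ho'⟩ hne'
    simp only at h0 h2 h4 hc
    constructor
    · intro hd
      rcases hc with h | h | h
      · first | exact h | (rw [h0 h] at hd; omega)
      · first | exact h | (rw [h2 h] at hd; omega)
      · first | exact h | (rw [h4 h] at hd; omega)
    · intro h
      first | exact h0 h | exact h2 h | exact h4 h

end Cfsg.Agent.S5609
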