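import Mathlib
import Cfsg.Statements.S5615
import Cfsg.Agent.Lib.Helper9.S5615Ref2
import Cfsg.Agent.Lib.Helper9.M24H

set_option autoImplicit false
open scoped Pointwise
open Cfsg

namespace Cfsg.Agent.S5615

open Cfsg.Agent.Lib.Helper9.M24

/-- An octad of the length-24 code lies in exactly 15 trios; the stabiliser of the octad in the code's group acts doubly transitively on these 15 trios, and the kernel of this action is the pointwise stabiliser of the octad. -/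
theorem result (o : Finset Cfsg.GolayPt) (ho : o ∈ Cfsg.octads) : {T : Finset (Finset Cfsg.GolayPt) | T ∈ Cfsg.trios ∧ o ∈ T}.ncard = 15 ∧ (∀ T₁ T₂ T₁' T₂' : Finset (Finset Cfsg.GolayPt), T₁ ∈ Cfsg.trios → T₂ ∈ Cfsg.trios → T₁' ∈ Cfsg.trios → T₂' ∈ Cfsg.trios → o ∈ T₁ → o ∈ T₂ → o ∈ T₁' → o ∈ T₂' → T₁ ≠ T₂ → T₁' ≠ T₂' → ∃ g ∈ Cfsg.M24, g • o = o ∧ g • T₁ = T₁' ∧ g • T₂ = T₂') ∧ ∀ g ∈ Cfsg.M24, g • o = o → ((∀ T ∈ Cfsg.trios, o ∈ T → g • T = T) ↔ ∀ p ∈ o, g p = p) := by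
  obtain ⟨k, hk, hko⟩ := octad_transitive o (mset oct0) ho oct0_mem
  have hko' : k • o = mset oct0 := hko
  have hk' : k⁻¹ ∈ M24 := Subgroup.inv_mem _ hk
  have hkinv : k⁻¹ • mset oct0 = o := by rw [← hko', inv_smul_smul]
  -- transport of trios through the octad
  have hthru : ∀ {T : Finset (Finset GolayPt)}, T ∈ trios → o ∈ T → k • T ∈ trios ∧ mset oct0 ∈ k • T := by
    intro T hT hoT
    refine ⟨trios_smul hk hT, ?_⟩
    rw [← hko']
    exact Finset.smul_mem_smul_finset hoT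
  have hthru' : ∀ {T : Finset (Finset GolayPt)}, T ∈ trios → mset oct0 ∈ T → k⁻¹ • T ∈ trios ∧ o ∈ k⁻¹ • T := by
    intro T hT hoT
    refine ⟨trios_smul hk' hT, ?_⟩
    rw [← hkinv]
    exact Finset.smul_mem_smul_finset hoT
  refine ⟨?_, ?_, ?_⟩
  · rw [← count_ref]
    have himg : (fun T : Finset (Finset GolayPt) => k • T) '' {T | T ∈ trios ∧ o ∈ T} =
        {T | T ∈ trios ∧ mset oct0 ∈ T} := by
      ext T
      constructor
      · rintro ⟨T', ⟨h1, h2⟩, rfl⟩
        exact hthru h1 h2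
      · rintro ⟨h1, h2⟩
        refine ⟨k⁻¹ • T, hthru' h1 h2, ?_⟩
        show k • k⁻¹ • T = T
        rw [smul_inv_smul]
    rw [← himg]
    exact (Set.ncard_image_of_injective _ (MulAction.injective k)).symm
  · intro T₁ T₂ T₁' T₂' h1 h2 h1' h2' o1 o2 o1' o2' hne hne'
    obtain ⟨a1, a2⟩ := hthru h1 o1
    obtain ⟨b1, b2⟩ := hthru h2 o2
    obtain ⟨a1', a2'⟩ := hthru h1' o1'
    obtain ⟨b1', b2'⟩ := hthru h2' o2'
    have hne1 : k • T₁ ≠ k • T₂ := fun h => hne (smul_left_cancel _ h)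
    have hne2 : k • T₁' ≠ k • T₂' := fun h => hne' (smul_left_cancel _ h)
    obtain ⟨g₁, hg₁, hg₁o, hg₁a, hg₁b⟩ := two_trans_ref a1 b1 a2 b2 hne1
    obtain ⟨g₂, hg₂, hg₂o, hg₂a, hg₂b⟩ := two_trans_ref a1' b1' a2' b2' hne2
    refine ⟨k⁻¹ * g₂⁻¹ * g₁ * k, Subgroup.mul_mem _ (Subgroup.mul_mem _ (Subgroup.mul_mem _ hk'
      (Subgroup.inv_mem _ hg₂)) hg₁) hk, ?_, ?_, ?_⟩
    · rw [mul_smul, mul_smul, mul_smul, hko', hg₁o, inv_smul_eq_iff, inv_smul_eq_iff, hko', hg₂o]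
    · rw [mul_smul, mul_smul, mul_smul, hg₁a, inv_smul_eq_iff, inv_smul_eq_iff, hg₂a]
    · rw [mul_smul, mul_smul, mul_smul, hg₁b, inv_smul_eq_iff, inv_smul_eq_iff, hg₂b]
  · intro g hg hgo
    set g₀ := k * g * k⁻¹ with hg₀
    have hg₀m : g₀ ∈ M24 := Subgroup.mul_mem _ (Subgroup.mul_mem _ hk hg) hk'
    have hg₀o : g₀ • mset oct0 = mset oct0 := by
      rw [hg₀, mul_smul, mul_smul, hkinv, hgo, hko']
    have hgk : ∀ x : GolayPt, g₀ (k x) = k (g x) := by
      intro x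
      rw [hg₀, Equiv.Perm.mul_apply, Equiv.Perm.mul_apply, perm_inv_apply_self]
    have hpts : (∀ p ∈ o, g p = p) ↔ ∀ p ∈ mset oct0, g₀ p = p := by
      constructor
      · intro h p hp
        rw [← hko'] at hp
        obtain ⟨x, hx, rfl⟩ := Finset.mem_smul_finset.mp hp
        show g₀ (k x) = k x
        rw [hgk, h x hx]
      · intro h p hp
        have : k p ∈ mset oct0 := by
          rw [← hko']
          exact Finset.smul_mem_smul_finset hp
        have h2 := h (k p) this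
        rw [hgk] at h2
        exact k.injective h2
    have htr : (∀ T ∈ trios, o ∈ T → g • T = T) ↔ ∀ T ∈ trios, mset oct0 ∈ T → g₀ • T = T := by
      constructor
      · intro h T hT hoT
        obtain ⟨c1, c2⟩ := hthru' hT hoT
        have := h _ c1 c2
        rw [hg₀, mul_smul, mul_smul, this, smul_inv_smul]
      · intro h T hT hoT
        obtain ⟨c1, c2⟩ := hthru hT hoT
        have := h _ c1 c2
        rw [hg₀, mul_smul, mul_smul, inv_smul_smul] at this
        exact smul_left_cancel _ this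
    rw [hpts, htr]
    constructor
    · exact fix_of_kernel hg₀m hg₀o
    · intro h T hT hoT
      exact kernel_of_fix hg₀m h hT hoT

end Cfsg.Agent.S5615
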