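import Mathlib
import Cfsg.Statements.S5618
import Cfsg.Agent.Lib.Helper9.M24W

set_option autoImplicit false
open scoped Pointwise
open Cfsg

namespace Cfsg.Agent.S5618

open Cfsg.Agent.Lib.Helper9.M24

/-- For a dodecad d of the length-24 code and a hexad C on it (a 6-point intersection of d with an octad): the joint stabiliser of d and C in the code's group is isomorphic to the symmetric group of degree 6, and it acts faithfully both on the six points of C and on the six points of d outside C. -/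
theorem result (d : Finset Cfsg.GolayPt) (hd : d ∈ Cfsg.dodecads) (C : Finset Cfsg.GolayPt) (hC : C ∈ Cfsg.hexadsOn d) : Nonempty (↥(MulAction.stabilizer Cfsg.M24 d ⊓ MulAction.stabilizer Cfsg.M24 C) ≃* Equiv.Perm (Fin 6)) ∧ (∀ g ∈ MulAction.stabilizer Cfsg.M24 d ⊓ MulAction.stabilizer Cfsg.M24 C, (∀ p ∈ C, ((g : ↥Cfsg.M24) : Equiv.Perm Cfsg.GolayPt) p = p) → g = 1) ∧ ∀ g ∈ MulAction.stabilizer Cfsg.M24 d ⊓ MulAction.stabilizer Cfsg.M24 C, (∀ p ∈ d \ C, ((g : ↥Cfsg.M24) : Equiv.Perm Cfsg.GolayPt) p = p) → g = 1 := by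
  obtain ⟨hC6, o, ho, rfl⟩ := hC
  obtain ⟨ho', h2, hsd, hsdiff, hsdiff', -⟩ := dodecad_octad_pair hd ho hC6
  have heq := stab_dodecad_hexad_eq hd ho hC6
  have h2' : (symmDiff o d ∩ o).card = 2 := by rw [Finset.inter_comm]; exact h2
  refine ⟨?_, ?_, ?_⟩
  · obtain ⟨e⟩ := jointStab_equiv ho ho' h2
    exact ⟨(MulEquiv.subgroupCongr heq).trans e⟩
  · intro g hg hfix
    rw [heq, Subgroup.mem_inf, mem_stabilizer_finset_iff, mem_stabilizer_finset_iff] at hg
    have hKO : ((g : M24) : Equiv.Perm GolayPt) ∈ KO o :=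
      mem_KO_of_fix_six ho Finset.inter_subset_left hC6 g.2 hfix
    have h1 := KO_free_on_pair_octads ho ho' h2' hKO hg.2
    exact Subtype.ext h1
  · intro g hg hfix
    rw [heq, Subgroup.mem_inf, mem_stabilizer_finset_iff, mem_stabilizer_finset_iff] at hg
    have hsub : d \ (o ∩ d) = symmDiff o d \ o := by
      rw [hsdiff']
      apply Finset.ext
      intro x
      simp only [Finset.mem_sdiff, Finset.mem_inter]
      tauto
    rw [hsub] at hfix
    have hcard : (symmDiff o d \ o).card = 6 := card_sdiff_of_inter_two ho' h2'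
    have hKO : ((g : M24) : Equiv.Perm GolayPt) ∈ KO (symmDiff o d) :=
      mem_KO_of_fix_six ho' Finset.sdiff_subset hcard g.2 hfix
    have h1 := KO_free_on_pair_octads ho' ho h2 hKO hg.1
    exact Subtype.ext h1

end Cfsg.Agent.S5618
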