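import Mathlib
import Cfsg.Statements.S5619
import Cfsg.Agent.Lib.Helper9.S5619Ref

set_option autoImplicit false
open scoped Pointwise
open Cfsg

namespace Cfsg.Agent.S5619

open Cfsg.Agent.Lib.Helper9.M24

/-- The Sylow structure of a group of order 72 whose elements of order dividing 9 have order dividing 3, with
nine such elements, and containing a quaternion group. -/
theorem m9_structure {K : Type*} [Group K] [Finite K] (F1 : Nat.card K = 72)
    (F2 : ∀ x : K, x ^ 9 = 1 → x ^ 3 = 1) (F3 : {x : K | x ^ 3 = 1}.ncard = 9)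
    (ψ : QuaternionGroup 2 →* K) (hψ : Function.Injective ψ) :
    (∀ Q : Sylow 3 K, (Q : Subgroup K).Normal ∧ Nat.card ↥Q = 9 ∧ ∀ x ∈ (Q : Subgroup K), x ^ 3 = 1) ∧
    ∀ P : Sylow 2 K, Nonempty (↥P ≃* QuaternionGroup 2) := by
  constructor
  · haveI : Fact (Nat.Prime 3) := ⟨Nat.prime_three⟩
    intro Q
    have hcard : Nat.card ↥(Q : Subgroup K) = 9 := by
      rw [Sylow.card_eq_multiplicity, F1]
      have : (72 : ℕ).factorization 3 = 2 := by decide +kernel
      rw [this]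
      norm_num
    have hx3 : ∀ x ∈ (Q : Subgroup K), x ^ 3 = 1 := by
      intro x hx
      apply F2
      have := pow_card_eq_one' (G := ↥(Q : Subgroup K)) (x := ⟨x, hx⟩)
      rw [hcard] at this
      have := congrArg Subtype.val this
      simpa using this
    have hfin : {x : K | x ^ 3 = 1}.Finite := Set.toFinite _
    have hle : {x : K | x ^ 3 = 1}.ncard ≤ ((Q : Subgroup K) : Set K).ncard := by
      rw [F3, ← hcard]
      exact le_of_eq (Nat.card_coe_set_eq _)
    have hset : ((Q : Subgroup K) : Set K) = {x : K | x ^ 3 = 1} :=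
      Set.eq_of_subset_of_ncard_le (fun x hx => hx3 x hx) hle hfin
    refine ⟨⟨fun n hn g => ?_⟩, hcard, hx3⟩
    have hn' : n ∈ ((Q : Subgroup K) : Set K) := hn
    rw [hset] at hn'
    have : g * n * g⁻¹ ∈ ((Q : Subgroup K) : Set K) := by
      rw [hset, Set.mem_setOf_eq, conj_pow, hn', mul_one, mul_inv_cancel]
    exact this
  · haveI : Fact (Nat.Prime 2) := ⟨Nat.prime_two⟩
    have hRcard : Nat.card ↥ψ.range = 8 := by
      rw [← Nat.card_congr (MonoidHom.ofInjective hψ).toEquiv, Nat.card_eq_fintype_card, QuaternionGroup.card]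
    have hR : IsPGroup 2 ↥ψ.range := IsPGroup.of_card (n := 3) (by rw [hRcard]; norm_num)
    obtain ⟨P', hP'⟩ := IsPGroup.exists_le_sylow hR
    have hcard : ∀ P : Sylow 2 K, Nat.card ↥(P : Subgroup K) = 8 := by
      intro P
      rw [Sylow.card_eq_multiplicity, F1]
      have : (72 : ℕ).factorization 2 = 3 := by decide +kernel
      rw [this]
      norm_num
    have hRP : ψ.range = (P' : Subgroup K) :=
      Subgroup.eq_of_le_of_card_ge hP' (by rw [hRcard, hcard P'])
    intro P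
    obtain ⟨g, hg⟩ := MulAction.exists_smul_eq K P' P
    have e1 : ↥P' ≃* ↥P := by
      rw [← hg]
      exact Sylow.equivSMul P' g
    have e2 : ↥ψ.range ≃* ↥P' := MulEquiv.subgroupCongr hRP
    exact ⟨(e1.symm.trans e2.symm).trans (MonoidHom.ofInjective hψ).symm⟩

/-- In the group of the length-24 code, the subgroup fixing a dodecad setwise and three of its points individually (a group of order 72) has a normal Sylow 3-subgroup that is elementary abelian of order 9, and its Sylow 2-subgroups are quaternion of order 8. -/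
theorem result (d : Finset Cfsg.GolayPt) (hd : d ∈ Cfsg.dodecads) (p q r : Cfsg.GolayPt) (hp : p ∈ d) (hq : q ∈ d) (hr : r ∈ d) (hpq : p ≠ q) (hpr : p ≠ r) (hqr : q ≠ r) : (∀ Q : Sylow 3 ↥(MulAction.stabilizer Cfsg.M24 d ⊓ MulAction.stabilizer Cfsg.M24 p ⊓ MulAction.stabilizer Cfsg.M24 q ⊓ MulAction.stabilizer Cfsg.M24 r), (Q : Subgroup ↥(MulAction.stabilizer Cfsg.M24 d ⊓ MulAction.stabilizer Cfsg.M24 p ⊓ MulAction.stabilizer Cfsg.M24 q ⊓ MulAction.stabilizer Cfsg.M24 r)).Normal ∧ Nat.card ↥Q = 9 ∧ ∀ x ∈ (Q : Subgroup ↥(MulAction.stabilizer Cfsg.M24 d ⊓ MulAction.stabilizer Cfsg.M24 p ⊓ MulAction.stabilizer Cfsg.M24 q ⊓ MulAction.stabilizer Cfsg.M24 r)), x ^ 3 = 1) ∧ ∀ P : Sylow 2 ↥(MulAction.stabilizer Cfsg.M24 d ⊓ MulAction.stabilizer Cfsg.M24 p ⊓ MulAction.stabilizer Cfsg.M24 q ⊓ MulAction.stabilizer Cfsg.M24 r), Nonempty (↥P ≃* QuaternionGroup 2) := by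
  obtain ⟨k, hk, hkd, hkp, hkq, hkr⟩ := exists_to_m9Ref hd hp hq hr hpq hpr hqr
  have hk' : k⁻¹ ∈ M24 := Subgroup.inv_mem _ hk
  have hkd' : k⁻¹ • mset m9_d0 = d := by rw [← hkd, inv_smul_smul]
  have hkp' : k⁻¹ none = p := by rw [← hkp]; exact perm_inv_apply_self k p
  have hkq' : k⁻¹ (some 0) = q := by rw [← hkq]; exact perm_inv_apply_self k q
  have hkr' : k⁻¹ (some 1) = r := by rw [← hkr]; exact perm_inv_apply_self k r
  set H : Subgroup ↥M24 := MulAction.stabilizer Cfsg.M24 d ⊓ MulAction.stabilizer Cfsg.M24 p ⊓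
    MulAction.stabilizer Cfsg.M24 q ⊓ MulAction.stabilizer Cfsg.M24 r with hH
  have hmemH : ∀ x : ↥M24, x ∈ H ↔ (x : Equiv.Perm GolayPt) • d = d ∧ (x : Equiv.Perm GolayPt) p = p ∧
      (x : Equiv.Perm GolayPt) q = q ∧ (x : Equiv.Perm GolayPt) r = r := by
    intro x
    rw [hH]
    simp only [Subgroup.mem_inf, MulAction.mem_stabilizer_iff, and_assoc]
    rfl
  -- the isomorphism with the reference group
  have hto : ∀ x : ↥H, k * ((x : ↥M24) : Equiv.Perm GolayPt) * k⁻¹ ∈ m9Ref := by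
    intro x
    obtain ⟨h1, h2, h3, h4⟩ := (hmemH x.1).mp x.2
    rw [mem_m9Ref]
    refine ⟨Subgroup.mul_mem _ (Subgroup.mul_mem _ hk x.1.2) hk', ?_, ?_, ?_, ?_⟩
    · rw [mul_smul, mul_smul, hkd', h1, hkd]
    · rw [Equiv.Perm.mul_apply, Equiv.Perm.mul_apply, hkp', h2, hkp]
    · rw [Equiv.Perm.mul_apply, Equiv.Perm.mul_apply, hkq', h3, hkq]
    · rw [Equiv.Perm.mul_apply, Equiv.Perm.mul_apply, hkr', h4, hkr]
  have hfromM : ∀ y : ↥m9Ref, k⁻¹ * (y : Equiv.Perm GolayPt) * k ∈ M24 := by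
    intro y
    exact Subgroup.mul_mem _ (Subgroup.mul_mem _ hk' (mem_m9Ref.mp y.2).1) hk
  have hfrom : ∀ y : ↥m9Ref, (⟨k⁻¹ * (y : Equiv.Perm GolayPt) * k, hfromM y⟩ : ↥M24) ∈ H := by
    intro y
    obtain ⟨-, h1, h2, h3, h4⟩ := mem_m9Ref.mp y.2
    rw [hmemH]
    refine ⟨?_, ?_, ?_, ?_⟩
    · show (k⁻¹ * (y : Equiv.Perm GolayPt) * k) • d = d
      rw [mul_smul, mul_smul, hkd, h1, hkd']
    · show (k⁻¹ * (y : Equiv.Perm GolayPt) * k) p = p
      rw [Equiv.Perm.mul_apply, Equiv.Perm.mul_apply, hkp, h2, hkp']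
    · show (k⁻¹ * (y : Equiv.Perm GolayPt) * k) q = q
      rw [Equiv.Perm.mul_apply, Equiv.Perm.mul_apply, hkq, h3, hkq']
    · show (k⁻¹ * (y : Equiv.Perm GolayPt) * k) r = r
      rw [Equiv.Perm.mul_apply, Equiv.Perm.mul_apply, hkr, h4, hkr']
  let e : ↥H ≃* ↥m9Ref :=
    { toFun := fun x => ⟨k * ((x : ↥M24) : Equiv.Perm GolayPt) * k⁻¹, hto x⟩
      invFun := fun y => ⟨⟨k⁻¹ * (y : Equiv.Perm GolayPt) * k, hfromM y⟩, hfrom y⟩
      left_inv := fun x => by
        apply Subtype.ext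
        apply Subtype.ext
        show k⁻¹ * (k * ((x : ↥M24) : Equiv.Perm GolayPt) * k⁻¹) * k = ((x : ↥M24) : Equiv.Perm GolayPt)
        group
      right_inv := fun y => by
        apply Subtype.ext
        show k * (k⁻¹ * (y : Equiv.Perm GolayPt) * k) * k⁻¹ = (y : Equiv.Perm GolayPt)
        group
      map_mul' := fun x y => by
        apply Subtype.ext
        show k * (((x : ↥M24) : Equiv.Perm GolayPt) * ((y : ↥M24) : Equiv.Perm GolayPt)) * k⁻¹ =
          (k * ((x : ↥M24) : Equiv.Perm GolayPt) * k⁻¹) * (k * ((y : ↥M24) : Equiv.Perm GolayPt) * k⁻¹)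
        group }
  have hpow : ∀ (x : ↥H) (n : ℕ), x ^ n = 1 ↔ ((e x : ↥m9Ref) : Equiv.Perm GolayPt) ^ n = 1 := by
    intro x n
    constructor
    · intro h
      have : (e x) ^ n = 1 := by rw [← map_pow, h, map_one]
      have := congrArg Subtype.val this
      simpa using this
    · intro h
      apply e.injective
      rw [map_pow, map_one]
      apply Subtype.ext
      simpa using h
  haveI : Finite ↥H := inferInstance
  refine m9_structure (K := ↥H) ?_ ?_ ?_ (e.symm.toMonoidHom.comp (qHom.codRestrict m9Ref qHom_mem)) ?_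
  · rw [Nat.card_congr e.toEquiv, card_m9Ref]
  · intro x h9
    rw [hpow] at h9 ⊢
    exact m9Ref_nine (e x).2 h9
  · rw [← m9_cube_ncard]
    have himg : (fun x : ↥H => ((e x : ↥m9Ref) : Equiv.Perm GolayPt)) '' {x : ↥H | x ^ 3 = 1} =
        {g : Equiv.Perm GolayPt | g ∈ m9Ref ∧ g ^ 3 = 1} := by
      ext g
      constructor
      · rintro ⟨x, hx, rfl⟩
        exact ⟨(e x).2, (hpow x 3).mp hx⟩
      · rintro ⟨hg, h3⟩
        refine ⟨e.symm ⟨g, hg⟩, ?_, ?_⟩
        · rw [Set.mem_setOf_eq, hpow, MulEquiv.apply_symm_apply]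
          exact h3
        · show ((e (e.symm ⟨g, hg⟩) : ↥m9Ref) : Equiv.Perm GolayPt) = g
          rw [MulEquiv.apply_symm_apply]
    rw [← himg]
    exact (Set.ncard_image_of_injective _ (fun x y hxy => e.injective (Subtype.ext hxy))).symm
  · intro x y hxy
    have h1 := e.symm.injective hxy
    have h2 : qHom x = qHom y := congrArg Subtype.val h1
    exact qHom_injective h2

end Cfsg.Agent.S5619
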