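import Mathlib
import Cfsg.Statements.S5623
import Cfsg.Agent.Lib.Helper9.Golay2

set_option autoImplicit false
open Cfsg

namespace Cfsg.Agent.S5623

open Cfsg.Agent.Lib.Helper9

/-- Let C be a self-dual binary code of length 24 with minimum weight at least 8 (a 12-dimensional subspace of the 24-dimensional space over the field with two elements, any two of whose words have dot product zero, with no non-zero word of weight below 8 — an abstract extended binary Golay code). Then every coset w + C of C in the ambient space contains either exactly one word of weight at most 4, which then has weight at most 3, or exactly six words of weight at most 4, all of weight exactly 4 and with pairwise disjoint supports (a sextet). -/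
theorem result (C : Submodule (ZMod 2) (Fin 24 → ZMod 2)) (hdim : Module.finrank (ZMod 2) C = 12) (horth : ∀ v ∈ C, ∀ w ∈ C, ∑ i, v i * w i = 0) (hmin : ∀ w ∈ C, w ≠ 0 → 8 ≤ hammingNorm w) (w : Fin 24 → ZMod 2) : (∃ u : Fin 24 → ZMod 2, {u : Fin 24 → ZMod 2 | u - w ∈ C ∧ hammingNorm u ≤ 4} = {u} ∧ hammingNorm u ≤ 3) ∨ ({u : Fin 24 → ZMod 2 | u - w ∈ C ∧ hammingNorm u ≤ 4}.ncard = 6 ∧ ∀ u ∈ {u : Fin 24 → ZMod 2 | u - w ∈ C ∧ hammingNorm u ≤ 4}, hammingNorm u = 4 ∧ ∀ u' ∈ {u : Fin 24 → ZMod 2 | u - w ∈ C ∧ hammingNorm u ≤ 4}, u ≠ u' → Disjoint (Finset.univ.filter fun i => u i ≠ 0) (Finset.univ.filter fun i => u' i ≠ 0)) := by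
  have hC : IsAbsGolay C := ⟨hdim, horth, hmin⟩
  rcases coset_dichotomy hC w with ⟨h3, h4⟩ | ⟨h3, h4⟩
  · left
    obtain ⟨u, hu⟩ := Finset.card_eq_one.mp h3
    have hu3 : u ∈ cosetT3 C w := by rw [hu]; exact Finset.mem_singleton_self u
    rw [mem_cosetT3] at hu3
    refine ⟨u, ?_, hu3.1⟩
    ext u'
    rw [Set.mem_setOf_eq, Set.mem_singleton_iff]
    constructor
    · rintro ⟨h1, h2⟩
      by_cases hw : hammingNorm u' ≤ 3
      · have : u' ∈ cosetT3 C w := (mem_cosetT3 w u').2 ⟨hw, h1⟩
        rw [hu, Finset.mem_singleton] at this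
        exact this
      · have : u' ∈ cosetT4 C w := (mem_cosetT4 w u').2 ⟨by omega, h1⟩
        rw [Finset.card_eq_zero] at h4
        rw [h4] at this
        exact absurd this (Finset.notMem_empty _)
    · rintro rfl
      exact ⟨hu3.2, by omega⟩
  · right
    have hT : {u : Fin 24 → ZMod 2 | u - w ∈ C ∧ hammingNorm u ≤ 4} = ↑(cosetT4 C w) := by
      ext u'
      rw [Set.mem_setOf_eq, Finset.mem_coe, mem_cosetT4]
      constructor
      · rintro ⟨h1, h2⟩
        refine ⟨?_, h1⟩
        by_contra hne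
        have : u' ∈ cosetT3 C w := (mem_cosetT3 w u').2 ⟨by omega, h1⟩
        rw [Finset.card_eq_zero] at h3
        rw [h3] at this
        exact absurd this (Finset.notMem_empty _)
      · rintro ⟨h1, h2⟩
        exact ⟨h2, by omega⟩
    rw [hT]
    refine ⟨by rw [Set.ncard_coe_finset]; exact h4, ?_⟩
    intro u hu
    rw [Finset.mem_coe] at hu
    refine ⟨((mem_cosetT4 w u).1 hu).1, ?_⟩
    intro u' hu' hne
    rw [Finset.mem_coe] at hu'
    exact cosetT4_disjoint hC w hu hu' hne

end Cfsg.Agent.S5623
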