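import Mathlib
import Cfsg.Statements.S5625
import Cfsg.Agent.Lib.Helper9.Steiner1

set_option autoImplicit false
open Cfsg

namespace Cfsg.Agent.S5625

open Cfsg.Agent.Lib.Helper9 Finset

section
variable {α : Type*} [Fintype α] [DecidableEq α]

/-- Binomial moments of the intersection sizes. -/
theorem moment_eq (Bf : Finset (Finset α)) (Y : Finset α) (i : ℕ) :
    ∑ b ∈ Bf, ((b ∩ Y).card).choose i = ∑ Z ∈ Y.powersetCard i, (Bf.filter (fun b => Z ⊆ b)).card := by
  classical
  have h := Finset.sum_card_bipartiteAbove_eq_sum_card_bipartiteBelow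
    (s := Bf) (t := Y.powersetCard i) (fun b Z => Z ⊆ b)
  have h1 : ∀ b ∈ Bf, ((Y.powersetCard i).bipartiteAbove (fun b Z => Z ⊆ b) b).card = ((b ∩ Y).card).choose i := by
    intro b _
    rw [← Finset.card_powersetCard]
    apply congrArg Finset.card
    ext Z
    rw [Finset.mem_bipartiteAbove, mem_powersetCard, mem_powersetCard, Finset.subset_inter_iff]
    tauto
  rw [Finset.sum_congr rfl h1] at h
  rw [h]
  rfl

theorem moment_fiber (Bf : Finset (Finset α)) (Y : Finset α) (hY : Y.card = 3) (i : ℕ) :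
    ∑ b ∈ Bf, ((b ∩ Y).card).choose i =
      ∑ j ∈ range 4, (Bf.filter (fun b => (b ∩ Y).card = j)).card * j.choose i := by
  have hmaps : ∀ b ∈ Bf, (b ∩ Y).card ∈ range 4 := by
    intro b _
    rw [mem_range]
    have := Finset.card_le_card (Finset.inter_subset_right (s₁ := b) (s₂ := Y))
    omega
  rw [← Finset.sum_fiberwise_of_maps_to hmaps]
  apply Finset.sum_congr rfl
  intro j _
  rw [Finset.sum_congr rfl (g := fun _ => j.choose i)]
  · rw [Finset.sum_const, smul_eq_mul]
  · intro b hb
    rw [mem_filter] at hb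
    rw [hb.2]

end

/-- In any Steiner system S(5, 8, 24) and for any set Y of three points, the blocks meeting Y in exactly 3, 2, 1 and 0 points number 21, 168, 360 and 210 respectively (so there are 759 blocks in all). -/
theorem result (α : Type*) [Fintype α] [DecidableEq α] (hα : Fintype.card α = 24) (B : Set (Finset α)) (hB : Cfsg.IsSteinerSystem 5 8 B) (Y : Finset α) (hY : Y.card = 3) : {b : Finset α | b ∈ B ∧ (b ∩ Y).card = 3}.ncard = 21 ∧ {b : Finset α | b ∈ B ∧ (b ∩ Y).card = 2}.ncard = 168 ∧ {b : Finset α | b ∈ B ∧ (b ∩ Y).card = 1}.ncard = 360 ∧ {b : Finset α | b ∈ B ∧ (b ∩ Y).card = 0}.ncard = 210 := by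
  set Bf := blocksFinset B with hBf
  -- λ values
  have hlam : ∀ Z : Finset α, Z ⊆ Y → (Bf.filter (fun b => Z ⊆ b)).card * (8 - Z.card).choose (5 - Z.card) =
      (24 - Z.card).choose (5 - Z.card) := by
    intro Z hZ
    have hZc : Z.card ≤ 5 := by
      have := Finset.card_le_card hZ
      omega
    have := steiner_lambda 5 8 B hB Z hZc
    rw [hα] at this
    exact this
  have hN : ∀ i : ℕ, ∀ Z ∈ Y.powersetCard i, (Bf.filter (fun b => Z ⊆ b)).card * (8 - i).choose (5 - i) =
      (24 - i).choose (5 - i) := by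
    intro i Z hZ
    rw [mem_powersetCard] at hZ
    have := hlam Z hZ.1
    rw [hZ.2] at this
    exact this
  -- the moments
  have hm : ∀ i : ℕ, ∀ lam : ℕ, lam * (8 - i).choose (5 - i) = (24 - i).choose (5 - i) → 0 < (8 - i).choose (5 - i) →
      ∑ b ∈ Bf, ((b ∩ Y).card).choose i = (Nat.choose 3 i) * lam := by
    intro i lam hl hpos
    rw [moment_eq, Finset.sum_congr rfl (g := fun _ => lam)]
    · rw [Finset.sum_const, Finset.card_powersetCard, hY, smul_eq_mul]
    · intro Z hZ
      have := hN i Z hZ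
      rw [← hl] at this
      exact Nat.eq_of_mul_eq_mul_right hpos this
  have hm0 := hm 0 759 (by norm_num [Nat.choose]) (by norm_num [Nat.choose])
  have hm1 := hm 1 253 (by norm_num [Nat.choose]) (by norm_num [Nat.choose])
  have hm2 := hm 2 77 (by norm_num [Nat.choose]) (by norm_num [Nat.choose])
  have hm3 := hm 3 21 (by norm_num [Nat.choose]) (by norm_num [Nat.choose])
  rw [moment_fiber Bf Y hY] at hm0 hm1 hm2 hm3
  simp only [Finset.sum_range_succ, Finset.sum_range_zero] at hm0 hm1 hm2 hm3
  have hset : ∀ j : ℕ, {b : Finset α | b ∈ B ∧ (b ∩ Y).card = j}.ncard = (Bf.filter (fun b => (b ∩ Y).card = j)).card := by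
    intro j
    rw [← Set.ncard_coe_finset]
    congr 1
    ext b
    rw [Set.mem_setOf_eq, Finset.mem_coe, mem_filter, hBf, mem_blocksFinset]
  rw [hset 3, hset 2, hset 1, hset 0]
  generalize (Bf.filter (fun b => (b ∩ Y).card = 0)).card = n0 at *
  generalize (Bf.filter (fun b => (b ∩ Y).card = 1)).card = n1 at *
  generalize (Bf.filter (fun b => (b ∩ Y).card = 2)).card = n2 at *
  generalize (Bf.filter (fun b => (b ∩ Y).card = 3)).card = n3 at *
  norm_num [Nat.choose] at hm0 hm1 hm2 hm3
  omega

end Cfsg.Agent.S5625
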