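import Cfsg.Statements.S5628
import Cfsg.Agent.Lib.Helper1.SteinHypAut21

set_option autoImplicit false
open Cfsg

namespace Cfsg.Agent.S5628

/-- In a projective plane of order 4 (a Steiner system S(2, 5, 21)), every permutation of the six points of a hyperoval (a 6-set met by no line in more than two points) is the restriction of exactly one automorphism of the plane. In particular the stabiliser of a hyperoval in the automorphism group is isomorphic to the symmetric group of degree 6 acting faithfully on the hyperoval. -/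
theorem result {α : Type*} [Fintype α] [DecidableEq α] (hα : Fintype.card α = 21) (L : Set (Finset α)) (hL : Cfsg.IsSteinerSystem 2 5 L) (H : Finset α) (hH : (H.card = 6 ∧ ∀ l ∈ L, (l ∩ H).card ≤ 2)) (σ : Equiv.Perm ↥H) : ∃! g : Equiv.Perm α, g ∈ Cfsg.setSystemAut L ∧ ∀ p : ↥H, g p = σ p := by
  open Cfsg.Agent.Lib.Helper1.Stein in
  obtain ⟨e, he⟩ := W21.unique hα hL
  change mapSys e L = sysOf 21 W21.K0 at he
  have hS : IsSteinerSystem 2 5 (sysOf 21 W21.K0) := he ▸ steiner_map 2 5 e hL
  refine hyperoval_ext 21 W21.K0 W21.H6 W21.h0 W21.H6_eq ?S2 ?S3 ?S4 L e he H hH σ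
  case S2 =>
    intro m hm
    have h0 := W21.tau_chk
    rw [List.all_eq_true] at h0
    have h1 := h0 m hm
    rw [List.any_eq_true] at h1
    obtain ⟨σ', -, h2⟩ := h1
    rw [Bool.and_eq_true, beq_iff_eq] at h2
    refine ⟨permOf σ' (autOk_perm h2.2), autOk_mem h2.2, ?_⟩
    rw [image_permOf, h2.1]
  case S3 =>
    intro a b ha hb hab
    have hbits : ∀ x : Fin 21, x ∈ toFin 21 W21.h0 → (x : ℕ) ∈ bitsOf 21 W21.h0 := by
      intro x hx
      rw [mem_bitsOf]
      exact ⟨x.2, (mem_toFin 21).1 hx⟩
    have h0 := W21.swap_chk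
    rw [List.all_eq_true] at h0
    have h1 := h0 _ (hbits a ha)
    rw [List.all_eq_true] at h1
    have h2 := h1 _ (hbits b hb)
    rw [Bool.or_eq_true, beq_iff_eq] at h2
    rcases h2 with h2 | h2
    · exact absurd (Fin.ext h2) hab
    · rw [List.any_eq_true] at h2
      obtain ⟨σ', -, h3⟩ := h2
      simp only [Bool.and_eq_true, beq_iff_eq, List.all_eq_true, Bool.or_eq_true] at h3
      obtain ⟨⟨⟨h4, h5⟩, h6⟩, h7⟩ := h3
      have hlen := length_of_permOk σ' (autOk_perm h7)
      have key : ∀ x : Fin 21, ((permOf σ' (autOk_perm h7) x : Fin 21) : ℕ) = σ'.getD x 0 := by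
        intro x
        have hx : (x : ℕ) < σ'.length := by rw [hlen]; exact x.2
        rw [permOf_apply σ' _ x hx, List.getD_eq_getElem _ _ hx]
      refine ⟨permOf σ' (autOk_perm h7), autOk_mem h7, ?_, ?_, ?_⟩
      · exact Fin.ext ((key a).trans h4)
      · exact Fin.ext ((key b).trans h5)
      · intro x hx hxa hxb
        rcases h6 _ (hbits x hx) with (h8 | h8) | h8
        · exact absurd (Fin.ext h8) hxa
        · exact absurd (Fin.ext h8) hxb
        · exact Fin.ext ((key x).trans h8)
  case S4 =>
    intro g hg hfix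
    apply rigid_of_cert hS W21.rcertH W21.asgH W21.rcertH_node W21.rcertH_ok W21.rcertH_id g
      ((mem_setSystemAut_iff _ g).1 hg)
    intro p hp
    simp only [W21.asgH, List.mem_cons, List.not_mem_nil, or_false] at hp
    rcases hp with rfl | rfl | rfl | rfl | rfl | rfl
    all_goals
      refine ⟨by norm_num, ?_⟩
      rw [gfun, dif_pos (by norm_num)]
      rw [hfix _ ((mem_toFin 21).2 (by decide))]

end Cfsg.Agent.S5628
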