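import Mathlib
import Cfsg.Statements.S5631
import Cfsg.Agent.Lib.Helper9.SLMax1

set_option autoImplicit false
open Cfsg

namespace Cfsg.Agent.S5631

/-- For a finite field F and n ≥ 13, the stabiliser in SL_n(F) of any proper non-zero subspace W of F^n is a maximal subgroup of SL_n(F). Here SL_n(F) is the kernel of the determinant inside GL_n(F) and the stabiliser is the set of elements of determinant one mapping W onto itself. -/
theorem result {F : Type*} [Field F] [Fintype F] (n : ℕ) (hn : 13 ≤ n) (W : Submodule F (Fin n → F)) (hW0 : W ≠ ⊥) (hW1 : W ≠ ⊤) : Cfsg.Geo.IsMaximalIn (Cfsg.Geo.specialLinear (Fin n) F) (Cfsg.Geo.subspaceStabilizer W ⊓ Cfsg.Geo.specialLinear (Fin n) F) := by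
  classical
  -- a nonzero vector of `W` and a vector outside `W`
  obtain ⟨w, hwW, hw0⟩ := (Submodule.ne_bot_iff W).mp hW0
  obtain ⟨v, hv⟩ : ∃ v, v ∉ W := by
    by_contra h
    push Not at h
    exact hW1 (eq_top_iff.mpr fun x _ => h x)
  refine ⟨?_, ?_⟩
  · refine lt_of_le_of_ne inf_le_right ?_
    intro h
    obtain ⟨g, hgSL, hgW⟩ := Cfsg.Agent.Lib.Helper9.exists_sl_not_mem_stabilizer n W w v hwW hw0 hv
    rw [← h] at hgSL
    exact hgW hgSL.1
  · intro M hPM hMS
    by_cases hM : M ≤ Cfsg.Geo.subspaceStabilizer W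
    · left
      exact le_antisymm (le_inf hM hMS) hPM
    · right
      exact Cfsg.Agent.H9SLMax.eq_specialLinear W M hPM hMS hM

end Cfsg.Agent.S5631
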