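import Mathlib
import Cfsg.Statements.S5632
import Cfsg.Agent.Lib.Helper9.Transvection

set_option autoImplicit false
open Cfsg
open Cfsg.Agent.Lib.Helper9

namespace Cfsg.Agent.S5632

theorem result {F : Type*} [Field F] [Fintype F] (n : ℕ) (W U : Submodule F (Fin n → F)) (hW0 : W ≠ ⊥) (hWU : W < U) (hdim : Module.finrank F W + Module.finrank F U = n) : ∃ K : Subgroup (Matrix.GeneralLinearGroup (Fin n) F), Cfsg.Geo.subspaceStabilizer W ⊓ Cfsg.Geo.subspaceStabilizer U ⊓ Cfsg.Geo.specialLinear (Fin n) F < K ∧ K < Cfsg.Geo.specialLinear (Fin n) F := by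
  refine ⟨Cfsg.Geo.subspaceStabilizer W ⊓ Cfsg.Geo.specialLinear (Fin n) F, ?_, ?_⟩
  · -- first strict inclusion
    obtain ⟨u, huU, huW⟩ := SetLike.exists_of_lt hWU
    have hUtop : U ≠ ⊤ := by
      rintro rfl
      rw [finrank_top, Module.finrank_fin_fun] at hdim
      have : Module.finrank F W = 0 := by omega
      exact hW0 (Submodule.finrank_eq_zero.mp this)
    obtain ⟨v, hvU⟩ : ∃ v, v ∉ U := by
      by_contra hcon
      push_neg at hcon
      exact hUtop (eq_top_iff.mpr fun x _ => hcon x)
    have huZ : u ∉ W ⊔ Submodule.span F {v} := by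
      intro h
      rw [Submodule.mem_sup] at h
      obtain ⟨w, hw, y, hy, rfl⟩ := h
      rw [Submodule.mem_span_singleton] at hy
      obtain ⟨c, rfl⟩ := hy
      have hcv : c • v ∈ U := (U.add_mem_iff_right (hWU.le hw)).mp huU
      by_cases hc : c = 0
      · subst hc
        rw [zero_smul, add_zero] at huW
        exact huW hw
      · apply hvU
        have := U.smul_mem c⁻¹ hcv
        rwa [smul_smul, inv_mul_cancel₀ hc, one_smul] at this
    obtain ⟨g, hg1, hg2⟩ := exists_sl_mem_stabilizer_not_mem n W U (W ⊔ Submodule.span F {v}) u v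
      le_sup_left (Submodule.mem_sup_right (Submodule.mem_span_singleton_self v)) huZ huU hvU
    refine lt_of_le_of_ne ?_ ?_
    · intro x hx
      exact ⟨hx.1.1, hx.2⟩
    · intro heq
      rw [← heq] at hg1
      exact hg2 hg1.1.2
  · -- second strict inclusion
    obtain ⟨w, hwW, hw0⟩ := Submodule.exists_mem_ne_zero_of_ne_bot hW0
    have hWtop : W ≠ ⊤ := by
      rintro rfl
      exact not_top_lt hWU
    obtain ⟨v, hvW⟩ : ∃ v, v ∉ W := by
      by_contra hcon
      push_neg at hcon
      exact hWtop (eq_top_iff.mpr fun x _ => hcon x)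
    obtain ⟨g, hg1, hg2⟩ := exists_sl_not_mem_stabilizer n W w v hwW hw0 hvW
    refine lt_of_le_of_ne inf_le_right ?_
    intro heq
    rw [← heq] at hg1
    exact hg2 hg1.1

end Cfsg.Agent.S5632
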