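import Mathlib
import Cfsg.Statements.S5633
import Cfsg.Agent.Lib.Helper9.Transvection

set_option autoImplicit false
open Cfsg
open Cfsg.Agent.Lib.Helper9

namespace Cfsg.Agent.S5633

theorem result {F : Type*} [Field F] [Fintype F] (n : ℕ) (W U : Submodule F (Fin n → F)) (hW0 : W ≠ ⊥) (hWU : W ⊓ U = ⊥) (hWU' : W ⊔ U = ⊤) (hdim : Module.finrank F W < Module.finrank F U) : ∃ K : Subgroup (Matrix.GeneralLinearGroup (Fin n) F), Cfsg.Geo.subspaceStabilizer W ⊓ Cfsg.Geo.subspaceStabilizer U ⊓ Cfsg.Geo.specialLinear (Fin n) F < K ∧ K < Cfsg.Geo.specialLinear (Fin n) F := by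
  obtain ⟨w, hwW, hw0⟩ := Submodule.exists_mem_ne_zero_of_ne_bot hW0
  have hU0 : U ≠ ⊥ := by
    rintro rfl
    rw [finrank_bot] at hdim
    omega
  obtain ⟨u, huU, hu0⟩ := Submodule.exists_mem_ne_zero_of_ne_bot hU0
  have huW : u ∉ W := by
    intro h
    have : u ∈ W ⊓ U := ⟨h, huU⟩
    rw [hWU, Submodule.mem_bot] at this
    exact hu0 this
  have hwU : w ∉ U := by
    intro h
    have : w ∈ W ⊓ U := ⟨hwW, h⟩
    rw [hWU, Submodule.mem_bot] at this
    exact hw0 this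
  refine ⟨Cfsg.Geo.subspaceStabilizer W ⊓ Cfsg.Geo.specialLinear (Fin n) F, ?_, ?_⟩
  · obtain ⟨g, hg1, hg2⟩ := exists_sl_mem_stabilizer_not_mem n W U W u w le_rfl hwW huW huU hwU
    refine lt_of_le_of_ne ?_ ?_
    · intro x hx
      exact ⟨hx.1.1, hx.2⟩
    · intro heq
      rw [← heq] at hg1
      exact hg2 hg1.1.2
  · obtain ⟨g, hg1, hg2⟩ := exists_sl_not_mem_stabilizer n W w u hwW hw0 huW
    refine lt_of_le_of_ne inf_le_right ?_
    intro heq
    rw [← heq] at hg1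
    exact hg2 hg1.1

end Cfsg.Agent.S5633
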