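import Cfsg.Statements.S5634
import Cfsg.Agent.Lib.Helper6.C2Max.Main
import Cfsg.Agent.Lib.Helper1.C2Max_B6

set_option autoImplicit false
open Cfsg

namespace Cfsg.Agent.S5634

open Cfsg.Agent.Lib.Helper6.C2Max

/-- For a finite field F with q elements and n ≥ 13, let D be a decomposition of F^n into t ≥ 2 independent subspaces of equal dimension m ≥ 1 spanning F^n. Unless m = 1 and q ≤ 4, or m = 2 and q = 2, the elements of SL_n(F) permuting the members of D form a maximal subgroup of SL_n(F). -/
theorem result {F : Type*} [Field F] [Fintype F] (n : ℕ) (hn : 13 ≤ n) {t : ℕ} (m : ℕ) (D : Fin t → Submodule F (Fin n → F)) (hD : Cfsg.Geo.IsMDecomposition m D) (h1 : ¬ (m = 1 ∧ Fintype.card F ≤ 4)) (h2 : ¬ (m = 2 ∧ Fintype.card F = 2)) : Cfsg.Geo.IsMaximalIn (Cfsg.Geo.specialLinear (Fin n) F) (Cfsg.Geo.decompositionStabilizer D ⊓ Cfsg.Geo.specialLinear (Fin n) F) := by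
  classical
  have htm : t * m = n := card_of_isMDecomposition D hD
  apply maximal_of_core D hD
  intro K hK
  by_cases hm1 : m = 1
  · subst hm1
    have hq : 5 ≤ Fintype.card F := by
      by_contra h
      exact h1 ⟨rfl, by omega⟩
    have hcard : 13 ≤ Fintype.card (Σ _ : Fin t, Fin 1) := by
      simp only [Fintype.card_sigma, Fintype.card_fin, Finset.sum_const, Finset.card_univ,
        smul_eq_mul]
      omega
    have hK' : Over K := fun g hg => hK g ((isBM_fst_iff_isMono g.1).2 hg)
    rcases mono_core hcard hq K hK' with h | h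
    · exact Or.inl fun g hg => (isBM_fst_iff_isMono g.1).2 (h g hg)
    · exact Or.inr h
  · have hm2 : 2 ≤ m := by
      have := hD.pos
      omega
    have ht2 : 2 ≤ t := hD.two_le
    exact block_core ht2 hm2 h2 (by omega) K hK

end Cfsg.Agent.S5634
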