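import Mathlib
import Cfsg.Statements.S5635
import Cfsg.Agent.Lib.Helper9.DecompNM4
import Cfsg.Agent.Lib.Helper9.DecompNM6

set_option autoImplicit false
open Cfsg
open Cfsg.Agent

namespace Cfsg.Agent.S5635

/-- For a finite field F with q elements and n ≥ 13, let D be a decomposition of F^n into t ≥ 2 independent subspaces of equal dimension m spanning F^n, where m = 1 and q ≤ 4, or m = 2 and q = 2. Then the elements of SL_n(F) permuting the members of D form a subgroup that is not maximal: some subgroup lies strictly between it and SL_n(F). -/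
theorem result {F : Type*} [Field F] [Fintype F] (n : ℕ) (hn : 13 ≤ n) {t : ℕ} (m : ℕ) (D : Fin t → Submodule F (Fin n → F)) (hD : Cfsg.Geo.IsMDecomposition m D) (h : (m = 1 ∧ Fintype.card F ≤ 4) ∨ (m = 2 ∧ Fintype.card F = 2)) : ∃ K : Subgroup (Matrix.GeneralLinearGroup (Fin n) F), Cfsg.Geo.decompositionStabilizer D ⊓ Cfsg.Geo.specialLinear (Fin n) F < K ∧ K < Cfsg.Geo.specialLinear (Fin n) F := by
  classical
  have key : ∀ I : Subgroup (Matrix.GeneralLinearGroup (Fin n) F),
      Cfsg.Geo.decompositionStabilizer D ≤ I →
      (∃ g₁ g₂ : Matrix.GeneralLinearGroup (Fin n) F, g₁ ∈ I ∧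
        g₁ ∈ Cfsg.Geo.specialLinear (Fin n) F ∧ g₁ ∉ Cfsg.Geo.decompositionStabilizer D ∧
        g₂ ∈ Cfsg.Geo.specialLinear (Fin n) F ∧ g₂ ∉ I) →
      ∃ K : Subgroup (Matrix.GeneralLinearGroup (Fin n) F),
        Cfsg.Geo.decompositionStabilizer D ⊓ Cfsg.Geo.specialLinear (Fin n) F < K ∧
          K < Cfsg.Geo.specialLinear (Fin n) F := by
    rintro I hle ⟨g₁, g₂, h1, h2, h3, h4, h5⟩
    refine ⟨I ⊓ Cfsg.Geo.specialLinear (Fin n) F, lt_of_le_of_ne (inf_le_inf_right _ hle) ?_,
      lt_of_le_of_ne inf_le_right ?_⟩
    · intro heq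
      have : g₁ ∈ Cfsg.Geo.decompositionStabilizer D ⊓ Cfsg.Geo.specialLinear (Fin n) F := by
        rw [heq]
        exact ⟨h1, h2⟩
      exact h3 this.1
    · intro heq
      have : g₂ ∈ I ⊓ Cfsg.Geo.specialLinear (Fin n) F := by
        rw [heq]
        exact h4
      exact h5 this.1
  obtain ⟨B, hB⟩ := H9Dec.exists_adapted hD
  have htm : t * m = n := by
    have h1 := Module.finrank_eq_card_basis B
    rw [Module.finrank_fintype_fun_eq_card, Fintype.card_fin] at h1
    rw [h1]
    simp
  rcases h with ⟨rfl, hq⟩ | ⟨rfl, hq⟩
  · have ht : 8 ≤ t := by omega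
    have hq2 : 2 ≤ Fintype.card F := Fintype.one_lt_card
    have hcast : ((Fintype.card F : ℕ) : F) = 0 := Nat.cast_card_eq_zero F
    by_cases hq4 : Fintype.card F = 4
    · -- hermitian case
      rw [hq4] at hcast
      have h2 : (2 : F) = 0 := by
        have : (2 : F) * 2 = 0 := by
          have h4 : (4 : F) = 0 := by exact_mod_cast hcast
          linear_combination h4
        exact (mul_self_eq_zero.mp this)
      haveI : CharP F 2 := CharTwo.of_one_ne_zero_of_two_eq_zero one_ne_zero h2
      have hσ : ∀ c : F, frobenius F 2 (frobenius F 2 c) = c := by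
        intro c
        rw [frobenius_def, frobenius_def, ← pow_mul]
        have := FiniteField.pow_card c
        rw [hq4] at this
        exact this
      have hN : ∀ c : F, c ≠ 0 → c * frobenius F 2 c = 1 := by
        intro c hc
        rw [frobenius_def]
        have := FiniteField.pow_card_sub_one_eq_one c hc
        rw [hq4] at this
        rw [← this]
        ring
      have h6 : (6 : F) = 0 := by linear_combination 3 * h2
      exact key _ (H9Dec.stab_le_iso_one hB (frobenius F 2) hσ hN)
        (H9Dec.exists_between_one hB (frobenius F 2) hσ ht h6)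
    · have hq23 : Fintype.card F = 2 ∨ Fintype.card F = 3 := by omega
      have hN : ∀ c : F, c ≠ 0 → c * (RingHom.id F) c = 1 := by
        intro c hc
        rw [RingHom.id_apply]
        have := FiniteField.pow_card_sub_one_eq_one c hc
        rcases hq23 with h | h
        · rw [h] at this
          norm_num at this
          rw [this, mul_one]
        · rw [h] at this
          rw [← this]
          ring
      have h6 : (6 : F) = 0 := by
        rcases hq23 with h | h
        · rw [h] at hcast
          have h2 : (2 : F) = 0 := by exact_mod_cast hcast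
          linear_combination 3 * h2
        · rw [h] at hcast
          have h3 : (3 : F) = 0 := by exact_mod_cast hcast
          linear_combination 2 * h3
      exact key _ (H9Dec.stab_le_iso_one hB (RingHom.id F) (fun _ => rfl) hN)
        (H9Dec.exists_between_one hB (RingHom.id F) (fun _ => rfl) ht h6)
  · exact key _ (H9Dec.stab_le_iso_two hB hq) (H9Dec.exists_between_two hB hq hD.two_le)

end Cfsg.Agent.S5635
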