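import Mathlib
import Cfsg.Statements.S5638
import Cfsg.Agent.Lib.Helper9.TensF2c

set_option autoImplicit false
open Cfsg
open Cfsg.Agent

namespace Cfsg.Agent.S5638

/-- Over the field with 2 elements, for n = 2 n₂ ≥ 13, the stabiliser in SL_n of a tensor decomposition with factors of dimensions 2 and n₂ (the conjugate by any P of the Kronecker-product subgroup transported along any bijection Fin n ≃ Fin 2 × Fin n₂, intersected with SL_n) is not a maximal subgroup: some subgroup lies strictly between it and SL_n. -/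
theorem result {F : Type*} [Field F] [Fintype F] (n : ℕ) (hn : 13 ≤ n) (hq : Fintype.card F = 2) (n₂ : ℕ) (e : Fin n ≃ Fin 2 × Fin n₂) (P : Matrix.GeneralLinearGroup (Fin n) F) : ∃ K : Subgroup (Matrix.GeneralLinearGroup (Fin n) F), Cfsg.Geo.tensorProductSubgroup 2 n₂ e P ⊓ Cfsg.Geo.specialLinear (Fin n) F < K ∧ K < Cfsg.Geo.specialLinear (Fin n) F := by
  classical
  have hcard : n = 2 * n₂ := by
    have := Fintype.card_congr e
    rw [Fintype.card_fin, Fintype.card_prod, Fintype.card_fin, Fintype.card_fin] at this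
    exact this
  have hn2 : 7 ≤ n₂ := by omega
  obtain ⟨i₀, i₁, h01⟩ : ∃ i₀ i₁ : Fin n₂, i₀ ≠ i₁ :=
    ⟨⟨0, by omega⟩, ⟨1, by omega⟩, by intro h; have := congrArg Fin.val h; simp at this⟩
  rw [H9TF2.specialLinear_eq_top hq, inf_top_eq]
  have hinj1 : Function.Injective (Cfsg.Geo.glReindex (F := F) e.symm).toMonoidHom :=
    (Cfsg.Geo.glReindex (F := F) e.symm).injective
  have hinj2 : Function.Injective (MulAut.conj P).toMonoidHom := (MulAut.conj P).injective
  have hlt : Cfsg.Geo.kroneckerSubgroup 2 n₂ F < H9TF2.K0 hq n₂ := by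
    refine lt_of_le_of_ne (H9TF2.kron_le_K0 hq) ?_
    intro heq
    apply H9TF2.X0_not_mem_kron hq i₀ i₁ h01
    rw [heq]
    exact H9TF2.X0_mem_K0 hq i₀ i₁ h01
  have hK0 : H9TF2.K0 hq n₂ < ⊤ := by
    rw [lt_top_iff_ne_top]
    intro heq
    apply H9TF2.Y0_not_mem_K0 hq i₀ i₁ h01
    rw [heq]
    exact Subgroup.mem_top _
  refine ⟨((H9TF2.K0 hq n₂).map (Cfsg.Geo.glReindex e.symm).toMonoidHom).map
    (MulAut.conj P).toMonoidHom, ?_, ?_⟩
  · unfold Cfsg.Geo.tensorProductSubgroup
    rw [Subgroup.map_lt_map_iff_of_injective hinj2, Subgroup.map_lt_map_iff_of_injective hinj1]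
    exact hlt
  · rw [lt_top_iff_ne_top]
    intro heq
    have h1 : ((H9TF2.K0 hq n₂).map (Cfsg.Geo.glReindex e.symm).toMonoidHom) = ⊤ := by
      have : ((⊤ : Subgroup (Matrix.GeneralLinearGroup (Fin n) F))).map
          (MulAut.conj P).toMonoidHom = ⊤ := by
        rw [← MonoidHom.range_eq_map, MonoidHom.range_eq_top]
        exact (MulAut.conj P).surjective
      rw [← this] at heq
      exact Subgroup.map_injective hinj2 heq
    have h2 : H9TF2.K0 hq n₂ = ⊤ := by
      have : ((⊤ : Subgroup (Matrix.GeneralLinearGroup (Fin 2 × Fin n₂) F))).map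
          (Cfsg.Geo.glReindex (F := F) e.symm).toMonoidHom = ⊤ := by
        rw [← MonoidHom.range_eq_map, MonoidHom.range_eq_top]
        exact (Cfsg.Geo.glReindex (F := F) e.symm).surjective
      rw [← this] at h1
      exact Subgroup.map_injective hinj1 h1
    exact absurd h2 (ne_of_lt hK0)

end Cfsg.Agent.S5638
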