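import Mathlib
import Cfsg.Statements.S5639
import Cfsg.Agent.Lib.Helper7.SubfMain

set_option autoImplicit false
open Cfsg

namespace Cfsg.Agent.S5639

open Cfsg.Agent.Lib.Helper7.Subf Matrix in
/-- The whole proof of S5639 (same statement as `result`), reduced to `main_dichotomy`. -/
theorem subfield_group_maximal_aux {F : Type*} [Field F] [Fintype F] (n : ℕ) (hn : 13 ≤ n) (F₀ : Subfield F) (r : ℕ) (hr : r.Prime) (hcard : Fintype.card F = Nat.card F₀ ^ r) (P : Matrix.GeneralLinearGroup (Fin n) F) : Cfsg.Geo.IsMaximalIn (Cfsg.Geo.specialLinear (Fin n) F) (Cfsg.Geo.subfieldSubgroup F₀ P ⊓ Cfsg.Geo.specialLinear (Fin n) F) := by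
  classical
  set N₁ : Subgroup (GL (Fin n) F) :=
    (Matrix.GeneralLinearGroup.map (F₀.subtype : F₀ →+* F)).range ⊔ Cfsg.Geo.scalars (Fin n) F with hN₁
  have hsub : Cfsg.Geo.subfieldSubgroup F₀ P = N₁.map (MulAut.conj P).toMonoidHom := rfl
  have hSLn : (Cfsg.Geo.specialLinear (Fin n) F).Normal := by
    unfold Cfsg.Geo.specialLinear
    infer_instance
  -- membership in the conjugate
  have hmem : ∀ x : GL (Fin n) F, x ∈ N₁.map (MulAut.conj P).toMonoidHom ↔ P⁻¹ * x * P ∈ N₁ := by
    intro x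
    rw [Subgroup.mem_map]
    constructor
    · rintro ⟨y, hy, rfl⟩
      simp only [MulEquiv.coe_toMonoidHom, MulAut.conj_apply]
      have : P⁻¹ * (P * y * P⁻¹) * P = y := by group
      rw [this]; exact hy
    · intro h
      refine ⟨P⁻¹ * x * P, h, ?_⟩
      simp only [MulEquiv.coe_toMonoidHom, MulAut.conj_apply]
      group
  have hconjSL : ∀ x : GL (Fin n) F, x ∈ Cfsg.Geo.specialLinear (Fin n) F →
      P⁻¹ * x * P ∈ Cfsg.Geo.specialLinear (Fin n) F := by
    intro x hx
    have := hSLn.conj_mem x hx P⁻¹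
    rwa [inv_inv] at this
  have hconjSL' : ∀ x : GL (Fin n) F, x ∈ Cfsg.Geo.specialLinear (Fin n) F →
      P * x * P⁻¹ ∈ Cfsg.Geo.specialLinear (Fin n) F := fun x hx => hSLn.conj_mem x hx P
  refine ⟨?_, ?_⟩
  · -- properness
    refine lt_of_le_of_ne inf_le_right ?_
    intro heq
    -- an element of `F` outside `F₀`
    have hex : ∃ a : F, a ∉ F₀ := by
      by_contra hcon
      simp only [not_exists, not_not] at hcon
      have htop : F₀ = ⊤ := by
        ext x; simp [hcon x]
      have hc0 : Nat.card F₀ = Fintype.card F := by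
        rw [htop, ← Nat.card_eq_fintype_card]
        exact Nat.card_congr (Subfield.topEquiv (K := F)).toEquiv
      rw [hc0] at hcard
      have h1 : 1 < Fintype.card F := Fintype.one_lt_card
      have h2 : 2 ≤ r := hr.two_le
      have : Fintype.card F ^ 1 < Fintype.card F ^ r := Nat.pow_lt_pow_right h1 (by omega)
      rw [pow_one] at this
      omega
    obtain ⟨a, ha⟩ := hex
    obtain ⟨g, hgS, hgN⟩ := exists_sl_not_inN (n := n) (by omega) F₀ a ha
    have hx : P * g * P⁻¹ ∈ Cfsg.Geo.specialLinear (Fin n) F := hconjSL' g hgS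
    rw [← heq, hsub] at hx
    have h1 := (hmem _).1 hx.1
    have : P⁻¹ * (P * g * P⁻¹) * P = g := by group
    rw [this] at h1
    exact hgN ((inN_iff_mem F₀ g).2 h1)
  · intro M hHM hMS
    set M' : Subgroup (GL (Fin n) F) := M.comap (MulAut.conj P).toMonoidHom with hM'
    have hM'mem : ∀ x : GL (Fin n) F, x ∈ M' ↔ P * x * P⁻¹ ∈ M := by
      intro x
      rw [hM', Subgroup.mem_comap]
      simp only [MulEquiv.coe_toMonoidHom, MulAut.conj_apply]
    have hT : HasRatTv F₀ M' := by
      intro v φ hv hφ hinc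
      obtain ⟨g, hg, hgN, hgS⟩ := ratTv_mem F₀ v φ hv hφ hinc
      refine ⟨g, ?_, hg⟩
      rw [hM'mem]
      apply hHM
      refine Subgroup.mem_inf.2 ⟨?_, hconjSL' g hgS⟩
      rw [hsub, hmem]
      have : P⁻¹ * (P * g * P⁻¹) * P = g := by group
      rw [this]
      exact Subgroup.mem_sup_left hgN
    rcases main_dichotomy hn F₀ r hr hcard M' hT with h | h
    · right
      apply le_antisymm hMS
      intro x hx
      have h1 : P⁻¹ * x * P ∈ M' := h (hconjSL x hx)
      rw [hM'mem] at h1
      have : P * (P⁻¹ * x * P) * P⁻¹ = x := by group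
      rwa [this] at h1
    · left
      apply le_antisymm _ hHM
      intro x hx
      refine Subgroup.mem_inf.2 ⟨?_, hMS hx⟩
      rw [hsub, hmem]
      have h1 : P⁻¹ * x * P ∈ M' := by
        rw [hM'mem]
        have : P * (P⁻¹ * x * P) * P⁻¹ = x := by group
        rwa [this]
      exact (inN_iff_mem F₀ _).1 (h _ h1)

/-- For a finite field F, a subfield F₀ with |F| = |F₀| ^ r for a prime r, and n ≥ 13, the subfield group (the conjugate by any P of the product of GL_n(F₀) with the non-zero scalars of F, intersected with SL_n(F)) is a maximal subgroup of SL_n(F). -/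
theorem result {F : Type*} [Field F] [Fintype F] (n : ℕ) (hn : 13 ≤ n) (F₀ : Subfield F) (r : ℕ) (hr : r.Prime) (hcard : Fintype.card F = Nat.card F₀ ^ r) (P : Matrix.GeneralLinearGroup (Fin n) F) : Cfsg.Geo.IsMaximalIn (Cfsg.Geo.specialLinear (Fin n) F) (Cfsg.Geo.subfieldSubgroup F₀ P ⊓ Cfsg.Geo.specialLinear (Fin n) F) := by
  exact subfield_group_maximal_aux n hn F₀ r hr hcard P

end Cfsg.Agent.S5639
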