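import Mathlib
import Cfsg.Statements.S5642
import Cfsg.Agent.Lib.Helper9.SLSymp2

set_option autoImplicit false
open Cfsg

namespace Cfsg.Agent.S5642

open Cfsg.Agent.H9SLSymp Cfsg.Agent.H9SLMax Matrix in
/-- For a finite field F and n ≥ 13, let f be a non-degenerate symplectic form on F^n (so n is even). Then the elements of SL_n(F) that are similarities of f (f(gu, gv) = c f(u, v) for a non-zero scalar c depending on g) form a maximal subgroup of SL_n(F). -/
theorem result {F : Type*} [Field F] [Fintype F] (n : ℕ) (hn : 13 ≤ n) (f : (Fin n → F) → (Fin n → F) → F) (hf : Cfsg.Geo.IsSymplecticForm f) : Cfsg.Geo.IsMaximalIn (Cfsg.Geo.specialLinear (Fin n) F) (Cfsg.Geo.similarityGroup f ⊓ Cfsg.Geo.specialLinear (Fin n) F) := by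
  classical
  refine ⟨?_, ?_⟩
  · refine lt_of_le_of_ne inf_le_right ?_
    intro h
    set i0 : Fin n := ⟨0, by omega⟩ with hi0
    set i1 : Fin n := ⟨1, by omega⟩ with hi1
    set i2 : Fin n := ⟨2, by omega⟩ with hi2
    have h01 : i0 ≠ i1 := by simp [hi0, hi1, Fin.ext_iff]
    have h02 : i0 ≠ i2 := by simp [hi0, hi2, Fin.ext_iff]
    have h12 : i1 ≠ i2 := by simp [hi1, hi2, Fin.ext_iff]
    set u : Fin n → F := Pi.single i0 1 with hu
    have hu0 : u ≠ 0 := by
      intro h0
      have := congrFun h0 i0
      rw [hu, Pi.single_eq_same] at this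
      exact one_ne_zero this
    -- a vector orthogonal to `u` outside `span {u}`
    obtain ⟨x₀, hx₀u, hx₀0, hx₀i⟩ : ∃ x₀ : Fin n → F, f x₀ u = 0 ∧ x₀ i0 = 0 ∧ x₀ ≠ 0 := by
      by_cases h1 : f (Pi.single i1 1) u = 0
      · refine ⟨Pi.single i1 1, h1, ?_, ?_⟩
        · rw [Pi.single_eq_of_ne h01]
        · intro h0
          have := congrFun h0 i1
          rw [Pi.single_eq_same] at this
          exact one_ne_zero this
      · refine ⟨Pi.single i2 1 + (-(f (Pi.single i2 1) u * (f (Pi.single i1 1) u)⁻¹)) • Pi.single i1 1,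
          ?_, ?_, ?_⟩
        · rw [hf.bilinear.add_left, hf.bilinear.smul_left]
          field_simp
          ring
        · rw [Pi.add_apply, Pi.smul_apply, Pi.single_eq_of_ne h02, Pi.single_eq_of_ne h01,
            smul_zero, add_zero]
        · intro h0
          have := congrFun h0 i2
          rw [Pi.add_apply, Pi.smul_apply, Pi.single_eq_same, Pi.single_eq_of_ne h12.symm,
            smul_zero, add_zero] at this
          exact one_ne_zero this
    have hx₀Z : x₀ ∉ Submodule.span F {u} := by
      intro hmem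
      rw [Submodule.mem_span_singleton] at hmem
      obtain ⟨c, hc⟩ := hmem
      have h1 := congrFun hc i0
      rw [Pi.smul_apply, hu, Pi.single_eq_same, smul_eq_mul, mul_one, hx₀0] at h1
      rw [h1, zero_smul] at hc
      exact hx₀i hc.symm
    obtain ⟨g, φ, hgSL, hφZ, hφx₀, hgx⟩ :=
      Cfsg.Agent.Lib.Helper9.exists_sl_transvection n (Submodule.span F {u}) x₀ u hx₀Z
        (Submodule.mem_span_singleton_self u)
    have hφu : φ u = 0 := hφZ u (Submodule.mem_span_singleton_self u)
    rw [← h] at hgSL
    obtain ⟨c, hc⟩ := hgSL.1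
    obtain ⟨-, y, hy⟩ := hf.nondegenerate u hu0
    have hgu : (g : Matrix (Fin n) (Fin n) F) *ᵥ u = u := by
      rw [hgx, hφu, zero_smul, add_zero]
    have h1 := hc u y
    rw [hgu, hgx, hf.bilinear.add_right, hf.bilinear.smul_right, hf.alternating, mul_zero,
      add_zero] at h1
    have hc1 : (c : F) = 1 := by
      have : ((c : F) - 1) * f u y = 0 := by linear_combination -h1
      rcases mul_eq_zero.mp this with h0 | h0
      · exact sub_eq_zero.mp h0
      · exact absurd h0 hy
    have h2 := hc x₀ y
    rw [hc1, one_mul, hgx, hgx, hφx₀, one_smul, hf.bilinear.add_left, hf.bilinear.add_right,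
      hf.bilinear.add_right, hf.bilinear.smul_right, hf.bilinear.smul_right, hx₀u,
      hf.alternating] at h2
    apply hy
    linear_combination h2
  · intro M hPM hMS
    by_cases hM : M ≤ Cfsg.Geo.similarityGroup f
    · left
      exact le_antisymm (le_inf hM hMS) hPM
    · right
      rw [SetLike.not_le_iff_exists] at hM
      obtain ⟨g, hgM, hgW⟩ := hM
      exact eq_specialLinear f hf M hPM (by omega) hMS g hgM hgW

end Cfsg.Agent.S5642
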