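import Mathlib
import Cfsg.Statements.S5643
import Cfsg.Agent.Lib.Helper9.SLUnit5

set_option autoImplicit false
open Cfsg

namespace Cfsg.Agent.S5643

open Cfsg.Agent.H9SLUnit in
/-- For a finite field F and n ≥ 13, let σ be a field automorphism of F of order two and f a non-degenerate unitary form on F^n with respect to σ. Then the elements of SL_n(F) that are similarities of f form a maximal subgroup of SL_n(F). -/
theorem result {F : Type*} [Field F] [Fintype F] (n : ℕ) (hn : 13 ≤ n) (σ : F ≃+* F) (f : (Fin n → F) → (Fin n → F) → F) (hf : Cfsg.Geo.IsUnitaryForm σ f) : Cfsg.Geo.IsMaximalIn (Cfsg.Geo.specialLinear (Fin n) F) (Cfsg.Geo.similarityGroup f ⊓ Cfsg.Geo.specialLinear (Fin n) F) := by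
  classical
  refine ⟨?_, ?_⟩
  · refine lt_of_le_of_ne inf_le_right ?_
    intro heq
    obtain ⟨g, hgS, hgN⟩ := exists_not_similarity (by omega) hf
    rw [← heq] at hgS
    exact hgN hgS.1
  · intro M hPM hMS
    by_cases hM : M ≤ Cfsg.Geo.similarityGroup f
    · left
      exact le_antisymm (le_inf hM hMS) hPM
    · right
      rw [SetLike.not_le_iff_exists] at hM
      obtain ⟨g, hgM, hgW⟩ := hM
      exact eq_specialLinear_unitary (by omega) hf M hPM hMS g hgM hgW

end Cfsg.Agent.S5643
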