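import Mathlib
import Cfsg.Statements.S5644
import Cfsg.Agent.Lib.Helper9.SLOrth6

set_option autoImplicit false
open Cfsg
open Matrix Module Cfsg.Agent.H9SLMax Cfsg.Agent.H9SLSymp Cfsg.Agent.H9Orth Cfsg.Agent.H9SLOrth

namespace Cfsg.Agent.S5644

/-- For a finite field F of odd order and n ≥ 13, let Q be a non-degenerate quadratic form on F^n (its polar form is non-degenerate). Then the elements of SL_n(F) that are similarities of Q (Q(gv) = c Q(v) for a non-zero scalar c depending on g) form a maximal subgroup of SL_n(F). -/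
theorem result {F : Type*} [Field F] [Fintype F] (n : ℕ) (hn : 13 ≤ n) (hodd : Odd (Fintype.card F)) (Q : (Fin n → F) → F) (hQ : Cfsg.Geo.IsNondegenerateQuadraticForm Q) : Cfsg.Geo.IsMaximalIn (Cfsg.Geo.specialLinear (Fin n) F) (Cfsg.Geo.quadSimilarityGroup Q ⊓ Cfsg.Geo.specialLinear (Fin n) F) := by
  classical
  have h2 : (2 : F) ≠ 0 := by
    intro h
    have hchar : ringChar F = 2 := by
      have h3 : ((2 : ℕ) : F) = 0 := by exact_mod_cast h
      have h4 := (ringChar.spec F 2).1 h3
      have h5 : ringChar F ≠ 1 := by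
        intro h1
        haveI := ringChar.of_eq h1
        exact CharP.ringChar_ne_one h1
      exact (Nat.dvd_prime Nat.prime_two).1 h4 |>.resolve_left h5
    have heven : Even (Fintype.card F) := by
      have := FiniteField.even_card_of_char_two hchar
      rw [Nat.even_iff]
      exact this
    exact (Nat.not_even_iff_odd.2 hodd) heven
  have : Finite F := Finite.of_fintype F
  obtain ⟨Q', rfl, hQ'⟩ := exists_quadForm Q hQ
  have hcard : Fintype.card (Fin n) = n := Fintype.card_fin n
  refine ⟨?_, ?_⟩
  · refine lt_of_le_of_ne inf_le_right ?_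
    intro h
    obtain ⟨p, q, hp, hq, hpq, -⟩ := exists_hyp_perp hQ' ⊥ (by rw [finrank_bot, hcard]; omega)
    obtain ⟨p', q', hp', hq', hpq', hperp⟩ := exists_hyp_perp hQ' (Submodule.span F {p, q})
      (by have := finrank_span_pair_le p q; rw [hcard]; omega)
    have hpp' := (hperp p (Submodule.subset_span (by simp))).1
    have hpq'' := (hperp p (Submodule.subset_span (by simp))).2
    have hqp' := (hperp q (Submodule.subset_span (by simp))).1
    have hqq' := (hperp q (Submodule.subset_span (by simp))).2
    obtain ⟨g, hg⟩ := exists_isTransv (flat Q' q) p' (by rw [flat_apply]; exact hqp')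
    have hgSL := hg.mem_specialLinear
    rw [← h] at hgSL
    obtain ⟨c, hc⟩ := hgSL.1
    have h1 := hc (p + q')
    rw [hg.2, flat_apply, QuadraticMap.polar_add_right, QuadraticMap.polar_comm (⇑Q') q p, hpq,
      hqq', add_zero, one_smul, QuadraticMap.map_add Q' p q', hp, hq', hpq'', add_zero, add_zero,
      mul_zero, add_assoc, QuadraticMap.map_add Q' p (q' + p'), hp,
      QuadraticMap.map_add Q' q' p', hp', hq', QuadraticMap.polar_add_right, hpq'', hpp',
      QuadraticMap.polar_comm (⇑Q') q' p', hpq'] at h1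
    norm_num at h1
  · intro M hPM hMS
    by_cases hM : M ≤ Cfsg.Geo.quadSimilarityGroup ⇑Q'
    · left
      exact le_antisymm (le_inf hM hMS) hPM
    · right
      rw [SetLike.not_le_iff_exists] at hM
      obtain ⟨g, hgM, hgW⟩ := hM
      obtain ⟨a₀, b₀, hpair, hind, hb₀⟩ := exists_pair_of_not_sim hQ' hn h2 M hPM g hgM hgW
      exact le_antisymm hMS (sl_le_of_pair hQ' hn h2 M hPM hpair hind hb₀)

end Cfsg.Agent.S5644
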