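import Mathlib
import Cfsg.Statements.S5646
import Cfsg.Agent.Lib.Helper9.SpMax3

set_option autoImplicit false
open Cfsg

namespace Cfsg.Agent.S5646

open Cfsg.Agent.H9SpMax Cfsg.Agent.Lib.Helper1.SpBasic Cfsg.Agent.Lib.Helper2.Symp Matrix in
/-- For a finite field F and m ≥ 7, in the symplectic group Sp_2m(F) of the standard alternating form on F^(2m), the stabiliser of any non-zero subspace W on which the form is non-degenerate and with dim W < m is a maximal subgroup. -/
theorem result {F : Type*} [Field F] [Fintype F] (m : ℕ) (hm : 7 ≤ m) (W : Submodule F (Fin m ⊕ Fin m → F)) (hW0 : W ≠ ⊥) (hW : Cfsg.Geo.IsNondegenerateOn (Cfsg.sympForm m F) W) (hdim : Module.finrank F W < m) : Cfsg.Geo.IsMaximalIn (Cfsg.spGL m F) (Cfsg.Geo.subspaceStabilizer W ⊓ Cfsg.spGL m F) := by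
  classical
  have hnd : ∀ w ∈ W, w ≠ 0 → ∃ x ∈ W, Cfsg.sympForm m F w x ≠ 0 := fun w hw hw0 => (hW w hw hw0).2
  refine ⟨?_, ?_⟩
  · refine lt_of_le_of_ne inf_le_right ?_
    intro h
    obtain ⟨w, hwW, hw0⟩ := (Submodule.ne_bot_iff W).mp hW0
    obtain ⟨v, hv⟩ : ∃ v, v ∉ W := by
      by_contra hcon
      push Not at hcon
      have htop : W = ⊤ := eq_top_iff.mpr fun x _ => hcon x
      rw [htop, finrank_top, Module.finrank_pi, Fintype.card_sum, Fintype.card_fin] at hdim
      omega
    have hv0 : v ≠ 0 := by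
      rintro rfl
      exact hv W.zero_mem
    obtain ⟨g, hg⟩ := Cfsg.Agent.S0271.result m w v hw0 hv0
    have h1 : toGL m F g ∈ Cfsg.spGL m F := by
      rw [← toGL_range]; exact ⟨_, rfl⟩
    rw [← h] at h1
    have h2 := (h1.1 w).mp hwW
    change (g : Matrix (Fin m ⊕ Fin m) (Fin m ⊕ Fin m) F) *ᵥ w ∈ W at h2
    rw [hg] at h2
    exact hv h2
  · intro M hPM hMS
    by_cases hM : M ≤ Cfsg.Geo.subspaceStabilizer W
    · left
      exact le_antisymm (le_inf hM hMS) hPM
    · right
      refine le_antisymm hMS ?_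
      rw [SetLike.not_le_iff_exists] at hM
      obtain ⟨g, hgM, hgW⟩ := hM
      have hg : g ∈ (toGL m F).range := by rw [toGL_range]; exact hMS hgM
      obtain ⟨h, rfl⟩ := hg
      have htop : M.comap (toGL m F) = ⊤ := by
        apply eq_top_of_nondegenerate W hnd (M.comap (toGL m F)) ?_ hW0 hdim h hgM hgW
        intro A hA
        apply hPM
        refine ⟨hA, ?_⟩
        rw [← toGL_range]; exact ⟨_, rfl⟩
      rw [← toGL_range]
      rintro _ ⟨A, rfl⟩
      have : A ∈ M.comap (toGL m F) := by rw [htop]; trivial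
      exact this

end Cfsg.Agent.S5646
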