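import Mathlib
import Cfsg.Statements.S5647
import Cfsg.Agent.Lib.Helper9.SpDecomp6

set_option autoImplicit false
open Cfsg

namespace Cfsg.Agent.S5647

open Cfsg.Agent.H9SpMax Cfsg.Agent.H9SpDecomp Matrix Module in
/-- For a finite field F with q elements and m ≥ 7, let D be a decomposition of F^(2m) into t ≥ 2 pairwise orthogonal subspaces of equal dimension k on each of which the standard alternating form is non-degenerate, spanning F^(2m). Unless k = 2 and q = 2, the elements of Sp_2m(F) permuting the members of D form a maximal subgroup of Sp_2m(F). -/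
theorem result {F : Type*} [Field F] [Fintype F] (m : ℕ) (hm : 7 ≤ m) {t : ℕ} (k : ℕ) (D : Fin t → Submodule F (Fin m ⊕ Fin m → F)) (hD : Cfsg.Geo.IsNondegenerateMDecomposition (Cfsg.sympForm m F) k D) (hex : ¬ (k = 2 ∧ Fintype.card F = 2)) : Cfsg.Geo.IsMaximalIn (Cfsg.spGL m F) (Cfsg.Geo.decompositionStabilizer D ⊓ Cfsg.spGL m F) := by
  classical
  have h := orthDecomp_of hD
  obtain ⟨k', hk', ⟨𝔅⟩⟩ := exists_adapted D k hD
  have hk0 : 0 < k := hD.decomp.pos
  have hfr : ∀ i, finrank F (D i) = k := hD.decomp.finrank_eq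
  have hDne : ∀ i, D i ≠ ⊥ := by
    intro i h0
    have := hfr i
    rw [h0, finrank_bot] at this
    omega
  have hcase : 3 ≤ k ∨ 3 ≤ Fintype.card F := by
    by_cases hk2 : k = 2
    · right
      have h1 : Fintype.card F ≠ 2 := fun hq => hex ⟨hk2, hq⟩
      have h2 : 1 < Fintype.card F := Fintype.one_lt_card
      omega
    · left; omega
  refine ⟨?_, ?_⟩
  · refine lt_of_le_of_ne inf_le_right ?_
    intro heq
    obtain ⟨A, hA⟩ := exists_not_mem_stab h hD.decomp.two_le hDne
    have h1 : toGL m F A ∈ Cfsg.spGL m F := by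
      rw [← toGL_range]; exact ⟨_, rfl⟩
    rw [← heq] at h1
    exact hA h1.1
  · intro M hPM hMS
    by_cases hM : M ≤ Cfsg.Geo.decompositionStabilizer D
    · left
      exact le_antisymm (le_inf hM hMS) hPM
    · right
      refine le_antisymm hMS ?_
      rw [SetLike.not_le_iff_exists] at hM
      obtain ⟨g, hgM, hgW⟩ := hM
      have hg : g ∈ (toGL m F).range := by rw [toGL_range]; exact hMS hgM
      obtain ⟨g', rfl⟩ := hg
      have htop : M.comap (toGL m F) = ⊤ := by
        apply eq_top_of_decomp 𝔅 h hk0 hfr hcase (M.comap (toGL m F)) ?_ g' hgM hgW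
        intro A hA
        apply hPM
        refine ⟨hA, ?_⟩
        rw [← toGL_range]; exact ⟨_, rfl⟩
      rw [← toGL_range]
      rintro _ ⟨A, rfl⟩
      have : A ∈ M.comap (toGL m F) := by rw [htop]; trivial
      exact this

end Cfsg.Agent.S5647
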