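import Mathlib
import Cfsg.Statements.S5648
import Cfsg.Agent.Lib.Helper9.SpDecomp8

set_option autoImplicit false
open Cfsg

namespace Cfsg.Agent.S5648

open Cfsg.Agent.H9SpMax Cfsg.Agent.H9SpDecomp Cfsg.Agent.Lib.Helper1.SpBasic
  Cfsg.Agent.Lib.Helper2.Symp Matrix Module in
/-- Over the field with 2 elements and for m ≥ 7, let D be a decomposition of F^(2m) into t pairwise orthogonal non-degenerate 2-dimensional subspaces for the standard alternating form (t = m ≥ 2). Then the elements of Sp_2m(2) permuting the members of D form a subgroup that is not maximal: some subgroup lies strictly between it and Sp_2m(2). -/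
theorem result {F : Type*} [Field F] [Fintype F] (m : ℕ) (hm : 7 ≤ m) (hq : Fintype.card F = 2) {t : ℕ} (D : Fin t → Submodule F (Fin m ⊕ Fin m → F)) (hD : Cfsg.Geo.IsNondegenerateMDecomposition (Cfsg.sympForm m F) 2 D) : ∃ K : Subgroup (Matrix.GeneralLinearGroup (Fin m ⊕ Fin m) F), Cfsg.Geo.decompositionStabilizer D ⊓ Cfsg.spGL m F < K ∧ K < Cfsg.spGL m F := by
  classical
  have h := orthDecomp_of hD
  obtain ⟨k', hk', ⟨𝔅⟩⟩ := exists_adapted D 2 hD
  have hk1 : k' = 1 := by omega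
  subst hk1
  -- `t = m`
  have htm : t = m := by
    have h1 := Module.finrank_eq_card_basis 𝔅.b
    rw [Module.finrank_pi, Fintype.card_sum, Fintype.card_fin, Fintype.card_prod, Fintype.card_sum,
      Fintype.card_fin, Fintype.card_fin] at h1
    omega
  have ht : 3 ≤ t := by omega
  set i0 : Fin t := ⟨0, by omega⟩ with hi0
  set i1 : Fin t := ⟨1, by omega⟩ with hi1
  set i2 : Fin t := ⟨2, by omega⟩ with hi2
  have h01 : i0 ≠ i1 := by simp [hi0, hi1, Fin.ext_iff]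
  have h02 : i0 ≠ i2 := by simp [hi0, hi2, Fin.ext_iff]
  have h12 : i1 ≠ i2 := by simp [hi1, hi2, Fin.ext_iff]
  have hF01 : ∀ a : F, a = 0 ∨ a = 1 := by
    intro a
    by_contra hcon
    push Not at hcon
    have : ({0, 1, a} : Finset F).card = 3 := by
      rw [Finset.card_insert_of_notMem, Finset.card_insert_of_notMem, Finset.card_singleton]
      · simp [hcon.2.symm]
      · simp [hcon.1.symm]
    have h3 := Finset.card_le_univ ({0, 1, a} : Finset F)
    omega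
  have h2 : (2 : F) = 0 := by
    rcases hF01 2 with h | h
    · exact h
    · exfalso
      have : (1 : F) = 0 := by linear_combination h
      exact one_ne_zero this
  set Q := quadQ 𝔅 with hQ
  set u : Fin m ⊕ Fin m → F := eV 𝔅 i0 + (eV 𝔅 i1 + eV 𝔅 i2) with hu
  set w : Fin m ⊕ Fin m → F := eV 𝔅 i0 + eV 𝔅 i1 with hw
  have hQu : Q u = 1 := by
    rw [hQ, quadQ_eq_card 𝔅 hq, hu, supp_three h h01 h02 h12 (eV_mem 𝔅 i0) (eV_ne_zero 𝔅 i0)
      (eV_mem 𝔅 i1) (eV_ne_zero 𝔅 i1) (eV_mem 𝔅 i2) (eV_ne_zero 𝔅 i2)]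
    push_cast
    linear_combination h2
  have hQw : Q w = 0 := by
    rw [hQ, quadQ_eq_card 𝔅 hq, hw, supp_two h h01 (eV_mem 𝔅 i0) (eV_ne_zero 𝔅 i0)
      (eV_mem 𝔅 i1) (eV_ne_zero 𝔅 i1)]
    push_cast
    exact h2
  have hfu : Cfsg.sympForm m F (fV 𝔅 i0) u = 1 := by
    rw [hu, sympForm_add_right, sympForm_add_right, form_fe, form_fe, form_fe, if_pos rfl,
      if_neg h01, if_neg h02, add_zero, add_zero]
  have hfw : Cfsg.sympForm m F (fV 𝔅 i0) w = 1 := by
    rw [hw, sympForm_add_right, form_fe, form_fe, if_pos rfl, if_neg h01, add_zero]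
  refine ⟨(funStab Q).map (toGL m F), ?_, ?_⟩
  · refine lt_of_le_of_ne ?_ ?_
    · rintro g ⟨hgN, hgS⟩
      have hg : g ∈ (toGL m F).range := by rw [toGL_range]; exact hgS
      obtain ⟨A, rfl⟩ := hg
      refine ⟨A, ?_, rfl⟩
      intro v
      show quadQ 𝔅 _ = quadQ 𝔅 v
      rw [quadQ_eq_card 𝔅 hq, quadQ_eq_card 𝔅 hq, card_supp_of_mem_stab A hgN]
    · intro heq
      have h1 : toGL m F (T u 1) ∈ (funStab Q).map (toGL m F) :=
        ⟨_, T_mem_funStab 𝔅 h hq hQu, rfl⟩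
      rw [← heq] at h1
      obtain ⟨σ, hσ⟩ := h1.1
      have h3 : ((T u (1 : F) : Matrix.symplecticGroup (Fin m) F) :
          Matrix (Fin m ⊕ Fin m) (Fin m ⊕ Fin m) F) *ᵥ fV 𝔅 i0 ∈ D (σ i0) := by
        rw [← hσ i0]
        exact ⟨_, fV_mem 𝔅 i0, rfl⟩
      rw [T_mulVec, one_mul, hfu, one_smul, hu] at h3
      have e : fV 𝔅 i0 + (eV 𝔅 i0 + (eV 𝔅 i1 + eV 𝔅 i2)) =
          (fV 𝔅 i0 + eV 𝔅 i0) + (eV 𝔅 i1 + eV 𝔅 i2) := by abel
      rw [e] at h3
      have h4 := h.supp_card_le_one_of_mem h3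
      have hne : fV 𝔅 i0 + eV 𝔅 i0 ≠ 0 := by
        intro h0
        have : Cfsg.sympForm m F (fV 𝔅 i0) (fV 𝔅 i0 + eV 𝔅 i0) = 1 := by
          rw [sympForm_add_right, form_ff, form_fe, if_pos rfl, zero_add]
        rw [h0, form_zero_right] at this
        exact zero_ne_one this
      rw [supp_three h h01 h02 h12 ((D i0).add_mem (fV_mem 𝔅 i0) (eV_mem 𝔅 i0)) hne
        (eV_mem 𝔅 i1) (eV_ne_zero 𝔅 i1) (eV_mem 𝔅 i2) (eV_ne_zero 𝔅 i2)] at h4
      omega
  · refine lt_of_le_of_ne ?_ ?_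
    · rw [← toGL_range]
      rintro _ ⟨A, -, rfl⟩
      exact ⟨A, rfl⟩
    · intro heq
      have h1 : toGL m F (T w 1) ∈ Cfsg.spGL m F := by
        rw [← toGL_range]; exact ⟨_, rfl⟩
      rw [← heq] at h1
      obtain ⟨A, hA, hAe⟩ := h1
      have hA' : A = T w 1 := toGL_injective hAe
      rw [hA'] at hA
      have h3 := hA (fV 𝔅 i0)
      rw [T_mulVec, one_mul, hfw, one_smul] at h3
      change quadQ 𝔅 _ = quadQ 𝔅 _ at h3
      rw [quadQ_add 𝔅 h h2, ← hQ, hQw, hfw] at h3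
      have : (1 : F) = 0 := by linear_combination h3
      exact one_ne_zero this

end Cfsg.Agent.S5648
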