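import Mathlib
import Cfsg.Statements.S5650
import Cfsg.Agent.Lib.Helper7.SpSubFin

set_option autoImplicit false
open Cfsg

namespace Cfsg.Agent.S5650

open Cfsg.Agent.Lib.Helper7.SpSub Cfsg.Agent.Lib.Helper7.Subg Matrix in
/-- The whole proof of S5650 (same statement as `result`), reduced to `sp_subfield_core` and
`exists_std_structure`. -/
theorem sp_subfield_group_maximal_aux {F : Type*} [Field F] [Fintype F] (m : ℕ) (hm : 7 ≤ m) (F₀ : Subfield F) (r : ℕ) (hr : r.Prime) (hcard : Fintype.card F = Nat.card F₀ ^ r) (P : Matrix.GeneralLinearGroup (Fin m ⊕ Fin m) F) (ζ : F) (hζ : ζ ≠ 0) (hP : Cfsg.Geo.IsFormRationalStructure (Cfsg.sympForm m F) F₀ ζ P) : Cfsg.Geo.IsMaximalIn (Cfsg.spGL m F) (Cfsg.Geo.subfieldSubgroup F₀ P ⊓ Cfsg.spGL m F) := by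
  classical
  obtain ⟨Q, hQ, hform⟩ := exists_std_structure F₀ P ζ hζ hP
  set N₁ : Subgroup (GL (Fin m ⊕ Fin m) F) :=
    (Matrix.GeneralLinearGroup.map (F₀.subtype : F₀ →+* F)).range ⊔ Cfsg.Geo.scalars (Fin m ⊕ Fin m) F
    with hN₁
  set P' : GL (Fin m ⊕ Fin m) F := P * Q with hP'
  have hQN : Q ∈ N₁ := by
    rw [hN₁, ← inN_iff_mem]
    exact ⟨1, one_ne_zero, by rw [one_smul]; exact hQ⟩
  -- the subfield group of `P` is the subfield group of `P'`
  have hmem : ∀ x : GL (Fin m ⊕ Fin m) F,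
      x ∈ Cfsg.Geo.subfieldSubgroup F₀ P ↔ P'⁻¹ * x * P' ∈ N₁ := by
    intro x
    show x ∈ N₁.map (MulAut.conj P).toMonoidHom ↔ _
    rw [Subgroup.mem_map]
    constructor
    · rintro ⟨y, hy, rfl⟩
      simp only [MulEquiv.coe_toMonoidHom, MulAut.conj_apply]
      have : P'⁻¹ * (P * y * P⁻¹) * P' = Q⁻¹ * y * Q := by rw [hP']; group
      rw [this]
      exact N₁.mul_mem (N₁.mul_mem (N₁.inv_mem hQN) hy) hQN
    · intro h
      refine ⟨Q * (P'⁻¹ * x * P') * Q⁻¹, N₁.mul_mem (N₁.mul_mem hQN h) (N₁.inv_mem hQN), ?_⟩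
      simp only [MulEquiv.coe_toMonoidHom, MulAut.conj_apply]
      rw [hP']; group
  -- `P'` is a similitude
  have hsim : ∀ u v : Fin m ⊕ Fin m → F,
      Cfsg.sympForm m F ((P' : Matrix (Fin m ⊕ Fin m) (Fin m ⊕ Fin m) F) *ᵥ u)
        ((P' : Matrix (Fin m ⊕ Fin m) (Fin m ⊕ Fin m) F) *ᵥ v) = ζ⁻¹ * Cfsg.sympForm m F u v := by
    intro u v
    rw [← hform u v, ← mul_assoc, inv_mul_cancel₀ hζ, one_mul]
  have hinvmul : ∀ u : Fin m ⊕ Fin m → F,
      (P' : Matrix (Fin m ⊕ Fin m) (Fin m ⊕ Fin m) F) *ᵥ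
        (((P'⁻¹ : GL (Fin m ⊕ Fin m) F) : Matrix (Fin m ⊕ Fin m) (Fin m ⊕ Fin m) F) *ᵥ u) = u := by
    intro u
    rw [Matrix.mulVec_mulVec, ← Units.val_mul, mul_inv_cancel, Units.val_one, Matrix.one_mulVec]
  have hsim' : ∀ u v : Fin m ⊕ Fin m → F,
      Cfsg.sympForm m F (((P'⁻¹ : GL (Fin m ⊕ Fin m) F) : Matrix (Fin m ⊕ Fin m) (Fin m ⊕ Fin m) F) *ᵥ u)
        (((P'⁻¹ : GL (Fin m ⊕ Fin m) F) : Matrix (Fin m ⊕ Fin m) (Fin m ⊕ Fin m) F) *ᵥ v) =
        ζ * Cfsg.sympForm m F u v := by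
    intro u v
    have := hsim (((P'⁻¹ : GL (Fin m ⊕ Fin m) F) : Matrix (Fin m ⊕ Fin m) (Fin m ⊕ Fin m) F) *ᵥ u)
      (((P'⁻¹ : GL (Fin m ⊕ Fin m) F) : Matrix (Fin m ⊕ Fin m) (Fin m ⊕ Fin m) F) *ᵥ v)
    rw [hinvmul, hinvmul] at this
    rw [this, ← mul_assoc, mul_inv_cancel₀ hζ, one_mul]
  have hSp : ∀ x : GL (Fin m ⊕ Fin m) F, x ∈ Cfsg.spGL m F ↔
      ∀ u v, Cfsg.sympForm m F ((x : Matrix (Fin m ⊕ Fin m) (Fin m ⊕ Fin m) F) *ᵥ u)
        ((x : Matrix (Fin m ⊕ Fin m) (Fin m ⊕ Fin m) F) *ᵥ v) = Cfsg.sympForm m F u v := fun x => Iff.rfl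
  have hconj : ∀ x : GL (Fin m ⊕ Fin m) F, x ∈ Cfsg.spGL m F → P' * x * P'⁻¹ ∈ Cfsg.spGL m F := by
    intro x hx
    rw [hSp] at hx ⊢
    intro u v
    rw [Units.val_mul, Units.val_mul, ← Matrix.mulVec_mulVec, ← Matrix.mulVec_mulVec,
      ← Matrix.mulVec_mulVec, ← Matrix.mulVec_mulVec, hsim, hx, hsim', ← mul_assoc, inv_mul_cancel₀ hζ,
      one_mul]
  have hconj' : ∀ x : GL (Fin m ⊕ Fin m) F, x ∈ Cfsg.spGL m F → P'⁻¹ * x * P' ∈ Cfsg.spGL m F := by
    intro x hx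
    rw [hSp] at hx ⊢
    intro u v
    rw [Units.val_mul, Units.val_mul, ← Matrix.mulVec_mulVec, ← Matrix.mulVec_mulVec,
      ← Matrix.mulVec_mulVec, ← Matrix.mulVec_mulVec, hsim', hx, hsim, ← mul_assoc, mul_inv_cancel₀ hζ,
      one_mul]
  obtain ⟨hlt, hmax⟩ := sp_subfield_core (by omega : 3 ≤ m) F₀ r hr hcard
  refine ⟨?_, ?_⟩
  · -- properness
    refine lt_of_le_of_ne inf_le_right ?_
    intro heq
    apply ne_of_lt hlt
    apply le_antisymm inf_le_right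
    intro x hx
    refine Subgroup.mem_inf.2 ⟨?_, hx⟩
    have h1 : P' * x * P'⁻¹ ∈ Cfsg.spGL m F := hconj x hx
    rw [← heq] at h1
    have h2 := (hmem _).1 h1.1
    have : P'⁻¹ * (P' * x * P'⁻¹) * P' = x := by group
    rwa [this] at h2
  · intro M hHM hMS
    set M' : Subgroup (GL (Fin m ⊕ Fin m) F) := M.comap (MulAut.conj P').toMonoidHom with hM'
    have hM'mem : ∀ x : GL (Fin m ⊕ Fin m) F, x ∈ M' ↔ P' * x * P'⁻¹ ∈ M := by
      intro x
      rw [hM', Subgroup.mem_comap]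
      simp only [MulEquiv.coe_toMonoidHom, MulAut.conj_apply]
    have h1 : N₁ ⊓ Cfsg.spGL m F ≤ M' := by
      intro x hx
      rw [hM'mem]
      apply hHM
      refine Subgroup.mem_inf.2 ⟨?_, hconj x hx.2⟩
      rw [hmem]
      have : P'⁻¹ * (P' * x * P'⁻¹) * P' = x := by group
      rw [this]
      exact hx.1
    have h2 : M' ≤ Cfsg.spGL m F := by
      intro x hx
      rw [hM'mem] at hx
      have := hconj' _ (hMS hx)
      have e : P'⁻¹ * (P' * x * P'⁻¹) * P' = x := by group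
      rwa [e] at this
    rcases hmax M' h1 h2 with h | h
    · left
      apply le_antisymm _ hHM
      intro x hx
      refine Subgroup.mem_inf.2 ⟨?_, hMS hx⟩
      rw [hmem]
      have h3 : P'⁻¹ * x * P' ∈ M' := by
        rw [hM'mem]
        have : P' * (P'⁻¹ * x * P') * P'⁻¹ = x := by group
        rwa [this]
      rw [h] at h3
      exact h3.1
    · right
      apply le_antisymm hMS
      intro x hx
      have h3 : P'⁻¹ * x * P' ∈ M' := by rw [h]; exact hconj' x hx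
      rw [hM'mem] at h3
      have : P' * (P'⁻¹ * x * P') * P'⁻¹ = x := by group
      rwa [this] at h3

/-- For a finite field F, a subfield F₀ with |F| = |F₀| ^ r for a prime r, and m ≥ 7, let P be an invertible matrix and ζ a non-zero scalar such that ζ times the standard alternating form takes values in F₀ on the F₀-span of the columns of P. Then the elements of Sp_2m(F) lying in the subfield group of P (the conjugate by P of the product of GL_2m(F₀) with the scalars) form a maximal subgroup of Sp_2m(F). -/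
theorem result {F : Type*} [Field F] [Fintype F] (m : ℕ) (hm : 7 ≤ m) (F₀ : Subfield F) (r : ℕ) (hr : r.Prime) (hcard : Fintype.card F = Nat.card F₀ ^ r) (P : Matrix.GeneralLinearGroup (Fin m ⊕ Fin m) F) (ζ : F) (hζ : ζ ≠ 0) (hP : Cfsg.Geo.IsFormRationalStructure (Cfsg.sympForm m F) F₀ ζ P) : Cfsg.Geo.IsMaximalIn (Cfsg.spGL m F) (Cfsg.Geo.subfieldSubgroup F₀ P ⊓ Cfsg.spGL m F) := by
  exact sp_subfield_group_maximal_aux m hm F₀ r hr hcard P ζ hζ hP

end Cfsg.Agent.S5650
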