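import Mathlib
import Cfsg.Statements.S5652
import Cfsg.Agent.Lib.Helper9.SpQuad1

set_option autoImplicit false
open Cfsg

namespace Cfsg.Agent.S5652

open Cfsg.Agent.H9SpMax Cfsg.Agent.H9SpQuad Cfsg.Agent.Lib.Helper1.SpBasic
  Cfsg.Agent.Lib.Helper2.Symp Cfsg.Agent.Lib.Helper2.SpIsom Matrix

/-- similarity + symplectic implies isometry -/
theorem isometry_of_similarity {F : Type*} [Field F] (m : ℕ) (hm : 1 ≤ m)
    (Q : (Fin m ⊕ Fin m → F) → F)
    (hpol : ∀ u v, QuadraticMap.polar Q u v = Cfsg.sympForm m F u v)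
    (A : Matrix.symplecticGroup (Fin m) F)
    (hA : toGL m F A ∈ Cfsg.Geo.quadSimilarityGroup Q) :
    ∀ v, Q ((A : Matrix (Fin m ⊕ Fin m) (Fin m ⊕ Fin m) F) *ᵥ v) = Q v := by
  obtain ⟨c, hc⟩ := hA
  have hc' : ∀ v, Q ((A : Matrix (Fin m ⊕ Fin m) (Fin m ⊕ Fin m) F) *ᵥ v) = (c : F) * Q v := hc
  have hne : (Pi.single (Sum.inl ⟨0, by omega⟩) 1 : Fin m ⊕ Fin m → F) ≠ 0 := by
    intro h
    have := congrFun h (Sum.inl ⟨0, by omega⟩)
    rw [Pi.single_eq_same] at this
    exact one_ne_zero this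
  obtain ⟨p, hp⟩ := Cfsg.Agent.S0271.exists_partner m _ hne
  set u : Fin m ⊕ Fin m → F := Pi.single (Sum.inl ⟨0, by omega⟩) 1
  have h1 : Cfsg.sympForm m F ((A : Matrix (Fin m ⊕ Fin m) (Fin m ⊕ Fin m) F) *ᵥ u)
      ((A : Matrix (Fin m ⊕ Fin m) (Fin m ⊕ Fin m) F) *ᵥ p) = (c : F) * Cfsg.sympForm m F u p := by
    rw [← hpol, ← hpol]
    unfold QuadraticMap.polar
    rw [← Matrix.mulVec_add, hc', hc', hc']
    ring
  rw [form_mulVec, hp, mul_one] at h1
  intro v
  rw [hc', ← h1, one_mul]

/-- For a finite field F of characteristic two and m ≥ 7, let Q be a non-degenerate quadratic form on F^(2m) whose polar form is the standard alternating form. Then the elements of Sp_2m(F) that are similarities of Q (they are exactly the isometries of Q) form a maximal subgroup of Sp_2m(F). -/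
theorem result {F : Type*} [Field F] [Fintype F] (m : ℕ) (hm : 7 ≤ m) (heven : ¬ Odd (Fintype.card F)) (Q : (Fin m ⊕ Fin m → F) → F) (hQ : Cfsg.Geo.IsNondegenerateQuadraticForm Q) (hpol : ∀ u v, QuadraticMap.polar Q u v = Cfsg.sympForm m F u v) : Cfsg.Geo.IsMaximalIn (Cfsg.spGL m F) (Cfsg.Geo.quadSimilarityGroup Q ⊓ Cfsg.spGL m F) := by
  classical
  have hm1 : 1 ≤ m := by omega
  have hm2 : 2 ≤ m := by omega
  have hchar : ringChar F = 2 := by
    rw [FiniteField.even_card_iff_char_two]
    rcases Nat.even_or_odd (Fintype.card F) with h | h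
    · exact Nat.even_iff.mp h
    · exact absurd h heven
  have : CharP F 2 := ringChar.of_eq hchar
  have h2 : (2 : F) = 0 := CharTwo.two_eq_zero
  -- the quadratic form
  set Qf : QuadraticForm F (Fin m ⊕ Fin m → F) :=
    { toFun := Q
      toFun_smul := by
        intro a x
        rw [hQ.smul, sq, smul_eq_mul]
      exists_companion' := ⟨sympBilin m F, fun x y => by
        rw [sympBilin_apply, ← hpol]
        unfold QuadraticMap.polar
        ring⟩ } with hQf
  have hQfQ : ∀ v, Qf v = Q v := fun v => rfl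
  have hpol' : ∀ u v, QuadraticMap.polar (⇑Qf) u v = Cfsg.sympForm m F u v := hpol
  -- membership of `toGL A`
  have hmem : ∀ A : Matrix.symplecticGroup (Fin m) F,
      toGL m F A ∈ Cfsg.Geo.quadSimilarityGroup Q ↔
        ∀ v, Qf ((A : Matrix (Fin m ⊕ Fin m) (Fin m ⊕ Fin m) F) *ᵥ v) = Qf v := by
    intro A
    constructor
    · intro hA
      exact isometry_of_similarity m hm1 Q hpol A hA
    · intro hA
      refine ⟨1, fun v => ?_⟩
      rw [Units.val_one, one_mul]
      exact hA v
  refine ⟨?_, ?_⟩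
  · refine lt_of_le_of_ne inf_le_right ?_
    intro h
    have hfr : 3 ≤ Module.finrank F (Fin m ⊕ Fin m → F) := by
      rw [Module.finrank_pi, Fintype.card_sum, Fintype.card_fin]; omega
    obtain ⟨u, hu0, hu⟩ := Cfsg.Agent.Lib.Helper5.exists_singular_of_finrank Qf hfr
    obtain ⟨x, hx⟩ : ∃ x, Cfsg.sympForm m F x u ≠ 0 := by
      by_contra hcon
      push Not at hcon
      exact hu0 (Cfsg.Agent.Lib.Helper1.SpPoint.eq_zero_of_forall_form u hcon)
    have h1 : toGL m F (T u 1) ∈ Cfsg.spGL m F := by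
      rw [← toGL_range]; exact ⟨_, rfl⟩
    rw [← h] at h1
    have h2' := (hmem _).mp h1.1 x
    rw [Q_T Qf hpol', hu, mul_zero, add_zero, mul_one] at h2'
    have : Cfsg.sympForm m F x u ^ 2 = 0 := by
      have := congrArg (fun t => t - Qf x) h2'
      simpa using this
    exact hx (pow_eq_zero_iff (two_ne_zero) |>.mp this)
  · intro M hPM hMS
    by_cases hM : M ≤ Cfsg.Geo.quadSimilarityGroup Q
    · left
      exact le_antisymm (le_inf hM hMS) hPM
    · right
      refine le_antisymm hMS ?_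
      rw [SetLike.not_le_iff_exists] at hM
      obtain ⟨g, hgM, hgW⟩ := hM
      have hg : g ∈ (toGL m F).range := by rw [toGL_range]; exact hMS hgM
      obtain ⟨h, rfl⟩ := hg
      have htop : M.comap (toGL m F) = ⊤ := by
        apply eq_top_of_quad Qf hpol' h2 hm2 (M.comap (toGL m F)) ?_ h hgM
        · intro hcon
          exact hgW ((hmem h).mpr hcon)
        · intro A hA
          apply hPM
          refine ⟨(hmem A).mpr hA, ?_⟩
          rw [← toGL_range]; exact ⟨_, rfl⟩
      rw [← toGL_range]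
      rintro _ ⟨A, rfl⟩
      have : A ∈ M.comap (toGL m F) := by rw [htop]; trivial
      exact this

end Cfsg.Agent.S5652
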