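import Mathlib
import Cfsg.Statements.S5653
import Cfsg.Agent.Lib.Helper9.SUMax3

set_option autoImplicit false
open Cfsg

namespace Cfsg.Agent.S5653

open Module Cfsg.Agent.Lib.Helper2 Cfsg.Agent.Lib.Helper2.UT Cfsg.Agent.Lib.Helper2.IsomDecomp
  Cfsg.Agent.Lib.Helper2.HermDecomp Cfsg.Agent.Lib.Helper2.HermFrames
  Cfsg.Agent.Lib.Helper5.PSLCoset Cfsg.Agent.Lib.Helper2.GUIsom Cfsg.Agent.H9SUMax in
/-- Let F be the field with q² elements and n ≥ 13, and let SU_n(q) be the group of matrices of determinant one preserving the standard unitary form Σ u_i v_i^q on F^n (the intersection of the unitary group GU_n with the kernel of the determinant). The elements of SU_n(q) stabilising a non-zero subspace on which the form vanishes identically form a maximal subgroup of SU_n(q). -/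
theorem result {F : Type*} [Field F] [Fintype F] (n q : ℕ) (hF : Fintype.card F = q ^ 2) (hn : 13 ≤ n) (W : Submodule F (Fin n → F)) (hW0 : W ≠ ⊥) (hW : Cfsg.Geo.IsTotallySingularFor (Cfsg.hermForm n F q) W) : Cfsg.Geo.IsMaximalIn (Cfsg.GU n F q ⊓ Cfsg.Geo.specialLinear (Fin n) F) (Cfsg.Geo.subspaceStabilizer W ⊓ (Cfsg.GU n F q ⊓ Cfsg.Geo.specialLinear (Fin n) F)) := by
  classical
  obtain ⟨σ, hσ, hσq⟩ := exists_sigma hF
  have hσ2 := WittHerm.sigma_sigma hσ
  have hq2 : 2 ≤ q := Cfsg.Agent.Lib.Helper1.HermCount.two_le_q hF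
  have h := isHerm_hermForm (F := F) n q σ hσ2 hσq
  have hnd : ∀ v : Fin n → F, (∀ w, Cfsg.hermForm n F q v w = 0) → v = 0 :=
    fun v hv => hermForm_nondeg n q (by omega) v hv
  have hdim : finrank F (Fin n → F) = n := Module.finrank_fin_fun F
  apply isMaximalIn_of (Cfsg.Geo.subspaceStabilizer W) (fun g => ∀ v, v ∈ W ↔ g v ∈ W)
    (fun g => Iff.rfl)
  · -- an element of `SU` not stabilising `W`
    obtain ⟨w₀, hw₀, hw₀0⟩ := Submodule.exists_mem_ne_zero_of_ne_bot hW0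
    obtain ⟨x, hxx, hwx⟩ := exists_hyp_partner hσ h hnd w₀ hw₀0 (hW w₀ hw₀ w₀ hw₀)
    have hx0 : x ≠ 0 := by
      intro h0
      rw [h0, h.zero_right] at hwx
      exact zero_ne_one hwx
    obtain ⟨t, ht, htw⟩ := exists_T_map_iso hσ h hnd (by omega) (hW w₀ hw₀ w₀ hw₀) hxx hw₀0 hx0
    refine ⟨t, T_le_isom h ht, det_of_mem_T h ht, ?_⟩
    intro hP
    have h1 := (hP w₀).1 hw₀
    rw [htw] at h1
    have := hW w₀ hw₀ x h1
    rw [hwx] at this
    exact one_ne_zero this
  · intro M' hM'G hPM g₀ hg₀ hg₀P g hg hdet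
    obtain ⟨w₀, hw₀, hgw⟩ : ∃ w₀ ∈ W, g₀ w₀ ∉ W := by
      by_contra hcon
      push Not at hcon
      exact hg₀P (mem_iff_of_forall g₀ W hcon)
    exact ts_main hσ h hnd (by omega) W hW M' hM'G
      (fun g hg hdet hgW => hPM g hg hdet (mem_iff_of_forall g W hgW)) hg₀ hw₀ hgw hg hdet

end Cfsg.Agent.S5653
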