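import Mathlib
import Cfsg.Statements.S5654
import Cfsg.Agent.Lib.Helper9.SUMax3
import Cfsg.Agent.Lib.Helper9.SUMax5

set_option autoImplicit false
open Cfsg

namespace Cfsg.Agent.S5654

open Module Cfsg.Agent.Lib.Helper2 Cfsg.Agent.Lib.Helper2.UT Cfsg.Agent.Lib.Helper2.IsomDecomp
  Cfsg.Agent.Lib.Helper2.HermDecomp Cfsg.Agent.Lib.Helper2.HermFrames
  Cfsg.Agent.Lib.Helper5.PSLCoset Cfsg.Agent.Lib.Helper2.GUIsom Cfsg.Agent.H9SUMax in
/-- Let F be the field with q² elements and n ≥ 13. In SU_n(q) (determinant-one isometries of the standard unitary form on F^n) the stabiliser of a non-zero subspace W on which the form is non-degenerate and with 2 dim W < n is a maximal subgroup. -/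
theorem result {F : Type*} [Field F] [Fintype F] (n q : ℕ) (hF : Fintype.card F = q ^ 2) (hn : 13 ≤ n) (W : Submodule F (Fin n → F)) (hW0 : W ≠ ⊥) (hW : Cfsg.Geo.IsNondegenerateOn (Cfsg.hermForm n F q) W) (hdim : 2 * Module.finrank F W < n) : Cfsg.Geo.IsMaximalIn (Cfsg.GU n F q ⊓ Cfsg.Geo.specialLinear (Fin n) F) (Cfsg.Geo.subspaceStabilizer W ⊓ (Cfsg.GU n F q ⊓ Cfsg.Geo.specialLinear (Fin n) F)) := by
  classical
  obtain ⟨σ, hσ, hσq⟩ := exists_sigma hF
  have hσ2 := WittHerm.sigma_sigma hσ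
  have hq2 : 2 ≤ q := Cfsg.Agent.Lib.Helper1.HermCount.two_le_q hF
  have h := isHerm_hermForm (F := F) n q σ hσ2 hσq
  have hnd : ∀ v : Fin n → F, (∀ w, Cfsg.hermForm n F q v w = 0) → v = 0 :=
    fun v hv => hermForm_nondeg n q (by omega) v hv
  have hdimV : finrank F (Fin n → F) = n := Module.finrank_fin_fun F
  have hWnd : ∀ u ∈ W, (∀ v ∈ W, Cfsg.hermForm n F q u v = 0) → u = 0 := by
    intro u hu hu'
    by_contra hu0
    obtain ⟨x, hx, hne⟩ := (hW u hu hu0).2
    exact hne (hu' x hx)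
  have hfr := finrank_orthoCompl hσ h hnd W
  have hd := orthoDecomp hσ h W hWnd
  have hUnd := nondeg_orthoCompl h W hd hnd
  have hU4 : 4 ≤ finrank F (orthoCompl h W) := by omega
  have hlt : finrank F W < finrank F (orthoCompl h W) := by omega
  apply isMaximalIn_of (Cfsg.Geo.subspaceStabilizer W) (fun g => ∀ v, v ∈ W ↔ g v ∈ W)
    (fun g => Iff.rfl)
  · -- an element of `SU` not stabilising `W`
    obtain ⟨w₀, hw₀, hw₀0⟩ := Submodule.exists_mem_ne_zero_of_ne_bot hW0
    obtain ⟨e', f', hp⟩ := exists_hypPair (V := ↥(orthoCompl h W))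
      (H := res (Cfsg.hermForm n F q) (orthoCompl h W)) hσ (isHerm_restrict h _)
      (nondeg_res hUnd) (by omega)
    have he0 : (e' : Fin n → F) ≠ 0 := by
      intro h0
      have := hp.uv
      have e1 : Cfsg.hermForm n F q (e' : Fin n → F) (f' : Fin n → F) = 1 := this
      rw [h0, h.zero_left] at e1
      exact zero_ne_one e1
    have hee : Cfsg.hermForm n F q (e' : Fin n → F) (e' : Fin n → F) = 0 := hp.uu
    have hxW : w₀ + (e' : Fin n → F) ∉ W := by
      intro hmem
      have h1 : (e' : Fin n → F) ∈ W := by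
        have := W.sub_mem hmem hw₀
        rwa [add_sub_cancel_left] at this
      have h2 : (e' : Fin n → F) ∈ W ⊓ orthoCompl h W := ⟨h1, e'.2⟩
      rw [hd.compl.inf_eq_bot] at h2
      exact he0 ((Submodule.mem_bot F).1 h2)
    have hx0 : w₀ + (e' : Fin n → F) ≠ 0 := by
      intro h0
      apply hxW
      rw [h0]
      exact W.zero_mem
    have hwe : Cfsg.hermForm n F q w₀ (e' : Fin n → F) = 0 := e'.2 w₀ hw₀
    have hew : Cfsg.hermForm n F q (e' : Fin n → F) w₀ = 0 := by
      rw [h.symm w₀ (e' : Fin n → F), hwe, map_zero]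
    have hnorm : Cfsg.hermForm n F q w₀ w₀ =
        Cfsg.hermForm n F q (w₀ + (e' : Fin n → F)) (w₀ + (e' : Fin n → F)) := by
      rw [h.add_left, h.add_right, h.add_right, hwe, hew, hee]
      ring
    obtain ⟨t, ht, htw⟩ := exists_T_map_of_norm_eq hσ h hnd (by omega) hw₀0 hx0 hnorm
    refine ⟨t, T_le_isom h ht, det_of_mem_T h ht, ?_⟩
    intro hP
    have h1 := (hP w₀).1 hw₀
    rw [htw] at h1
    exact hxW h1
  · intro M' hM'G hPM g₀ hg₀ hg₀P g hg hdet
    have hns : ¬ ∀ v ∈ W, g₀ v ∈ W := fun hcon => hg₀P (mem_iff_of_forall g₀ W hcon)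
    exact nd_main hσ h hnd W hWnd hU4 M' hM'G
      (fun g hg hdet hgW => hPM g hg hdet (mem_iff_of_forall g W hgW)) (by omega) hg₀ hns hlt
      hg hdet

end Cfsg.Agent.S5654
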