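import Mathlib
import Cfsg.Statements.S5656
import Cfsg.Agent.Lib.Helper9.SUDec2

set_option autoImplicit false
open Cfsg

namespace Cfsg.Agent.S5656

open Module Cfsg.Agent.Lib.Helper2 Cfsg.Agent.Lib.Helper2.UT Cfsg.Agent.Lib.Helper2.IsomDecomp
  Cfsg.Agent.Lib.Helper2.HermDecomp Cfsg.Agent.Lib.Helper2.HermFrames
  Cfsg.Agent.Lib.Helper5.PSLCoset Cfsg.Agent.Lib.Helper2.GUIsom Cfsg.Agent.H9SUMax in
/-- Let F be the field with 4 elements (q = 2) and n ≥ 13. Let D be a decomposition of F^n into t pairwise orthogonal 2-dimensional subspaces, each non-degenerate for the standard unitary form Σ u_i v_i². Then the elements of SU_n(2) permuting the members of D form a subgroup that is not maximal: some subgroup lies strictly between it and SU_n(2). -/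
theorem result {F : Type*} [Field F] [Fintype F] (n : ℕ) (hF : Fintype.card F = 4) (hn : 13 ≤ n) {t : ℕ} (D : Fin t → Submodule F (Fin n → F)) (hD : Cfsg.Geo.IsNondegenerateMDecomposition (Cfsg.hermForm n F 2) 2 D) : ∃ K : Subgroup (Matrix.GeneralLinearGroup (Fin n) F), Cfsg.Geo.decompositionStabilizer D ⊓ (Cfsg.GU n F 2 ⊓ Cfsg.Geo.specialLinear (Fin n) F) < K ∧ K < (Cfsg.GU n F 2 ⊓ Cfsg.Geo.specialLinear (Fin n) F) := by
  classical
  have hF' : Fintype.card F = 2 ^ 2 := by rw [hF]; norm_num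
  obtain ⟨σ, hσ, hσq⟩ := exists_sigma hF'
  have hσ2 := WittHerm.sigma_sigma hσ
  have h := isHerm_hermForm (F := F) n 2 σ hσ2 hσq
  have hcoe : ∀ g : GL (Fin n) F,
      ((glLin n F g : (Fin n → F) ≃ₗ[F] (Fin n → F)) : (Fin n → F) →ₗ[F] (Fin n → F)) =
      Matrix.toLin' (g : Matrix (Fin n) (Fin n) F) := by
    intro g
    apply LinearMap.ext
    intro x
    rw [Matrix.toLin'_apply]
    rfl
  have hDnd : ∀ i, ∀ u ∈ D i, (∀ v ∈ D i, Cfsg.hermForm n F 2 u v = 0) → u = 0 := by
    intro i u hu hu'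
    by_contra hu0
    obtain ⟨x, hx, hne⟩ := (hD.nondegenerate i u hu hu0).2
    exact hne (hu' x hx)
  obtain ⟨⟨g₁, hg₁i, hg₁d, hg₁S, hg₁P⟩, ⟨g₂, hg₂i, hg₂d, hg₂S⟩⟩ :=
    dec22_between hF hσ hσq h D hD.decomp.two_le hD.decomp.finrank_eq hDnd
      (fun i j hij => hD.orthogonal i j hij)
  refine ⟨(setStab (anisoSet (Cfsg.hermForm n F 2) D)).comap (glLin n F).toMonoidHom ⊓
    (Cfsg.GU n F 2 ⊓ Cfsg.Geo.specialLinear (Fin n) F), ?_, ?_⟩
  · apply lt_of_le_of_ne
    · intro x hx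
      refine Subgroup.mem_inf.2 ⟨?_, hx.2⟩
      rw [Subgroup.mem_comap]
      apply mem_setStab_of_perm D hx.2.1
      obtain ⟨π, hπ⟩ := hx.1
      refine ⟨π, fun i => ?_⟩
      have : ((glLin n F).toMonoidHom x) = glLin n F x := rfl
      rw [this, hcoe]
      exact hπ i
    · intro heq
      have h1 : (glLin n F).symm g₁ ∈
          (setStab (anisoSet (Cfsg.hermForm n F 2) D)).comap (glLin n F).toMonoidHom ⊓
          (Cfsg.GU n F 2 ⊓ Cfsg.Geo.specialLinear (Fin n) F) := by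
        refine Subgroup.mem_inf.2 ⟨?_, Subgroup.mem_inf.2 ⟨?_, ?_⟩⟩
        · rw [Subgroup.mem_comap]
          have : ((glLin n F).toMonoidHom ((glLin n F).symm g₁)) = g₁ :=
            (glLin n F).apply_symm_apply g₁
          rw [this]
          exact hg₁S
        · rw [mem_GU_iff, MulEquiv.apply_symm_apply]; exact hg₁i
        · rw [mem_specialLinear_iff, MulEquiv.apply_symm_apply]; exact hg₁d
      rw [← heq] at h1
      apply hg₁P
      obtain ⟨π, hπ⟩ := (Subgroup.mem_inf.1 h1).1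
      refine ⟨π, fun i => ?_⟩
      have := hπ i
      rw [← hcoe, MulEquiv.apply_symm_apply] at this
      exact this
  · apply lt_of_le_of_ne inf_le_right
    intro heq
    have h1 : (glLin n F).symm g₂ ∈ Cfsg.GU n F 2 ⊓ Cfsg.Geo.specialLinear (Fin n) F := by
      refine Subgroup.mem_inf.2 ⟨?_, ?_⟩
      · rw [mem_GU_iff, MulEquiv.apply_symm_apply]; exact hg₂i
      · rw [mem_specialLinear_iff, MulEquiv.apply_symm_apply]; exact hg₂d
    rw [← heq] at h1
    apply hg₂S
    have h2 := (Subgroup.mem_inf.1 h1).1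
    rw [Subgroup.mem_comap] at h2
    have : ((glLin n F).toMonoidHom ((glLin n F).symm g₂)) = g₂ :=
      (glLin n F).apply_symm_apply g₂
    rw [this] at h2
    exact h2

end Cfsg.Agent.S5656
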