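import Mathlib
import Cfsg.Statements.S5674
import Cfsg.Agent.Lib.Helper9.OrthMax5
import Cfsg.Agent.Lib.Helper5.QuadOdd

set_option autoImplicit false
open Cfsg
open Module

namespace Cfsg.Agent.S5674

/-- Let F be a finite field of odd order, m ≥ 6, Q the standard quadratic form x₀² + Σ x_i y_i on F^(2m+1) and Ω the commutator subgroup of its isometry group inside GL_(2m+1)(F). The elements of Ω stabilising a non-zero subspace on which Q vanishes form a maximal subgroup of Ω. -/
theorem result {F : Type*} [Field F] [Fintype F] (hodd : Odd (Fintype.card F)) (m : ℕ) (hm : 6 ≤ m) (W : Submodule F (Unit ⊕ (Fin m ⊕ Fin m) → F)) (hW0 : W ≠ ⊥) (hW : Cfsg.Geo.IsTotallySingularQuad (Cfsg.quadFormOdd m F) W) : Cfsg.Geo.IsMaximalIn (Cfsg.Geo.omegaGL (Cfsg.quadFormOdd m F)) (Cfsg.Geo.subspaceStabilizer W ⊓ Cfsg.Geo.omegaGL (Cfsg.quadFormOdd m F)) := by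
  have h2 : (2 : F) ≠ 0 := by
    intro h
    have hchar : ringChar F = 2 := by
      have h3 : ((2 : ℕ) : F) = 0 := by exact_mod_cast h
      have h4 := (ringChar.spec F 2).1 h3
      have h5 : ringChar F ≠ 1 := by
        intro h1
        haveI := ringChar.of_eq h1
        exact CharP.ringChar_ne_one h1
      exact (Nat.dvd_prime Nat.prime_two).1 h4 |>.resolve_left h5
    have heven : Even (Fintype.card F) := by
      have := FiniteField.even_card_of_char_two hchar
      rw [Nat.even_iff]
      exact this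
    exact (Nat.not_even_iff_odd.2 hodd) heven
  have hnd := Cfsg.Agent.Lib.Helper5.QuadOdd.QO_nondeg (F := F) h2 m
  rw [← Cfsg.Agent.Lib.Helper5.QuadOdd.QO_coe] at hW ⊢
  have hcard : Fintype.card (Unit ⊕ (Fin m ⊕ Fin m)) = 2 * m + 1 := by
    simp only [Fintype.card_sum, Fintype.card_unit, Fintype.card_fin]; omega
  apply Cfsg.Agent.H9Orth.ts_stab_maximal' hnd (by rw [hcard]; omega) W hW0 hW
  have hk := Cfsg.Agent.H9Orth.ts_finrank_le hnd W hW
  rw [hcard] at hk ⊢
  by_cases h : 2 * finrank F W + 3 ≤ 2 * m + 1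
  · left; exact h
  · right
    intro U hU hWU
    have hU2 := Cfsg.Agent.H9Orth.ts_finrank_le hnd U hU
    rw [hcard] at hU2
    omega

end Cfsg.Agent.S5674
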