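import Mathlib
import Cfsg.Statements.S5675
import Cfsg.Agent.Lib.Helper9.OrthMax13
import Cfsg.Agent.Lib.Helper5.QuadOdd

set_option autoImplicit false
open Cfsg
open Module

namespace Cfsg.Agent.S5675

/-- Let F be a finite field of odd order q, m ≥ 6, Q the standard quadratic form on F^(2m+1) and Ω the commutator subgroup of its isometry group. Let W be a non-zero subspace of even dimension on which the polar form of Q is non-degenerate; exclude the case q = 3, dim W = 2 with Q vanishing on some line of W (a plus-type plane). Then the elements of Ω stabilising W (equivalently, stabilising its orthogonal complement, of odd dimension) form a maximal subgroup of Ω. -/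
theorem result {F : Type*} [Field F] [Fintype F] (hodd : Odd (Fintype.card F)) (m : ℕ) (hm : 6 ≤ m) (W : Submodule F (Unit ⊕ (Fin m ⊕ Fin m) → F)) (hW0 : W ≠ ⊥) (hev : Even (Module.finrank F W)) (hW : Cfsg.Geo.IsNondegenerateOn (QuadraticMap.polar (Cfsg.quadFormOdd m F)) W) (hex : ¬ (Fintype.card F = 3 ∧ Module.finrank F W = 2 ∧ Cfsg.Geo.IsPlusTypeOn (Cfsg.quadFormOdd m F) W)) : Cfsg.Geo.IsMaximalIn (Cfsg.Geo.omegaGL (Cfsg.quadFormOdd m F)) (Cfsg.Geo.subspaceStabilizer W ⊓ Cfsg.Geo.omegaGL (Cfsg.quadFormOdd m F)) := by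
  have h2 : (2 : F) ≠ 0 := by
    intro h
    have hchar : ringChar F = 2 := by
      have h3 : ((2 : ℕ) : F) = 0 := by exact_mod_cast h
      have h4 := (ringChar.spec F 2).1 h3
      have h5 : ringChar F ≠ 1 := by
        intro h1
        haveI := ringChar.of_eq h1
        exact CharP.ringChar_ne_one h1
      exact (Nat.dvd_prime Nat.prime_two).1 h4 |>.resolve_left h5
    have heven : Even (Fintype.card F) := by
      have := FiniteField.even_card_of_char_two hchar
      rw [Nat.even_iff]
      exact this
    exact (Nat.not_even_iff_odd.2 hodd) heven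
  have hnd := Cfsg.Agent.Lib.Helper5.QuadOdd.QO_nondeg (F := F) h2 m
  rw [← Cfsg.Agent.Lib.Helper5.QuadOdd.QO_coe] at hW hex ⊢
  have hcard : Fintype.card (Unit ⊕ (Fin m ⊕ Fin m)) = 2 * m + 1 := by
    simp only [Fintype.card_sum, Fintype.card_unit, Fintype.card_fin]; omega
  have hW1 : W ≠ ⊤ := by
    rintro rfl
    rw [finrank_top, Module.finrank_fintype_fun_eq_card, hcard] at hev
    rcases hev with ⟨r, hr⟩
    omega
  apply Cfsg.Agent.H9Orth.nondeg_stab_maximal' hnd (by rw [hcard]; omega) W hW0 hW1 _ hW
  · intro hq U hU2 hUnd hUpl hUW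
    rw [hcard] at hUW
    rcases hUW with rfl | ⟨-, hsum⟩
    · apply hex
      refine ⟨?_, hU2, hUpl⟩
      have h1 : 1 < Fintype.card F := Fintype.one_lt_card
      rcases hodd with ⟨r, hr⟩
      omega
    · rcases hev with ⟨r, hr⟩
      omega
  · rw [hcard]
    rcases hev with ⟨r, hr⟩
    omega

end Cfsg.Agent.S5675
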