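import Mathlib
import Cfsg.Statements.S5677
import Cfsg.Agent.Lib.Helper6.ODecMain
import Cfsg.Agent.Lib.Helper9.OrthNM9
import Cfsg.Agent.Lib.Helper5.QuadOdd

set_option autoImplicit false
open Cfsg

namespace Cfsg.Agent.S5677

/-- Let F be a finite field of odd order q, m ≥ 6, Q the standard quadratic form on F^(2m+1) and Ω the commutator subgroup of its isometry group. Let D be a decomposition of F^(2m+1) into t ≥ 2 pairwise orthogonal, pairwise Q-isometric subspaces of equal dimension k > 1 on which the polar form is non-degenerate. Unless q = 3 and k = 3, the elements of Ω permuting the members of D form a maximal subgroup of Ω. -/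
theorem result {F : Type*} [Field F] [Fintype F] (hodd : Odd (Fintype.card F)) (m : ℕ) (hm : 6 ≤ m) {t : ℕ} (k : ℕ) (hk : 1 < k) (D : Fin t → Submodule F (Unit ⊕ (Fin m ⊕ Fin m) → F)) (hD : Cfsg.Geo.IsOrthogonalMDecomposition (Cfsg.quadFormOdd m F) k D) (hex : ¬ (Fintype.card F = 3 ∧ k = 3)) : Cfsg.Geo.IsMaximalIn (Cfsg.Geo.omegaGL (Cfsg.quadFormOdd m F)) (Cfsg.Geo.decompositionStabilizer D ⊓ Cfsg.Geo.omegaGL (Cfsg.quadFormOdd m F)) := by
  have h2 : (2 : F) ≠ 0 := by
    intro h
    have hchar : ringChar F = 2 := by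
      have h3 : ((2 : ℕ) : F) = 0 := by exact_mod_cast h
      have h4 := (ringChar.spec F 2).1 h3
      have h5 : ringChar F ≠ 1 := by
        intro h1
        haveI := ringChar.of_eq h1
        exact CharP.ringChar_ne_one h1
      exact (Nat.dvd_prime Nat.prime_two).1 h4 |>.resolve_left h5
    have heven : Even (Fintype.card F) := by
      have := FiniteField.even_card_of_char_two hchar
      rw [Nat.even_iff]
      exact this
    exact (Nat.not_even_iff_odd.2 hodd) heven
  have hnd := Cfsg.Agent.Lib.Helper5.QuadOdd.QO_nondeg (F := F) h2 m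
  have hcard : Fintype.card (Unit ⊕ (Fin m ⊕ Fin m)) = 2 * m + 1 := by
    simp only [Fintype.card_sum, Fintype.card_unit, Fintype.card_fin]; omega
  have htk := Cfsg.Agent.H9Orth.decomp_card D hD.decomp.decomp
  rw [hcard] at htk
  have hk3 : 3 ≤ k := by
    by_contra hlt
    have hk2 : k = 2 := by omega
    rw [hk2] at htk
    omega
  have hq1 : 1 < Fintype.card F := Fintype.one_lt_card
  have hcase : k = 3 → 5 ≤ Fintype.card F := by
    intro hk3'
    have h3 : Fintype.card F ≠ 3 := fun h => hex ⟨h, hk3'⟩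
    obtain ⟨r, hr⟩ := hodd
    omega
  rw [← Cfsg.Agent.Lib.Helper5.QuadOdd.QO_coe] at hD ⊢
  exact Cfsg.Agent.Lib.Helper6.ODec.decomp_stab_maximal hnd h2 (by rw [hcard]; omega) hk3 hD hcase

end Cfsg.Agent.S5677
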