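import Mathlib
import Cfsg.Statements.S5683
import Cfsg.Agent.Lib.Helper7.OSubFin
import Cfsg.Agent.Lib.Helper5.QuadOdd

set_option autoImplicit false
open Cfsg

namespace Cfsg.Agent.S5683

open Cfsg.Agent.Lib.Helper7.OSub Cfsg.Agent.Lib.Helper5.QuadOdd in
/-- The whole proof of S5683 (same statement as `result`), reduced to `osub_max`. -/
theorem orthogonal_odd_subfield_group_maximal_aux {F : Type*} [Field F] [Fintype F] (hodd : Odd (Fintype.card F)) (m : ℕ) (hm : 6 ≤ m) (F₀ : Subfield F) (r : ℕ) (hr : r.Prime) (hcard : Fintype.card F = Nat.card F₀ ^ r) (P : Matrix.GeneralLinearGroup (Unit ⊕ (Fin m ⊕ Fin m)) F) (hP : Cfsg.Geo.IsQuadFormRationalStructure (Cfsg.quadFormOdd m F) F₀ P) : Cfsg.Geo.IsMaximalIn (Cfsg.Geo.omegaGL (Cfsg.quadFormOdd m F)) (Cfsg.Geo.subfieldSubgroup F₀ P ⊓ Cfsg.Geo.omegaGL (Cfsg.quadFormOdd m F)) := by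
  classical
  have h2 : (2 : F) ≠ 0 := by
    have hch : ringChar F ≠ 2 := by
      intro h
      have h5 := (FiniteField.even_card_iff_char_two).1 h
      rw [Nat.odd_iff] at hodd
      omega
    exact Ring.two_ne_zero hch
  have hn : 13 ≤ Fintype.card (Unit ⊕ (Fin m ⊕ Fin m)) := by
    simp only [Fintype.card_sum, Fintype.card_unit, Fintype.card_fin]
    omega
  have hP' : Cfsg.Geo.IsQuadFormRationalStructure
      (fun v : Unit ⊕ (Fin m ⊕ Fin m) → F => (1 : F) * QO m F v) F₀ P := by
    intro u hu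
    have := hP u hu
    simp only [one_mul, QO_apply]
    exact this
  have h := osub_max (QO m F) (QO_nondeg h2 m) hn F₀ r hr hcard P 1 one_ne_zero hP'
  rw [QO_coe] at h
  exact h

/-- Let F be a finite field of odd order, m ≥ 6, Q the standard quadratic form on F^(2m+1) and Ω the commutator subgroup of its isometry group. Let F₀ be a subfield with |F| = |F₀| ^ r for a prime r and P an invertible matrix such that Q takes values in F₀ on the F₀-span of the columns of P. Then the elements of Ω lying in the subfield group of P (the conjugate by P of the product of GL_(2m+1)(F₀) with the scalars) form a maximal subgroup of Ω. -/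
theorem result {F : Type*} [Field F] [Fintype F] (hodd : Odd (Fintype.card F)) (m : ℕ) (hm : 6 ≤ m) (F₀ : Subfield F) (r : ℕ) (hr : r.Prime) (hcard : Fintype.card F = Nat.card F₀ ^ r) (P : Matrix.GeneralLinearGroup (Unit ⊕ (Fin m ⊕ Fin m)) F) (hP : Cfsg.Geo.IsQuadFormRationalStructure (Cfsg.quadFormOdd m F) F₀ P) : Cfsg.Geo.IsMaximalIn (Cfsg.Geo.omegaGL (Cfsg.quadFormOdd m F)) (Cfsg.Geo.subfieldSubgroup F₀ P ⊓ Cfsg.Geo.omegaGL (Cfsg.quadFormOdd m F)) := by
  exact orthogonal_odd_subfield_group_maximal_aux hodd m hm F₀ r hr hcard P hP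

end Cfsg.Agent.S5683
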