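import Mathlib
import Cfsg.Statements.S5687
import Cfsg.Agent.Lib.Helper9.OrthMax5

set_option autoImplicit false
open Cfsg
open Module

namespace Cfsg.Agent.S5687

/-- Let F be a finite field with q elements, n ≥ 13 even, Q a non-degenerate quadratic form on F^n of minus type (no subspace of dimension n/2 is totally singular), and Ω the commutator subgroup of the isometry group of Q, viewed inside GL_n(F). The elements of Ω stabilising a non-zero subspace on which Q vanishes form a maximal subgroup of Ω. -/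
theorem result {F : Type*} [Field F] [Fintype F] {n : ℕ} (hn : 13 ≤ n) (heven : Even n) (Q : (Fin n → F) → F) (hQ : Cfsg.Geo.IsNondegenerateQuadraticForm Q) (hminus : ¬ Cfsg.Geo.IsPlusTypeOn Q ⊤) (W : Submodule F (Fin n → F)) (hW0 : W ≠ ⊥) (hW : Cfsg.Geo.IsTotallySingularQuad Q W) : Cfsg.Geo.IsMaximalIn (Cfsg.Geo.omegaGL Q) (Cfsg.Geo.subspaceStabilizer W ⊓ Cfsg.Geo.omegaGL Q) := by
  obtain ⟨Q', rfl, hnd⟩ := Cfsg.Agent.H9Orth.exists_quadForm Q hQ
  have hcard : Fintype.card (Fin n) = n := Fintype.card_fin n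
  have hfin : finrank F (Fin n → F) = n := by
    rw [Module.finrank_fintype_fun_eq_card, hcard]
  apply Cfsg.Agent.H9Orth.ts_stab_maximal' hnd (by rw [hcard]; omega) W hW0 hW
  have hk := Cfsg.Agent.H9Orth.ts_finrank_le hnd W hW
  rw [hcard] at hk ⊢
  have hnot : ∀ U : Submodule F (Fin n → F), (∀ u ∈ U, Q' u = 0) → 2 * finrank F U ≠ n := by
    intro U hU h2
    apply hminus
    refine ⟨U, le_top, hU, ?_⟩
    rw [finrank_top, hfin]
    exact h2
  by_cases h : 2 * finrank F W + 3 ≤ n
  · left; exact h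
  · right
    intro U hU hWU
    have hU2 := Cfsg.Agent.H9Orth.ts_finrank_le hnd U hU
    rw [hcard] at hU2
    have hU3 := hnot U hU
    have hW3 := hnot W hW
    obtain ⟨r, hr⟩ := heven
    omega

end Cfsg.Agent.S5687
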