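import Cfsg.Statements.S5713
import Cfsg.Agent.Lib.Helper9.MinDeg5

set_option autoImplicit false
open scoped MatrixGroups
open Cfsg

namespace Cfsg.Agent.S5713

open Cfsg.Agent.Lib.Helper9.MinDeg

/-- A classification-free minimal-degree bound. Let G be a finite group acting faithfully and primitively on a finite set Ω with n elements, and suppose that the image of G in the symmetric group on Ω does not contain the alternating group on Ω. Then every non-identity element of G moves at least (√n − 1)/2 points of Ω, that is, it fixes at most n − (√n − 1)/2 points. -/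
theorem result {G Ω : Type*} [Group G] [Finite G] [MulAction G Ω] [FaithfulSMul G Ω] [Fintype Ω] [DecidableEq Ω]
    (hprim : MulAction.IsPreprimitive G Ω)
    (hA : ¬ alternatingGroup Ω ≤ (MulAction.toPermHom G Ω).range)
    (g : G) (hg : g ≠ 1) :
    (Real.sqrt (Fintype.card Ω) - 1) / 2 ≤ (Fintype.card Ω : ℝ) - Nat.card (MulAction.fixedBy Ω g) := by
  classical
  have : Fintype G := Fintype.ofFinite G
  -- the support of `g`
  let S : Finset Ω := Finset.univ.filter (fun a => ¬ g • a = a)
  have hfix : Nat.card (MulAction.fixedBy Ω g) + S.card = Fintype.card Ω := by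
    have h1 : Nat.card (MulAction.fixedBy Ω g) = (Finset.univ.filter (fun a : Ω => g • a = a)).card := by
      rw [Nat.card_eq_fintype_card, ← Fintype.card_subtype]
      apply Fintype.card_congr
      exact Equiv.subtypeEquivRight (fun a => by simp [MulAction.mem_fixedBy])
    rw [h1, Finset.card_filter_add_card_filter_not, Finset.card_univ]
  suffices hmain : Fintype.card Ω ≤ (2 * S.card + 1) ^ 2 by
    have h2 : (Fintype.card Ω : ℝ) - Nat.card (MulAction.fixedBy Ω g) = (S.card : ℝ) := by
      rw [← hfix]; push_cast; ring
    rw [h2]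
    have h3 : Real.sqrt (Fintype.card Ω) ≤ 2 * (S.card : ℝ) + 1 := by
      rw [Real.sqrt_le_iff]
      constructor
      · positivity
      · exact_mod_cast hmain
    linarith
  -- a point moved by `g`
  have hmoved : ∃ a : Ω, ¬ g • a = a := by
    by_contra hcon
    push Not at hcon
    apply hg
    apply FaithfulSMul.eq_of_smul_eq_smul (α := Ω)
    intro a
    rw [hcon a, one_smul]
  obtain ⟨a, ha⟩ := hmoved
  have haS : a ∈ S := by simp [S, ha]
  by_cases h2t : ∃ z a b : Ω, a ≠ z ∧ b ≠ z ∧ ¬ Same G a b z
  · -- uniprimitive case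
    have hxy : a ≠ g • a := fun e => ha e.symm
    have hb := uniprim_bound (G := G) hxy h2t
    have hD : D G a (g • a) ≤ S.card := by
      unfold D
      apply Finset.card_le_card
      intro z hz
      rw [mem_T] at hz
      simp only [S, Finset.mem_filter, Finset.mem_univ, true_and]
      intro hgz
      exact hz ⟨g, rfl, hgz⟩
    calc Fintype.card Ω ≤ (2 * D G a (g • a) + 1) ^ 2 := hb
      _ ≤ (2 * S.card + 1) ^ 2 := by
        apply Nat.pow_le_pow_left
        omega
  · -- 2-transitive case
    push Not at h2t
    by_contra hlt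
    push Not at hlt
    have hSpos : 1 ≤ S.card := by
      rw [Nat.succ_le_iff, Finset.card_pos]; exact ⟨a, haS⟩
    have hsmall : (S.erase a).card * (S.erase a).card < Fintype.card Ω - 1 := by
      rw [Finset.card_erase_of_mem haS]
      have h5 : (S.card - 1) * (S.card - 1) ≤ S.card * S.card :=
        Nat.mul_le_mul (Nat.sub_le _ _) (Nat.sub_le _ _)
      have h6 : S.card * S.card + 2 ≤ (2 * S.card + 1) ^ 2 := by nlinarith
      omega
    obtain ⟨h, hha, hsep⟩ := exists_separating (G := G) h2t a (S.erase a)
      (Finset.notMem_erase a S) hsmall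
    have hinv : h⁻¹ • a = a := by
      conv_lhs => rw [← hha]
      rw [inv_smul_smul]
    let σ : Equiv.Perm Ω := MulAction.toPermHom G Ω g
    let τ : Equiv.Perm Ω := MulAction.toPermHom G Ω (h * g * h⁻¹)
    have hσ : ∀ z, σ z = g • z := fun z => rfl
    have hτ : ∀ z, τ z = h • g • h⁻¹ • z := by
      intro z
      show (h * g * h⁻¹) • z = _
      rw [mul_smul, mul_smul]
    have hτne : ∀ z, τ z ≠ z ↔ ¬ g • (h⁻¹ • z) = h⁻¹ • z := by
      intro z
      rw [hτ]
      constructor
      · intro h1 h2
        apply h1
        rw [h2, smul_inv_smul]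
      · intro h1 h2
        apply h1
        conv_rhs => rw [← h2]
        rw [inv_smul_smul]
    have hcond : ∀ z, (σ z ≠ z ∧ τ z ≠ z) ↔ z = a := by
      intro z
      rw [hτne, hσ]
      constructor
      · rintro ⟨h1, h2⟩
        by_contra hza
        have hz1 : z ∈ S.erase a := by
          rw [Finset.mem_erase]
          exact ⟨hza, by simp [S, h1]⟩
        have hz2 : h⁻¹ • z ∈ S.erase a := by
          rw [Finset.mem_erase]
          refine ⟨?_, by simp [S, h2]⟩
          intro e
          apply hza
          rw [← hha, ← e, smul_inv_smul]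
        have := hsep _ hz2
        rw [smul_inv_smul] at this
        exact this hz1
      · rintro rfl
        refine ⟨ha, ?_⟩
        rw [hinv]
        exact ha
    have h3 := isThreeCycle_comm hcond
    have hmem : σ * τ * σ⁻¹ * τ⁻¹ ∈ (MulAction.toPermHom G Ω).range := by
      refine ⟨g * (h * g * h⁻¹) * g⁻¹ * (h * g * h⁻¹)⁻¹, ?_⟩
      simp only [map_mul, map_inv, σ, τ]
    -- primitivity of the image
    have hprim' : MulAction.IsPreprimitive (MulAction.toPermHom G Ω).range Ω := by
      let φ : G → (MulAction.toPermHom G Ω).range := fun k => ⟨MulAction.toPermHom G Ω k, ⟨k, rfl⟩⟩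
      let f : Ω →ₑ[φ] Ω := { toFun := id, map_smul' := fun k x => rfl }
      exact MulAction.IsPreprimitive.of_surjective (f := f) Function.surjective_id
    exact hA (Equiv.Perm.alternatingGroup_le_of_isPreprimitive_of_isThreeCycle_mem hprim' h3 hmem)

end Cfsg.Agent.S5713
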