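import Cfsg.Statements.S5722
import Cfsg.Agent.Lib.Helper9.CL8

set_option autoImplicit false
open Cfsg

namespace Cfsg.Agent.S5722

/-- If a finite group G acts faithfully on a finite set with n points and r orbits, then the composition length of G is at most 4(n − r)/3. Here the composition length is expressed through chains: the conclusion bounds the length l of every chain of subgroups 1 = H₀ < H₁ < ⋯ < H_l = G in which each term is normal in the next (the longest such chains are exactly the composition series). -/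
theorem result {G Ω : Type*} [Group G] [Finite G] [MulAction G Ω] [FaithfulSMul G Ω] [Fintype Ω]
    (l : ℕ) (H : Fin (l + 1) → Subgroup G) (h0 : H 0 = ⊥) (hl : H (Fin.last l) = ⊤)
    (hchain : ∀ i : Fin l, H i.castSucc < H i.succ ∧ ((H i.castSucc).subgroupOf (H i.succ)).Normal) :
    3 * l ≤ 4 * (Fintype.card Ω - Nat.card (Quotient (MulAction.orbitRel G Ω))) := by
  classical
  -- the ℕ-indexed chain
  let H' : ℕ → Subgroup G := fun i => H ⟨min i l, by omega⟩
  have hH' : ∀ i (hi : i < l + 1), H' i = H ⟨i, hi⟩ := by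
    intro i hi
    show H ⟨min i l, _⟩ = H ⟨i, hi⟩
    congr 1
    apply Fin.ext
    show min i l = i
    omega
  have hcs : ∀ i (hi : i < l), H' i = H (⟨i, hi⟩ : Fin l).castSucc := by
    intro i hi
    rw [hH' i (by omega)]
    rfl
  have hsc : ∀ i (hi : i < l), H' (i+1) = H (⟨i, hi⟩ : Fin l).succ := by
    intro i hi
    rw [hH' (i+1) (by omega)]
    rfl
  have hW : Cfsg.Agent.H9CL.IsWChain (⊤ : Subgroup G) l H' := by
    refine ⟨?_, ?_, ?_, ?_⟩
    · rw [hH' 0 (by omega)]
      exact h0
    · rw [hH' l (by omega)]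
      exact hl
    · intro i hi
      rw [hcs i hi, hsc i hi]
      exact (hchain ⟨i, hi⟩).1.le
    · intro i hi x hx y hy
      rw [hsc i hi] at hx
      rw [hcs i hi] at hy ⊢
      have hle := (hchain ⟨i, hi⟩).1.le
      have hn := (hchain ⟨i, hi⟩).2
      have := hn.conj_mem ⟨y, hle hy⟩ (by rw [Subgroup.mem_subgroupOf]; exact hy) ⟨x, hx⟩
      rw [Subgroup.mem_subgroupOf] at this
      exact this
  have hscl : Cfsg.Agent.H9CL.sc l H' = l := by
    unfold Cfsg.Agent.H9CL.sc
    rw [Finset.filter_true_of_mem, Finset.card_range]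
    intro i hi
    rw [Finset.mem_range] at hi
    rw [hcs i hi, hsc i hi]
    exact (hchain ⟨i, hi⟩).1.ne
  have h1 : l ≤ Cfsg.Agent.H9CL.clS (⊤ : Subgroup G) := by
    have := Cfsg.Agent.H9CL.sc_le_clS hW
    rwa [hscl] at this
  have h2 := Cfsg.Agent.H9CL.main_all (Nat.card Ω) G Ω rfl
  rw [Nat.card_eq_fintype_card] at h2
  have h3 : Cfsg.Agent.H9CL.orb G Ω = Nat.card (Quotient (MulAction.orbitRel G Ω)) := rfl
  rw [h3] at h2
  omega

end Cfsg.Agent.S5722
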