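import Mathlib
import Cfsg.Statements.S5726

set_option autoImplicit false
open Cfsg

namespace Cfsg.Agent.S5726

theorem result {G Ω : Type*} [Group G] [Finite G] [MulAction G Ω] [FaithfulSMul G Ω] [Fintype Ω] (htr : MulAction.IsPretransitive G Ω)
    (p k : ℕ) (hp : p.Prime) (hk : 1 ≤ k) (hΩ : Fintype.card Ω = p ^ k) :
    ∃ g : G, orderOf g = p ∧ ∀ ω : Ω, g • ω ≠ ω := by
  classical
  have : Fact p.Prime := ⟨hp⟩
  have hpos : 0 < Fintype.card Ω := by rw [hΩ]; exact pow_pos hp.pos k
  obtain ⟨ω₀⟩ : Nonempty Ω := Fintype.card_pos_iff.mp hpos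
  let P : Sylow p G := default
  set H := MulAction.stabilizer G ω₀ with hHdef
  -- index of the stabilizer
  have hHidx : H.index = p ^ k := by
    rw [hHdef, MulAction.index_stabilizer, MulAction.orbit_eq_univ, Set.ncard_univ,
      Nat.card_eq_fintype_card, hΩ]
  -- p^k divides H.relIndex P
  have hdvd : p ^ k ∣ H.relIndex (P : Subgroup G) := by
    have h1 : (H ⊓ (P : Subgroup G)).relIndex (P : Subgroup G) * (P : Subgroup G).index
        = (H ⊓ (P : Subgroup G)).index := Subgroup.relIndex_mul_index inf_le_right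
    have h2 : (H ⊓ (P : Subgroup G)).relIndex H * H.index
        = (H ⊓ (P : Subgroup G)).index := Subgroup.relIndex_mul_index inf_le_left
    rw [Subgroup.inf_relIndex_right] at h1
    have h3 : p ^ k ∣ H.relIndex (P : Subgroup G) * (P : Subgroup G).index := by
      rw [h1, ← h2, hHidx]; exact dvd_mul_left _ _
    have hcop : Nat.Coprime (p ^ k) (P : Subgroup G).index :=
      Nat.Coprime.pow_left k ((Nat.Prime.coprime_iff_not_dvd hp).mpr P.not_dvd_index)
    exact hcop.dvd_of_dvd_mul_right h3
  -- the orbit of P on ω₀ is everything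
  have hstab : MulAction.stabilizer (P : Subgroup G) ω₀ = H.subgroupOf (P : Subgroup G) := by
    ext g
    simp [Subgroup.mem_subgroupOf, MulAction.mem_stabilizer_iff, hHdef, Subgroup.smul_def]
  have horb : (MulAction.orbit (P : Subgroup G) ω₀).ncard = H.relIndex (P : Subgroup G) := by
    rw [← MulAction.index_stabilizer, hstab, Subgroup.relIndex]
  have horb_univ : MulAction.orbit (P : Subgroup G) ω₀ = Set.univ := by
    have hge : p ^ k ≤ (MulAction.orbit (P : Subgroup G) ω₀).ncard := by
      rw [horb]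
      refine Nat.le_of_dvd ?_ hdvd
      rw [Subgroup.relIndex]
      exact Nat.pos_of_ne_zero Subgroup.index_ne_zero_of_finite
    apply Set.eq_of_subset_of_ncard_le (Set.subset_univ _)
    rw [Set.ncard_univ, Nat.card_eq_fintype_card, hΩ]
    exact hge
  -- P is nontrivial
  have hPnt : Nontrivial (P : Subgroup G) := by
    by_contra hnt
    rw [not_nontrivial_iff_subsingleton] at hnt
    have h1 : (MulAction.orbit (P : Subgroup G) ω₀).ncard ≤ 1 := by
      rw [Set.ncard_le_one_iff]
      rintro a b ⟨g, rfl⟩ ⟨h, rfl⟩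
      rw [Subsingleton.elim g h]
    rw [horb_univ, Set.ncard_univ, Nat.card_eq_fintype_card, hΩ] at h1
    have h3 : p ^ 1 ≤ p ^ k := Nat.pow_le_pow_right hp.pos hk
    rw [pow_one] at h3
    have := hp.two_le
    omega
  -- a central element of order p
  have hcnt : Nontrivial (Subgroup.center (P : Subgroup G)) := P.2.center_nontrivial
  have hcdvd : p ∣ Nat.card (Subgroup.center (P : Subgroup G)) := by
    have hpg : IsPGroup p (Subgroup.center (P : Subgroup G)) :=
      (P.2.to_subgroup (Subgroup.center (P : Subgroup G)))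
    obtain ⟨n, hn⟩ := IsPGroup.iff_card.mp hpg
    rw [hn]
    have hn0 : n ≠ 0 := by
      rintro rfl
      rw [pow_zero] at hn
      have := (Nat.card_eq_one_iff_unique.mp hn).1
      exact not_subsingleton _ this
    exact dvd_pow_self p hn0
  obtain ⟨z, hz⟩ := exists_prime_orderOf_dvd_card' p hcdvd
  refine ⟨((z : (P : Subgroup G)) : G), ?_, ?_⟩
  · rw [Subgroup.orderOf_coe, Subgroup.orderOf_coe, hz]
  · intro ω hfix
    -- z fixes every point
    have hall : ∀ ω' : Ω, ((z : (P : Subgroup G)) : G) • ω' = ω' := by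
      intro ω'
      have h1 : ω ∈ MulAction.orbit (P : Subgroup G) ω₀ := by rw [horb_univ]; trivial
      have h2 : ω' ∈ MulAction.orbit (P : Subgroup G) ω₀ := by rw [horb_univ]; trivial
      obtain ⟨g, rfl⟩ := h1
      obtain ⟨h, rfl⟩ := h2
      have hzc : ∀ x : (P : Subgroup G), x * (z : (P : Subgroup G)) = (z : (P : Subgroup G)) * x :=
        fun x => Subgroup.mem_center_iff.mp z.2 x
      have hfix' : (z : (P : Subgroup G)) • (g • ω₀) = g • ω₀ := hfix
      show (z : (P : Subgroup G)) • (h • ω₀) = h • ω₀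
      have : h • ω₀ = (h * g⁻¹) • (g • ω₀) := by rw [smul_smul, inv_mul_cancel_right]
      rw [this, smul_smul, ← hzc, ← smul_smul, hfix']
    have hone : ((z : (P : Subgroup G)) : G) = 1 := by
      apply FaithfulSMul.eq_of_smul_eq_smul (α := Ω)
      intro a
      rw [hall a, one_smul]
    have : orderOf ((z : (P : Subgroup G)) : G) = p := by
      rw [Subgroup.orderOf_coe, Subgroup.orderOf_coe, hz]
    rw [hone, orderOf_one] at this
    exact hp.one_lt.ne this

end Cfsg.Agent.S5726
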