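import Mathlib
import Cfsg.Statements.S5727
import Cfsg.Agent.S5726

set_option autoImplicit false
open Cfsg

namespace Cfsg.Agent.S5727

/-- A finite `p`-group acting on `m * p` points (`m < p`) with all point stabilizers of index `p` contains an
element without fixed points whose `p`-th power acts trivially. -/
theorem pgroup_derangement {P Ω : Type*} [Group P] [Finite P] [MulAction P Ω] [Fintype Ω] (p m : ℕ)
    (hp : p.Prime) (hP : IsPGroup p P) (hmp : m < p) (hΩ : Fintype.card Ω = m * p)
    (hidx : ∀ ω : Ω, (MulAction.stabilizer P ω).index = p) :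
    ∃ g : P, (∀ ω : Ω, g • ω ≠ ω) ∧ ∀ ω : Ω, (g ^ p) • ω = ω := by
  classical
  have : Fact p.Prime := ⟨hp⟩
  have hfinP : Fintype P := Fintype.ofFinite P
  -- Ω nonempty or trivial
  by_cases hne : Nonempty Ω
  swap
  · rw [not_nonempty_iff] at hne
    exact ⟨1, fun ω => isEmptyElim ω, fun ω => isEmptyElim ω⟩
  obtain ⟨ω₀⟩ := hne
  -- card P = p ^ k with k ≠ 0
  obtain ⟨k, hk⟩ := IsPGroup.iff_card.mp hP
  have hk0 : k ≠ 0 := by
    rintro rfl
    rw [pow_zero] at hk
    have h1 := Subgroup.card_mul_index (MulAction.stabilizer P ω₀)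
    rw [hk, hidx] at h1
    have := hp.two_le
    have : p ∣ 1 := Dvd.intro_left _ h1
    have := Nat.le_of_dvd one_pos this
    omega
  have hnormal : ∀ ω : Ω, (MulAction.stabilizer P ω).Normal := by
    intro ω
    apply Subgroup.normal_of_index_eq_minFac_card
    rw [hidx, hk, Nat.pow_minFac hk0, hp.minFac_eq]
  -- a fixed point forces a whole orbit of fixed points
  have hfixorb : ∀ (g h : P) (ω : Ω), g • ω = ω → g • (h • ω) = h • ω := by
    intro g h ω hg
    have h1 : g ∈ MulAction.stabilizer P ω := hg
    have h2 : h⁻¹ * g * h⁻¹⁻¹ ∈ MulAction.stabilizer P ω := (hnormal ω).conj_mem g h1 h⁻¹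
    rw [MulAction.mem_stabilizer_iff, inv_inv, mul_smul, mul_smul, inv_smul_eq_iff] at h2
    exact h2
  -- the counting functions
  have hdc := Finset.sum_card_bipartiteAbove_eq_sum_card_bipartiteBelow (s := (Finset.univ : Finset P))
    (t := (Finset.univ : Finset Ω)) (r := fun (g : P) (ω : Ω) => g • ω = ω)
  have hstab : ∀ ω : Ω, ((Finset.univ : Finset P).bipartiteBelow (fun (g : P) (ω : Ω) => g • ω = ω) ω).card * p
      = Fintype.card P := by
    intro ω
    have h1 := Subgroup.card_mul_index (MulAction.stabilizer P ω)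
    rw [hidx, Nat.card_eq_fintype_card (α := P)] at h1
    rw [← h1]
    congr 1
    rw [Nat.card_eq_fintype_card, Fintype.card_subtype]
    rfl
  by_contra hcon
  push_neg at hcon
  -- every g with a fixed point has at least p fixed points
  have hge : ∀ g : P, p ≤ ((Finset.univ : Finset Ω).bipartiteAbove (fun (g : P) (ω : Ω) => g • ω = ω) g).card := by
    intro g
    by_cases hfix : ∃ ω : Ω, g • ω = ω
    · obtain ⟨ω, hω⟩ := hfix
      have horb : (MulAction.orbit P ω).ncard = p := by
        rw [← MulAction.index_stabilizer, hidx]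
      rw [← horb, Set.ncard_eq_toFinset_card']
      apply Finset.card_le_card
      intro x hx
      rw [Set.mem_toFinset] at hx
      obtain ⟨h, rfl⟩ := hx
      simp only [Finset.bipartiteAbove, Finset.mem_filter, Finset.mem_univ, true_and]
      exact hfixorb g h ω hω
    · push_neg at hfix
      exfalso
      obtain ⟨ω, hω⟩ := hcon g hfix
      -- g^p acts trivially on everything
      have : (g ^ p) • ω = ω := by
        haveI := hnormal ω
        have h1 := Subgroup.pow_index_mem (MulAction.stabilizer P ω) g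
        rw [hidx] at h1
        exact h1
      exact hω this
  have hsum1 : Fintype.card P * p ≤ ∑ g : P, ((Finset.univ : Finset Ω).bipartiteAbove (fun (g : P) (ω : Ω) => g • ω = ω) g).card := by
    calc Fintype.card P * p = ∑ _g : P, p := by simp [Finset.sum_const, Finset.card_univ]
      _ ≤ _ := Finset.sum_le_sum (fun g _ => hge g)
  have hsum2 : (∑ ω : Ω, ((Finset.univ : Finset P).bipartiteBelow (fun (g : P) (ω : Ω) => g • ω = ω) ω).card) * p
      = m * p * Fintype.card P := by
    rw [Finset.sum_mul]
    simp only [hstab, Finset.sum_const, Finset.card_univ, hΩ, smul_eq_mul]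
  rw [hdc] at hsum1
  have h3 : Fintype.card P * p * p ≤ m * p * Fintype.card P := by
    rw [← hsum2]
    exact Nat.mul_le_mul_right p hsum1
  have hPpos : 0 < Fintype.card P := Fintype.card_pos
  have : Fintype.card P * p * p = p * p * Fintype.card P := by ring
  rw [this] at h3
  have h4 := Nat.le_of_mul_le_mul_right h3 hPpos
  have h5 : p ≤ m := Nat.le_of_mul_le_mul_right h4 hp.pos
  omega

theorem result {G Ω : Type*} [Group G] [Finite G] [MulAction G Ω] [FaithfulSMul G Ω] [Fintype Ω] (htr : MulAction.IsPretransitive G Ω)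
    (p m : ℕ) (hp : p.Prime) (hm : 1 ≤ m) (hmp : m ≤ p) (hΩ : Fintype.card Ω = m * p) :
    ∃ g : G, orderOf g = p ∧ ∀ ω : Ω, g • ω ≠ ω := by
  classical
  have : Fact p.Prime := ⟨hp⟩
  by_cases hmp' : m = p
  · have hΩ' : Fintype.card Ω = p ^ 2 := by rw [hΩ, hmp']; ring
    exact Cfsg.Agent.S5726.result htr p 2 hp (by norm_num) hΩ'
  have hmlt : m < p := lt_of_le_of_ne hmp hmp'
  have hpos : 0 < Fintype.card Ω := by rw [hΩ]; exact Nat.mul_pos hm hp.pos
  obtain ⟨ω₀⟩ : Nonempty Ω := Fintype.card_pos_iff.mp hpos
  let P : Sylow p G := default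
  -- all stabilizers in P have index p
  have hidx : ∀ ω : Ω, (MulAction.stabilizer (P : Subgroup G) ω).index = p := by
    intro ω
    set H := MulAction.stabilizer G ω with hHdef
    have hHidx : H.index = m * p := by
      rw [hHdef, MulAction.index_stabilizer, MulAction.orbit_eq_univ, Set.ncard_univ,
        Nat.card_eq_fintype_card, hΩ]
    have hdvd : p ∣ H.relIndex (P : Subgroup G) := by
      have h1 : (H ⊓ (P : Subgroup G)).relIndex (P : Subgroup G) * (P : Subgroup G).index
          = (H ⊓ (P : Subgroup G)).index := Subgroup.relIndex_mul_index inf_le_right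
      have h2 : (H ⊓ (P : Subgroup G)).relIndex H * H.index
          = (H ⊓ (P : Subgroup G)).index := Subgroup.relIndex_mul_index inf_le_left
      rw [Subgroup.inf_relIndex_right] at h1
      have h3 : p ∣ H.relIndex (P : Subgroup G) * (P : Subgroup G).index := by
        rw [h1, ← h2, hHidx]; exact ⟨(H ⊓ (P : Subgroup G)).relIndex H * m, by ring⟩
      have hcop : Nat.Coprime p (P : Subgroup G).index :=
        (Nat.Prime.coprime_iff_not_dvd hp).mpr P.not_dvd_index
      exact hcop.dvd_of_dvd_mul_right h3
    have hstab : MulAction.stabilizer (P : Subgroup G) ω = H.subgroupOf (P : Subgroup G) := by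
      ext g
      simp [Subgroup.mem_subgroupOf, MulAction.mem_stabilizer_iff, hHdef, Subgroup.smul_def]
    have hrel : (MulAction.stabilizer (P : Subgroup G) ω).index = H.relIndex (P : Subgroup G) := by
      rw [hstab, Subgroup.relIndex]
    obtain ⟨j, hj⟩ := (P.2 : IsPGroup p (P : Subgroup G)).index (MulAction.stabilizer (P : Subgroup G) ω)
    have hle : (MulAction.stabilizer (P : Subgroup G) ω).index ≤ m * p := by
      rw [MulAction.index_stabilizer, ← hΩ, ← Nat.card_eq_fintype_card, ← Set.ncard_univ]
      exact Set.ncard_le_ncard (Set.subset_univ _)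
    rw [hrel] at hj
    rw [hrel, hj] at hle ⊢
    rw [hj] at hdvd
    have hj0 : j ≠ 0 := by
      rintro rfl
      rw [pow_zero] at hdvd
      have := Nat.le_of_dvd one_pos hdvd
      have := hp.two_le
      omega
    have hj2 : j < 2 := by
      by_contra hcon
      push_neg at hcon
      have h1 : p ^ 2 ≤ p ^ j := Nat.pow_le_pow_right hp.pos hcon
      have h2 : m * p < p * p := Nat.mul_lt_mul_of_pos_right hmlt hp.pos
      have h3 : p ^ 2 = p * p := by ring
      omega
    have : j = 1 := by omega
    rw [this, pow_one]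
  obtain ⟨g, hg1, hg2⟩ := pgroup_derangement (P := (P : Subgroup G)) p m hp P.2 hmlt hΩ hidx
  have hgp : ((g : (P : Subgroup G)) : G) ^ p = 1 := by
    apply FaithfulSMul.eq_of_smul_eq_smul (α := Ω)
    intro a
    rw [one_smul]
    exact hg2 a
  have hg1' : ∀ ω : Ω, ((g : (P : Subgroup G)) : G) • ω ≠ ω := fun ω => hg1 ω
  refine ⟨(g : G), ?_, hg1'⟩
  have hdvd : orderOf ((g : (P : Subgroup G)) : G) ∣ p := orderOf_dvd_of_pow_eq_one hgp
  rcases (Nat.dvd_prime hp).mp hdvd with h | h
  · exfalso
    rw [orderOf_eq_one_iff] at h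
    apply hg1' ω₀
    rw [h, one_smul]
  · exact h

end Cfsg.Agent.S5727
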