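import Mathlib
import Cfsg.Statements.S5728
import Cfsg.Agent.Lib.Helper9.Involutions

set_option autoImplicit false
open Cfsg
open Cfsg.Agent.Lib.Helper9

namespace Cfsg.Agent.S5728

/-- an element of prime order dividing `(p-1) * 2^s` in the field of order `p^2` (with `p + 1 = 2^s`)
lies in the prime field. -/
theorem mem_prime_field (p s : ℕ) [Fact p.Prime] (hs : p = 2 ^ s - 1)
    (α : GaloisField p 2) (hα0 : α ≠ 0) (hord : (orderOf α).Prime) :
    ∃ a : ZMod p, a ≠ 0 ∧ algebraMap (ZMod p) (GaloisField p 2) a = α := by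
  have hp : p.Prime := Fact.out
  have hp2 := hp.two_le
  -- α ^ (p^2 - 1) = 1
  have hcard : Nat.card (GaloisField p 2) = p ^ 2 := GaloisField.card p 2 (by norm_num)
  have hpow : α ^ (p ^ 2 - 1) = 1 := by
    have := Fintype.ofFinite (GaloisField p 2)
    have h1 := FiniteField.pow_card_sub_one_eq_one α hα0
    rwa [← Nat.card_eq_fintype_card, hcard] at h1
  have hdvd : orderOf α ∣ p ^ 2 - 1 := orderOf_dvd_of_pow_eq_one hpow
  have h2s : p + 1 = 2 ^ s := by
    have : 1 ≤ 2 ^ s := Nat.one_le_two_pow
    omega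
  have hfac : p ^ 2 - 1 = (p - 1) * 2 ^ s := by
    rw [← h2s]
    obtain ⟨q, rfl⟩ : ∃ q, p = q + 1 := ⟨p - 1, by omega⟩
    simp only [Nat.add_sub_cancel]
    have : (q + 1) ^ 2 = q * (q + 1 + 1) + 1 := by ring
    rw [this, Nat.add_sub_cancel]
  rw [hfac] at hdvd
  have hfix : α ^ p = α := by
    rcases (Nat.Prime.dvd_mul hord).mp hdvd with h | h
    · have h1 : α ^ (p - 1) = 1 := orderOf_dvd_iff_pow_eq_one.mp h
      have h5 : α ^ (p - 1 + 1) = α := by rw [pow_succ, h1, one_mul]
      have hpp : p - 1 + 1 = p := by omega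
      rw [hpp] at h5
      exact h5
    · have h2 : orderOf α = 2 := by
        have := (Nat.Prime.dvd_of_dvd_pow hord h)
        exact ((Nat.prime_dvd_prime_iff_eq hord Nat.prime_two).mp this)
      have hsq : α ^ 2 = 1 := by
        have h6 := pow_orderOf_eq_one α
        rw [h2] at h6
        exact h6
      have hne1 : α ≠ 1 := by
        intro h1
        rw [h1, orderOf_one] at h2
        omega
      have hneg : α = -1 := by
        have h3 : (α - 1) * (α + 1) = 0 := by ring_nf; rw [hsq]; ring
        rcases mul_eq_zero.mp h3 with h4 | h4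
        · exact absurd (sub_eq_zero.mp h4) hne1
        · exact eq_neg_of_add_eq_zero_left h4
      rw [hneg]
      exact neg_one_pow_char (GaloisField p 2) p
  have hbot : α ∈ (⊥ : Subfield (GaloisField p 2)) :=
    (Subfield.mem_bot_iff_pow_eq_self (GaloisField p 2) p).mpr hfix
  obtain ⟨n, hn⟩ := (mem_bot_iff_intCast p (GaloisField p 2)).mp hbot
  refine ⟨(n : ZMod p), ?_, ?_⟩
  · intro h0
    apply hα0
    rw [← hn, ← map_intCast (algebraMap (ZMod p) (GaloisField p 2)) n, h0, map_zero]
  · rw [map_intCast, hn]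

theorem result (p s : ℕ) [Fact p.Prime] (hs : p = 2 ^ s - 1)
    (g : Equiv.Perm (GaloisField p 2)) (hg : g ∈ Cfsg.affineGroup (GaloisField p 2)) (hord : (orderOf g).Prime) :
    ∃ x ∈ Cfsg.affineGroup (GaloisField p 2), ∃ a b : ZMod p, a ≠ 0 ∧
      ∀ y : GaloisField p 2, (x * g * x⁻¹) y = algebraMap (ZMod p) (GaloisField p 2) a * y + algebraMap (ZMod p) (GaloisField p 2) b := by
  obtain ⟨α, β, hgy⟩ := hg
  by_cases hα1 : (α : GaloisField p 2) = 1
  · -- translation
    have hβ : β ≠ 0 := by
      rintro rfl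
      have : g = 1 := by
        ext y
        rw [hgy, hα1]; simp
      rw [this, orderOf_one] at hord
      exact Nat.not_prime_one hord
    let u : (GaloisField p 2)ˣ := Units.mk0 β hβ
    refine ⟨Units.mulLeft u⁻¹, ⟨u⁻¹, 0, fun y => by simp⟩, 1, 1, one_ne_zero, fun y => ?_⟩
    have hinv : (Units.mulLeft u⁻¹ : Equiv.Perm (GaloisField p 2))⁻¹ y = β * y := by
      rw [Equiv.Perm.inv_eq_iff_eq]
      simp [u, inv_mul_cancel_left₀ hβ]
    rw [Equiv.Perm.mul_apply, Equiv.Perm.mul_apply, hinv, hgy, hα1]
    simp [u]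
    field_simp
  · -- fixed point
    have h1α : (1 - (α : GaloisField p 2)) ≠ 0 := by
      intro h
      apply hα1
      rw [sub_eq_zero] at h
      exact h.symm
    set y0 : GaloisField p 2 := β / (1 - α) with hy0
    have hfix : (α : GaloisField p 2) * y0 + β = y0 := by
      rw [hy0]; field_simp; ring
    set x : Equiv.Perm (GaloisField p 2) := Equiv.addRight (-y0) with hx
    have hxmem : x ∈ Cfsg.affineGroup (GaloisField p 2) := ⟨1, -y0, fun y => by simp [hx]⟩
    have hxinv : ∀ y, x⁻¹ y = y + y0 := by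
      intro y
      rw [Equiv.Perm.inv_eq_iff_eq]
      simp [hx]
    have hconj : ∀ y, (x * g * x⁻¹) y = (α : GaloisField p 2) * y := by
      intro y
      rw [Equiv.Perm.mul_apply, Equiv.Perm.mul_apply, hxinv, hgy, hx]
      simp only [Equiv.coe_addRight]
      linear_combination hfix
    have hpowy : ∀ (k : ℕ) y, ((x * g * x⁻¹) ^ k) y = (α : GaloisField p 2) ^ k * y := by
      intro k
      induction k with
      | zero => intro y; simp
      | succ k ih =>
        intro y
        rw [pow_succ, Equiv.Perm.mul_apply, ih, hconj, pow_succ, mul_assoc]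
    have hordeq : orderOf (x * g * x⁻¹) = orderOf (α : GaloisField p 2) := by
      rw [orderOf_eq_orderOf_iff]
      intro k
      constructor
      · intro h
        have := hpowy k 1
        rw [h] at this
        simpa using this.symm
      · intro h
        ext y
        rw [hpowy, h]; simp
    rw [orderOf_conj_eq] at hordeq
    rw [hordeq] at hord
    obtain ⟨a, ha0, haα⟩ := mem_prime_field p s hs (α : GaloisField p 2) α.ne_zero hord
    refine ⟨x, hxmem, a, 0, ha0, fun y => ?_⟩
    rw [hconj, haα, map_zero, add_zero]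

end Cfsg.Agent.S5728
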