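import Mathlib
import Cfsg.Statements.S5729

set_option autoImplicit false
open Cfsg

namespace Cfsg.Agent.S5729

section
variable {G Ω : Type*} [Group G] [MulAction G Ω]

/-- Burnside: for a transitive action the fixed point numbers sum to `|G|`. -/
theorem burnside_one [Fintype G] [Fintype Ω] [Nonempty Ω] (htr : MulAction.IsPretransitive G Ω) :
    ∑ g : G, Nat.card (MulAction.fixedBy Ω g) = Fintype.card G := by
  classical
  obtain ⟨hu⟩ := (MulAction.pretransitive_iff_unique_quotient_of_nonempty (G := G) (α := Ω)).mp htr
  have hfin : Fintype (Quotient (MulAction.orbitRel G Ω)) := Fintype.ofFinite _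
  have h := MulAction.sum_card_fixedBy_eq_card_orbits_mul_card_group G Ω
  have h1 : Fintype.card (Quotient (MulAction.orbitRel G Ω)) = 1 := by
    rw [Fintype.card_eq_one_iff]
    exact ⟨hu.default, fun y => hu.uniq y⟩
  rw [h1, one_mul] at h
  rw [← h]
  exact Finset.sum_congr rfl (fun g _ => Nat.card_eq_fintype_card)

/-- the fixed points of `g` on `Ω × Ω`. -/
theorem card_fixedBy_prod [Finite Ω] (g : G) :
    Nat.card (MulAction.fixedBy (Ω × Ω) g) = Nat.card (MulAction.fixedBy Ω g) ^ 2 := by
  rw [sq, ← Nat.card_prod]
  apply Nat.card_congr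
  refine ⟨fun x => (⟨x.1.1, congrArg Prod.fst x.2⟩, ⟨x.1.2, congrArg Prod.snd x.2⟩),
    fun y => ⟨(y.1.1, y.2.1), Prod.ext y.1.2 y.2.2⟩, fun x => rfl, fun y => rfl⟩

/-- Burnside on pairs: at least two orbits. -/
theorem burnside_two [Fintype G] [Fintype Ω] (hn : 2 ≤ Fintype.card Ω) :
    2 * Fintype.card G ≤ ∑ g : G, Nat.card (MulAction.fixedBy Ω g) ^ 2 := by
  classical
  have hfin : Fintype (Quotient (MulAction.orbitRel G (Ω × Ω))) := Fintype.ofFinite _
  have h := MulAction.sum_card_fixedBy_eq_card_orbits_mul_card_group G (Ω × Ω)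
  have h2 : 2 ≤ Fintype.card (Quotient (MulAction.orbitRel G (Ω × Ω))) := by
    obtain ⟨α, β, hαβ⟩ := Fintype.one_lt_card_iff.mp (by omega : 1 < Fintype.card Ω)
    have : 1 < Fintype.card (Quotient (MulAction.orbitRel G (Ω × Ω))) := by
      rw [Fintype.one_lt_card_iff]
      refine ⟨Quotient.mk _ (α, α), Quotient.mk _ (α, β), ?_⟩
      intro heq
      have := Quotient.exact heq
      obtain ⟨g, hg⟩ := this
      have h1 : g • α = α := congrArg Prod.fst hg
      have h2 : g • β = α := congrArg Prod.snd hg
      have : g • α = g • β := by rw [h1, h2]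
      exact hαβ (MulAction.injective g this)
    exact this
  calc 2 * Fintype.card G ≤ Fintype.card (Quotient (MulAction.orbitRel G (Ω × Ω))) * Fintype.card G :=
        Nat.mul_le_mul_right _ h2
    _ = ∑ g : G, Fintype.card (MulAction.fixedBy (Ω × Ω) g) := h.symm
    _ = ∑ g : G, Nat.card (MulAction.fixedBy Ω g) ^ 2 :=
        Finset.sum_congr rfl (fun g _ => by rw [← Nat.card_eq_fintype_card, card_fixedBy_prod])

end

theorem result {G Ω : Type*} [Group G] [Finite G] [MulAction G Ω] [FaithfulSMul G Ω] [Fintype Ω] (htr : MulAction.IsPretransitive G Ω) (hn : 3 ≤ Fintype.card Ω) :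
    ((MulAction.IsPretransitive G Ω ∧ (∃ g : G, g ≠ 1 ∧ ∃ ω : Ω, g • ω = ω) ∧ ∀ g : G, g ≠ 1 → Nat.card (MulAction.fixedBy Ω g) ≤ 1) ∧ Nat.card G = Fintype.card Ω * (Fintype.card Ω - 1) ∧ Fintype.card Ω * Nat.card {g : G // ∀ ω : Ω, g • ω ≠ ω} = Nat.card G) ∨
    Nat.card G < Fintype.card Ω * Nat.card {g : G // ∀ ω : Ω, g • ω ≠ ω} := by
  classical
  have hfinG : Fintype G := Fintype.ofFinite G
  have hne : Nonempty Ω := Fintype.card_pos_iff.mp (by omega)
  set n := Fintype.card Ω with hndef
  set f : G → ℕ := fun g => Nat.card (MulAction.fixedBy Ω g) with hf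
  set d := Nat.card {g : G // ∀ ω : Ω, g • ω ≠ ω} with hd
  have hB1 : ∑ g : G, f g = Fintype.card G := burnside_one htr
  have hB2 : 2 * Fintype.card G ≤ ∑ g : G, f g ^ 2 := burnside_two (by omega)
  -- basic facts about f
  have hfle : ∀ g, f g ≤ n := by
    intro g
    rw [hf, hndef, ← Nat.card_eq_fintype_card]
    exact Nat.card_le_card_of_injective _ Subtype.val_injective
  have hf0 : ∀ g, f g = 0 ↔ ∀ ω : Ω, g • ω ≠ ω := by
    intro g
    simp only [hf]
    rw [Nat.card_eq_zero]
    constructor
    · rintro (h | h)
      · intro ω hω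
        exact h.false ⟨ω, hω⟩
      · exact absurd (Finite.of_fintype _) (not_finite_iff_infinite.mpr h)
    · intro h
      left
      exact ⟨fun x => h x.1 x.2⟩
  have hfn : ∀ g, f g = n → g = 1 := by
    intro g hg
    apply FaithfulSMul.eq_of_smul_eq_smul (α := Ω)
    intro a
    rw [one_smul]
    have hsub : (MulAction.fixedBy Ω g) = Set.univ := by
      apply Set.eq_of_subset_of_ncard_le (Set.subset_univ _)
      rw [Set.ncard_univ, Nat.card_eq_fintype_card, ← hndef, ← hg]
      simp only [hf]
      rw [Nat.card_coe_set_eq]
    have : a ∈ MulAction.fixedBy Ω g := by rw [hsub]; trivial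
    exact this
  -- the number of derangements as a filter card
  have hdcard : d = (Finset.univ.filter (fun g : G => f g = 0)).card := by
    rw [hd, Nat.card_eq_fintype_card, Fintype.card_subtype]
    congr 1
    ext g
    simp only [Finset.mem_filter, Finset.mem_univ, true_and]
    exact (hf0 g).symm
  -- the key termwise inequality
  have hterm : ∀ g, f g ^ 2 + n ≤ (n + 1) * f g + n * (if f g = 0 then 1 else 0) := by
    intro g
    by_cases h0 : f g = 0
    · simp [h0]
    · simp only [h0, if_false, mul_zero, add_zero]
      have h1 : 1 ≤ f g := Nat.one_le_iff_ne_zero.mpr h0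
      have h2 := hfle g
      nlinarith
  have hsumle : ∑ g : G, (f g ^ 2 + n) ≤ ∑ g : G, ((n + 1) * f g + n * (if f g = 0 then 1 else 0)) :=
    Finset.sum_le_sum (fun g _ => hterm g)
  have hsumL : ∑ g : G, (f g ^ 2 + n) = ∑ g : G, f g ^ 2 + n * Fintype.card G := by
    rw [Finset.sum_add_distrib]
    simp [Finset.sum_const, Finset.card_univ, mul_comm]
  have hsumR : ∑ g : G, ((n + 1) * f g + n * (if f g = 0 then 1 else 0))
      = (n + 1) * Fintype.card G + n * d := by
    rw [Finset.sum_add_distrib, ← Finset.mul_sum, ← Finset.mul_sum, hB1, hdcard, Finset.card_filter]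
  rw [hsumL, hsumR] at hsumle
  have hcardG : Nat.card G = Fintype.card G := Nat.card_eq_fintype_card
  rw [hcardG]
  have hmain : Fintype.card G ≤ n * d := by nlinarith
  rcases Nat.lt_or_ge (Fintype.card G) (n * d) with hlt | hge
  · right; exact hlt
  · left
    have heq : n * d = Fintype.card G := le_antisymm hge hmain
    -- all terms tight
    have htight : ∀ g, (n + 1) * f g + n * (if f g = 0 then 1 else 0) = f g ^ 2 + n := by
      have hzero : ∑ g : G, ((n + 1) * f g + n * (if f g = 0 then 1 else 0) - (f g ^ 2 + n)) = 0 := by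
        have h1 : ∑ g : G, ((n + 1) * f g + n * (if f g = 0 then 1 else 0) - (f g ^ 2 + n))
            = ∑ g : G, ((n + 1) * f g + n * (if f g = 0 then 1 else 0)) - ∑ g : G, (f g ^ 2 + n) :=
          Finset.sum_tsub_distrib _ (fun g _ => hterm g)
        rw [h1, hsumL, hsumR]
        have : (n + 1) * Fintype.card G + n * d ≤ ∑ g : G, f g ^ 2 + n * Fintype.card G := by nlinarith
        omega
      intro g
      have := (Finset.sum_eq_zero_iff.mp hzero) g (Finset.mem_univ g)
      have h2 := hterm g
      omega
    have hfrob : ∀ g : G, g ≠ 1 → f g ≤ 1 := by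
      intro g hg1
      by_cases h0 : f g = 0
      · omega
      · have h1 := htight g
        simp only [h0, if_false, mul_zero, add_zero] at h1
        have h3 : f g ≠ n := fun h => hg1 (hfn g h)
        have h4 := hfle g
        have h5 : 1 ≤ f g := Nat.one_le_iff_ne_zero.mpr h0
        by_contra hcon
        push_neg at hcon
        have h6 : f g < n := lt_of_le_of_ne h4 h3
        nlinarith
    -- f 1 = n
    have hf1 : f 1 = n := by
      simp only [hf]
      have : MulAction.fixedBy Ω (1 : G) = Set.univ := by
        ext ω; simp [MulAction.mem_fixedBy]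
      rw [this, Nat.card_congr (Equiv.Set.univ Ω), Nat.card_eq_fintype_card]
    -- counting Σ f
    have hsumf : ∑ g : G, f g = n + (Fintype.card G - 1 - d) := by
      have hval : ∀ g : G, f g = if g = 1 then n else if f g = 0 then 0 else 1 := by
        intro g
        by_cases hg1 : g = 1
        · rw [if_pos hg1, hg1, hf1]
        · rw [if_neg hg1]
          by_cases h0 : f g = 0
          · rw [if_pos h0, h0]
          · rw [if_neg h0]
            have := hfrob g hg1
            omega
      have h10 : f 1 ≠ 0 := by rw [hf1]; omega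
      calc ∑ g : G, f g = ∑ g : G, (if g = 1 then n else if f g = 0 then 0 else 1) :=
            Finset.sum_congr rfl (fun g _ => hval g)
        _ = ∑ g : G, ((if g = 1 then n else 0) + (if g ≠ 1 ∧ f g ≠ 0 then 1 else 0)) := by
            refine Finset.sum_congr rfl (fun g _ => ?_)
            by_cases hg1 : g = 1
            · simp [hg1]
            · by_cases h0 : f g = 0
              · simp [hg1, h0]
              · simp [hg1, h0]
        _ = n + (Finset.univ.filter (fun g : G => g ≠ 1 ∧ f g ≠ 0)).card := by
            rw [Finset.sum_add_distrib, Finset.sum_ite_eq' Finset.univ (1 : G) (fun _ => n), if_pos (Finset.mem_univ _),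
              Finset.card_filter]
        _ = n + (Fintype.card G - 1 - d) := by
            congr 1
            have hpart : (Finset.univ.filter (fun g : G => g ≠ 1 ∧ f g ≠ 0)).card + 1 + d = Fintype.card G := by
              rw [hdcard]
              have h1 : (Finset.univ.filter (fun g : G => g ≠ 1 ∧ f g ≠ 0)) =
                  (Finset.univ.filter (fun g : G => f g ≠ 0)).erase 1 := by
                ext g
                simp only [Finset.mem_filter, Finset.mem_univ, true_and, Finset.mem_erase]
              rw [h1, Finset.card_erase_of_mem (by simp [h10])]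
              have h2 := Finset.card_filter_add_card_filter_not (s := (Finset.univ : Finset G)) (fun g : G => f g = 0)
              rw [Finset.card_univ] at h2
              have h3 : 0 < (Finset.univ.filter (fun g : G => f g ≠ 0)).card :=
                Finset.card_pos.mpr ⟨1, by simp [h10]⟩
              have h4 : (Finset.univ.filter (fun g : G => ¬ f g = 0)) = (Finset.univ.filter (fun g : G => f g ≠ 0)) := rfl
              rw [h4] at h2
              omega
            omega
    have hGpos : 0 < Fintype.card G := Fintype.card_pos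
    have hdle : d + 1 ≤ Fintype.card G := by
      rw [hdcard]
      have h10 : f 1 ≠ 0 := by rw [hf1]; omega
      have : (Finset.univ.filter (fun g : G => f g = 0)) ⊆ Finset.univ.erase 1 := by
        intro g hg
        simp only [Finset.mem_filter, Finset.mem_univ, true_and] at hg
        simp only [Finset.mem_erase, Finset.mem_univ, and_true]
        rintro rfl
        exact h10 hg
      have h2 := Finset.card_le_card this
      rw [Finset.card_erase_of_mem (Finset.mem_univ _), Finset.card_univ] at h2
      omega
    rw [hB1] at hsumf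
    have hd1 : d = n - 1 := by omega
    have hGn : Fintype.card G = n * (n - 1) := by rw [← heq, hd1]
    refine ⟨⟨htr, ?_, hfrob⟩, hGn, heq⟩
    -- a non-identity element fixing a point
    by_contra hcon
    push_neg at hcon
    -- then every non-identity element is a derangement: d = |G| - 1
    have : Fintype.card G - 1 ≤ d := by
      rw [hdcard]
      have hsub : Finset.univ.erase (1 : G) ⊆ (Finset.univ.filter (fun g : G => f g = 0)) := by
        intro g hg
        simp only [Finset.mem_erase, Finset.mem_univ, and_true] at hg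
        simp only [Finset.mem_filter, Finset.mem_univ, true_and]
        exact (hf0 g).mpr (hcon g hg)
      have h2 := Finset.card_le_card hsub
      rw [Finset.card_erase_of_mem (Finset.mem_univ _), Finset.card_univ] at h2
      exact h2
    have hn3 : 3 ≤ n := hn
    have : n * (n - 1) - 1 ≤ n - 1 := by rw [← hGn, ← hd1]; exact this
    obtain ⟨k, hk⟩ : ∃ k, n = k + 3 := ⟨n - 3, by omega⟩
    rw [hk] at this
    have h5 : (k + 3) * (k + 3 - 1) = k * k + 5 * k + 6 := by
      have : k + 3 - 1 = k + 2 := by omega
      rw [this]; ring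
    rw [h5] at this
    have : k * k ≥ 0 := Nat.zero_le _
    omega

end Cfsg.Agent.S5729
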