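import Mathlib
import Cfsg.Statements.S5738

set_option autoImplicit false
open Cfsg

namespace Cfsg.Agent.S5738

section
variable {F K : Type*} [Field F] [Field K] [Algebra F K]

/-- left multiplication as a unit of `End_F K`. -/
noncomputable def Lu : Kˣ →* (Module.End F K)ˣ :=
  Units.map ((Algebra.lmul F K : K →ₐ[F] Module.End F K) : K →* Module.End F K)

theorem Lu_apply (a : Kˣ) (x : K) : ((Lu (F := F) a : (Module.End F K)ˣ) : Module.End F K) x = a * x := by
  simp [Lu]

/-- a field automorphism as a unit of `End_F K`. -/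
noncomputable def σu (σ : K ≃ₐ[F] K) : (Module.End F K)ˣ where
  val := σ.toLinearMap
  inv := σ.symm.toLinearMap
  val_inv := by ext x; simp
  inv_val := by ext x; simp

theorem σu_apply (σ : K ≃ₐ[F] K) (x : K) : ((σu σ : (Module.End F K)ˣ) : Module.End F K) x = σ x := rfl

theorem σu_inv_apply (σ : K ≃ₐ[F] K) (x : K) :
    (((σu σ)⁻¹ : (Module.End F K)ˣ) : Module.End F K) x = σ.symm x := rfl

theorem units_end_ext {T S : (Module.End F K)ˣ}
    (h : ∀ x, (T : Module.End F K) x = (S : Module.End F K) x) : T = S :=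
  Units.ext (LinearMap.ext h)

theorem units_inv_apply_apply (T : (Module.End F K)ˣ) (x : K) :
    ((T⁻¹ : (Module.End F K)ˣ) : Module.End F K) ((T : Module.End F K) x) = x := by
  rw [← Module.End.mul_apply, ← Units.val_mul, inv_mul_cancel]; rfl

theorem units_apply_inv_apply (T : (Module.End F K)ˣ) (x : K) :
    (T : Module.End F K) (((T⁻¹ : (Module.End F K)ˣ) : Module.End F K) x) = x := by
  rw [← Module.End.mul_apply, ← Units.val_mul, mul_inv_cancel]; rfl

theorem σu_conj (σ : K ≃ₐ[F] K) (b : Kˣ) :
    σu σ * Lu (F := F) b * (σu σ)⁻¹ = Lu (F := F) (Units.map (σ : K →* K) b) := by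
  apply units_end_ext
  intro x
  simp only [Units.val_mul, Module.End.mul_apply, Lu_apply, σu_apply, σu_inv_apply, map_mul,
    AlgEquiv.apply_symm_apply, Units.coe_map, MonoidHom.coe_coe]

theorem σu_symm (σ : K ≃ₐ[F] K) : σu σ.symm = (σu σ)⁻¹ := by
  apply units_end_ext
  intro x
  rw [σu_apply, σu_inv_apply]

theorem σu_mem_normalizer (σ : K ≃ₐ[F] K) :
    σu σ ∈ Subgroup.normalizer (((Lu (F := F) (K := K)).range : Subgroup (Module.End F K)ˣ) : Set (Module.End F K)ˣ) := by
  rw [Subgroup.mem_normalizer_iff]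
  intro h
  constructor
  · rintro ⟨b, rfl⟩
    rw [σu_conj]
    exact ⟨_, rfl⟩
  · rintro ⟨c, hc⟩
    have : h = σu σ.symm * Lu (F := F) c * (σu σ.symm)⁻¹ := by
      rw [σu_symm, hc, inv_inv]; group
    rw [this, σu_conj]
    exact ⟨_, rfl⟩

theorem apply_one_ne_zero (T : (Module.End F K)ˣ) : (T : Module.End F K) 1 ≠ 0 := by
  intro h0
  have := units_inv_apply_apply T 1
  rw [h0, map_zero] at this
  exact zero_ne_one this

end

theorem result {F K : Type*} [Field F] [Fintype F] [Field K] [Fintype K] [Algebra F K] (n : ℕ) (hn : 2 ≤ n) (hdim : Module.finrank F K = n) :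
    Nat.card (Subgroup.normalizer (((Units.map ((Algebra.lmul F K : K →ₐ[F] Module.End F K) : K →* Module.End F K)).range : Subgroup (Module.End F K)ˣ) : Set (Module.End F K)ˣ)) = n * (Fintype.card K - 1) := by
  classical
  set R : Subgroup (Module.End F K)ˣ := (Lu (F := F) (K := K)).range with hR
  change Nat.card (Subgroup.normalizer (R : Set (Module.End F K)ˣ)) = _
  -- the parametrisation
  let Ψ : Kˣ × (K ≃ₐ[F] K) → Subgroup.normalizer (R : Set (Module.End F K)ˣ) := fun p =>
    ⟨Lu (F := F) p.1 * σu p.2,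
      Subgroup.mul_mem _ (Subgroup.le_normalizer ⟨p.1, rfl⟩) (σu_mem_normalizer p.2)⟩
  have hΨinj : Function.Injective Ψ := by
    rintro ⟨a, σ⟩ ⟨b, τ⟩ h
    have h' : Lu (F := F) a * σu σ = Lu (F := F) b * σu τ := congrArg Subtype.val h
    have hx : ∀ x : K, (a : K) * σ x = (b : K) * τ x := by
      intro x
      have := congrArg (fun U : (Module.End F K)ˣ => (U : Module.End F K) x) h'
      simpa only [Units.val_mul, Module.End.mul_apply, Lu_apply, σu_apply] using this
    have hab : a = b := by
      apply Units.ext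
      have := hx 1
      simpa using this
    subst hab
    have : σ = τ := by
      ext x
      have := hx x
      exact mul_left_cancel₀ a.ne_zero this
    rw [this]
  have hΨsurj : Function.Surjective Ψ := by
    rintro ⟨T, hT⟩
    have ha : (T : Module.End F K) 1 ≠ 0 := apply_one_ne_zero T
    set a : Kˣ := Units.mk0 _ ha with hadef
    set S : (Module.End F K)ˣ := (Lu (F := F) a)⁻¹ * T with hS
    have hSN : S ∈ Subgroup.normalizer (R : Set (Module.End F K)ˣ) :=
      Subgroup.mul_mem _ (Subgroup.inv_mem _ (Subgroup.le_normalizer ⟨a, rfl⟩)) hT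
    have hLinv : ∀ x : K, (((Lu (F := F) a)⁻¹ : (Module.End F K)ˣ) : Module.End F K) x = (a : K)⁻¹ * x := by
      intro x
      have h1 := units_inv_apply_apply (Lu (F := F) a) ((a : K)⁻¹ * x)
      rw [Lu_apply, mul_inv_cancel_left₀ a.ne_zero] at h1
      exact h1
    have hSx : ∀ x : K, (S : Module.End F K) x = (a : K)⁻¹ * (T : Module.End F K) x := by
      intro x
      rw [hS, Units.val_mul, Module.End.mul_apply, hLinv]
    have hS1 : (S : Module.End F K) 1 = 1 := by
      rw [hSx, hadef, Units.val_mk0, inv_mul_cancel₀ ha]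
    have hSinv1 : ((S⁻¹ : (Module.End F K)ˣ) : Module.End F K) 1 = 1 := by
      have := units_inv_apply_apply S 1
      rwa [hS1] at this
    -- S is multiplicative
    have hSmul : ∀ b x : K, (S : Module.End F K) (b * x) = (S : Module.End F K) b * (S : Module.End F K) x := by
      intro b x
      by_cases hb : b = 0
      · subst hb; simp
      · have hmem : S * Lu (F := F) (Units.mk0 b hb) * S⁻¹ ∈ R :=
          (Subgroup.mem_normalizer_iff.mp hSN _).mp ⟨_, rfl⟩
        obtain ⟨c, hc⟩ := hmem
        have hcb : (c : K) = (S : Module.End F K) b := by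
          have := congrArg (fun U : (Module.End F K)ˣ => (U : Module.End F K) 1) hc
          simp only [Units.val_mul, Module.End.mul_apply, Lu_apply, hSinv1, mul_one, Units.val_mk0] at this
          exact this
        have h2 : S * Lu (F := F) (Units.mk0 b hb) = Lu (F := F) c * S := by
          rw [hc]; group
        have := congrArg (fun U : (Module.End F K)ˣ => (U : Module.End F K) x) h2
        simp only [Units.val_mul, Module.End.mul_apply, Lu_apply, Units.val_mk0] at this
        rw [this, hcb]
    -- build the automorphism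
    let σ : K ≃ₐ[F] K := AlgEquiv.ofLinearEquiv (LinearMap.GeneralLinearGroup.toLinearEquiv S) hS1
      (fun x y => hSmul x y)
    have hσ : ∀ x, σ x = (S : Module.End F K) x := fun x => rfl
    refine ⟨(a, σ), ?_⟩
    apply Subtype.ext
    show Lu (F := F) a * σu σ = T
    apply units_end_ext
    intro x
    rw [Units.val_mul, Module.End.mul_apply, Lu_apply, σu_apply, hσ, hSx,
      mul_inv_cancel_left₀ a.ne_zero]
  rw [← Nat.card_eq_of_bijective Ψ ⟨hΨinj, hΨsurj⟩, Nat.card_prod, Nat.card_eq_fintype_card (α := Kˣ),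
    Fintype.card_units, IsGalois.card_aut_eq_finrank, hdim, mul_comm]

end Cfsg.Agent.S5738
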