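import Mathlib
import Cfsg.Statements.S5739
import Cfsg.Agent.S5738

set_option autoImplicit false
open Cfsg
open Cfsg.Agent.S5738

namespace Cfsg.Agent.S5739

section
variable {F K : Type*} [Field F] [Field K] [Algebra F K]

/-- left multiplication as an endomorphism -/
noncomputable def Lm (a : K) : Module.End F K := (Algebra.lmul F K : K →ₐ[F] Module.End F K) a

theorem Lm_apply (a x : K) : Lm (F := F) a x = a * x := rfl

theorem Lm_injective : Function.Injective (Lm (F := F) (K := K)) := by
  intro a b h
  have := congrArg (fun T : Module.End F K => T 1) h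
  simpa [Lm_apply] using this

theorem Lu_coe (a : Kˣ) : ((Lu (F := F) a : (Module.End F K)ˣ) : Module.End F K) = Lm (a : K) := by
  ext x; rw [Lu_apply, Lm_apply]

/-- The elements `a` of `K` whose multiplication map lies in `g (mult. maps) g⁻¹`. -/
noncomputable def interField (g : (Module.End F K)ˣ) : IntermediateField F K :=
  Subalgebra.toIntermediateField
    { carrier := {a : K | ∃ b : K, Lm (F := F) a = (g : Module.End F K) * Lm b * ((g⁻¹ : (Module.End F K)ˣ) : Module.End F K)}
      mul_mem' := by
        rintro a a' ⟨b, hb⟩ ⟨b', hb'⟩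
        refine ⟨b * b', ?_⟩
        have h1 : Lm (F := F) (a * a') = Lm a * Lm a' := map_mul _ _ _
        have h2 : Lm (F := F) (b * b') = Lm b * Lm b' := map_mul _ _ _
        rw [h1, h2, hb, hb']
        have hg : ((g⁻¹ : (Module.End F K)ˣ) : Module.End F K) * (g : Module.End F K) = 1 := by
          rw [← Units.val_mul, inv_mul_cancel]; rfl
        calc (g : Module.End F K) * Lm b * ((g⁻¹ : (Module.End F K)ˣ) : Module.End F K) *
              ((g : Module.End F K) * Lm b' * ((g⁻¹ : (Module.End F K)ˣ) : Module.End F K))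
            = (g : Module.End F K) * Lm b * (((g⁻¹ : (Module.End F K)ˣ) : Module.End F K) *
              (g : Module.End F K)) * Lm b' * ((g⁻¹ : (Module.End F K)ˣ) : Module.End F K) := by
                simp only [mul_assoc]
          _ = _ := by rw [hg, mul_one]; simp only [mul_assoc]
      one_mem' := by
        refine ⟨1, ?_⟩
        have h1 : Lm (F := F) (1 : K) = 1 := map_one _
        rw [h1, mul_one, ← Units.val_mul, mul_inv_cancel]; rfl
      add_mem' := by
        rintro a a' ⟨b, hb⟩ ⟨b', hb'⟩
        refine ⟨b + b', ?_⟩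
        have h1 : Lm (F := F) (a + a') = Lm a + Lm a' := map_add _ _ _
        have h2 : Lm (F := F) (b + b') = Lm b + Lm b' := map_add _ _ _
        rw [h1, h2, hb, hb', mul_add, add_mul]
      zero_mem' := by
        refine ⟨0, ?_⟩
        have h1 : Lm (F := F) (0 : K) = 0 := map_zero _
        rw [h1, mul_zero, zero_mul]
      algebraMap_mem' := by
        intro c
        refine ⟨algebraMap F K c, ?_⟩
        have h1 : Lm (F := F) (algebraMap F K c) = algebraMap F (Module.End F K) c := AlgHom.commutes _ c
        rw [h1, ← Algebra.commutes, mul_assoc, ← Units.val_mul, mul_inv_cancel, Units.val_one, mul_one] }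
    (by
      rintro a ⟨b, hb⟩
      by_cases ha : a = 0
      · subst ha
        exact ⟨0, by
          have h1 : Lm (F := F) (0 : K) = 0 := map_zero _
          rw [inv_zero, h1, mul_zero, zero_mul]⟩
      · have hb0 : b ≠ 0 := by
          rintro rfl
          have h1 : Lm (F := F) (0 : K) = 0 := map_zero _
          rw [h1, mul_zero, zero_mul] at hb
          exact ha (Lm_injective (hb.trans h1.symm))
        refine ⟨b⁻¹, ?_⟩
        -- Lm a⁻¹ is the inverse of Lm a
        have hgi : ((g⁻¹ : (Module.End F K)ˣ) : Module.End F K) * (g : Module.End F K) = 1 := by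
          rw [← Units.val_mul, inv_mul_cancel]; rfl
        have hgi' : (g : Module.End F K) * ((g⁻¹ : (Module.End F K)ˣ) : Module.End F K) = 1 := by
          rw [← Units.val_mul, mul_inv_cancel]; rfl
        have h1 : Lm (F := F) a⁻¹ * Lm a = 1 := by
          have := map_mul (Algebra.lmul F K : K →ₐ[F] Module.End F K) a⁻¹ a
          rw [inv_mul_cancel₀ ha, map_one] at this
          exact this.symm
        have h2 : Lm (F := F) b * Lm b⁻¹ = 1 := by
          have := map_mul (Algebra.lmul F K : K →ₐ[F] Module.End F K) b b⁻¹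
          rw [mul_inv_cancel₀ hb0, map_one] at this
          exact this.symm
        have h3 : Lm (F := F) a * ((g : Module.End F K) * Lm b⁻¹ * ((g⁻¹ : (Module.End F K)ˣ) : Module.End F K)) = 1 := by
          rw [hb]
          calc (g : Module.End F K) * Lm b * ((g⁻¹ : (Module.End F K)ˣ) : Module.End F K) *
                ((g : Module.End F K) * Lm b⁻¹ * ((g⁻¹ : (Module.End F K)ˣ) : Module.End F K))
              = (g : Module.End F K) * (Lm b * ((((g⁻¹ : (Module.End F K)ˣ) : Module.End F K) *
                (g : Module.End F K)) * Lm b⁻¹)) * ((g⁻¹ : (Module.End F K)ˣ) : Module.End F K) := by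
                  simp only [mul_assoc]
            _ = 1 := by rw [hgi, one_mul, h2, mul_one, hgi']
        calc Lm (F := F) a⁻¹ = Lm a⁻¹ * (Lm a * ((g : Module.End F K) * Lm b⁻¹ *
              ((g⁻¹ : (Module.End F K)ˣ) : Module.End F K))) := by rw [h3, mul_one]
          _ = _ := by rw [← mul_assoc, h1, one_mul])

theorem mem_interField (g : (Module.End F K)ˣ) (a : K) :
    a ∈ interField (F := F) g ↔ ∃ b : K, Lm (F := F) a =
      (g : Module.End F K) * Lm b * ((g⁻¹ : (Module.End F K)ˣ) : Module.End F K) := Iff.rfl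

theorem conj_Lu_coe (g : (Module.End F K)ˣ) (b : Kˣ) :
    (((MulAut.conj g).toMonoidHom (Lu (F := F) b) : (Module.End F K)ˣ) : Module.End F K) =
      (g : Module.End F K) * Lm (b : K) * ((g⁻¹ : (Module.End F K)ˣ) : Module.End F K) := by
  simp [MulAut.conj_apply, Lu_coe]

end

theorem result {F K : Type*} [Field F] [Fintype F] [Field K] [Fintype K] [Algebra F K] (n : ℕ) (hn : 2 ≤ n) (hdim : Module.finrank F K = n)
    (g : (Module.End F K)ˣ) (hg : ((Units.map ((Algebra.lmul F K : K →ₐ[F] Module.End F K) : K →* Module.End F K)).range).map (MulAut.conj g).toMonoidHom ≠ (Units.map ((Algebra.lmul F K : K →ₐ[F] Module.End F K) : K →* Module.End F K)).range) :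
    ∃ r : ℕ, 1 ≤ r ∧ r ∣ n ∧ r < n ∧ Nat.card ↥(((Units.map ((Algebra.lmul F K : K →ₐ[F] Module.End F K) : K →* Module.End F K)).range).map (MulAut.conj g).toMonoidHom ⊓ (Units.map ((Algebra.lmul F K : K →ₐ[F] Module.End F K) : K →* Module.End F K)).range) ∣ Fintype.card F ^ r - 1 := by
  classical
  change ((Lu (F := F) (K := K)).range).map (MulAut.conj g).toMonoidHom ≠ (Lu (F := F) (K := K)).range at hg
  change ∃ r : ℕ, 1 ≤ r ∧ r ∣ n ∧ r < n ∧ Nat.card ↥(((Lu (F := F) (K := K)).range).map (MulAut.conj g).toMonoidHom ⊓ (Lu (F := F) (K := K)).range) ∣ Fintype.card F ^ r - 1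
  set E := interField (F := F) g with hE
  have hfd : FiniteDimensional F K := FiniteDimensional.of_finrank_pos (by omega)
  have hfinE : Fintype E := Fintype.ofFinite E
  refine ⟨Module.finrank F E, Module.finrank_pos, ?_, ?_, ?_⟩
  · rw [← hdim, ← Module.finrank_mul_finrank F E K]
    exact dvd_mul_right _ _
  · -- strictness
    have hle : Module.finrank F E ≤ n := by
      rw [← hdim]
      exact Submodule.finrank_le E.toSubalgebra.toSubmodule
    refine lt_of_le_of_ne hle ?_
    intro heq
    apply hg
    have htop : E.toSubalgebra.toSubmodule = ⊤ := by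
      apply Submodule.eq_top_of_finrank_eq
      rw [hdim]; exact heq
    have hall : ∀ a : K, a ∈ E := by
      intro a
      have : a ∈ E.toSubalgebra.toSubmodule := by rw [htop]; trivial
      exact this
    have hMle : (Lu (F := F) (K := K)).range ≤ ((Lu (F := F) (K := K)).range).map (MulAut.conj g).toMonoidHom := by
      rintro _ ⟨a, rfl⟩
      obtain ⟨b, hb⟩ := (mem_interField g (a : K)).mp (hall a)
      have hb0 : b ≠ 0 := by
        rintro rfl
        have h1 : Lm (F := F) (0 : K) = 0 := map_zero _
        rw [h1, mul_zero, zero_mul] at hb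
        exact a.ne_zero (Lm_injective (hb.trans h1.symm))
      refine ⟨Lu (F := F) (Units.mk0 b hb0), ⟨_, rfl⟩, ?_⟩
      apply Units.ext
      rw [conj_Lu_coe, Lu_coe, Units.val_mk0, hb]
    have hcard : Nat.card (((Lu (F := F) (K := K)).range).map (MulAut.conj g).toMonoidHom)
        = Nat.card (Lu (F := F) (K := K)).range :=
      Nat.card_congr ((Lu (F := F) (K := K)).range.equivMapOfInjective _ (MulAut.conj g).injective).symm.toEquiv
    haveI : Finite (Module.End F K) :=
      Finite.of_injective (fun f : Module.End F K => (f : K → K)) DFunLike.coe_injective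
    exact (Subgroup.eq_of_le_of_card_ge hMle (le_of_eq hcard)).symm
  · -- the count
    have hcardE : Fintype.card E = Fintype.card F ^ Module.finrank F E := Module.card_eq_pow_finrank
    rw [← hcardE, ← Fintype.card_units, ← Nat.card_eq_fintype_card]
    apply dvd_of_eq
    -- bijection Eˣ → M^g ⊓ M
    have hmemE : ∀ u : Eˣ, Lu (F := F) (Units.map E.val.toMonoidHom u) ∈
        ((Lu (F := F) (K := K)).range).map (MulAut.conj g).toMonoidHom ⊓ (Lu (F := F) (K := K)).range := by
      intro u
      refine ⟨?_, ⟨_, rfl⟩⟩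
      obtain ⟨b, hb⟩ := (mem_interField g ((u : E) : K)).mp (u : E).2
      have hu0 : ((u : E) : K) ≠ 0 := by
        intro h
        exact u.ne_zero (Subtype.ext h)
      have hb0 : b ≠ 0 := by
        rintro rfl
        have h1 : Lm (F := F) (0 : K) = 0 := map_zero _
        rw [h1, mul_zero, zero_mul] at hb
        exact hu0 (Lm_injective (hb.trans h1.symm))
      refine ⟨Lu (F := F) (Units.mk0 b hb0), ⟨_, rfl⟩, ?_⟩
      apply Units.ext
      rw [conj_Lu_coe, Lu_coe, Units.val_mk0, ← hb]
      rfl
    symm
    apply Nat.card_eq_of_bijective (fun u : Eˣ => (⟨_, hmemE u⟩ :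
      ↥(((Lu (F := F) (K := K)).range).map (MulAut.conj g).toMonoidHom ⊓ (Lu (F := F) (K := K)).range)))
    constructor
    · intro u v huv
      have h1 : Lu (F := F) (Units.map E.val.toMonoidHom u) = Lu (F := F) (Units.map E.val.toMonoidHom v) :=
        congrArg Subtype.val huv
      have h2 := congrArg (fun U : (Module.End F K)ˣ => (U : Module.End F K) 1) h1
      simp only [Lu_apply, mul_one] at h2
      apply Units.ext
      apply Subtype.ext
      exact h2
    · rintro ⟨U, hU1, ⟨a, rfl⟩⟩
      obtain ⟨_, ⟨b, rfl⟩, hb⟩ := hU1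
      have haE : (a : K) ∈ E := by
        rw [hE, mem_interField]
        refine ⟨(b : K), ?_⟩
        rw [← Lu_coe, ← hb, conj_Lu_coe]
      have hainvE : ((a⁻¹ : Kˣ) : K) ∈ E := by
        rw [Units.val_inv_eq_inv_val]
        exact E.inv_mem haE
      refine ⟨⟨⟨a, haE⟩, ⟨((a⁻¹ : Kˣ) : K), hainvE⟩, Subtype.ext (by simp), Subtype.ext (by simp)⟩, ?_⟩
      apply Subtype.ext
      show Lu (F := F) _ = Lu (F := F) a
      congr 1

end Cfsg.Agent.S5739
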