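import Mathlib
import Cfsg.Statements.S5747
import Cfsg.Agent.Lib.Helper9.IBIS3

set_option autoImplicit false
open Cfsg

namespace Cfsg.Agent.S5747

open Cfsg.Agent.Lib.Helper9

theorem cond_iff {G Ω : Type*} [Group G] [MulAction G Ω] {t : ℕ} (f : Fin t → Ω) :
    ((∀ g : G, (∀ i : Fin t, g • f i = f i) → g = 1) ∧ ∀ i : Fin t, ∃ g : G, (∀ j : Fin t, j < i → g • f j = f j) ∧ g • f i ≠ f i) ↔
      IBfn (⊤ : Subgroup G) f := by
  unfold IBfn
  constructor
  · rintro ⟨h1, h2⟩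
    refine ⟨fun g _ => h1 g, fun i => ?_⟩
    obtain ⟨g, hg⟩ := h2 i
    exact ⟨g, Subgroup.mem_top g, hg⟩
  · rintro ⟨h1, h2⟩
    refine ⟨fun g => h1 g (Subgroup.mem_top g), fun i => ?_⟩
    obtain ⟨g, -, hg⟩ := h2 i
    exact ⟨g, hg⟩

/-- Let a finite group G act on a finite set Ω. An irredundant base is a sequence of points ω₁, …, ω_t whose pointwise stabiliser is trivial and in which each ω_i is moved by some element fixing ω₁, …, ω_{i−1}. Then all irredundant bases have the same length if and only if every reordering of an irredundant base is again an irredundant base. -/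
theorem result {G Ω : Type*} [Group G] [Finite G] [MulAction G Ω] [Fintype Ω] :
    (∀ (t t' : ℕ) (f : Fin t → Ω) (f' : Fin t' → Ω), ((∀ g : G, (∀ i : Fin t, g • f i = f i) → g = 1) ∧ ∀ i : Fin t, ∃ g : G, (∀ j : Fin t, j < i → g • f j = f j) ∧ g • f i ≠ f i) → ((∀ g : G, (∀ i : Fin t', g • f' i = f' i) → g = 1) ∧ ∀ i : Fin t', ∃ g : G, (∀ j : Fin t', j < i → g • f' j = f' j) ∧ g • f' i ≠ f' i) → t = t') ↔
    (∀ (t : ℕ) (f : Fin t → Ω) (σ : Equiv.Perm (Fin t)), ((∀ g : G, (∀ i : Fin t, g • f i = f i) → g = 1) ∧ ∀ i : Fin t, ∃ g : G, (∀ j : Fin t, j < i → g • f j = f j) ∧ g • f i ≠ f i) → ((∀ g : G, (∀ i : Fin t, g • (f ∘ σ) i = (f ∘ σ) i) → g = 1) ∧ ∀ i : Fin t, ∃ g : G, (∀ j : Fin t, j < i → g • (f ∘ σ) j = (f ∘ σ) j) ∧ g • (f ∘ σ) i ≠ (f ∘ σ) i)) := by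
  constructor
  · intro hA t f σ hf
    rw [cond_iff] at hf ⊢
    have hss : SameSize (Ω := Ω) (⊤ : Subgroup G) := by
      intro L L' hL hL'
      rw [IB_iff_IBfn_get, ← cond_iff] at hL hL'
      exact hA _ _ _ _ hL hL'
    rw [IBfn_iff_IB] at hf ⊢
    exact IB_of_perm_of_sameSize ⊤ hss (σ.ofFn_comp_perm f).symm hf
  · intro hB t t' f f' hf hf'
    have hswap : SwapInv (Ω := Ω) (⊤ : Subgroup G) := by
      intro L1 a b L2 hL
      obtain ⟨σ, hσ⟩ := exists_perm_swap L1 a b L2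
      rw [IB_iff_IBfn_get, ← cond_iff] at hL
      have := hB _ _ σ hL
      rw [cond_iff, IBfn_iff_IB, hσ] at this
      exact this
    have hss := sameSize_of_swapInv (Ω := Ω) _ (⊤ : Subgroup G) rfl hswap
    rw [cond_iff, IBfn_iff_IB] at hf hf'
    have := hss _ _ hf hf'
    rw [List.length_ofFn, List.length_ofFn] at this
    exact this

end Cfsg.Agent.S5747
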