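import Cfsg.Statements.S5748
import Cfsg.Agent.Lib.Helper7.CAGrp5
import Cfsg.Agent.S1230
import Cfsg.Agent.S4065

set_option autoImplicit false
open Cfsg

namespace Cfsg.Agent.S5748

/-- A finite non-abelian simple group in which commuting is a transitive relation on the non-identity elements (equivalently, every non-identity element has abelian centraliser) is isomorphic to PSL₂ over a field with 2^f elements for some f ≥ 2; conversely these groups have that property. -/
theorem result {G : Type*} [Group G] [Finite G] [IsSimpleGroup G] (hG : ¬ IsMulCommutative G) :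
    (∀ a b c : G, a ≠ 1 → b ≠ 1 → c ≠ 1 → Commute a b → Commute b c → Commute a c) ↔
    ∃ (F : Type) (_ : Field F) (_ : Fintype F) (f : ℕ), 2 ≤ f ∧ Fintype.card F = 2 ^ f ∧ Nonempty (G ≃* Matrix.ProjectiveSpecialLinearGroup (Fin 2) F) := by
  constructor
  · intro hCT
    have hCT' : Cfsg.Agent.Lib.Helper7.CAGrp.CT G := hCT
    obtain ⟨T, hnc, hnn⟩ := hCT'.exists_sylow hG
    have hC := fun t ht => hCT'.centralizer_elementary hG t ht
    obtain ⟨F, iF, iFt, hcard, hiso⟩ := Cfsg.Agent.S1230.result T hnc hnn hC
    haveI : Fact (Nat.Prime 2) := ⟨Nat.prime_two⟩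
    obtain ⟨f, hf⟩ := (T.isPGroup').exists_card_eq
    refine ⟨F, iF, iFt, f, ?_, by rw [hcard, hf], hiso⟩
    rcases f with _ | _ | f
    · exfalso
      rw [pow_zero] at hf
      have := (Nat.card_eq_one_iff_unique.mp hf).1
      exact hnc isCyclic_of_subsingleton
    · exfalso
      rw [zero_add, pow_one] at hf
      exact hnc (isCyclic_of_prime_card hf)
    · omega
  · rintro ⟨F, iF, iFt, f, hf, hcard, ⟨e⟩⟩
    obtain ⟨p, hp⟩ := CharP.exists F
    haveI := hp
    obtain ⟨n, hpprime, hn⟩ := FiniteField.card F p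
    have hdvd : p ∣ 2 ^ f := by
      rw [← hcard, hn]
      exact dvd_pow_self p n.ne_zero
    have hp2 : p = 2 :=
      (Nat.prime_dvd_prime_iff_eq hpprime Nat.prime_two).mp (hpprime.dvd_of_dvd_pow hdvd)
    subst hp2
    intro a b c ha hb hc hab hbc
    have hb' : e b ≠ 1 := fun hh => hb (e.injective (hh.trans (map_one e).symm))
    have h1 : e a * e b = e b * e a := by rw [← map_mul, ← map_mul, hab.eq]
    have h2 : e c * e b = e b * e c := by rw [← map_mul, ← map_mul, hbc.eq]
    have h3 := Cfsg.Agent.S4065.psl_ca (e b) (e a) (e c) hb' h1 h2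
    apply e.injective
    rw [map_mul, map_mul, h3]

end Cfsg.Agent.S5748
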