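import Mathlib
import Cfsg.Statements.S5754
import Cfsg.Agent.Lib.Helper9.AnisoWitt

set_option autoImplicit false
open Cfsg

namespace Cfsg.Agent.S5754

open Cfsg.Agent.H9Aniso QuadraticMap in
/-- Let V be a finite-dimensional vector space over a finite field F carrying an anisotropic quadratic form Q (Q(v) = 0 only for v = 0). Then the group of all maps v ↦ φ(v) + c, with φ an isometry of Q and c ∈ V, acts on V as a binary permutation group: given n ≥ 2 and two n-tuples u, u' of vectors such that every pair of corresponding entries of u is carried to that of u' by such a map, one such map carries u to u'. -/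
theorem result {F V : Type*} [Field F] [Finite F] [AddCommGroup V] [Module F V] [Module.Finite F V]
    (Q : QuadraticForm F V) (hQ : Q.Anisotropic) (n : ℕ) (hn : 2 ≤ n) (u u' : Fin n → V)
    (h2 : ∀ i j : Fin n, i ≠ j → ∃ (φ : Q.IsometryEquiv Q) (c : V), φ (u i) + c = u' i ∧ φ (u j) + c = u' j) :
    ∃ (φ : Q.IsometryEquiv Q) (c : V), ∀ i, φ (u i) + c = u' i := by
  classical
  have h0 : 0 < n := by omega
  have hD : ∀ i j : Fin n, Q (u i - u j) = Q (u' i - u' j) := by
    intro i j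
    by_cases hij : i = j
    · subst hij; simp
    · obtain ⟨φ, c, h1, h2⟩ := h2 i j hij
      have : φ (u i - u j) = u' i - u' j := by
        rw [map_sub, ← h1, ← h2]; abel
      rw [← this, φ.map_app]
  have key : ∀ a b : V, polar Q a b = Q a + Q b - Q (a - b) := by
    intro a b
    rw [sub_eq_add_neg a b, QuadraticMap.map_add (⇑Q), QuadraticMap.map_neg,
      polar_neg_right]
    ring
  have hq : ∀ i : Fin n, Q (u i - u ⟨0, h0⟩) = Q (u' i - u' ⟨0, h0⟩) := fun i => hD i ⟨0, h0⟩
  have hp : ∀ i j : Fin n, polar Q (u i - u ⟨0, h0⟩) (u j - u ⟨0, h0⟩)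
      = polar Q (u' i - u' ⟨0, h0⟩) (u' j - u' ⟨0, h0⟩) := by
    intro i j
    rw [key, key, hq, hq]
    congr 1
    have e1 : u i - u ⟨0, h0⟩ - (u j - u ⟨0, h0⟩) = u i - u j := by abel
    have e2 : u' i - u' ⟨0, h0⟩ - (u' j - u' ⟨0, h0⟩) = u' i - u' j := by abel
    rw [e1, e2, hD]
  obtain ⟨ψ, hψ⟩ := exists_isometry Q hQ n (fun i => u i - u ⟨0, h0⟩)
    (fun i => u' i - u' ⟨0, h0⟩) hq hp n le_rfl
  refine ⟨ψ, u' ⟨0, h0⟩ - ψ (u ⟨0, h0⟩), fun i => ?_⟩
  have h1 := hψ i i.2
  simp only [map_sub] at h1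
  have h3 : ψ (u i) = u' i - u' ⟨0, h0⟩ + ψ (u ⟨0, h0⟩) := by
    rw [← h1]; abel
  rw [h3]; abel

end Cfsg.Agent.S5754
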