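import Mathlib
import Cfsg.Statements.S5763
import Cfsg.Agent.Lib.Helper9.Sym8Sylow
import Cfsg.Agent.Lib.Helper9.Sym8Sylow2
import Cfsg.Agent.Lib.Helper9.Sym8Sylow3

set_option autoImplicit false
open Cfsg

namespace Cfsg.Agent.S5763

open Cfsg.Agent.Lib.Helper9.Sym8Sylow
open scoped Pointwise

/-- In the symmetric group on 8 letters any two Sylow 2-subgroups have non-trivial intersection: for a Sylow 2-subgroup H and every element x, H ∩ xHx⁻¹ ≠ 1. -/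
theorem result (H : Sylow 2 (Equiv.Perm (Fin 8))) (x : Equiv.Perm (Fin 8)) :
    (H : Subgroup (Equiv.Perm (Fin 8))) ⊓ (H : Subgroup (Equiv.Perm (Fin 8))).map (MulAut.conj x).toMonoidHom ≠ ⊥ := by
  haveI : Fact (Nat.Prime 2) := ⟨Nat.prime_two⟩
  obtain ⟨P1, hP1⟩ := P0_isPGroup.exists_le_sylow
  obtain ⟨y, hy⟩ := MulAction.exists_smul_eq (Equiv.Perm (Fin 8)) P1 H
  have hH : (H : Subgroup (Equiv.Perm (Fin 8))) =
      MulAut.conj y • (P1 : Subgroup (Equiv.Perm (Fin 8))) := by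
    rw [← hy]; rfl
  have hmemH : ∀ τ, τ ∈ P0 → y * τ * y⁻¹ ∈ (H : Subgroup (Equiv.Perm (Fin 8))) := by
    intro τ hτ
    rw [hH, Subgroup.mem_smul_pointwise_iff_exists]
    exact ⟨τ, hP1 hτ, by simp [MulAut.smul_def]⟩
  obtain ⟨σ, hσW, hσ⟩ := exists_witness (y⁻¹ * x⁻¹ * y)
  obtain ⟨hσP, hσ1⟩ := W_mem σ hσW
  intro hbot
  have hmem : y * σ * y⁻¹ ∈ (H : Subgroup (Equiv.Perm (Fin 8))) ⊓
      (H : Subgroup (Equiv.Perm (Fin 8))).map (MulAut.conj x).toMonoidHom := by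
    refine Subgroup.mem_inf.mpr ⟨hmemH σ hσP, ?_⟩
    rw [Subgroup.mem_map]
    refine ⟨x⁻¹ * (y * σ * y⁻¹) * x, ?_, ?_⟩
    · have e : x⁻¹ * (y * σ * y⁻¹) * x =
          y * ((y⁻¹ * x⁻¹ * y) * σ * (y⁻¹ * x⁻¹ * y)⁻¹) * y⁻¹ := by group
      rw [e]
      exact hmemH _ hσ
    · simp only [MulEquiv.coe_toMonoidHom, MulAut.conj_apply]
      group
  rw [hbot, Subgroup.mem_bot] at hmem
  apply hσ1
  calc σ = y⁻¹ * (y * σ * y⁻¹) * y := by group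
    _ = 1 := by rw [hmem]; group

end Cfsg.Agent.S5763
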