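import Cfsg.Statements.S5876
import Mathlib
import Cfsg.Agent.Lib.Helper2.Psl3

set_option autoImplicit false
open Cfsg

namespace Cfsg.Agent.S5876

open Cfsg.Agent.Lib.Helper2.Psl

/-- Fixed-point spaces in primitive soluble linear groups. Let F be a finite field and G a soluble subgroup of GL_n(F) that acts irreducibly on F^n and primitively (G preserves no decomposition of F^n into two or more independent subspaces of equal dimension). Then every non-identity element g of G has fixed-point space {v : g v = v} of dimension at most 3n/4. -/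
theorem result {F : Type*} [Field F] [Fintype F] {n : ℕ} (G : Subgroup (Matrix.GeneralLinearGroup (Fin n) F)) (hsol : IsSolvable G) (hirr : Cfsg.Geo.ActsIrreducibly (Cfsg.Geo.matrixSet G)) (hprim : ∀ (m t : ℕ) (D : Fin t → Submodule F (Fin n → F)), 2 ≤ t → Cfsg.Geo.IsMDecomposition m D → ¬ G ≤ Cfsg.Geo.decompositionStabilizer D) (g : Matrix.GeneralLinearGroup (Fin n) F) (hg : g ∈ G) (hg1 : g ≠ 1) :
    4 * Module.finrank F (Module.End.eigenspace (Matrix.toLin' (g : Matrix (Fin n) (Fin n) F)) 1) ≤ 3 * n := by
  classical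
  let ρ : G →* ((Fin n → F) ≃ₗ[F] (Fin n → F)) :=
    ((LinearMap.GeneralLinearGroup.generalLinearEquiv F (Fin n → F)).toMonoidHom.comp
      (Matrix.GeneralLinearGroup.toLin.toMonoidHom)).comp G.subtype
  have hρapp : ∀ (x : G) (v : Fin n → F),
      ρ x v = Matrix.toLin' ((x : Matrix.GeneralLinearGroup (Fin n) F) :
        Matrix (Fin n) (Fin n) F) v := by
    intro x v
    rfl
  have hρlin : ∀ (x : G),
      ((ρ x : (Fin n → F) ≃ₗ[F] (Fin n → F)) : (Fin n → F) →ₗ[F] (Fin n → F)) =
        Matrix.toLin' ((x : Matrix.GeneralLinearGroup (Fin n) F) :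
          Matrix (Fin n) (Fin n) F) := by
    intro x
    apply LinearMap.ext
    intro v
    exact hρapp x v
  have hinj : Function.Injective ρ := by
    intro x y hxy
    apply Subtype.ext
    apply Units.ext
    have h1 := hρlin x
    rw [hxy, hρlin y] at h1
    exact (Matrix.toLin'.injective h1).symm
  haveI : Finite G := inferInstance
  have hirr' : IsIrreducibleRep ρ := by
    intro W hW
    apply hirr W
    rintro s ⟨x, hx, rfl⟩
    have := hW ⟨x, hx⟩
    rwa [hρlin] at this
  have hprim' : IsPrimitiveRep ρ := by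
    intro t D ht hne hfr hind hsup hperm
    have h0 : 0 < t := by omega
    refine hprim (Module.finrank F (D ⟨0, h0⟩)) t D ht
      ⟨ht, ?_, fun i => hfr i _, hind, hsup⟩ ?_
    · have := Submodule.one_le_finrank_iff.mpr (hne ⟨0, h0⟩)
      omega
    · intro x hx
      obtain ⟨σ, hσ⟩ := hperm ⟨x, hx⟩
      refine ⟨σ, fun i => ?_⟩
      rw [← hσ i, hρlin]
  have hg1' : (⟨g, hg⟩ : G) ≠ 1 := by
    intro h
    apply hg1
    exact congrArg Subtype.val h
  have key := four_mul_finrank_fixSp_le (ρ := ρ) hsol hirr' hprim' hinj hg1'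
  have hfix : fixSp ρ ⟨g, hg⟩ =
      Module.End.eigenspace (Matrix.toLin' (g : Matrix (Fin n) (Fin n) F)) 1 := by
    ext v
    rw [mem_fixSp, Module.End.mem_eigenspace_iff, one_smul, hρapp]
  rw [hfix, Module.finrank_fin_fun] at key
  exact key

end Cfsg.Agent.S5876
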