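import Mathlib
import Cfsg.Statements.S5887
import Cfsg.Agent.Lib.Helper9.ExtComp4

set_option autoImplicit false
open Cfsg
open Cfsg.Agent

namespace Cfsg.Agent.S5887

/-- Let F be a finite field, n a positive integer and r a composite number (r > 1, not prime) that divides n with r < n. Let K be a subalgebra of the algebra of n × n matrices over F which is a field of degree r over F (commutative, every non-zero element invertible, of dimension r over F). Then the normaliser N of K in GL_n(F) (a group of type ΓL_{n/r}(F_{q^r})) is not a maximal subgroup of GL_n(F), and N ∩ SL_n(F) is not a maximal subgroup of SL_n(F): both lie properly inside the normaliser of an intermediate subfield of prime degree over F. -/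
theorem result {F : Type*} [Field F]
    [Fintype F] (n r : ℕ) (hr1 : 1 < r) (hrp : ¬ r.Prime) (hrn : r ∣ n) (hlt : r < n)
    (K : Subalgebra F (Matrix (Fin n) (Fin n) F)) (hK : Cfsg.Geo.IsFieldSubalgebra r K) :
    ¬ IsCoatom (Cfsg.Geo.subalgebraNormalizer K) ∧
      ¬ Cfsg.Geo.IsMaximalIn (Cfsg.Geo.specialLinear (Fin n) F)
        (Cfsg.Geo.subalgebraNormalizer K ⊓ Cfsg.Geo.specialLinear (Fin n) F) := by
  classical
  haveI : NeZero r := ⟨by omega⟩
  obtain ⟨a, har, ha2, halt⟩ := Nat.exists_dvd_of_not_prime2 hr1 hrp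
  obtain ⟨p, hp⟩ := CharP.exists F
  haveI : Fact p.Prime := ⟨CharP.char_is_prime F p⟩
  obtain ⟨f, _, hq⟩ := FiniteField.card F p
  haveI : Nonempty (Fin n) := ⟨⟨0, by omega⟩⟩
  haveI : CharP (H9FK.FK K hK) p :=
    charP_of_injective_algebraMap (algebraMap F (H9FK.FK K hK)).injective p
  have hadd : ∀ (s : ℕ) (x y : H9FK.FK K hK),
      (x + y) ^ (Fintype.card F) ^ s = x ^ (Fintype.card F) ^ s + y ^ (Fintype.card F) ^ s := by
    intro s x y
    rw [hq, ← pow_mul]
    exact add_pow_char_pow x y p _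
  have hF : ∀ (s : ℕ) (c : F), c ^ (Fintype.card F) ^ s = c := fun s c => FiniteField.pow_card_pow s c
  -- dimension
  have hfr : Module.finrank F (H9FK.FK K hK) = r := H9FK.FK.finrank_eq
  haveI : Module.Finite F (H9FK.FK K hK) := Module.finite_of_finrank_pos (by rw [hfr]; omega)
  have hdim : 2 ≤ Module.finrank (H9FK.FK K hK) (Fin n → F) := by
    have h1 := Module.finrank_mul_finrank F (H9FK.FK K hK) (Fin n → F)
    rw [hfr, Module.finrank_fintype_fun_eq_card, Fintype.card_fin] at h1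
    rcases Nat.lt_or_ge (Module.finrank (H9FK.FK K hK) (Fin n → F)) 2 with h | h
    · interval_cases (Module.finrank (H9FK.FK K hK) (Fin n → F)) <;> omega
    · exact h
  obtain ⟨lam, e₁, e₂, h1, h2, he2⟩ := H9ExtF.exists_lam (K := K) (hK := hK) hdim
  have hcard : Nat.card (H9FK.FK K hK) = (Fintype.card F) ^ r := by
    rw [Module.natCard_eq_pow_finrank (K := F) (V := H9FK.FK K hK), hfr, Nat.card_eq_fintype_card]
  have hq2 : 2 ≤ Fintype.card F := Fintype.one_lt_card
  obtain ⟨α, β, hα, hβ1, hβ2⟩ :=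
    H9ExtF.exists_alpha_beta (H9FK.FK K hK) (Fintype.card F) a r hq2 hcard har (by omega) halt
  obtain ⟨g₁, hg₁S, hg₁c, hg₁n⟩ := H9ExtF.exists_witness (p := p) ((Fintype.card F) ^ a) (hadd a) (hF a)
    lam e₁ e₂ h1 h2 he2 α hα
  have hβ2' : β ^ (Fintype.card F) ^ 1 ≠ β := by rw [pow_one]; exact hβ2
  obtain ⟨g₂, hg₂S, hg₂c, hg₂n⟩ := H9ExtF.exists_witness (p := p) ((Fintype.card F) ^ 1) (hadd 1) (hF 1)
    lam e₁ e₂ h1 h2 he2 β hβ2'
  have hle := H9ExtF.normalizer_le_fixedSub (K := K) (hK := hK) ((Fintype.card F) ^ a) (hadd a) (hF a)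
  have hg₁N : g₁ ∈ Cfsg.Geo.subalgebraNormalizer
      (H9ExtF.fixedSub K hK ((Fintype.card F) ^ a) (hadd a) (hF a)) := by
    apply H9ExtF.mem_normalizer_of_commute
    intro k hk
    exact hg₁c k hk.1 hk.2
  have hg₁K : g₁ ∉ Cfsg.Geo.subalgebraNormalizer K := by
    intro hmem
    exact hg₁n ((hmem α.val).mp α.mem)
  have hg₂N : g₂ ∉ Cfsg.Geo.subalgebraNormalizer
      (H9ExtF.fixedSub K hK ((Fintype.card F) ^ a) (hadd a) (hF a)) := by
    intro hmem
    have hβmem : β.val ∈ H9ExtF.fixedSub K hK ((Fintype.card F) ^ a) (hadd a) (hF a) :=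
      ⟨β.mem, congrArg H9FK.FK.val hβ1⟩
    exact hg₂n ((hmem β.val).mp hβmem).1
  constructor
  · intro hco
    have hlt : Cfsg.Geo.subalgebraNormalizer K <
        Cfsg.Geo.subalgebraNormalizer (H9ExtF.fixedSub K hK ((Fintype.card F) ^ a) (hadd a) (hF a)) :=
      lt_of_le_of_ne hle (fun heq => hg₁K (heq ▸ hg₁N))
    have htop := hco.2 _ hlt
    apply hg₂N
    rw [htop]
    exact Subgroup.mem_top _
  · rintro ⟨_, hmax⟩
    rcases hmax (Cfsg.Geo.subalgebraNormalizer
        (H9ExtF.fixedSub K hK ((Fintype.card F) ^ a) (hadd a) (hF a)) ⊓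
          Cfsg.Geo.specialLinear (Fin n) F) (inf_le_inf_right _ hle) inf_le_right with h | h
    · have : g₁ ∈ Cfsg.Geo.subalgebraNormalizer K ⊓ Cfsg.Geo.specialLinear (Fin n) F := by
        rw [← h]
        exact ⟨hg₁N, hg₁S⟩
      exact hg₁K this.1
    · have : g₂ ∈ Cfsg.Geo.subalgebraNormalizer
        (H9ExtF.fixedSub K hK ((Fintype.card F) ^ a) (hadd a) (hF a)) ⊓
          Cfsg.Geo.specialLinear (Fin n) F := by
        rw [h]
        exact hg₂S
      exact hg₂N this.1

end Cfsg.Agent.S5887
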