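import Mathlib
import Cfsg.Statements.S5893
import Cfsg.Agent.S0494
import Cfsg.Agent.Lib.Helper2.DSubP9
import Cfsg.Agent.Lib.Helper2.DSubM3
import Cfsg.Agent.Lib.Helper9.PSLMax10

set_option autoImplicit false
open Cfsg
open Cfsg.Agent.Lib.Helper9.H9PM Cfsg.Agent.Lib.Helper2 Cfsg.Agent.Lib.Helper2.DSub

namespace Cfsg.Agent.S5893

/-- Let F be a finite field of even order q ≥ 4 and let M be a maximal subgroup of PSL₂(F) (= SL₂(F) = PGL₂(F)). Then one of the following holds: |M| = q(q − 1) (the stabiliser of a point of the projective line, elementary abelian of order q extended by a cyclic group of order q − 1); M is dihedral of order 2(q − 1); M is dihedral of order 2(q + 1); or q = q₀^r for a prime r with q₀ ≠ 2 and M ≅ PSL₂(F₀) with |F₀| = q₀. -/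
theorem result {F : Type*} [Field F] [Fintype F]
    (heven : Even (Fintype.card F)) (h4 : 4 ≤ Fintype.card F) (M : Subgroup (Matrix.ProjectiveSpecialLinearGroup (Fin 2) F)) (hM : IsCoatom M) :
    Nat.card M = Fintype.card F * (Fintype.card F - 1) ∨
    Nonempty (M ≃* DihedralGroup (Fintype.card F - 1)) ∨
    Nonempty (M ≃* DihedralGroup (Fintype.card F + 1)) ∨
    (∃ (F₀ : Type) (_ : Field F₀) (_ : Fintype F₀) (r : ℕ), r.Prime ∧ Fintype.card F₀ ≠ 2 ∧
        Fintype.card F = Fintype.card F₀ ^ r ∧ Nonempty (M ≃* Matrix.ProjectiveSpecialLinearGroup (Fin 2) F₀)) := by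
  classical
  -- characteristic 2
  obtain ⟨p, hp⟩ := CharP.exists F
  haveI := hp
  have hpp : p.Prime := CharP.char_is_prime F p
  obtain ⟨⟨n, hn0⟩, -, hqn⟩ := FiniteField.card F p
  have hqn' : Fintype.card F = p ^ n := hqn
  have hp2 : p = 2 := by
    have h2 : 2 ∣ p ^ n := by rw [← hqn']; exact heven.two_dvd
    exact ((Nat.prime_dvd_prime_iff_eq Nat.prime_two hpp).mp
      (Nat.prime_two.dvd_of_dvd_pow h2)).symm
  subst hp2
  haveI := finite_psl (F := F)
  haveI := simple_psl h4
  have hna := psl_not_comm h4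
  have hgcd := gcd_two_of_even (F := F) CharTwo.two_eq_zero
  set q := Fintype.card F with hq
  -- the subfield case, common to the last two alternatives of Dickson's theorem
  have hSub : ∀ (K : Type) (hKf : Field K) (hKfin : Fintype K), CharP K 2 →
      (M ≃* Matrix.ProjectiveSpecialLinearGroup (Fin 2) K) →
      Nat.card M = q * (q - 1) ∨ Nonempty (M ≃* DihedralGroup (q - 1)) ∨
        Nonempty (M ≃* DihedralGroup (q + 1)) ∨
        (∃ (F₀ : Type) (_ : Field F₀) (_ : Fintype F₀) (r : ℕ), r.Prime ∧ Fintype.card F₀ ≠ 2 ∧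
          q = Fintype.card F₀ ^ r ∧
            Nonempty (M ≃* Matrix.ProjectiveSpecialLinearGroup (Fin 2) F₀)) := by
    intro K hKf hKfin hKch e
    by_cases hK2 : Fintype.card K = 2
    · -- `M` has order `6`
      have hcM : Nat.card M = 6 := by
        rw [Nat.card_congr e.toEquiv, card_psl_even (F := K), hK2]
      have hnaM : ∃ a b : M, a * b ≠ b * a := by
        by_contra hcon
        push Not at hcon
        apply no_abelian_coatom hna M hM
        intro a ha b hb
        exact congrArg Subtype.val (hcon ⟨a, ha⟩ ⟨b, hb⟩)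
      obtain ⟨e3⟩ := nonabelian_six_dihedral hcM hnaM
      have h3 : 3 ∣ q + 1 ∨ 3 ∣ q - 1 := by
        have hq3 : q % 3 ≠ 0 := by
          intro h0
          have h1 : 3 ∣ 2 ^ n := by rw [← hqn']; exact Nat.dvd_of_mod_eq_zero h0
          have h2 := Nat.Prime.dvd_of_dvd_pow Nat.prime_three h1
          omega
        have : q % 3 = 1 ∨ q % 3 = 2 := by omega
        rcases this with h | h
        · right; exact Nat.dvd_of_mod_eq_zero (by omega)
        · left; exact Nat.dvd_of_mod_eq_zero (by omega)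
      rcases dihedral_case h4 M hM 3 h3 e3 with h | h
      · exact Or.inr (Or.inl h)
      · exact Or.inr (Or.inr (Or.inl h))
    · obtain ⟨r, hr, hqr⟩ := subfield_case_psl M hM e
      exact Or.inr (Or.inr (Or.inr ⟨K, hKf, hKfin, r, hr, hK2, hqr, ⟨e⟩⟩))
  rcases dickson_psl_concrete 2 M with ⟨k, hk, hcd⟩ | ⟨P, hP⟩ | ⟨⟨e⟩⟩ | ⟨⟨e⟩⟩ | ⟨⟨e⟩⟩ |
    ⟨K, hKf, hKfin, m, hKm, hiso⟩
  · rw [hgcd, Nat.div_one, Nat.div_one] at hk
    rcases hcd with ⟨hcyc, -⟩ | ⟨⟨e⟩⟩
    · exfalso
      haveI := hcyc
      letI := IsCyclic.commGroup (α := M)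
      apply no_abelian_coatom hna M hM
      intro a ha b hb
      exact congrArg Subtype.val (mul_comm (⟨a, ha⟩ : M) ⟨b, hb⟩)
    · rcases dihedral_case h4 M hM k hk e with h | h
      · exact Or.inr (Or.inl h)
      · exact Or.inr (Or.inr (Or.inl h))
  · exact Or.inl (borel_case M hM P hP)
  · obtain ⟨V, hVn, hV2, hV1⟩ := exists_normal_two_of_A4 e
    exact Or.inl (normal_two_case M hM V hVn hV2 hV1)
  · obtain ⟨V, hVn, hV2, hV1⟩ := exists_normal_two_of_S4 e
    exact Or.inl (normal_two_case M hM V hVn hV2 hV1)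
  · -- `A₅ ≅ PSL₂(4)`
    haveI : Fact (Nat.Prime 2) := ⟨Nat.prime_two⟩
    haveI : Fintype (GaloisField 2 2) := Fintype.ofFinite _
    have hK4 : Fintype.card (GaloisField 2 2) = 4 := by
      rw [← Nat.card_eq_fintype_card, GaloisField.card 2 2 (by norm_num)]
      norm_num
    haveI := finite_psl (F := GaloisField 2 2)
    haveI := simple_psl (F := GaloisField 2 2) (by rw [hK4])
    have h60 : Nat.card (Matrix.ProjectiveSpecialLinearGroup (Fin 2) (GaloisField 2 2)) = 60 := by
      rw [card_psl_even (F := GaloisField 2 2), hK4]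
    obtain ⟨e5⟩ := Cfsg.Agent.S0494.result h60
    exact hSub (GaloisField 2 2) inferInstance inferInstance inferInstance (e.trans e5.symm)
  · -- characteristic of `K`
    obtain ⟨p', hp'⟩ := @CharP.exists K _
    haveI := hp'
    have hp'p : p'.Prime := CharP.char_is_prime K p'
    obtain ⟨⟨n', hn'0⟩, -, hKc⟩ := FiniteField.card K p'
    have hKc' : Fintype.card K = p' ^ n' := hKc
    have hm0 : m ≠ 0 := by
      rintro rfl
      rw [pow_zero] at hKm
      omega
    have hp'2 : p' = 2 := by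
      have h1 : p' ∣ 2 ^ n := by
        rw [← hqn', hq, ← hKm, hKc']
        exact dvd_pow (dvd_pow_self p' (by omega)) hm0
      exact (Nat.prime_dvd_prime_iff_eq hp'p Nat.prime_two).mp
        (hp'p.dvd_of_dvd_pow h1)
    subst hp'2
    rcases hiso with ⟨⟨e⟩⟩ | ⟨⟨e⟩⟩
    · exact hSub K hKf hKfin inferInstance e
    · exact hSub K hKf hKfin inferInstance
        (e.trans (pslEquivPGL (F := K) CharTwo.two_eq_zero).symm)

end Cfsg.Agent.S5893
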