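import Mathlib
import Cfsg.Statements.S5894
import Cfsg.Agent.Lib.Helper9.PartStab
import Cfsg.Agent.S5895

set_option autoImplicit false
open Cfsg

namespace Cfsg.Agent.S5894

open MulAction Equiv Cfsg.Agent.H9PartStab
open scoped Pointwise

section
variable (m : ℕ)

/-- coordinates -/
def EE : Fin (2 * m) ≃ Fin 2 × Fin m := finProdFinEquiv.symm

/-- the labelling -/
def ff : Fin (2 * m) → Fin 2 := fun x => (EE m x).1

theorem ff_card (i : Fin 2) : Nat.card {x : Fin (2 * m) // ff m x = i} = m := by
  have e : {x : Fin (2 * m) // ff m x = i} ≃ Fin m :=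
    { toFun := fun x => (EE m x.1).2,
       invFun := fun z => ⟨(EE m).symm (i, z), by simp [ff]⟩,
       left_inv := by
         rintro ⟨x, hx⟩
         apply Subtype.ext
         change (EE m).symm (i, (EE m x).2) = x
         rw [← hx]
         exact (EE m).symm_apply_apply x,
       right_inv := by
         intro z
         simp }
  rw [Nat.card_congr e, Nat.card_eq_fintype_card, Fintype.card_fin]

end

/-- For every m ≥ 2 the symmetric group on 2m letters has a maximal subgroup M of index 2m together with a maximal subgroup H of M that is not second maximal: some maximal subgroup K of the symmetric group contains H without H being maximal in K. (One may take M the stabiliser of a letter, H ≅ S_m × S_{m−1} inside it, and K ≅ S_m ≀ S₂ the stabiliser of a partition into two m-sets, with H < S_m × S_m < K.) So the prime-index hypothesis in the second-maximality criterion cannot be relaxed to any even index ≥ 4. -/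
theorem result (m : ℕ) (hm : 2 ≤ m) :
    ∃ M H K : Subgroup (Equiv.Perm (Fin (2 * m))), IsCoatom M ∧ M.index = 2 * m ∧ H ≤ M ∧ IsCoatom (H.subgroupOf M) ∧
      IsCoatom K ∧ H ≤ K ∧ ¬ IsCoatom (H.subgroupOf K) := by
  have hm1 : 0 < m := by omega
  set E := EE m with hE
  set f := ff m with hf
  have hfE : ∀ x, (E x).1 = f x := fun x => rfl
  set x₀ : Fin (2 * m) := E.symm (0, ⟨0, hm1⟩) with hx₀
  set x₁ : Fin (2 * m) := E.symm (0, ⟨1, hm⟩) with hx₁
  set x₂ : Fin (2 * m) := E.symm (1, ⟨0, hm1⟩) with hx₂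
  have fx₀ : f x₀ = 0 := by rw [← hfE, hx₀, Equiv.apply_symm_apply]
  have fx₁ : f x₁ = 0 := by rw [← hfE, hx₁, Equiv.apply_symm_apply]
  have fx₂ : f x₂ = 1 := by rw [← hfE, hx₂, Equiv.apply_symm_apply]
  have h01 : x₁ ≠ x₀ := by
    intro h
    have := E.symm.injective h
    simp at this
  have h02 : x₂ ≠ x₀ := by
    intro h
    have := congrArg f h
    rw [fx₀, fx₂] at this
    exact absurd this (by decide)
  let φ : Perm {x : Fin (2 * m) // x ≠ x₀} →* Perm (Fin (2 * m)) := Perm.ofSubtype
  have hφ : Function.Injective φ := Perm.ofSubtype_injective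
  let A' : Set {x : Fin (2 * m) // x ≠ x₀} := {x | f x.1 = 0}
  have hA'1 : A'.Nonempty := ⟨⟨x₁, h01⟩, fx₁⟩
  have hA'2 : A'ᶜ.Nonempty := ⟨⟨x₂, h02⟩, by
    change ¬ (f x₂ = 0)
    rw [fx₂]; decide⟩
  have hcard : Nat.card {x : Fin (2 * m) // x ≠ x₀} ≠ 2 * A'.ncard := by
    have : Nat.card {x : Fin (2 * m) // x ≠ x₀} = 2 * m - 1 := by
      rw [Nat.card_eq_fintype_card, Fintype.card_subtype_compl, Fintype.card_fin]
      simp
    rw [this]; omega
  have hS : IsCoatom (stabilizer (Perm {x : Fin (2 * m) // x ≠ x₀}) A') :=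
    Equiv.Perm.isCoatom_stabilizer hA'1 hA'2 hcard
  have hM : φ.range = stabilizer (Perm (Fin (2 * m))) x₀ := by
    ext g
    rw [mem_stabilizer_iff]
    constructor
    · rintro ⟨σ, rfl⟩
      exact Perm.ofSubtype_apply_of_not_mem σ (by simp)
    · intro hg
      have h1 : ∀ x, g x ≠ x₀ ↔ x ≠ x₀ := by
        intro x
        rw [not_iff_not]
        constructor
        · intro h
          apply g.injective
          rw [h]; exact hg.symm
        · intro h
          rw [h]; exact hg
      refine ⟨g.subtypePerm h1, Perm.ofSubtype_subtypePerm h1 ?_⟩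
      intro x hx h
      apply hx
      rw [h]; exact hg
  have hfib : ∀ i : Fin 2, Nat.card {x : Fin (2 * m) // f x = i} = m := ff_card m
  have hHK : ∀ σ ∈ stabilizer (Perm {x : Fin (2 * m) // x ≠ x₀}) A', ∀ x, f (φ σ x) = f x := by
    intro σ hσ x
    by_cases hx : x = x₀
    · rw [hx, Perm.ofSubtype_apply_of_not_mem σ (by simp)]
    · have h1 : φ σ x = σ ⟨x, hx⟩ := Perm.ofSubtype_apply_of_mem σ hx
      rw [h1]
      rw [mem_stabilizer_iff] at hσ
      have h2 : (⟨x, hx⟩ : {x : Fin (2 * m) // x ≠ x₀}) ∈ A' ↔ σ ⟨x, hx⟩ ∈ A' := by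
        constructor
        · intro h
          rw [← hσ]
          exact ⟨_, h, rfl⟩
        · intro h
          rw [← hσ] at h
          obtain ⟨y, hy, hyx⟩ := h
          have : y = ⟨x, hx⟩ := σ.injective hyx
          rwa [← this]
      change f x = 0 ↔ f (σ ⟨x, hx⟩ : {x : Fin (2 * m) // x ≠ x₀}).1 = 0 at h2
      have h3 : ∀ u v : Fin 2, (u = 0 ↔ v = 0) → v = u := by decide
      exact h3 _ _ h2
  refine ⟨φ.range, (stabilizer (Perm {x : Fin (2 * m) // x ≠ x₀}) A').map φ, partStab f, ?_, ?_, ?_, ?_,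
    ?_, ?_, ?_⟩
  · rw [hM]
    have : Nontrivial (Fin (2 * m)) := Fin.nontrivial_iff_two_le.mpr (by omega)
    exact IsPreprimitive.isCoatom_stabilizer_of_isPreprimitive (G := Perm (Fin (2 * m))) x₀
  · rw [hM, index_stabilizer_of_transitive, Nat.card_eq_fintype_card, Fintype.card_fin]
  · rintro _ ⟨σ, _, rfl⟩
    exact ⟨σ, rfl⟩
  · exact Cfsg.Agent.S5895.coatom_map_subgroupOf_range φ hφ _ hS
  · exact isCoatom_partStab m hm (le_refl 2) f hfib
  · rintro _ ⟨σ, hσ, rfl⟩
    intro x y
    rw [hHK σ hσ x, hHK σ hσ y]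
  · intro hco
    let Y : Subgroup (Perm (Fin (2 * m))) :=
      { carrier := {g | ∀ x, f (g x) = f x},
         one_mem' := fun x => rfl,
         mul_mem' := by
           intro g h hg hh x
           rw [Perm.mul_apply, hg, hh],
         inv_mem' := by
           intro g hg x
           have := hg (g⁻¹ x)
           rw [p_apply_inv] at this
           exact this.symm }
    have hHY : (stabilizer (Perm {x : Fin (2 * m) // x ≠ x₀}) A').map φ ≤ Y := by
      rintro _ ⟨σ, hσ, rfl⟩
      exact hHK σ hσ
    have hYK : Y ≤ partStab f := by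
      intro g hg x y
      rw [hg x, hg y]
    have ht : swap x₀ x₁ ∈ Y := by
      intro u
      by_cases h0 : u = x₀
      · rw [h0, swap_apply_left, fx₀, fx₁]
      · by_cases h1 : u = x₁
        · rw [h1, swap_apply_right, fx₀, fx₁]
        · rw [swap_apply_of_ne_of_ne h0 h1]
    have hr : fibrePerm E (swap 0 1) ∈ partStab f := fibrePerm_mem f E hfE _
    have h1 : ((stabilizer (Perm {x : Fin (2 * m) // x ≠ x₀}) A').map φ).subgroupOf (partStab f) <
        Y.subgroupOf (partStab f) := by
      refine lt_of_le_of_ne (fun x hx => hHY hx) ?_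
      intro h
      have h2 : (⟨_, hYK ht⟩ : partStab f) ∈ Y.subgroupOf (partStab f) := ht
      rw [← h, Subgroup.mem_subgroupOf] at h2
      obtain ⟨σ, _, hσ⟩ := h2
      have h3 := congrArg (fun g : Perm (Fin (2 * m)) => g x₀) hσ
      simp only [swap_apply_left] at h3
      rw [Perm.ofSubtype_apply_of_not_mem σ (by simp)] at h3
      exact h01 h3.symm
    have h2 := hco.2 _ h1
    have h3 : (⟨_, hr⟩ : partStab f) ∈ Y.subgroupOf (partStab f) := by
      rw [h2]; trivial
    have h4 : f (fibrePerm E (swap 0 1) x₀) = f x₀ := h3 x₀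
    rw [f_fibrePerm f E hfE, fx₀, swap_apply_left] at h4
    exact absurd h4 (by decide)

end Cfsg.Agent.S5894
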