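import Mathlib
import Cfsg.Statements.S5896
import Cfsg.Agent.Lib.Helper9.PerfectSolv1
import Cfsg.Agent.Lib.Helper9.PerfectSolv2

set_option autoImplicit false
open Cfsg

namespace Cfsg.Agent.S5896

open Cfsg.Agent.H9Perfect RegularWreathProduct in
open scoped commutatorElement in
/-- Finite perfect groups have solvable maximal subgroups of unbounded derived length: for every d there is a finite perfect group G (equal to its commutator subgroup) with a solvable maximal subgroup H whose derived length exceeds d, i.e. the d-th term of the derived series of H is non-trivial. (Take the derived subgroup of a wreath product S ≀ A₅ with S solvable of large derived length, and H the preimage of a maximal subgroup of A₅.) -/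
theorem result (d : ℕ) :
    ∃ (G : Type) (_ : Group G) (_ : Finite G) (H : Subgroup G), commutator G = ⊤ ∧ IsCoatom H ∧ Group.IsSolvable H ∧
      derivedSeries H d ≠ ⊥ := by
  classical
  obtain ⟨S, hSg, hSf, hSp, hSd⟩ := exists_tower d
  obtain ⟨n, hn⟩ := exists_perfect_core (S ≀ᵣ alternatingGroup (Fin 5))
  have hKn : (derivedSeries (S ≀ᵣ alternatingGroup (Fin 5)) n).Normal := inferInstance
  have hrs : Function.Surjective
      (rightHom : S ≀ᵣ alternatingGroup (Fin 5) →* alternatingGroup (Fin 5)) :=
    fun q => ⟨inl q, rfl⟩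
  have hψ : Function.Surjective
      ((rightHom : S ≀ᵣ alternatingGroup (Fin 5) →* alternatingGroup (Fin 5)).comp
        (derivedSeries (S ≀ᵣ alternatingGroup (Fin 5)) n).subtype) := by
    have h1 : (derivedSeries (S ≀ᵣ alternatingGroup (Fin 5)) n).map
        (rightHom : S ≀ᵣ alternatingGroup (Fin 5) →* alternatingGroup (Fin 5)) = ⊤ := by
      rw [map_derivedSeries_eq hrs n, derivedSeries_eq_top_of_perfect alt5_perfect]
    intro q
    have : q ∈ (derivedSeries (S ≀ᵣ alternatingGroup (Fin 5)) n).map
        (rightHom : S ≀ᵣ alternatingGroup (Fin 5) →* alternatingGroup (Fin 5)) := by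
      rw [h1]; trivial
    obtain ⟨w, hw, rfl⟩ := this
    exact ⟨⟨w, hw⟩, rfl⟩
  refine ⟨derivedSeries (S ≀ᵣ alternatingGroup (Fin 5)) n, inferInstance, inferInstance,
    (MulAction.stabilizer (alternatingGroup (Fin 5)) (0 : Fin 5)).comap
      ((rightHom : S ≀ᵣ alternatingGroup (Fin 5) →* alternatingGroup (Fin 5)).comp
        (derivedSeries (S ≀ᵣ alternatingGroup (Fin 5)) n).subtype),
    commutator_core_eq_top n hn,
    Cfsg.Agent.S5895.coatom_comap _ hψ _ alt5_stab_coatom, ?_, ?_⟩
  · -- solvable
    set ψ := ((rightHom : S ≀ᵣ alternatingGroup (Fin 5) →* alternatingGroup (Fin 5)).comp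
        (derivedSeries (S ≀ᵣ alternatingGroup (Fin 5)) n).subtype) with hψdef
    set M₀ := MulAction.stabilizer (alternatingGroup (Fin 5)) (0 : Fin 5) with hM₀
    let g : (M₀.comap ψ) →* M₀ := (ψ.comp (M₀.comap ψ).subtype).codRestrict M₀ (fun x => x.2)
    haveI := alt5_stab_solvable
    have hmem : ∀ c : g.ker,
        (((derivedSeries (S ≀ᵣ alternatingGroup (Fin 5)) n).subtype.comp
          (M₀.comap ψ).subtype).comp g.ker.subtype) c ∈ base S (alternatingGroup (Fin 5)) := by
      intro c
      have h1 : g c.1 = 1 := c.2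
      have h2 : ψ c.1.1 = 1 := congrArg Subtype.val h1
      exact h2
    let j0 : g.ker →* base S (alternatingGroup (Fin 5)) :=
      (((derivedSeries (S ≀ᵣ alternatingGroup (Fin 5)) n).subtype.comp
          (M₀.comap ψ).subtype).comp g.ker.subtype).codRestrict _ hmem
    have hj0 : Function.Injective j0 := by
      intro a b hab
      have := congrArg Subtype.val hab
      exact Subtype.ext (Subtype.ext (Subtype.ext this))
    haveI : Group.IsSolvable (alternatingGroup (Fin 5) → S) := isSolvable_fun_of_isPGroup hSp
    haveI : Group.IsSolvable g.ker :=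
      Group.isSolvable_of_isSolvable_injective
        (f := (baseLeft S (alternatingGroup (Fin 5))).comp j0)
        ((baseLeft_injective S _).comp hj0)
    exact Group.isSolvable_of_ker_le_range g.ker.subtype g (by rw [Subgroup.range_subtype])
  · -- derived length
    set ψ := ((rightHom : S ≀ᵣ alternatingGroup (Fin 5) →* alternatingGroup (Fin 5)).comp
        (derivedSeries (S ≀ᵣ alternatingGroup (Fin 5)) n).subtype) with hψdef
    set M₀ := MulAction.stabilizer (alternatingGroup (Fin 5)) (0 : Fin 5) with hM₀
    let X : Subgroup (S ≀ᵣ alternatingGroup (Fin 5)) :=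
      derivedSeries (S ≀ᵣ alternatingGroup (Fin 5)) n ⊓ base S (alternatingGroup (Fin 5))
    have hXmem : ∀ x : X, (Subgroup.inclusion (inf_le_left : X ≤ _)) x ∈ M₀.comap ψ := by
      intro x
      have h1 : (x : S ≀ᵣ alternatingGroup (Fin 5)).right = 1 := (mem_base _).mp x.2.2
      change ψ _ ∈ M₀
      have h2 : ψ ((Subgroup.inclusion (inf_le_left : X ≤ _)) x) = 1 := h1
      rw [h2]; exact M₀.one_mem
    let i : X →* (M₀.comap ψ) :=
      (Subgroup.inclusion (inf_le_left : X ≤ _)).codRestrict _ hXmem
    have hi : Function.Injective i := by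
      intro a b hab
      have := congrArg (fun z : M₀.comap ψ =>
        ((z : derivedSeries (S ≀ᵣ alternatingGroup (Fin 5)) n) :
          S ≀ᵣ alternatingGroup (Fin 5))) hab
      exact Subtype.ext this
    apply derivedSeries_ne_bot_of_subquotient i hi
      ((baseEval S (alternatingGroup (Fin 5))).comp (Subgroup.inclusion inf_le_right)) ?_ d hSd
    intro s
    haveI : IsSimpleGroup (alternatingGroup (Fin 5)) :=
      alternatingGroup.isSimpleGroup (by simp)
    obtain ⟨q, hq⟩ := exists_ne (1 : alternatingGroup (Fin 5))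
    obtain ⟨⟨w, hw⟩, hwq⟩ := hψ q
    have hwr : w.right ≠ 1 := by
      have : w.right = q := hwq
      rw [this]; exact hq
    obtain ⟨b, hb1, hb2, hb3⟩ := wreath_comm w hwr s
    refine ⟨⟨⁅b, w⁆, ?_, ?_⟩, ?_⟩
    · rw [commutatorElement_def]
      exact Subgroup.mul_mem _ (hKn.conj_mem w hw b) (Subgroup.inv_mem _ hw)
    · exact (mem_base _).mpr hb2
    · exact hb3

end Cfsg.Agent.S5896
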