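import Mathlib
import Cfsg.Statements.S5902
import Cfsg.Agent.S5901

set_option autoImplicit false
open Cfsg

namespace Cfsg.Agent.S5902

theorem partA {G : Type*} [Group G] [Finite G] (X M : Subgroup G)
    (hK : ComplementedLattice (Subgroup X))
    (hM : IsCoatom M) (hXM : X ≤ M) (huniq : ∀ M' : Subgroup G, IsCoatom M' → X ≤ M' → M' = M) :
    (∀ H : Subgroup G, ¬ H ≤ M.normalCore → ∃ C : Subgroup G, H ⊔ C = ⊤ ∧ H ⊓ C = ⊥) := by
  intro H hH
  have hXtop : X ≠ ⊤ := by
    rintro rfl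
    exact hM.1 (top_le_iff.mp hXM)
  -- the interval [⊥, X] is complemented
  have hint : ∀ Y : Subgroup G, (⊥ : Subgroup G) ≤ Y → Y ≤ X →
      ∃ C : Subgroup G, (⊥ : Subgroup G) ≤ C ∧ C ≤ X ∧ Y ⊔ C = X ∧ Y ⊓ C = ⊥ := by
    intro Y _ hYX
    obtain ⟨C', hC'⟩ := hK.exists_isCompl (Y.subgroupOf X)
    refine ⟨C'.map X.subtype, bot_le, ?_, ?_, ?_⟩
    · exact (Subgroup.map_subtype_le C')
    · have h1 := congrArg (Subgroup.map X.subtype) (codisjoint_iff.mp hC'.codisjoint)
      rw [Subgroup.map_sup, Subgroup.map_subgroupOf_eq_of_le hYX, ← MonoidHom.range_eq_map,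
        Subgroup.range_subtype] at h1
      exact h1
    · have h1 := congrArg (Subgroup.map X.subtype) (disjoint_iff.mp hC'.disjoint)
      rw [Subgroup.map_inf _ _ _ X.subtype_injective, Subgroup.map_subgroupOf_eq_of_le hYX,
        Subgroup.map_bot] at h1
      exact h1
  -- conjugate H so that it is not inside M
  have : ∃ b : G, ¬ H.map (MulAut.conj b).toMonoidHom ≤ M := by
    by_contra hcon
    push_neg at hcon
    apply hH
    intro a ha
    rw [Subgroup.normalCore]
    intro b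
    exact hcon b ⟨a, ha, by simp⟩
  obtain ⟨b, hb⟩ := this
  have hbot : H.map (MulAut.conj b).toMonoidHom ⊓ ⊥ = ⊥ := inf_bot_eq _
  obtain ⟨C₀, h1, h2⟩ := Cfsg.Agent.S5901.result ⊥ X M bot_le hXtop hint hM hXM huniq _ hb hbot
  refine ⟨C₀.map (MulAut.conj b⁻¹).toMonoidHom, ?_, ?_⟩
  · have hH' : H = (H.map (MulAut.conj b).toMonoidHom).map (MulAut.conj b⁻¹).toMonoidHom := by
      rw [Subgroup.map_map]
      have : (MulAut.conj b⁻¹).toMonoidHom.comp (MulAut.conj b).toMonoidHom = MonoidHom.id G := by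
        ext x; simp; group
      rw [this, Subgroup.map_id]
    rw [hH', ← Subgroup.map_sup, h1]
    exact Subgroup.map_top_of_surjective _ (MulAut.conj b⁻¹).surjective
  · have hH' : H = (H.map (MulAut.conj b).toMonoidHom).map (MulAut.conj b⁻¹).toMonoidHom := by
      rw [Subgroup.map_map]
      have : (MulAut.conj b⁻¹).toMonoidHom.comp (MulAut.conj b).toMonoidHom = MonoidHom.id G := by
        ext x; simp; group
      rw [this, Subgroup.map_id]
    rw [hH', ← Subgroup.map_inf _ _ _ (MulAut.conj b⁻¹).injective, h2, Subgroup.map_bot]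

theorem result {G : Type*} [Group G] [Finite G] (X M : Subgroup G)
    (hK : ComplementedLattice (Subgroup X))
    (hM : IsCoatom M) (hXM : X ≤ M) (huniq : ∀ M' : Subgroup G, IsCoatom M' → X ≤ M' → M' = M) :
    (∀ H : Subgroup G, ¬ H ≤ M.normalCore → ∃ C : Subgroup G, H ⊔ C = ⊤ ∧ H ⊓ C = ⊥) ∧
    ComplementedLattice (Subgroup (G ⧸ M.normalCore)) := by
  have hA := partA X M hK hM hXM huniq
  refine ⟨hA, ⟨fun Hbar => ?_⟩⟩
  by_cases hbot : Hbar = ⊥
  · subst hbot
    exact ⟨⊤, isCompl_bot_top⟩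
  · set K := M.normalCore with hKdef
    set H := Hbar.comap (QuotientGroup.mk' K) with hHdef
    have hHK : ¬ H ≤ K := by
      intro hle
      apply hbot
      rw [eq_bot_iff]
      intro y hy
      obtain ⟨x, rfl⟩ := QuotientGroup.mk'_surjective K y
      have hx : x ∈ H := hy
      have := hle hx
      rw [Subgroup.mem_bot]
      exact (QuotientGroup.eq_one_iff x).mpr this
    obtain ⟨C, hC1, hC2⟩ := hA H hHK
    have hHmap : H.map (QuotientGroup.mk' K) = Hbar :=
      Subgroup.map_comap_eq_self_of_surjective (QuotientGroup.mk'_surjective K) Hbar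
    refine ⟨C.map (QuotientGroup.mk' K), ?_⟩
    rw [isCompl_iff, disjoint_iff, codisjoint_iff]
    constructor
    · rw [eq_bot_iff]
      rintro y ⟨hy1, ⟨c, hc, rfl⟩⟩
      have hcH : c ∈ H := hy1
      have : c ∈ H ⊓ C := ⟨hcH, hc⟩
      rw [hC2, Subgroup.mem_bot] at this
      rw [this, map_one]
      exact Subgroup.one_mem _
    · rw [← hHmap, ← Subgroup.map_sup, hC1]
      exact Subgroup.map_top_of_surjective _ (QuotientGroup.mk'_surjective K)

end Cfsg.Agent.S5902
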