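import Mathlib
import Cfsg.Statements.S5903
import Cfsg.Agent.S5901

set_option autoImplicit false
open Cfsg

namespace Cfsg.Agent.S5903

/-- If a conjugate of `H` has a lattice complement, so does `H`. -/
theorem compl_of_conj {G : Type*} [Group G] (H : Subgroup G) (b : G) (C₀ : Subgroup G)
    (h1 : H.map (MulAut.conj b).toMonoidHom ⊔ C₀ = ⊤)
    (h2 : H.map (MulAut.conj b).toMonoidHom ⊓ C₀ = ⊥) :
    ∃ C : Subgroup G, H ⊔ C = ⊤ ∧ H ⊓ C = ⊥ := by
  have hH' : H = (H.map (MulAut.conj b).toMonoidHom).map (MulAut.conj b⁻¹).toMonoidHom := by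
    rw [Subgroup.map_map]
    have : (MulAut.conj b⁻¹).toMonoidHom.comp (MulAut.conj b).toMonoidHom = MonoidHom.id G := by
      ext x; simp; group
    rw [this, Subgroup.map_id]
  refine ⟨C₀.map (MulAut.conj b⁻¹).toMonoidHom, ?_, ?_⟩
  · rw [hH', ← Subgroup.map_sup, h1]
    exact Subgroup.map_top_of_surjective _ (MulAut.conj b⁻¹).surjective
  · rw [hH', ← Subgroup.map_inf _ _ _ (MulAut.conj b⁻¹).injective, h2, Subgroup.map_bot]

/-- the interval `[N, X]` is complemented when `X ⧸ N` has complemented subgroup lattice. -/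
theorem interval_compl {G : Type*} [Group G] (X N : Subgroup G) (hNX : N ≤ X)
    [(N.subgroupOf X).Normal] (hK : ComplementedLattice (Subgroup (X ⧸ N.subgroupOf X))) :
    ∀ Y : Subgroup G, N ≤ Y → Y ≤ X → ∃ C : Subgroup G, N ≤ C ∧ C ≤ X ∧ Y ⊔ C = X ∧ Y ⊓ C = N := by
  intro Y hNY hYX
  obtain ⟨π, hπ⟩ : ∃ π : X →* X ⧸ N.subgroupOf X, π = QuotientGroup.mk' (N.subgroupOf X) := ⟨_, rfl⟩
  have hker : π.ker = N.subgroupOf X := by rw [hπ]; exact QuotientGroup.ker_mk' _
  have hsurj : Function.Surjective π := by rw [hπ]; exact QuotientGroup.mk'_surjective _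
  obtain ⟨Cbar, hC⟩ := hK.exists_isCompl ((Y.subgroupOf X).map π)
  set CX := Cbar.comap π with hCX
  have hKY : π.ker ≤ Y.subgroupOf X := by
    rw [hker]
    intro x hx
    exact hNY hx
  have hYX' : (((Y.subgroupOf X).map π).comap π) = Y.subgroupOf X := Subgroup.comap_map_eq_self hKY
  have hinf : Y.subgroupOf X ⊓ CX = N.subgroupOf X := by
    calc Y.subgroupOf X ⊓ CX = (((Y.subgroupOf X).map π).comap π) ⊓ Cbar.comap π := by rw [hYX']
      _ = (((Y.subgroupOf X).map π) ⊓ Cbar).comap π := (Subgroup.comap_inf _ _ _).symm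
      _ = (⊥ : Subgroup (X ⧸ N.subgroupOf X)).comap π := by rw [disjoint_iff.mp hC.disjoint]
      _ = π.ker := MonoidHom.comap_bot π
      _ = N.subgroupOf X := hker
  have hsup : Y.subgroupOf X ⊔ CX = ⊤ := by
    have hle : π.ker ≤ Y.subgroupOf X ⊔ CX := hKY.trans le_sup_left
    rw [← Subgroup.comap_map_eq_self hle, Subgroup.map_sup, hCX,
      Subgroup.map_comap_eq_self_of_surjective hsurj,
      codisjoint_iff.mp hC.codisjoint, Subgroup.comap_top]
  refine ⟨CX.map X.subtype, ?_, Subgroup.map_subtype_le CX, ?_, ?_⟩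
  · intro n hn
    refine ⟨⟨n, hNX hn⟩, ?_, rfl⟩
    have : (⟨n, hNX hn⟩ : X) ∈ π.ker := by rw [hker]; exact hn
    show π ⟨n, hNX hn⟩ ∈ Cbar
    rw [MonoidHom.mem_ker.mp this]
    exact Subgroup.one_mem _
  · have h1 := congrArg (Subgroup.map X.subtype) hsup
    rw [Subgroup.map_sup, Subgroup.map_subgroupOf_eq_of_le hYX, ← MonoidHom.range_eq_map,
      Subgroup.range_subtype] at h1
    exact h1
  · have h1 := congrArg (Subgroup.map X.subtype) hinf
    rw [Subgroup.map_inf _ _ _ X.subtype_injective, Subgroup.map_subgroupOf_eq_of_le hYX,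
      Subgroup.map_subgroupOf_eq_of_le hNX] at h1
    exact h1

theorem result {G : Type*} [Group G] [Finite G] [IsSimpleGroup G] (X M N : Subgroup G)
    (hM : IsCoatom M) (hXM : X ≤ M) (huniq : ∀ M' : Subgroup G, IsCoatom M' → X ≤ M' → M' = M)
    (hNX : N ≤ X) (hN : (Nat.card N).Prime) (hcen : ∀ n ∈ N, ∀ m ∈ M, m * n = n * m)
    [(N.subgroupOf X).Normal] (hK : ComplementedLattice (Subgroup (X ⧸ N.subgroupOf X))) :
    ComplementedLattice (Subgroup G) := by
  have hXtop : X ≠ ⊤ := by
    rintro rfl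
    exact hM.1 (top_le_iff.mp hXM)
  have hint := interval_compl X N hNX hK
  have hNbot : N ≠ ⊥ := by
    rintro rfl
    rw [Subgroup.card_bot] at hN
    exact Nat.not_prime_one hN
  refine ⟨fun H => ?_⟩
  by_cases hHbot : H = ⊥
  · subst hHbot; exact ⟨⊤, isCompl_bot_top⟩
  by_cases hHtop : H = ⊤
  · subst hHtop; exact ⟨⊥, isCompl_top_bot⟩
  -- find a good conjugate
  have hex : ∃ b : G, ¬ H.map (MulAut.conj b).toMonoidHom ≤ M ∧
      H.map (MulAut.conj b).toMonoidHom ⊓ N = ⊥ := by
    by_contra hcon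
    push_neg at hcon
    -- every conjugate of N lies in H or centralizes H
    have hconj : ∀ n ∈ N, ∀ c : G, c * n * c⁻¹ ∈ H ⊔ Subgroup.centralizer (H : Set G) := by
      intro n hn c
      by_cases hle : H.map (MulAut.conj c⁻¹).toMonoidHom ≤ M
      · -- H centralizes c n c⁻¹
        apply Subgroup.mem_sup_right
        rw [Subgroup.mem_centralizer_iff]
        intro h hh
        have hm : c⁻¹ * h * c ∈ M := hle ⟨h, hh, by simp⟩
        have := hcen n hn _ hm
        -- this : c⁻¹ * h * c * n = n * (c⁻¹ * h * c)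
        have h3 : h * (c * n * c⁻¹) = c * (c⁻¹ * h * c * n) * c⁻¹ := by group
        have h4 : c * n * c⁻¹ * h = c * (n * (c⁻¹ * h * c)) * c⁻¹ := by group
        rw [h3, h4, this]
      · -- N ≤ conjugate of H
        apply Subgroup.mem_sup_left
        have hne := hcon c⁻¹ hle
        have hNle : N ≤ H.map (MulAut.conj c⁻¹).toMonoidHom := by
          have hdvd : Nat.card ↥(H.map (MulAut.conj c⁻¹).toMonoidHom ⊓ N) ∣ Nat.card N :=
            Subgroup.card_dvd_of_le inf_le_right
          rcases (Nat.dvd_prime hN).mp hdvd with h1 | h1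
          · exact absurd (Subgroup.card_eq_one.mp h1) hne
          · have : H.map (MulAut.conj c⁻¹).toMonoidHom ⊓ N = N :=
              Subgroup.eq_of_le_of_card_ge inf_le_right (le_of_eq h1.symm)
            rw [← this]; exact inf_le_left
        obtain ⟨h, hh, hhn⟩ := hNle hn
        have : c * n * c⁻¹ = h := by
          rw [← hhn]; simp; group
        rw [this]; exact hh
    have hncl : Subgroup.normalClosure (N : Set G) ≤ H ⊔ Subgroup.centralizer (H : Set G) := by
      rw [Subgroup.normalClosure, Subgroup.closure_le]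
      intro a ha
      rw [Group.mem_conjugatesOfSet_iff] at ha
      obtain ⟨n, hn, hna⟩ := ha
      rw [isConj_iff] at hna
      obtain ⟨c, rfl⟩ := hna
      exact hconj n hn c
    have hncl_top : Subgroup.normalClosure (N : Set G) = ⊤ := by
      rcases (Subgroup.Normal.eq_bot_or_eq_top (H := Subgroup.normalClosure (N : Set G))
        inferInstance) with h | h
      · exfalso
        apply hNbot
        rw [eq_bot_iff, ← h]
        exact Subgroup.le_normalClosure
      · exact h
    rw [hncl_top, top_le_iff] at hncl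
    have hnorm : H.Normal := by
      have : Subgroup.normalizer (H : Set G) = ⊤ := by
        rw [eq_top_iff, ← hncl]
        exact sup_le Subgroup.le_normalizer (Subgroup.centralizer_le_normalizer _)
      exact Subgroup.normalizer_eq_top_iff.mp this
    rcases hnorm.eq_bot_or_eq_top with h | h
    · exact hHbot h
    · exact hHtop h
  obtain ⟨b, hb1, hb2⟩ := hex
  obtain ⟨C₀, h1, h2⟩ := Cfsg.Agent.S5901.result N X M hNX hXtop hint hM hXM huniq _ hb1 hb2
  obtain ⟨C, hC1, hC2⟩ := compl_of_conj H b C₀ h1 h2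
  exact ⟨C, isCompl_iff.mpr ⟨disjoint_iff.mpr hC2, codisjoint_iff.mpr hC1⟩⟩

end Cfsg.Agent.S5903
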