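import Mathlib
import Cfsg.Statements.S5904

set_option autoImplicit false
open scoped Pointwise
open Cfsg

namespace Cfsg.Agent.S5904

/-- the stabilizer of the partition `{O, Oᶜ}`. -/
def partStab {Ω : Type*} (O : Set Ω) : Subgroup (Equiv.Perm Ω) where
  carrier := {g | g • O = O ∨ g • O = Oᶜ}
  one_mem' := Or.inl (one_smul _ _)
  mul_mem' := by
    rintro g h hg hh
    simp only [Set.mem_setOf_eq] at hg hh ⊢
    rw [mul_smul]
    rcases hh with hh | hh
    · rw [hh]; exact hg
    · rw [hh, Set.smul_set_compl]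
      rcases hg with hg | hg
      · rw [hg]; exact Or.inr rfl
      · rw [hg, compl_compl]; exact Or.inl rfl
  inv_mem' := by
    rintro g hg
    simp only [Set.mem_setOf_eq] at hg ⊢
    rcases hg with hg | hg
    · left
      rw [inv_smul_eq_iff, hg]
    · right
      rw [inv_smul_eq_iff, Set.smul_set_compl, hg, compl_compl]

/-- Let Ω be a finite set with more than two elements and O ⊆ Ω a subset with exactly as many elements as its complement. Then the setwise stabilizer of O in the symmetric group on Ω is not a maximal subgroup (it is properly contained in the stabilizer of the partition {O, Ω ∖ O}, which is proper). -/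
theorem result {Ω : Type*} [Fintype Ω] [DecidableEq Ω] (hΩ : 2 < Fintype.card Ω)
    (O : Set Ω) (hO : Nat.card O = Nat.card ↥Oᶜ) :
    ¬ IsCoatom (MulAction.stabilizer (Equiv.Perm Ω) O) := by
  classical
  intro hco
  -- cardinalities
  have hsum : Nat.card O + Nat.card ↥Oᶜ = Fintype.card Ω := by
    rw [← Nat.card_eq_fintype_card, Nat.card_congr (Equiv.Set.sumCompl O).symm, Nat.card_sum]
  have hO2 : 2 ≤ Nat.card O := by omega
  -- two distinct points of O and a point of the complement
  have hOc2 : 2 ≤ Nat.card ↥Oᶜ := by omega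
  obtain ⟨⟨a, ha⟩, ⟨a', ha'⟩, haa'⟩ : ∃ x y : O, x ≠ y := by
    have : 1 < Nat.card O := hO2
    rw [Finite.one_lt_card_iff_nontrivial] at this
    exact exists_pair_ne O
  have haa : a ≠ a' := fun h => haa' (Subtype.ext h)
  obtain ⟨⟨b, hb⟩, -⟩ : ∃ x y : ↥Oᶜ, x ≠ y := by
    have : 1 < Nat.card ↥Oᶜ := hOc2
    rw [Finite.one_lt_card_iff_nontrivial] at this
    exact exists_pair_ne _
  have hbO : b ∉ O := hb
  -- a permutation exchanging O and its complement
  obtain ⟨e⟩ : Nonempty (O ≃ ↥Oᶜ) := by
    have := Nat.card_eq_fintype_card (α := O) ▸ Nat.card_eq_fintype_card (α := ↥Oᶜ) ▸ hO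
    exact Fintype.card_eq.mp this
  let σ : Equiv.Perm Ω :=
    (Equiv.Set.sumCompl O).symm.trans
      (((Equiv.sumCongr e e.symm).trans (Equiv.sumComm _ _)).trans (Equiv.Set.sumCompl O))
  have hσO : ∀ x, x ∈ O → σ x ∈ Oᶜ := by
    intro x hx
    have : σ x = (e ⟨x, hx⟩ : Ω) := by
      simp [σ, Equiv.Set.sumCompl_symm_apply_of_mem hx]
    rw [this]
    exact (e ⟨x, hx⟩).2
  have hσOc : ∀ x, x ∉ O → σ x ∈ O := by
    intro x hx
    have : σ x = (e.symm ⟨x, hx⟩ : Ω) := by
      simp [σ, Equiv.Set.sumCompl_symm_apply_of_notMem hx]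
    rw [this]
    exact (e.symm ⟨x, hx⟩).2
  have hσ : σ • O = Oᶜ := by
    ext y
    constructor
    · rintro ⟨x, hx, rfl⟩
      exact hσO x hx
    · intro hy
      refine ⟨σ⁻¹ y, ?_, by simp⟩
      by_contra hcon
      have := hσOc _ hcon
      simp at this
      exact hy this
  have hlt : MulAction.stabilizer (Equiv.Perm Ω) O < partStab O := by
    refine lt_of_le_of_ne (fun g hg => Or.inl hg) ?_
    intro heq
    have hmem : σ ∈ partStab O := Or.inr hσ
    rw [← heq, MulAction.mem_stabilizer_iff, hσ] at hmem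
    have : a ∈ Oᶜ := by rw [hmem]; exact ha
    exact this ha
  have htop : partStab O = ⊤ := hco.2 _ hlt
  have hmem : Equiv.swap a b ∈ partStab O := by rw [htop]; trivial
  have hb_in : b ∈ Equiv.swap a b • O := ⟨a, ha, by simp⟩
  have ha'_in : a' ∈ Equiv.swap a b • O := by
    refine ⟨a', ha', ?_⟩
    have hne : a' ≠ b := fun h => hbO (h ▸ ha')
    simp [Equiv.swap_apply_of_ne_of_ne haa.symm hne]
  rcases hmem with h | h
  · rw [h] at hb_in; exact hbO hb_in
  · rw [h] at ha'_in; exact ha'_in ha'

end Cfsg.Agent.S5904
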