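import Mathlib
import Cfsg.Statements.S5908
import Cfsg.Agent.S0827

set_option autoImplicit false
open Cfsg

namespace Cfsg.Agent.S5908

/-- The subgroup lattice of PSU₃(2) (the solvable group of order 72, realised over the field with 4 elements) is not complemented: some subgroup H has no subgroup X with H ⊔ X = ⊤ and H ⊓ X = ⊥. -/
theorem result {F : Type*} [Field F] [Fintype F] (hF : Fintype.card F = 4) :
    ¬ ComplementedLattice (Subgroup (Cfsg.PSU 3 F 2)) := by
  classical
  obtain ⟨N, hN, hN9, hN3, ⟨e⟩⟩ := Cfsg.Agent.S0827.result hF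
  intro hc
  let φ : Cfsg.PSU 3 F 2 →* QuaternionGroup 2 := e.toMonoidHom.comp (QuotientGroup.mk' N)
  have hφs : Function.Surjective φ := by
    intro y
    obtain ⟨x, hx⟩ := QuotientGroup.mk'_surjective N (e.symm y)
    refine ⟨x, ?_⟩
    change e (QuotientGroup.mk' N x) = y
    rw [hx, MulEquiv.apply_symm_apply]
  obtain ⟨z, hz⟩ : ∃ z : QuaternionGroup 2, z = QuaternionGroup.a 2 := ⟨_, rfl⟩
  have hq : ∀ x : QuaternionGroup 2, x ≠ 1 → x = z ∨ x ^ 2 = z := by
    subst hz; decide
  have hz1 : z ≠ 1 := by subst hz; decide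
  have hzt : QuaternionGroup.xa 0 ∉ Subgroup.zpowers z := by
    subst hz
    intro h
    rw [Subgroup.mem_zpowers_iff] at h
    obtain ⟨k, hk⟩ := h
    have h4 : (QuaternionGroup.a 2 : QuaternionGroup 2) ^ (2 : ℕ) = 1 := by decide
    have : ∀ k : ℤ, (QuaternionGroup.a 2 : QuaternionGroup 2) ^ k = 1 ∨
        (QuaternionGroup.a 2 : QuaternionGroup 2) ^ k = QuaternionGroup.a 2 := by
      intro k
      rcases Int.emod_two_eq_zero_or_one k with h | h
      · left
        have : k = 2 * (k / 2) := by omega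
        rw [this, zpow_mul, zpow_ofNat, h4, one_zpow]
      · right
        have : k = 2 * (k / 2) + 1 := by omega
        rw [this, zpow_add, zpow_mul, zpow_ofNat, h4, one_zpow, one_mul, zpow_one]
    rcases this k with h | h
    · rw [h] at hk; exact absurd hk (by decide)
    · rw [h] at hk; exact absurd hk (by decide)
  let H : Subgroup (Cfsg.PSU 3 F 2) := (Subgroup.zpowers z).comap φ
  have hHne : H ≠ ⊤ := by
    intro h
    obtain ⟨x, hx⟩ := hφs (QuaternionGroup.xa 0)
    have : x ∈ H := by rw [h]; trivial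
    rw [Subgroup.mem_comap, hx] at this
    exact hzt this
  have hmeet : ∀ g : Cfsg.PSU 3 F 2, g ≠ 1 → ∃ k : ℕ, g ^ k ≠ 1 ∧ g ^ k ∈ H := by
    intro g hg
    by_cases h1 : φ g = 1
    · refine ⟨1, by simpa using hg, ?_⟩
      rw [pow_one, Subgroup.mem_comap, h1]
      exact one_mem _
    · rcases hq (φ g) h1 with h | h
      · refine ⟨1, by simpa using hg, ?_⟩
        rw [pow_one, Subgroup.mem_comap, h]
        exact Subgroup.mem_zpowers z
      · refine ⟨2, ?_, ?_⟩
        · intro h2
          have : φ (g ^ 2) = 1 := by rw [h2, map_one]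
          rw [map_pow, h] at this
          exact hz1 this
        · rw [Subgroup.mem_comap, map_pow, h]
          exact Subgroup.mem_zpowers z
  obtain ⟨K, hK⟩ := hc.exists_isCompl H
  have hKbot : K = ⊥ := by
    rw [Subgroup.eq_bot_iff_forall]
    intro g hgK
    by_contra hg
    obtain ⟨k, hk1, hkH⟩ := hmeet g hg
    have : g ^ k ∈ H ⊓ K := ⟨hkH, K.pow_mem hgK k⟩
    rw [hK.inf_eq_bot, Subgroup.mem_bot] at this
    exact hk1 this
  have := hK.sup_eq_top
  rw [hKbot, sup_bot_eq] at this
  exact hHne this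

end Cfsg.Agent.S5908
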