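import Mathlib
import Cfsg.Statements.S5909
import Cfsg.Agent.Lib.Helper9.PartStab
import Cfsg.Agent.Lib.Helper9.AltPart1
import Cfsg.Agent.Lib.Helper9.AltPart2
import Cfsg.Agent.Lib.Helper9.AltPart3
import Cfsg.Agent.Lib.Helper9.AltPart4
import Cfsg.Agent.Lib.Helper9.AltPart5

set_option autoImplicit false
open Cfsg

namespace Cfsg.Agent.S5909

open Cfsg.Agent.H9PartStab Cfsg.Agent.H9AltPart Equiv in
/-- Let Ω be a finite set whose size is not 8, and f : Ω → Fin b a labelling with b ≥ 2 whose fibres all have the same size a ≥ 2 (a partition into b blocks of size a). Then the even permutations preserving the partition — the intersection of the imprimitive wreath product S_a ≀ S_b with the alternating group — form a maximal subgroup of the alternating group on Ω. -/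
theorem result {Ω : Type*} [Fintype Ω] [DecidableEq Ω] (h8 : Fintype.card Ω ≠ 8) (a b : ℕ) (ha : 2 ≤ a) (hb : 2 ≤ b)
    (f : Ω → Fin b) (hf : ∀ i : Fin b, Nat.card {x : Ω // f x = i} = a) :
    IsCoatom ((Subgroup.closure {g : Equiv.Perm Ω | ∀ x y : Ω, f x = f y ↔ f (g x) = f (g y)} ⊓ alternatingGroup Ω).subgroupOf (alternatingGroup Ω)) := by
  classical
  rw [closure_eq_partStab]
  obtain ⟨E, hE⟩ := exists_coord f a hf
  have hcard : Fintype.card Ω = a * b := by
    rw [Fintype.card_congr E, Fintype.card_prod, Fintype.card_fin, Fintype.card_fin, mul_comm]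
  by_cases h4 : 2 + b < a * b
  · constructor
    · -- not everything
      intro htop
      set x : Ω := E.symm (⟨0, by omega⟩, ⟨0, by omega⟩) with hx
      set y : Ω := E.symm (⟨0, by omega⟩, ⟨1, by omega⟩) with hy
      set z : Ω := E.symm (⟨1, by omega⟩, ⟨0, by omega⟩) with hz
      have fx : f x = ⟨0, by omega⟩ := by rw [← hE, hx, Equiv.apply_symm_apply]
      have fy : f y = ⟨0, by omega⟩ := by rw [← hE, hy, Equiv.apply_symm_apply]
      have fz : f z = ⟨1, by omega⟩ := by rw [← hE, hz, Equiv.apply_symm_apply]
      have hxy : x ≠ y := by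
        intro h
        have := E.symm.injective h
        simp at this
      have hxz : f x ≠ f z := by
        rw [fx, fz]; intro h; simp at h
      have hyz : f y ≠ f z := by
        rw [fy, fz]; intro h; simp at h
      obtain ⟨p, q, hpq, hfpq, hpx, hpy, hqx, hqy⟩ := exists_pair_avoid f E h4 x y
      have hyz' : y ≠ z := fun h => hyz (by rw [h])
      have hcA : swap y z * swap p q ∈ alternatingGroup Ω := by
        rw [Perm.mem_alternatingGroup, map_mul, Perm.sign_swap hyz', Perm.sign_swap hpq]; rfl
      have hmem : (⟨swap y z * swap p q, hcA⟩ : alternatingGroup Ω) ∈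
          (partStab f ⊓ alternatingGroup Ω).subgroupOf (alternatingGroup Ω) := by
        rw [htop]; trivial
      rw [Subgroup.mem_subgroupOf] at hmem
      have h1 := (hmem.1 x y).mp (by rw [fx, fy])
      rw [Perm.mul_apply, Perm.mul_apply, swap_apply_of_ne_of_ne (Ne.symm hpx) (Ne.symm hqx),
        swap_apply_of_ne_of_ne (Ne.symm hpy) (Ne.symm hqy), swap_apply_left,
        swap_apply_of_ne_of_ne hxy (fun h => hxz (by rw [h]))] at h1
      exact hxz h1
    · intro K' hK'
      have hlt : partStab f ⊓ alternatingGroup Ω < K'.map (alternatingGroup Ω).subtype := by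
        constructor
        · intro g hg
          have : (⟨g, hg.2⟩ : alternatingGroup Ω) ∈ K' := hK'.le (Subgroup.mem_subgroupOf.mpr hg)
          exact ⟨_, this, rfl⟩
        · intro hle
          apply hK'.not_ge
          intro g hg
          rw [Subgroup.mem_subgroupOf]
          exact hle ⟨g, hg, rfl⟩
      have hKA : K'.map (alternatingGroup Ω).subtype ≤ alternatingGroup Ω := by
        rintro _ ⟨g, _, rfl⟩
        exact g.2
      have hprim := preprimitive_of_lt a ha hb f hf h4 _ hlt hKA
      have h3 : ∃ c ∈ K'.map (alternatingGroup Ω).subtype, c.IsThreeCycle := by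
        rcases Nat.lt_or_ge a 3 with ha3 | ha3
        · obtain rfl : a = 2 := by omega
          have hb3 : 3 ≤ b := by omega
          have hb4 : b ≠ 4 := by
            intro h; apply h8; rw [hcard, h]
          obtain ⟨g, hgK, hgP⟩ : ∃ g ∈ K'.map (alternatingGroup Ω).subtype, g ∉ partStab f := by
            by_contra hcon
            push Not at hcon
            exact hlt.not_ge (fun g hg => ⟨hcon g hg, hKA hg⟩)
          obtain ⟨g', hg', u, hu⟩ := exists_bad_point f E hE _ g hgK hgP
          exact exists_threeCycle_two hb3 hb4 f E hE _ hlt.le g' hg' u hu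
        · obtain ⟨c, hc, hc3⟩ := exists_threeCycle_of_three_le ha3 hb f E hE
          exact ⟨c, hlt.le hc, hc3⟩
      obtain ⟨c, hcK, hc3⟩ := h3
      have hAK : alternatingGroup Ω ≤ K'.map (alternatingGroup Ω).subtype :=
        Equiv.Perm.alternatingGroup_le_of_isPreprimitive_of_isThreeCycle_mem hprim hc3 hcK
      rw [eq_top_iff]
      intro x _
      obtain ⟨y, hy, hyx⟩ := hAK x.2
      have : y = x := Subtype.ext hyx
      rw [← this]; exact hy
  · have hb2 : b = 2 := by
      have : 2 * b ≤ a * b := Nat.mul_le_mul_right b ha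
      omega
    subst hb2
    have ha2 : a = 2 := by omega
    subst ha2
    exact isCoatom_four f hf

end Cfsg.Agent.S5909
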