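import Mathlib
import Cfsg.Statements.S5910
import Cfsg.Agent.Lib.Helper9.PartStab
import Cfsg.Agent.Lib.Helper9.AltEight1

set_option autoImplicit false
open Cfsg

namespace Cfsg.Agent.S5910

open Cfsg.Agent.H9PartStab Cfsg.Agent.H9AltEight in
/-- Let Ω be a set with 8 elements and f : Ω → Fin 4 a labelling whose four fibres all have size 2 (a partition of the 8 points into 4 pairs). Then the group of even permutations preserving this partition, (S₂ ≀ S₄) ∩ A₈, is not a maximal subgroup of the alternating group A₈ (it lies in a subgroup isomorphic to the affine group AGL₃(2)). -/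
theorem result {Ω : Type*} [Fintype Ω] [DecidableEq Ω] (h8 : Fintype.card Ω = 8)
    (f : Ω → Fin 4) (hf : ∀ i : Fin 4, Nat.card {x : Ω // f x = i} = 2) :
    ¬ IsCoatom ((Subgroup.closure {g : Equiv.Perm Ω | ∀ x y : Ω, f x = f y ↔ f (g x) = f (g y)} ⊓ alternatingGroup Ω).subgroupOf (alternatingGroup Ω)) := by
  classical
  rw [closure_eq_partStab]
  obtain ⟨E, hE⟩ := exists_coord f 2 hf
  let e4 : Fin 4 ≃ B := Fintype.equivOfCardEq (by simp)
  let e2 : Fin 2 ≃ ZMod 2 := Fintype.equivOfCardEq (by simp)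
  let E' : Ω ≃ V := E.trans (Equiv.prodCongr e4 e2)
  have hE' : ∀ x, (E' x).1 = e4 (f x) := fun x => by simp [E', hE]
  let c : Equiv.Perm Ω ≃* Equiv.Perm V := E'.permCongrHom
  have hc : ∀ (g : Equiv.Perm Ω) (x : Ω), c g (E' x) = E' (g x) := by
    intro g x
    simp [c, Equiv.permCongrHom]
  have hsign : ∀ g : Equiv.Perm Ω, Equiv.Perm.sign (c g) = Equiv.Perm.sign g :=
    fun g => Equiv.Perm.sign_permCongr E' g
  have hmemH : ∀ g : Equiv.Perm Ω, g ∈ partStab f ↔ c g ∈ H₀ := by
    intro g
    constructor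
    · intro hg v w
      obtain ⟨x, rfl⟩ := E'.surjective v
      obtain ⟨y, rfl⟩ := E'.surjective w
      rw [hc, hc, hE', hE', hE', hE', e4.apply_eq_iff_eq, e4.apply_eq_iff_eq]
      exact hg x y
    · intro hg x y
      have := hg (E' x) (E' y)
      rw [hc, hc, hE', hE', hE', hE', e4.apply_eq_iff_eq, e4.apply_eq_iff_eq] at this
      exact this
  intro hco
  have hle : ((partStab f ⊓ alternatingGroup Ω).subgroupOf (alternatingGroup Ω)) ≤
      ((Aff.comap c.toMonoidHom) ⊓ alternatingGroup Ω).subgroupOf (alternatingGroup Ω) := by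
    intro g hg
    rw [Subgroup.mem_subgroupOf] at hg ⊢
    refine ⟨?_, hg.2⟩
    exact aff_of_mem_H₀ (c g.1) ((hmemH _).mp hg.1)
      (by rw [hsign]; exact Equiv.Perm.mem_alternatingGroup.mp hg.2)
  rcases hco.le_iff.mp hle with htop | heq
  · have hgA : c.symm cyc ∈ alternatingGroup Ω := by
      rw [Equiv.Perm.mem_alternatingGroup, ← hsign, c.apply_symm_apply]; exact cyc_sign
    have hmem : (⟨c.symm cyc, hgA⟩ : alternatingGroup Ω) ∈
        ((Aff.comap c.toMonoidHom) ⊓ alternatingGroup Ω).subgroupOf (alternatingGroup Ω) := by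
      rw [htop]; trivial
    rw [Subgroup.mem_subgroupOf] at hmem
    have h1 : c (c.symm cyc) ∈ Aff := hmem.1
    rw [c.apply_symm_apply] at h1
    exact cyc_not_mem h1
  · have hgA : c.symm rot ∈ alternatingGroup Ω := by
      rw [Equiv.Perm.mem_alternatingGroup, ← hsign, c.apply_symm_apply]; exact rot_sign
    have hmem : (⟨c.symm rot, hgA⟩ : alternatingGroup Ω) ∈
        ((Aff.comap c.toMonoidHom) ⊓ alternatingGroup Ω).subgroupOf (alternatingGroup Ω) := by
      rw [Subgroup.mem_subgroupOf]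
      refine ⟨?_, hgA⟩
      change c (c.symm rot) ∈ Aff
      rw [c.apply_symm_apply]; exact rot_mem_Aff
    rw [heq, Subgroup.mem_subgroupOf] at hmem
    have h1 := (hmemH _).mp hmem.1
    rw [c.apply_symm_apply] at h1
    exact rot_not_mem h1

end Cfsg.Agent.S5910
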