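import Mathlib
import Cfsg.Statements.S5912
import Cfsg.Agent.Lib.Helper9.SymSix5

set_option autoImplicit false
open Cfsg

namespace Cfsg.Agent.S5912

open MulAction Equiv Cfsg.Agent.H9SymIdx

/-- The symmetric group on a 6-element set Ω has exactly two conjugacy classes of subgroups of index 6: there are two non-conjugate subgroups of index 6 (a point stabilizer and a transitive subgroup isomorphic to S₅), and every subgroup of index 6 is conjugate to one of them. -/
theorem result {Ω : Type*} [Fintype Ω] [DecidableEq Ω] (h6 : Fintype.card Ω = 6) :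
    ∃ H₁ H₂ : Subgroup (Equiv.Perm Ω), H₁.index = 6 ∧ H₂.index = 6 ∧
      (¬ ∃ g : Equiv.Perm Ω, Subgroup.map (MulAut.conj g).toMonoidHom H₁ = H₂) ∧
      ∀ H : Subgroup (Equiv.Perm Ω), H.index = 6 →
        ∃ g : Equiv.Perm Ω, Subgroup.map (MulAut.conj g).toMonoidHom H₁ = H ∨ Subgroup.map (MulAut.conj g).toMonoidHom H₂ = H := by
  obtain ⟨x₀⟩ : Nonempty Ω := Fintype.card_pos_iff.mp (by omega)
  obtain ⟨H₂, hH₂, hns⟩ := exists_nonstd h6
  have hidx1 : (stabilizer (Perm Ω) x₀).index = 6 := by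
    rw [index_stabilizer_of_transitive, Nat.card_eq_fintype_card, h6]
  have hconj : ∀ (g : Perm Ω) (x : Ω), Subgroup.map (MulAut.conj g).toMonoidHom (stabilizer (Perm Ω) x) =
      stabilizer (Perm Ω) (g • x) := fun g x => (stabilizer_smul_eq_stabilizer_map_conj g x).symm
  refine ⟨stabilizer (Perm Ω) x₀, H₂, hidx1, hH₂, ?_, ?_⟩
  · rintro ⟨g, hg⟩
    rw [hconj] at hg
    exact hns _ hg.symm
  · intro H hH
    rcases std_or_exotic h6 H hH with ⟨x, hx⟩ | ⟨X, _, _, hE⟩
    · refine ⟨swap x₀ x, Or.inl ?_⟩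
      rw [hconj, hx]
      congr 1
      exact swap_apply_left x₀ x
    · rcases std_or_exotic h6 H₂ hH₂ with ⟨x, hx⟩ | ⟨X₂, _, _, hE₂⟩
      · exact absurd hx (hns x)
      · obtain ⟨β, hβ⟩ := exotic_conj h6 H₂ H hE₂ hE
        exact ⟨β, Or.inr hβ⟩

end Cfsg.Agent.S5912
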