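import Mathlib
import Cfsg.Statements.S5914
import Cfsg.Agent.Lib.Helper9.CharSimple1
import Cfsg.Agent.Lib.Helper9.CharSimple2

set_option autoImplicit false
open Cfsg

namespace Cfsg.Agent.S5914

open Cfsg.Agent.H9CharSimple in
/-- A non-trivial finite group G is characteristically simple (its only characteristic subgroups are 1 and G) if and only if G is isomorphic to a direct power S^n (n ≥ 1) of some simple group S (possibly cyclic of prime order). -/
theorem result {G : Type*} [Group G] [Finite G] [Nontrivial G] :
    (∀ H : Subgroup G, H.Characteristic → H = ⊥ ∨ H = ⊤) ↔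
    ∃ (S : Type) (_ : Group S) (_ : IsSimpleGroup S) (n : ℕ), 1 ≤ n ∧ Nonempty (G ≃* (Fin n → S)) := by
  constructor
  · intro hG
    obtain ⟨N, hNs, k, hk, ⟨e⟩⟩ := exists_power_of_char_simple hG
    haveI : Small.{0} N := inferInstance
    let e0 : Shrink.{0} N ≃* N := Shrink.mulEquiv
    haveI : IsSimpleGroup (Shrink.{0} N) := e0.isSimpleGroup
    refine ⟨Shrink.{0} N, inferInstance, inferInstance, k, hk, ?_⟩
    exact ⟨e.trans (MulEquiv.piCongrRight (fun _ => e0.symm))⟩
  · rintro ⟨S, hSg, hSs, n, _, ⟨e⟩⟩ H hH
    let K : Subgroup (Fin n → S) := H.comap e.symm.toMonoidHom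
    have hK : ∀ φ : (Fin n → S) ≃* (Fin n → S), ∀ y ∈ K, φ y ∈ K := by
      intro φ y hy
      have hfix := hH.fixed ((e.trans φ).trans e.symm)
      have hy' : e.symm y ∈ H := hy
      rw [← hfix] at hy'
      change e.symm (φ (e (e.symm y))) ∈ H at hy'
      rw [e.apply_symm_apply] at hy'
      exact hy'
    rcases invariant_eq_bot_or_top n K hK with h | h
    · left
      rw [eq_bot_iff]
      intro g hg
      have : e g ∈ K := by
        change e.symm (e g) ∈ H
        rw [e.symm_apply_apply]; exact hg
      rw [h, Subgroup.mem_bot] at this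
      rw [Subgroup.mem_bot]
      exact (map_eq_one_iff e e.injective).mp this
    · right
      rw [eq_top_iff]
      intro g _
      have : e g ∈ K := by rw [h]; trivial
      have h2 : e.symm (e g) ∈ H := this
      rw [e.symm_apply_apply] at h2
      exact h2

end Cfsg.Agent.S5914
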