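import Mathlib
import Cfsg.Statements.S5938
import Cfsg.Agent.S0803
import Cfsg.Agent.Lib.Helper9.PSL2Max1

set_option autoImplicit false
open Cfsg
open Cfsg.Agent.Lib.Helper2.DSub

namespace Cfsg.Agent.S5938

/-- Let p be a prime with p ≡ ±1 (mod 8) and F a field with p elements. Then PSL_2(F) has a maximal subgroup isomorphic to the symmetric group S_4. -/
theorem result {F : Type*} [Field F] [Fintype F] (p : ℕ) [Fact p.Prime] (hF : Fintype.card F = p) (hp : p % 8 = 1 ∨ p % 8 = 7) : ∃ H : Subgroup (Matrix.ProjectiveSpecialLinearGroup (Fin 2) F), IsCoatom H ∧ Nonempty (H ≃* Equiv.Perm (Fin 4)) := by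
  classical
  haveI : CharP F p := Cfsg.Agent.H9PSL2.charP_of_card_prime p hF
  haveI := finite_psl (F := F)
  have hpp : p.Prime := Fact.out
  have hsq : p ^ 2 % 16 = 1 := by
    have h16 : p % 16 = 1 ∨ p % 16 = 9 ∨ p % 16 = 7 ∨ p % 16 = 15 := by omega
    rcases h16 with h | h | h | h <;> rw [Nat.pow_mod, h]
  obtain ⟨N, ⟨eN⟩⟩ := (Cfsg.Agent.S0803.result hF).mpr hsq
  have hp7 : 7 ≤ p := by
    by_contra hlt
    have : p < 7 := by omega
    interval_cases p <;> first | omega | exact absurd hpp (by norm_num)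
  have hG := card_psl_two (F := F)
  have hd : Nat.gcd 2 (Fintype.card F - 1) = 2 := by
    rcases gcd_two_sub_one (Fintype.card F) (by rw [hF]; omega) with ⟨h1, _⟩ | ⟨_, h2⟩
    · rw [hF] at h1; omega
    · exact h2
  rw [hd, hF] at hG
  have hNcard : Nat.card N = 24 := by rw [Nat.card_congr eN.toEquiv, card_S4]
  have hbig : 336 ≤ p * (p - 1) * (p + 1) := by
    have h1 : 7 * 6 ≤ p * (p - 1) := Nat.mul_le_mul hp7 (by omega)
    have h2 : 7 * 6 * 8 ≤ p * (p - 1) * (p + 1) := Nat.mul_le_mul h1 (by omega)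
    omega
  refine ⟨N, Cfsg.Agent.H9PSL2.coatom_frame N ?_ ?_, ⟨eN⟩⟩
  · intro htop
    have h1 : Nat.card N = Nat.card (Matrix.ProjectiveSpecialLinearGroup (Fin 2) F) := by
      rw [htop, Subgroup.card_top]
    omega
  · intro M hNM hM
    obtain ⟨hc1, hc2, hc3, hc4⟩ := card_between N M hNM hM
    rw [hNcard] at hc1 hc2
    rcases dickson_psl_concrete p M with ⟨k, hk, hM'⟩ | ⟨P, hP⟩ | ⟨⟨e⟩⟩ | ⟨⟨e⟩⟩ | ⟨⟨e⟩⟩ |
      ⟨K, hKf, hKfin, m, hm, hiso⟩
    · rcases hM' with ⟨hcyc, -⟩ | ⟨⟨e⟩⟩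
      · obtain ⟨φ, hφ⟩ := Cfsg.Agent.H9PSL2.exists_embedding' N M hNM.le eN (MulEquiv.refl _)
        obtain ⟨g, h, hgh⟩ := Cfsg.Agent.H9PSL2.S4_sq_not_comm
        apply hgh
        apply hφ
        obtain ⟨c, hc⟩ := hcyc.exists_generator
        obtain ⟨i, hi⟩ := Subgroup.mem_zpowers_iff.mp (hc (φ (g ^ 2)))
        obtain ⟨j, hj⟩ := Subgroup.mem_zpowers_iff.mp (hc (φ (h ^ 2)))
        rw [map_mul, map_mul, ← hi, ← hj, ← zpow_add, ← zpow_add, add_comm]
      · obtain ⟨φ, hφ⟩ := Cfsg.Agent.H9PSL2.exists_embedding' N M hNM.le eN e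
        obtain ⟨g, h, hgh⟩ := Cfsg.Agent.H9PSL2.S4_sq_not_comm
        exact hgh (Cfsg.Agent.H9PSL2.sq_comm_of_embeds_dihedral φ hφ g h)
    · obtain ⟨φ, hφ⟩ := Cfsg.Agent.H9PSL2.exists_embedding' N M hNM.le eN (MulEquiv.refl _)
      obtain ⟨x, y, z, w, hne⟩ := Cfsg.Agent.H9PSL2.S4_not_metabelian
      exact hne (Cfsg.Agent.H9PSL2.metabelian_of_le_normalizer p P M hP φ hφ x y z w)
    · rw [Nat.card_congr e.toEquiv, card_A4] at hc2
      omega
    · rw [Nat.card_congr e.toEquiv, card_S4] at hc2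
      omega
    · rw [Nat.card_congr e.toEquiv, card_A5] at hc1
      omega
    · have hq₀ : 2 ≤ Fintype.card K := Fintype.one_lt_card
      rw [hF] at hm
      have hm0 : m ≠ 0 := by
        rintro rfl
        rw [pow_zero] at hm; omega
      have hKp : Fintype.card K = p := by
        have h1 : Fintype.card K ∣ p := by rw [← hm]; exact dvd_pow_self _ hm0
        rcases (Nat.dvd_prime hpp).mp h1 with h | h
        · omega
        · exact h
      have hK := card_psl_two (F := K)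
      have hK' := card_pgl_two (K := K)
      rw [hKp] at hK hK'
      have hdK : Nat.gcd 2 (p - 1) = 2 := by rw [← hF]; exact hd
      rw [hdK] at hK
      rcases hiso with ⟨⟨e⟩⟩ | ⟨⟨e⟩⟩
      · rw [← Nat.card_congr e.toEquiv] at hK
        omega
      · rw [← Nat.card_congr e.toEquiv] at hK'
        omega

end Cfsg.Agent.S5938
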