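import Mathlib
import Cfsg.Statements.S5939
import Cfsg.Agent.S0804
import Cfsg.Agent.Lib.Helper9.PSL2Max2

set_option autoImplicit false
open Cfsg
open Cfsg.Agent.Lib.Helper2.DSub

namespace Cfsg.Agent.S5939

/-- Let p be a prime and F a finite field of characteristic p such that either F has p elements and p ≡ ±1 (mod 10), or F has p² elements and p ≡ ±3 (mod 10). Then PSL_2(F) has a maximal subgroup isomorphic to the alternating group A_5. -/
theorem result {F : Type*} [Field F] [Fintype F] (p : ℕ) [Fact p.Prime] [CharP F p] (h : (Fintype.card F = p ∧ (p % 10 = 1 ∨ p % 10 = 9)) ∨ (Fintype.card F = p ^ 2 ∧ (p % 10 = 3 ∨ p % 10 = 7))) : ∃ H : Subgroup (Matrix.ProjectiveSpecialLinearGroup (Fin 2) F), IsCoatom H ∧ Nonempty (H ≃* alternatingGroup (Fin 5)) := by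
  classical
  haveI := finite_psl (F := F)
  have hpp : p.Prime := Fact.out
  -- numerical data
  obtain ⟨q, hq⟩ : ∃ q, q = Fintype.card F := ⟨_, rfl⟩
  have hp3 : 3 ≤ p := by
    have := hpp.two_le
    rcases h with ⟨-, h | h⟩ | ⟨-, h | h⟩ <;> omega
  have hq9 : 9 ≤ q := by
    rcases h with ⟨h1, h2⟩ | ⟨h1, h2⟩
    · rw [hq, h1]
      by_contra hlt
      have : p < 9 := by omega
      interval_cases p <;> first | omega | exact absurd hpp (by norm_num)
    · rw [hq, h1]
      have : 3 ^ 2 ≤ p ^ 2 := Nat.pow_le_pow_left hp3 2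
      omega
  have hqodd : q % 2 = 1 := by
    have hp2 : p % 2 = 1 := by rcases h with ⟨-, h | h⟩ | ⟨-, h | h⟩ <;> omega
    rcases h with ⟨h1, -⟩ | ⟨h1, -⟩
    · rw [hq, h1]; exact hp2
    · rw [hq, h1, Nat.pow_mod, hp2]
  have h5dvd : 5 ∣ q * (q ^ 2 - 1) := by
    have key : q % 5 = 1 ∨ q % 5 = 4 := by
      rcases h with ⟨h1, h2⟩ | ⟨h1, h2⟩
      · rw [hq, h1]; omega
      · rw [hq, h1]
        have : p % 5 = 3 ∨ p % 5 = 2 := by omega
        rcases this with h | h <;> rw [Nat.pow_mod, h] <;> simp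
    have : 5 ∣ q ^ 2 - 1 := by
      apply (Nat.modEq_iff_dvd' (Nat.one_le_pow _ _ (by omega))).mp
      rcases key with h | h <;> (unfold Nat.ModEq; rw [Nat.pow_mod, h])
    exact this.mul_left q
  obtain ⟨N, ⟨eN⟩⟩ := (Cfsg.Agent.S0804.result hq.symm).mpr h5dvd
  have hG := card_psl_two (F := F)
  have hd : Nat.gcd 2 (Fintype.card F - 1) = 2 := by
    rcases gcd_two_sub_one (Fintype.card F) (by rw [← hq]; omega) with ⟨h1, _⟩ | ⟨_, h2⟩
    · rw [← hq] at h1; omega
    · exact h2
  rw [hd, ← hq] at hG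
  have hNcard : Nat.card N = 60 := by rw [Nat.card_congr eN.toEquiv, card_A5]
  have hbig : 720 ≤ q * (q - 1) * (q + 1) := by
    have h1 : 9 * 8 ≤ q * (q - 1) := Nat.mul_le_mul hq9 (by omega)
    have h2 : 9 * 8 * 10 ≤ q * (q - 1) * (q + 1) := Nat.mul_le_mul h1 (by omega)
    omega
  have hNns : ¬ Group.IsSolvable N := by
    intro hs
    exact A5_not_solvable (Group.isSolvable_of_isSolvable_injective (f := eN.symm.toMonoidHom)
      eN.symm.injective)
  refine ⟨N, Cfsg.Agent.H9PSL2.coatom_frame N ?_ ?_, ⟨eN⟩⟩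
  · intro htop
    have h1 : Nat.card N = Nat.card (Matrix.ProjectiveSpecialLinearGroup (Fin 2) F) := by
      rw [htop, Subgroup.card_top]
    omega
  · intro M hNM hM
    obtain ⟨hc1, hc2, hc3, hc4⟩ := card_between N M hNM hM
    rw [hNcard] at hc1 hc2
    have hMns : ¬ Group.IsSolvable M := by
      intro hs
      exact hNns (Group.isSolvable_of_isSolvable_injective (Subgroup.inclusion_injective hNM.le))
    rcases dickson_psl_concrete p M with ⟨k, hk, hM'⟩ | ⟨P, hP⟩ | ⟨⟨e⟩⟩ | ⟨⟨e⟩⟩ | ⟨⟨e⟩⟩ |
      ⟨K, hKf, hKfin, m, hm, hiso⟩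
    · rcases hM' with ⟨hcyc, -⟩ | ⟨⟨e⟩⟩
      · exact hMns isSolvable_of_isCyclic
      · haveI := isSolvable_dihedral k
        exact hMns (Group.isSolvable_of_isSolvable_injective (f := e.toMonoidHom) e.injective)
    · haveI := isSolvable_normalizer_sylow p P
      exact hMns (Group.isSolvable_of_isSolvable_injective (Subgroup.inclusion_injective hP))
    · rw [Nat.card_congr e.toEquiv, card_A4] at hc2
      omega
    · rw [Nat.card_congr e.toEquiv, card_S4] at hc2
      omega
    · rw [Nat.card_congr e.toEquiv, card_A5] at hc2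
      omega
    · have hq₀ : 2 ≤ Fintype.card K := Fintype.one_lt_card
      rw [← hq] at hm
      have hm0 : m ≠ 0 := by
        rintro rfl
        rw [pow_zero] at hm; omega
      have hKdvd : Fintype.card K ∣ q := by rw [← hm]; exact dvd_pow_self _ hm0
      have hfull : Fintype.card K = Fintype.card F → False := fun hKF =>
        Cfsg.Agent.H9PSL2.not_full_field hKF M hc4 hiso
      rcases h with ⟨h1, h2⟩ | ⟨h1, h2⟩
      · apply hfull
        rw [h1]
        rw [hq, h1] at hKdvd
        rcases (Nat.dvd_prime hpp).mp hKdvd with h | h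
        · omega
        · exact h
      · rw [hq, h1] at hKdvd
        obtain ⟨e, he2, he⟩ := (Nat.dvd_prime_pow hpp).mp hKdvd
        have he012 : e = 0 ∨ e = 1 ∨ e = 2 := by omega
        rcases he012 with rfl | rfl | rfl
        · rw [pow_zero] at he; omega
        · rw [pow_one] at he
          have h3 := Cfsg.Agent.H9PSL2.card_dvd_of_iso hiso
          rw [he] at h3
          have h4 : 5 ∣ p * (p - 1) * (p + 1) :=
            ((by norm_num : 5 ∣ 60).trans hc1).trans h3
          have h5 := Nat.mod_eq_zero_of_dvd h4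
          rw [Nat.mul_mod, Nat.mul_mod p] at h5
          have : p % 5 = 3 ∨ p % 5 = 2 := by omega
          rcases this with h | h
          · have e1 : (p - 1) % 5 = 2 := by omega
            have e2 : (p + 1) % 5 = 4 := by omega
            rw [h, e1, e2] at h5; omega
          · have e1 : (p - 1) % 5 = 1 := by omega
            have e2 : (p + 1) % 5 = 3 := by omega
            rw [h, e1, e2] at h5; omega
        · apply hfull
          rw [h1, he]

end Cfsg.Agent.S5939
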