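import Mathlib
import Cfsg.Statements.S5940
import Cfsg.Agent.S0802
import Cfsg.Agent.Lib.Helper9.PSL2Max2

set_option autoImplicit false
open Cfsg
open Cfsg.Agent.Lib.Helper2.DSub

namespace Cfsg.Agent.S5940

/-- Let p ≥ 5 be a prime with p ≡ ±3 (mod 8) and p ≢ ±1 (mod 10), and F a field with p elements. Then PSL_2(F) has a maximal subgroup isomorphic to the alternating group A_4. -/
theorem result {F : Type*} [Field F] [Fintype F] (p : ℕ) [Fact p.Prime] (hF : Fintype.card F = p) (h5 : 5 ≤ p) (h8 : p % 8 = 3 ∨ p % 8 = 5) (h10 : p % 10 ≠ 1 ∧ p % 10 ≠ 9) : ∃ H : Subgroup (Matrix.ProjectiveSpecialLinearGroup (Fin 2) F), IsCoatom H ∧ Nonempty (H ≃* alternatingGroup (Fin 4)) := by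
  classical
  haveI : CharP F p := Cfsg.Agent.H9PSL2.charP_of_card_prime p hF
  haveI := finite_psl (F := F)
  have hpp : p.Prime := Fact.out
  obtain ⟨N, ⟨eN⟩⟩ := (Cfsg.Agent.S0802.result p 1 (by rw [hF, pow_one])).mpr (by
    rintro ⟨h2, -⟩; omega)
  have hG := card_psl_two (F := F)
  have hd : Nat.gcd 2 (Fintype.card F - 1) = 2 := by
    rcases gcd_two_sub_one (Fintype.card F) (by rw [hF]; omega) with ⟨h1, _⟩ | ⟨_, h2⟩
    · rw [hF] at h1; omega
    · exact h2
  rw [hd, hF] at hG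
  have hNcard : Nat.card N = 12 := by rw [Nat.card_congr eN.toEquiv, card_A4]
  have hbig : 120 ≤ p * (p - 1) * (p + 1) := by
    have h1 : 5 * 4 ≤ p * (p - 1) := Nat.mul_le_mul h5 (by omega)
    have h2 : 5 * 4 * 6 ≤ p * (p - 1) * (p + 1) := Nat.mul_le_mul h1 (by omega)
    omega
  refine ⟨N, Cfsg.Agent.H9PSL2.coatom_frame N ?_ ?_, ⟨eN⟩⟩
  · intro htop
    have h1 : Nat.card N = Nat.card (Matrix.ProjectiveSpecialLinearGroup (Fin 2) F) := by
      rw [htop, Subgroup.card_top]
    omega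
  · intro M hNM hM
    obtain ⟨hc1, hc2, hc3, hc4⟩ := card_between N M hNM hM
    rw [hNcard] at hc1 hc2
    rcases dickson_psl_concrete p M with ⟨k, hk, hM'⟩ | ⟨P, hP⟩ | ⟨⟨e⟩⟩ | ⟨⟨e⟩⟩ | ⟨⟨e⟩⟩ |
      ⟨K, hKf, hKfin, m, hm, hiso⟩
    · obtain ⟨g, h, hgh⟩ := Cfsg.Agent.H9PSL2.A4_sq_not_comm
      rcases hM' with ⟨hcyc, -⟩ | ⟨⟨e⟩⟩
      · obtain ⟨φ, hφ⟩ := Cfsg.Agent.H9PSL2.exists_embedding' N M hNM.le eN (MulEquiv.refl _)
        exact hgh (Cfsg.Agent.H9PSL2.comm_of_embeds_cyclic φ hφ _ _)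
      · obtain ⟨φ, hφ⟩ := Cfsg.Agent.H9PSL2.exists_embedding' N M hNM.le eN e
        exact hgh (Cfsg.Agent.H9PSL2.sq_comm_of_embeds_dihedral φ hφ g h)
    · have h1 := Cfsg.Agent.H9PSL2.card_dvd_of_le_normalizer p P M hP
      rw [hd, hF] at h1
      have h2 : 8 ∣ p * (p - 1) := by
        have : 2 * 12 ∣ p * (p - 1) := (Nat.mul_dvd_mul_left 2 hc1).trans h1
        exact (by norm_num : 8 ∣ 2 * 12).trans this
      have h3 := Nat.mod_eq_zero_of_dvd h2
      rw [Nat.mul_mod] at h3
      rcases h8 with h | h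
      · have : (p - 1) % 8 = 2 := by omega
        rw [h, this] at h3; omega
      · have : (p - 1) % 8 = 4 := by omega
        rw [h, this] at h3; omega
    · rw [Nat.card_congr e.toEquiv, card_A4] at hc2
      omega
    · rw [Nat.card_congr e.toEquiv, card_S4] at hc3
      have h2 : 16 ∣ p * (p - 1) * (p + 1) := by
        have : 2 * 24 ∣ p * (p - 1) * (p + 1) := by rw [← hG]; exact Nat.mul_dvd_mul_left 2 hc3
        exact (by norm_num : 16 ∣ 2 * 24).trans this
      have h3 := Nat.mod_eq_zero_of_dvd h2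
      rw [Nat.mul_mod, Nat.mul_mod p] at h3
      have h16 : p % 16 = 3 ∨ p % 16 = 11 ∨ p % 16 = 5 ∨ p % 16 = 13 := by omega
      rcases h16 with h | h | h | h
      · have e1 : (p - 1) % 16 = 2 := by omega
        have e2 : (p + 1) % 16 = 4 := by omega
        rw [h, e1, e2] at h3; omega
      · have e1 : (p - 1) % 16 = 10 := by omega
        have e2 : (p + 1) % 16 = 12 := by omega
        rw [h, e1, e2] at h3; omega
      · have e1 : (p - 1) % 16 = 4 := by omega
        have e2 : (p + 1) % 16 = 6 := by omega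
        rw [h, e1, e2] at h3; omega
      · have e1 : (p - 1) % 16 = 12 := by omega
        have e2 : (p + 1) % 16 = 14 := by omega
        rw [h, e1, e2] at h3; omega
    · rw [Nat.card_congr e.toEquiv, card_A5] at hc3 hc4
      have h2 : 5 ∣ p * (p - 1) * (p + 1) := by
        have : 2 * 60 ∣ p * (p - 1) * (p + 1) := by rw [← hG]; exact Nat.mul_dvd_mul_left 2 hc3
        exact (by norm_num : 5 ∣ 2 * 60).trans this
      have h3 := Nat.mod_eq_zero_of_dvd h2
      rw [Nat.mul_mod, Nat.mul_mod p] at h3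
      have h5c : p % 5 = 0 ∨ p % 5 = 1 ∨ p % 5 = 2 ∨ p % 5 = 3 ∨ p % 5 = 4 := by omega
      rcases h5c with h | h | h | h | h
      · have h55 : 5 ∣ p := Nat.dvd_of_mod_eq_zero h
        have : p = 5 := ((Nat.prime_dvd_prime_iff_eq Nat.prime_five hpp).mp h55).symm
        subst this
        omega
      · omega
      · have e1 : (p - 1) % 5 = 1 := by omega
        have e2 : (p + 1) % 5 = 3 := by omega
        rw [h, e1, e2] at h3; omega
      · have e1 : (p - 1) % 5 = 2 := by omega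
        have e2 : (p + 1) % 5 = 4 := by omega
        rw [h, e1, e2] at h3; omega
      · omega
    · have hq₀ : 2 ≤ Fintype.card K := Fintype.one_lt_card
      rw [hF] at hm
      have hm0 : m ≠ 0 := by
        rintro rfl
        rw [pow_zero] at hm; omega
      have hKp : Fintype.card K = Fintype.card F := by
        rw [hF]
        have h1 : Fintype.card K ∣ p := by rw [← hm]; exact dvd_pow_self _ hm0
        rcases (Nat.dvd_prime hpp).mp h1 with h | h
        · omega
        · exact h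
      exact Cfsg.Agent.H9PSL2.not_full_field hKp M hc4 hiso

end Cfsg.Agent.S5940
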