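import Mathlib
import Cfsg.Statements.S5941
import Cfsg.Agent.S0805
import Cfsg.Agent.Lib.Helper9.PSL2Max2

set_option autoImplicit false
open Cfsg
open Cfsg.Agent.Lib.Helper2.DSub

namespace Cfsg.Agent.S5941

/-- Let K and F be finite fields of odd characteristic with #F = (#K)². Then PSL_2(F) has a maximal subgroup isomorphic to PGL_2(K). -/
theorem result {F K : Type*} [Field F] [Fintype F] [Field K] [Fintype K] (q : ℕ) (hK : Fintype.card K = q) (hF : Fintype.card F = q ^ 2) (hq : Odd q) : ∃ H : Subgroup (Matrix.ProjectiveSpecialLinearGroup (Fin 2) F), IsCoatom H ∧ Nonempty (H ≃* Matrix.ProjGenLinGroup (Fin 2) K) := by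
  classical
  haveI := finite_psl (F := F)
  obtain ⟨p, hchar⟩ := CharP.exists F
  haveI : Fact p.Prime := ⟨CharP.char_is_prime F p⟩
  have hq3 : 3 ≤ q := by
    have : 2 ≤ Fintype.card K := Fintype.one_lt_card
    rw [hK] at this
    rcases hq with ⟨t, ht⟩
    omega
  obtain ⟨N, ⟨eN⟩⟩ := ((Cfsg.Agent.S0805.result (q := q ^ 2) hF hq.pow 2 (by norm_num)
    (by rw [hK])).2).mpr even_two
  obtain ⟨A, hA⟩ : ∃ A, A = (q - 1) * (q + 1) := ⟨_, rfl⟩
  have hA1 : A + 1 = q ^ 2 := by
    obtain ⟨t, ht⟩ : ∃ t, q = t + 1 := ⟨q - 1, by omega⟩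
    rw [hA, ht, Nat.add_sub_cancel]; ring
  have hA8 : 2 * q + 2 ≤ A := by
    rw [hA]
    have : 2 * (q + 1) ≤ (q - 1) * (q + 1) := Nat.mul_le_mul_right _ (by omega)
    omega
  have hG := card_psl_two (F := F)
  have hqodd : (q ^ 2) % 2 = 1 := Nat.odd_iff.mp hq.pow
  have hd : Nat.gcd 2 (Fintype.card F - 1) = 2 := by
    rcases gcd_two_sub_one (Fintype.card F) (by rw [hF]; exact Nat.one_le_pow _ _ (by omega))
      with ⟨h1, _⟩ | ⟨_, h2⟩
    · rw [hF] at h1; omega
    · exact h2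
  have hq21 : q ^ 2 - 1 = A := by omega
  rw [hd, hF, hq21] at hG
  have hNcard : Nat.card N = q * A := by
    rw [Nat.card_congr eN.toEquiv, card_pgl_two, hK, hA, mul_assoc]
  have hN24 : 24 ≤ q * A := by
    have : 3 * 8 ≤ q * A := Nat.mul_le_mul hq3 (by omega)
    omega
  have hNQ : q ^ 2 + 1 < q * A := by
    have : q * (2 * q + 2) ≤ q * A := Nat.mul_le_mul_left _ hA8
    nlinarith
  refine ⟨N, Cfsg.Agent.H9PSL2.coatom_frame N ?_ ?_, ⟨eN⟩⟩
  · intro htop
    have h1 : Nat.card N = Nat.card (Matrix.ProjectiveSpecialLinearGroup (Fin 2) F) := by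
      rw [htop, Subgroup.card_top]
    rw [hNcard] at h1
    rw [← h1] at hG
    have h2 : 2 * (q * A) = (q * A) * (q * (q ^ 2 + 1)) := by rw [hG]; ring
    have h3 : q * (q ^ 2 + 1) = 2 := by
      have : (q * A) * (q * (q ^ 2 + 1)) = (q * A) * 2 := by rw [← h2]; ring
      exact Nat.eq_of_mul_eq_mul_left (by omega) this
    nlinarith
  · intro M hNM hM
    obtain ⟨hc1, hc2, hc3, hc4⟩ := card_between N M hNM hM
    rw [hNcard] at hc1 hc2
    rcases dickson_psl_concrete p M with ⟨k, hk, hM'⟩ | ⟨P, hP⟩ | ⟨⟨e⟩⟩ | ⟨⟨e⟩⟩ | ⟨⟨e⟩⟩ |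
      ⟨K', hKf, hKfin, m, hm, hiso⟩
    · rw [hd, hF] at hk
      have hk2 : 2 * k ≤ q ^ 2 + 1 := by
        rcases hk with hk | hk
        · have h1 : k ≤ (q ^ 2 + 1) / 2 := Nat.le_of_dvd (by omega) hk
          omega
        · have h1 : k ≤ (q ^ 2 - 1) / 2 := Nat.le_of_dvd (by omega) hk
          omega
      rcases hM' with ⟨hcyc, hk'⟩ | ⟨⟨e⟩⟩
      · omega
      · rw [Nat.card_congr e.toEquiv, DihedralGroup.nat_card] at hc2
        omega
    · have h1 := Cfsg.Agent.H9PSL2.card_dvd_of_le_normalizer p P M hP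
      rw [hd, hF, hq21] at h1
      have h2 : 2 * (q * A) ∣ q * (q * A) := by
        have : 2 * (q * A) ∣ q ^ 2 * A := (Nat.mul_dvd_mul_left 2 hc1).trans h1
        have e : q * (q * A) = q ^ 2 * A := by ring
        rw [e]; exact this
      have h3 : 2 ∣ q := Nat.dvd_of_mul_dvd_mul_right (by omega) h2
      rcases hq with ⟨t, ht⟩
      omega
    · rw [Nat.card_congr e.toEquiv, card_A4] at hc2
      omega
    · rw [Nat.card_congr e.toEquiv, card_S4] at hc2
      omega
    · rw [Nat.card_congr e.toEquiv, card_A5] at hc1 hc2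
      have hq4 : q ≠ 4 := by rintro rfl; rcases hq with ⟨t, ht⟩; omega
      rcases Nat.lt_or_ge q 5 with h5 | h5
      · have : q = 3 := by omega
        subst this
        have : A = 8 := by omega
        subst this
        omega
      · have : 5 * 12 ≤ q * A := Nat.mul_le_mul h5 (by omega)
        omega
    · have hq₀ : 2 ≤ Fintype.card K' := Fintype.one_lt_card
      rw [hF] at hm
      have hdvd := Cfsg.Agent.H9PSL2.card_dvd_of_iso hiso
      obtain ⟨q', hq'⟩ : ∃ q', q' = Fintype.card K' := ⟨_, rfl⟩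
      rw [← hq'] at hm hdvd hq₀
      have hle : Nat.card M ≤ q' * (q' - 1) * (q' + 1) :=
        Nat.le_of_dvd (Nat.mul_pos (Nat.mul_pos (by omega) (by omega)) (by omega)) hdvd
      have hA' : (q' - 1) * (q' + 1) + 1 = q' ^ 2 := by
        obtain ⟨t, ht⟩ : ∃ t, q' = t + 1 := ⟨q' - 1, by omega⟩
        rw [ht, Nat.add_sub_cancel]; ring
      have hlt3 : q' * (q' - 1) * (q' + 1) < q' ^ 3 := by
        have : q' * ((q' - 1) * (q' + 1)) < q' * q' ^ 2 := by
          apply Nat.mul_lt_mul_of_pos_left _ (by omega)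
          omega
        calc q' * (q' - 1) * (q' + 1) = q' * ((q' - 1) * (q' + 1)) := by ring
          _ < q' * q' ^ 2 := this
          _ = q' ^ 3 := by ring
      rcases Nat.lt_or_ge m 3 with hm3 | hm3
      · have hm012 : m = 0 ∨ m = 1 ∨ m = 2 := by omega
        rcases hm012 with rfl | rfl | rfl
        · rw [pow_zero] at hm
          have : 3 ^ 2 ≤ q ^ 2 := Nat.pow_le_pow_left hq3 2
          omega
        · rw [pow_one] at hm
          exact Cfsg.Agent.H9PSL2.not_full_field (by rw [← hq', hm, hF]) M hc4 hiso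
        · have : q' = q := Nat.pow_left_injective (by norm_num : 2 ≠ 0) hm
          rw [this, mul_assoc, ← hA] at hle
          omega
      · have h1 : q' ^ 3 ≤ q' ^ m := Nat.pow_le_pow_right (by omega) hm3
        rw [hm] at h1
        omega

end Cfsg.Agent.S5941
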