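import Mathlib
import Cfsg.Statements.S5942
import Cfsg.Agent.S0805
import Cfsg.Agent.Lib.Helper2.PGLsub2
import Cfsg.Agent.Lib.Helper5.FieldExt
import Cfsg.Agent.Lib.Helper9.PSL2Max4

set_option autoImplicit false
open Cfsg
open Cfsg.Agent.Lib.Helper2.DSub

namespace Cfsg.Agent.S5942

/-- Let K and F be finite fields of odd characteristic with #F = (#K)^r for an odd prime r. Then PSL_2(F) has a maximal subgroup isomorphic to PSL_2(K). -/
theorem result {F K : Type*} [Field F] [Fintype F] [Field K] [Fintype K] (q r : ℕ) (hK : Fintype.card K = q) (hF : Fintype.card F = q ^ r) (hq : Odd q) (hr : r.Prime) (hr2 : r ≠ 2) : ∃ H : Subgroup (Matrix.ProjectiveSpecialLinearGroup (Fin 2) F), IsCoatom H ∧ Nonempty (H ≃* Matrix.ProjectiveSpecialLinearGroup (Fin 2) K) := by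
  classical
  haveI := finite_psl (F := F)
  obtain ⟨p, hchar⟩ := CharP.exists F
  haveI : Fact p.Prime := ⟨CharP.char_is_prime F p⟩
  have hq3 : 3 ≤ q := by
    have : 2 ≤ Fintype.card K := Fintype.one_lt_card
    rw [hK] at this
    rcases hq with ⟨t, ht⟩
    omega
  have hr2' := hr.two_le
  have hrodd : Odd r := hr.eq_two_or_odd'.resolve_left hr2
  obtain ⟨alg, -⟩ := Cfsg.Agent.Lib.Helper5.FieldExt.exists_algebra (K := F) (F := K)
    (q := q) r (by omega) hF hK
  obtain ⟨N, ⟨eN⟩⟩ := Cfsg.Agent.Lib.Helper2.PGLsub.exists_PSL (algebraMap K F)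
  have hqlt : q < q ^ r := by
    calc q = q ^ 1 := (pow_one q).symm
      _ < q ^ r := Nat.pow_lt_pow_right (by omega) (by omega)
  have hFodd : Odd (q ^ r) := hq.pow
  have hqrodd : (q ^ r) % 2 = 1 := Nat.odd_iff.mp hFodd
  have hqodd : q % 2 = 1 := Nat.odd_iff.mp hq
  have hG := card_psl_two (F := F)
  have hd : Nat.gcd 2 (Fintype.card F - 1) = 2 := by
    rcases gcd_two_sub_one (Fintype.card F) (by rw [hF]; omega) with ⟨h1, _⟩ | ⟨_, h2⟩
    · rw [hF] at h1; omega
    · exact h2
  rw [hd, hF] at hG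
  have hNc := card_psl_two (F := K)
  have hdK : Nat.gcd 2 (Fintype.card K - 1) = 2 := by
    rcases gcd_two_sub_one (Fintype.card K) (by rw [hK]; omega) with ⟨h1, _⟩ | ⟨_, h2⟩
    · rw [hK] at h1; omega
    · exact h2
  rw [hdK, hK, ← Nat.card_congr eN.toEquiv] at hNc
  have hN24 : 24 ≤ q * (q - 1) * (q + 1) := by
    have h1 : 3 * 2 ≤ q * (q - 1) := Nat.mul_le_mul hq3 (by omega)
    have h2 : 3 * 2 * 4 ≤ q * (q - 1) * (q + 1) := Nat.mul_le_mul h1 (by omega)
    omega
  have hQN : q ∣ Nat.card N := by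
    have h1 : q ∣ 2 * Nat.card N := by
      rw [hNc, mul_assoc]; exact Dvd.intro _ rfl
    have hcop : Nat.Coprime q 2 := by
      rw [Nat.coprime_comm, Nat.Prime.coprime_iff_not_dvd Nat.prime_two]
      omega
    exact hcop.dvd_of_dvd_mul_left h1
  have hQq : q ∣ q ^ r := dvd_pow_self _ (by omega)
  have hsmall : q * (q - 1) * (q + 1) < 120 → q = 3 := by
    intro hlt
    by_contra hne
    have h5 : 5 ≤ q := by omega
    have h1 : 5 * 4 ≤ q * (q - 1) := Nat.mul_le_mul h5 (by omega)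
    have h2 : 5 * 4 * 6 ≤ q * (q - 1) * (q + 1) := Nat.mul_le_mul h1 (by omega)
    omega
  have hmod80 : q = 3 → (q ^ r) % 80 = 3 ∨ (q ^ r) % 80 = 27 := by
    rintro rfl
    obtain ⟨t, ht⟩ := hrodd
    rw [ht]
    exact Cfsg.Agent.H9PSL2.three_pow_odd_mod t
  refine ⟨N, Cfsg.Agent.H9PSL2.coatom_frame N ?_ ?_, ⟨eN⟩⟩
  · intro htop
    have h1 : Nat.card N = Nat.card (Matrix.ProjectiveSpecialLinearGroup (Fin 2) F) := by
      rw [htop, Subgroup.card_top]
    have := Cfsg.Agent.H9PSL2.cube_strictMono (by omega : 1 ≤ q) hqlt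
    omega
  · intro M hNM hM
    obtain ⟨hc1, hc2, hc3, hc4⟩ := card_between N M hNM hM
    have hQM : q ∣ Nat.card M := hQN.trans hc1
    rcases dickson_psl_concrete p M with ⟨k, hk, hM'⟩ | ⟨P, hP⟩ | ⟨⟨e⟩⟩ | ⟨⟨e⟩⟩ | ⟨⟨e⟩⟩ |
      ⟨K', hKf, hKfin, m, hm, hiso⟩
    · rw [hd, hF] at hk
      -- `|M|` divides `q ^ r + 1` or `q ^ r - 1`
      have hMd : Nat.card M ∣ q ^ r + 1 ∨ Nat.card M ∣ q ^ r - 1 := by
        have e1 : 2 * ((q ^ r + 1) / 2) = q ^ r + 1 := Nat.mul_div_cancel' (by omega)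
        have e2 : 2 * ((q ^ r - 1) / 2) = q ^ r - 1 := Nat.mul_div_cancel' (by omega)
        rcases hM' with ⟨hcyc, hk'⟩ | ⟨⟨e⟩⟩
        · rw [hk']
          rcases hk with hk | hk
          · left; rw [← e1]; exact hk.trans (Dvd.intro_left _ rfl)
          · right; rw [← e2]; exact hk.trans (Dvd.intro_left _ rfl)
        · rw [Nat.card_congr e.toEquiv, DihedralGroup.nat_card]
          rcases hk with hk | hk
          · left; rw [← e1]; exact Nat.mul_dvd_mul_left 2 hk
          · right; rw [← e2]; exact Nat.mul_dvd_mul_left 2 hk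
      have h1 : q ∣ 1 := by
        rcases hMd with h | h
        · have := Nat.dvd_sub (hQM.trans h) hQq
          rwa [Nat.add_sub_cancel_left] at this
        · have := Nat.dvd_sub hQq (hQM.trans h)
          have e : q ^ r - (q ^ r - 1) = 1 := by omega
          rwa [e] at this
      have := Nat.le_of_dvd (by norm_num) h1
      omega
    · have h1 := Cfsg.Agent.H9PSL2.card_dvd_of_le_normalizer p P M hP
      rw [hd, hF] at h1
      have h2 : q * (q - 1) * (q + 1) ∣ q ^ r * (q ^ r - 1) := by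
        rw [← hNc]; exact (Nat.mul_dvd_mul_left 2 hc1).trans h1
      have h3 : q + 1 ∣ q ^ r * (q ^ r - 1) := (Dvd.intro_left _ rfl).trans h2
      have hcop : Nat.Coprime (q + 1) (q ^ r) := by
        apply Nat.Coprime.pow_right
        simp
      have h4 : q + 1 ∣ q ^ r - 1 := hcop.dvd_of_dvd_mul_left h3
      have h5 : q + 1 ∣ q ^ r + 1 := by
        have := Odd.nat_add_dvd_pow_add_pow q 1 hrodd
        rwa [one_pow] at this
      have h6 := Nat.dvd_sub h5 h4
      have e : q ^ r + 1 - (q ^ r - 1) = 2 := by omega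
      rw [e] at h6
      have := Nat.le_of_dvd (by norm_num) h6
      omega
    · rw [Nat.card_congr e.toEquiv, card_A4] at hc2
      omega
    · rw [Nat.card_congr e.toEquiv, card_S4] at hc2 hc3
      have hq3' : q = 3 := hsmall (by omega)
      have h2 : 16 ∣ q ^ r * (q ^ r - 1) * (q ^ r + 1) := by
        have : 2 * 24 ∣ q ^ r * (q ^ r - 1) * (q ^ r + 1) := by
          rw [← hG]; exact Nat.mul_dvd_mul_left 2 hc3
        exact (by norm_num : 16 ∣ 2 * 24).trans this
      have h3 := Nat.mod_eq_zero_of_dvd h2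
      rw [Nat.mul_mod, Nat.mul_mod (q ^ r)] at h3
      rcases hmod80 hq3' with h | h
      · have e0 : (q ^ r) % 16 = 3 := by omega
        have e1 : (q ^ r - 1) % 16 = 2 := by omega
        have e2 : (q ^ r + 1) % 16 = 4 := by omega
        rw [e0, e1, e2] at h3; omega
      · have e0 : (q ^ r) % 16 = 11 := by omega
        have e1 : (q ^ r - 1) % 16 = 10 := by omega
        have e2 : (q ^ r + 1) % 16 = 12 := by omega
        rw [e0, e1, e2] at h3; omega
    · rw [Nat.card_congr e.toEquiv, card_A5] at hc2 hc3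
      have hq3' : q = 3 := hsmall (by omega)
      have h2 : 5 ∣ q ^ r * (q ^ r - 1) * (q ^ r + 1) := by
        have : 2 * 60 ∣ q ^ r * (q ^ r - 1) * (q ^ r + 1) := by
          rw [← hG]; exact Nat.mul_dvd_mul_left 2 hc3
        exact (by norm_num : 5 ∣ 2 * 60).trans this
      have h3 := Nat.mod_eq_zero_of_dvd h2
      rw [Nat.mul_mod, Nat.mul_mod (q ^ r)] at h3
      rcases hmod80 hq3' with h | h
      · have e0 : (q ^ r) % 5 = 3 := by omega
        have e1 : (q ^ r - 1) % 5 = 2 := by omega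
        have e2 : (q ^ r + 1) % 5 = 4 := by omega
        rw [e0, e1, e2] at h3; omega
      · have e0 : (q ^ r) % 5 = 2 := by omega
        have e1 : (q ^ r - 1) % 5 = 1 := by omega
        have e2 : (q ^ r + 1) % 5 = 3 := by omega
        rw [e0, e1, e2] at h3; omega
    · rcases Cfsg.Agent.H9PSL2.subfield_case q r hK hF hr N M eN hNM.le m hm hiso with h | ⟨h, hmr⟩
      · exact Cfsg.Agent.H9PSL2.not_full_field h M hc4 hiso
      · rcases hiso with ⟨⟨e⟩⟩ | ⟨⟨e⟩⟩
        · have h3 := card_psl_two (F := K')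
          rw [← Nat.card_congr e.toEquiv, h] at h3
          have hdK' : Nat.gcd 2 (q - 1) = 2 := by rw [← hK]; exact hdK
          rw [hdK'] at h3
          omega
        · have h4 := ((Cfsg.Agent.S0805.result (F := F) (K := K') (q := q ^ r) hF hFodd m
            (by omega) (by rw [hm, hF])).2).mp ⟨M, ⟨e⟩⟩
          rw [hmr] at h4
          exact (Nat.not_even_iff_odd.mpr hrodd) h4

end Cfsg.Agent.S5942
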