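import Mathlib
import Cfsg.Statements.S5943
import Cfsg.Agent.Lib.Helper2.PGLsub2
import Cfsg.Agent.Lib.Helper5.FieldExt
import Cfsg.Agent.Lib.Helper9.PSL2Max4

set_option autoImplicit false
open Cfsg
open Cfsg.Agent.Lib.Helper2.DSub

namespace Cfsg.Agent.S5943

/-- Let K and F be finite fields of characteristic 2 with #K = q > 2 and #F = q^r for a prime r. Then PSL_2(F) has a maximal subgroup isomorphic to PSL_2(K) (which equals PGL_2(K) in characteristic 2). -/
theorem result {F K : Type*} [Field F] [Fintype F] [Field K] [Fintype K] (q r : ℕ) (hK : Fintype.card K = q) (hF : Fintype.card F = q ^ r) (hq : Even q) (hq2 : q ≠ 2) (hr : r.Prime) : ∃ H : Subgroup (Matrix.ProjectiveSpecialLinearGroup (Fin 2) F), IsCoatom H ∧ Nonempty (H ≃* Matrix.ProjectiveSpecialLinearGroup (Fin 2) K) := by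
  classical
  haveI := finite_psl (F := F)
  obtain ⟨p, hchar⟩ := CharP.exists F
  haveI : Fact p.Prime := ⟨CharP.char_is_prime F p⟩
  have hq4 : 4 ≤ q := by
    have : 2 ≤ Fintype.card K := Fintype.one_lt_card
    rw [hK] at this
    rcases hq with ⟨t, ht⟩
    omega
  have hr2 := hr.two_le
  obtain ⟨alg, -⟩ := Cfsg.Agent.Lib.Helper5.FieldExt.exists_algebra (K := F) (F := K)
    (q := q) r (by omega) hF hK
  obtain ⟨N, ⟨eN⟩⟩ := Cfsg.Agent.Lib.Helper2.PGLsub.exists_PSL (algebraMap K F)
  have hqlt : q < q ^ r := by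
    calc q = q ^ 1 := (pow_one q).symm
      _ < q ^ r := Nat.pow_lt_pow_right (by omega) (by omega)
  have hqreven : (q ^ r) % 2 = 0 := Nat.even_iff.mp (hq.pow_of_ne_zero (by omega))
  have hG := card_psl_two (F := F)
  have hd : Nat.gcd 2 (Fintype.card F - 1) = 1 := by
    rcases gcd_two_sub_one (Fintype.card F) (by rw [hF]; omega) with ⟨_, h2⟩ | ⟨h1, _⟩
    · exact h2
    · rw [hF] at h1; omega
  rw [hd, hF, one_mul] at hG
  have hNc := card_psl_two (F := K)
  have hdK : Nat.gcd 2 (Fintype.card K - 1) = 1 := by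
    rcases gcd_two_sub_one (Fintype.card K) (by rw [hK]; omega) with ⟨_, h2⟩ | ⟨h1, _⟩
    · exact h2
    · rw [hK] at h1
      rcases hq with ⟨t, ht⟩
      omega
  rw [hdK, hK, one_mul, ← Nat.card_congr eN.toEquiv] at hNc
  have hN60 : 60 ≤ Nat.card N := by
    rw [hNc]
    have h1 : 4 * 3 ≤ q * (q - 1) := Nat.mul_le_mul hq4 (by omega)
    have h2 : 4 * 3 * 5 ≤ q * (q - 1) * (q + 1) := Nat.mul_le_mul h1 (by omega)
    omega
  have hNns : ¬ Group.IsSolvable N := by
    intro hs
    exact psl_not_solvable (F := K) (by rw [hK]; exact hq4)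
      (Group.isSolvable_of_isSolvable_injective (f := eN.symm.toMonoidHom) eN.symm.injective)
  refine ⟨N, Cfsg.Agent.H9PSL2.coatom_frame N ?_ ?_, ⟨eN⟩⟩
  · intro htop
    have h1 : Nat.card N = Nat.card (Matrix.ProjectiveSpecialLinearGroup (Fin 2) F) := by
      rw [htop, Subgroup.card_top]
    have := Cfsg.Agent.H9PSL2.cube_strictMono (by omega : 1 ≤ q) hqlt
    omega
  · intro M hNM hM
    obtain ⟨hc1, hc2, hc3, hc4⟩ := card_between N M hNM hM
    have hMns : ¬ Group.IsSolvable M := by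
      intro hs
      exact hNns (Group.isSolvable_of_isSolvable_injective (Subgroup.inclusion_injective hNM.le))
    rcases dickson_psl_concrete p M with ⟨k, hk, hM'⟩ | ⟨P, hP⟩ | ⟨⟨e⟩⟩ | ⟨⟨e⟩⟩ | ⟨⟨e⟩⟩ |
      ⟨K', hKf, hKfin, m, hm, hiso⟩
    · rcases hM' with ⟨hcyc, -⟩ | ⟨⟨e⟩⟩
      · exact hMns isSolvable_of_isCyclic
      · haveI := isSolvable_dihedral k
        exact hMns (Group.isSolvable_of_isSolvable_injective (f := e.toMonoidHom) e.injective)
    · haveI := isSolvable_normalizer_sylow p P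
      exact hMns (Group.isSolvable_of_isSolvable_injective (Subgroup.inclusion_injective hP))
    · rw [Nat.card_congr e.toEquiv, card_A4] at hc2
      omega
    · rw [Nat.card_congr e.toEquiv, card_S4] at hc2
      omega
    · rw [Nat.card_congr e.toEquiv, card_A5] at hc2
      omega
    · rcases Cfsg.Agent.H9PSL2.subfield_case q r hK hF hr N M eN hNM.le m hm hiso with h | ⟨h, -⟩
      · exact Cfsg.Agent.H9PSL2.not_full_field h M hc4 hiso
      · have h3 := Cfsg.Agent.H9PSL2.card_dvd_of_iso hiso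
        rw [h, ← hNc] at h3
        have := Nat.le_of_dvd (by omega) h3
        omega

end Cfsg.Agent.S5943
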