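import Mathlib
import Cfsg.Statements.S5944

set_option autoImplicit false
open Cfsg

namespace Cfsg.Agent.S5944

/-- For n ≠ 4, every proper subgroup of the symmetric group S_n other than the alternating group A_n has index at least n. -/
theorem result (n : ℕ) (hn : n ≠ 4) (H : Subgroup (Equiv.Perm (Fin n))) (hH : H ≠ ⊤) (hA : H ≠ alternatingGroup (Fin n)) : n ≤ H.index := by
  have h0 : H.index ≠ 0 := Subgroup.index_ne_zero_of_finite
  have h1 : H.index ≠ 1 := fun h => hH (Subgroup.index_eq_one.mp h)
  have h2 : H.index ≠ 2 := fun h => hA (Equiv.Perm.eq_alternatingGroup_of_index_eq_two h)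
  by_cases hn5 : n < 5
  · omega
  · push_neg at hn5
    by_contra hlt
    push_neg at hlt
    have hcard : 5 ≤ Nat.card (Fin n) := by simpa using hn5
    by_cases hcore : Nontrivial H.normalCore
    · have hle : alternatingGroup (Fin n) ≤ H :=
        (Equiv.Perm.alternatingGroup_le_of_normal hcard hcore).trans (Subgroup.normalCore_le H)
      have hdvd : H.index ∣ (alternatingGroup (Fin n)).index := Subgroup.index_dvd_of_le hle
      have : Nontrivial (Fin n) := Fin.nontrivial_iff_two_le.mpr (by omega)
      rw [alternatingGroup.index_eq_two] at hdvd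
      have := Nat.le_of_dvd (by norm_num) hdvd
      omega
    · -- the coset action is faithful
      rw [not_nontrivial_iff_subsingleton] at hcore
      have hker : (MulAction.toPermHom (Equiv.Perm (Fin n)) (Equiv.Perm (Fin n) ⧸ H)).ker = ⊥ := by
        rw [← Subgroup.normalCore_eq_ker]
        exact Subgroup.eq_bot_of_subsingleton _
      have hinj : Function.Injective (MulAction.toPermHom (Equiv.Perm (Fin n)) (Equiv.Perm (Fin n) ⧸ H)) :=
        (MonoidHom.ker_eq_bot_iff _).mp hker
      classical
      have hfin : Fintype (Equiv.Perm (Fin n) ⧸ H) := Fintype.ofFinite _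
      have hle := Nat.card_le_card_of_injective _ hinj
      rw [Nat.card_eq_fintype_card, Nat.card_eq_fintype_card, Fintype.card_perm, Fintype.card_perm,
        Fintype.card_fin, ← Nat.card_eq_fintype_card, ← Subgroup.index_eq_card] at hle
      have hpos : 0 < H.index := Nat.pos_of_ne_zero h0
      have := (Nat.factorial_lt hpos).mpr hlt
      omega

end Cfsg.Agent.S5944
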