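import Mathlib
import Cfsg.Statements.S5946

set_option autoImplicit false
open Cfsg

namespace Cfsg.Agent.S5946

/-- Let F ⊆ K be finite fields with [K : F] = n ≥ 2 and regard K as an n-dimensional F-vector space. The Singer group M ≤ GL_F(K) of multiplications by the non-zero elements of K is self-centralizing: every F-linear automorphism of K commuting with all of M lies in M. -/
theorem result {F K : Type*} [Field F] [Fintype F] [Field K] [Fintype K] [Algebra F K] (n : ℕ) (hn : 2 ≤ n) (hdim : Module.finrank F K = n) :
    Subgroup.centralizer (((Units.map ((Algebra.lmul F K : K →ₐ[F] Module.End F K) : K →* Module.End F K)).range : Subgroup (Module.End F K)ˣ) : Set (Module.End F K)ˣ) = (Units.map ((Algebra.lmul F K : K →ₐ[F] Module.End F K) : K →* Module.End F K)).range := by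
  apply le_antisymm
  · intro T hT
    rw [Subgroup.mem_centralizer_iff] at hT
    -- T commutes with every multiplication
    have hcomm : ∀ a : K, a ≠ 0 → ∀ x : K, (T : Module.End F K) (a * x) = a * (T : Module.End F K) x := by
      intro a ha x
      have h := hT (Units.map ((Algebra.lmul F K : K →ₐ[F] Module.End F K) : K →* Module.End F K) (Units.mk0 a ha))
        ⟨_, rfl⟩
      have h2 := congrArg (fun U : (Module.End F K)ˣ => (U : Module.End F K) x) h
      simp only [Units.val_mul, Units.coe_map, Units.val_mk0, MonoidHom.coe_coe, Module.End.mul_apply] at h2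
      simpa using h2.symm
    have hT1 : (T : Module.End F K) 1 ≠ 0 := by
      intro h0
      have hinj : Function.Injective (T : Module.End F K) := by
        intro x y hxy
        have := congrArg (fun z => ((T⁻¹ : (Module.End F K)ˣ) : Module.End F K) z) hxy
        simpa [← Module.End.mul_apply] using this
      have : (1 : K) = 0 := hinj (by rw [h0, map_zero])
      exact one_ne_zero this
    refine ⟨Units.mk0 _ hT1, ?_⟩
    apply Units.ext
    apply LinearMap.ext
    intro x
    simp only [Units.coe_map, Units.val_mk0, MonoidHom.coe_coe]
    by_cases hx : x = 0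
    · subst hx; simp
    · have := hcomm x hx 1
      rw [mul_one] at this
      rw [this]
      simp [mul_comm]
  · rintro _ ⟨a, rfl⟩
    rw [Subgroup.mem_centralizer_iff]
    rintro _ ⟨b, rfl⟩
    rw [← map_mul, ← map_mul, mul_comm]

end Cfsg.Agent.S5946
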