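import Mathlib
import Cfsg.Statements.S5947
import Cfsg.Agent.S2904
import Cfsg.Agent.Lib.Helper9.SingerNT
import Cfsg.Agent.Lib.Helper9.SingerMain1
import Cfsg.Agent.Lib.Helper9.SingerMain3

set_option autoImplicit false
open Cfsg

namespace Cfsg.Agent.S5947

open Cfsg.Agent.H9Singer in
/-- Let F ⊆ K be finite fields with |F| = q and [K : F] = n ≥ 2, regard K as an n-dimensional F-vector space, and let M ≤ GL_F(K) be the Singer group of multiplications by non-zero elements of K (cyclic of order q^n − 1). Assume (n, q) ≠ (6, 2), and that it is not the case that n = 2 with q a prime such that q + 1 is a power of 2. Then every abelian subgroup of GL_F(K) of order q^n − 1 is conjugate to M. -/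
theorem result {F K : Type*} [Field F] [Fintype F] [Field K] [Fintype K] [Algebra F K] (n : ℕ) (hn : 2 ≤ n) (hdim : Module.finrank F K = n)
    (hex1 : ¬ (n = 6 ∧ Fintype.card F = 2))
    (hex2 : ¬ (n = 2 ∧ (Fintype.card F).Prime ∧ ∃ a : ℕ, Fintype.card F + 1 = 2 ^ a))
    (U : Subgroup (Module.End F K)ˣ) (hU : IsMulCommutative U) (hcard : Nat.card U = Fintype.card K - 1) :
    ∃ g : (Module.End F K)ˣ, U.map (MulAut.conj g).toMonoidHom = (Units.map ((Algebra.lmul F K : K →ₐ[F] Module.End F K) : K →* Module.End F K)).range := by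
  classical
  have hq1 : 1 < Fintype.card F := Fintype.one_lt_card
  have h6 : ¬ (Fintype.card F = 2 ∧ n = 6) := fun h => hex1 ⟨h.2, h.1⟩
  have h2 : ¬ (n = 2 ∧ ∃ m : ℕ, Fintype.card F + 1 = 2 ^ m) := by
    rintro ⟨hn2, m, hm⟩
    apply hex2
    refine ⟨hn2, ?_, m, hm⟩
    obtain ⟨p, hp⟩ := CharP.exists F
    obtain ⟨k, hpp, hk⟩ := FiniteField.card F p
    have h1 := exponent_eq_one p k m hpp k.pos (by rw [← hk]; exact hm)
    rw [hk, h1, pow_one]; exact hpp
  obtain ⟨r, hrp, hrd, hppd⟩ := Cfsg.Agent.S2904.result (Fintype.card F) n hq1 (by omega) h6 h2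
  haveI : Fact r.Prime := ⟨hrp⟩
  have hqc : Nat.card F = Fintype.card F := Nat.card_eq_fintype_card
  obtain ⟨g₀, hirr, hcomm, hsurj, hK⟩ := exists_of_commute n (by omega) hdim r
    (by rw [hqc]; exact hrd) (by rw [hqc]; exact hppd) U hU hcard
  exact singer_conj g₀ hirr U hU hcomm hsurj hK

end Cfsg.Agent.S5947
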