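import Mathlib
import Cfsg.Statements.S5950
import Cfsg.Agent.Lib.Helper9.Elus14
import Cfsg.Agent.S5949

set_option autoImplicit false
open scoped MatrixGroups
open Cfsg
open Cfsg.Agent.Lib.Helper9.H9Elus Cfsg.Agent.H9SemiInv Cfsg.Agent

namespace Cfsg.Agent.S5950

/-- Elements of prime order of PSL_n(q) fixing no decomposition `F^n = U ⊕ W` with `dim U = m`. Here `T = PSL_n(F)` for a field `F` with `q = p^f` elements (`n ≥ 2`, `(n, q) ≠ (2, 2), (2, 3)`); an element of `T` of prime order `r` is represented by a matrix `x` of determinant 1 with `x^r` scalar and `x` not scalar; `i` denotes the multiplicative order of `q` modulo `r` (when `r ≠ p`), and `(a)_r` the `r`-part of `a`. Let `n ≥ 3`, `1 ≤ m < n/2`, and let `r` be a prime dividing the number of such decompositions (unordered pairs `{U, W}` of complementary subspaces with `dim U = m`; since `m ≠ n − m` these are the ordered pairs with `dim U = m`). Then every element of `T` of order `r` fixes such a pair (fixes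 both `U` and `W` for some complementary `U, W` with `dim U = m`) if and only if one of: (i) `r = p > 2` and every partition of `n` into parts of size at most `p` contains, as a sub-multiset, a partition of `m`; (ii) `r = p = 2` and `n` is odd or `m` is even; (iii) `r ≠ p`, `i = 1`, and `r ∣ m` or `(q−1)_r ≥ (n)_r` (with `q ≡ 1 (mod 4)` required when `r = 2` and `n` is even); (iv) `r ≠ p`, `2 ≤ i ≤ m` and `n mod i ≥ m mod i`. -/
theorem result {F : Type*} [Field F] [Fintype F] {p : ℕ} [Fact p.Prime] [CharP F p] {q : ℕ} (hq : Fintype.card F = q)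
    (n m : ℕ) (hn : 3 ≤ n) (hm : 1 ≤ m) (hmn : 2 * m < n)
    (r : ℕ) [Fact r.Prime]
    (hrΩ : r ∣ Nat.card {P : Submodule F (Fin n → F) × Submodule F (Fin n → F) // IsCompl P.1 P.2 ∧ Module.finrank F ↥P.1 = m}) :
    (∀ x : Matrix.SpecialLinearGroup (Fin n) F,
      (∃ c : F, ((x ^ r : Matrix.SpecialLinearGroup (Fin n) F) : Matrix (Fin n) (Fin n) F) = c • (1 : Matrix (Fin n) (Fin n) F)) →
      (∀ c : F, (x : Matrix (Fin n) (Fin n) F) ≠ c • (1 : Matrix (Fin n) (Fin n) F)) →
      ∃ U W : Submodule F (Fin n → F), IsCompl U W ∧ Module.finrank F ↥U = m ∧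
        U.map (Matrix.toLin' (x : Matrix (Fin n) (Fin n) F)) ≤ U ∧ W.map (Matrix.toLin' (x : Matrix (Fin n) (Fin n) F)) ≤ W) ↔
    ((r = p ∧ 2 < p ∧ (∀ μ : Multiset ℕ, (∀ a ∈ μ, 0 < a ∧ a ≤ p) → μ.sum = n → ∃ ν : Multiset ℕ, ν ≤ μ ∧ ν.sum = m)) ∨
     (r = p ∧ p = 2 ∧ (Odd n ∨ Even m)) ∨
     (r ≠ p ∧
      ((orderOf (q : ZMod r) = 1 ∧ (r ∣ m ∨ (padicValNat r n ≤ padicValNat r (q - 1) ∧ (r = 2 → Even n → q % 4 = 1)))) ∨
       (2 ≤ orderOf (q : ZMod r) ∧ orderOf (q : ZMod r) ≤ m ∧ m % orderOf (q : ZMod r) ≤ n % orderOf (q : ZMod r))))) := by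
  classical
  have hr : r.Prime := Fact.out
  have hp : p.Prime := Fact.out
  have hfr : Module.finrank F (Fin n → F) = n := Module.finrank_fin_fun F
  have hmn' : m ≤ n := by omega
  by_cases hrp : r = p
  · -- the case r = p
    subst hrp
    have hnd : ¬ r ∣ Fintype.card F - 1 := by
      intro h
      obtain ⟨f, -, hf⟩ := FiniteField.card F r
      have h1 : r ∣ Fintype.card F := by
        rw [hf]
        exact dvd_pow_self r (PNat.ne_zero f)
      have h2 : r ∣ 1 := by
        have := Nat.dvd_sub h1 h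
        rwa [Nat.sub_sub_self Fintype.card_pos] at this
      exact hr.one_lt.ne' (Nat.dvd_one.mp h2)
    have hLP : (∀ x : Matrix.SpecialLinearGroup (Fin n) F,
        (∃ c : F, ((x ^ r : Matrix.SpecialLinearGroup (Fin n) F) : Matrix (Fin n) (Fin n) F) = c • (1 : Matrix (Fin n) (Fin n) F)) →
        (∀ c : F, (x : Matrix (Fin n) (Fin n) F) ≠ c • (1 : Matrix (Fin n) (Fin n) F)) →
        ∃ U W : Submodule F (Fin n → F), IsCompl U W ∧ Module.finrank F ↥U = m ∧
          U.map (Matrix.toLin' (x : Matrix (Fin n) (Fin n) F)) ≤ U ∧ W.map (Matrix.toLin' (x : Matrix (Fin n) (Fin n) F)) ≤ W) →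
        ∀ μ : Multiset ℕ, (∀ a ∈ μ, 0 < a ∧ a ≤ r) → μ.sum = n → ∃ ν : Multiset ℕ, ν ≤ μ ∧ ν.sum = m := by
      intro hL μ hμ hsum
      by_cases hall : ∀ c ∈ μ, c = 1
      · have hμeq : μ = Multiset.replicate (Multiset.card μ) 1 := Multiset.eq_replicate_card.2 hall
        have hcard : Multiset.card μ = n := by
          rw [hμeq] at hsum
          simpa using hsum
        refine ⟨Multiset.replicate m 1, ?_, by simp⟩
        rw [hμeq, hcard]
        exact (Multiset.replicate_le_replicate 1).2 hmn'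
      · push Not at hall
        obtain ⟨x, hx1, hx2, hx3⟩ := H9Nil.unipotent_model (F := F) (p := r) n (by omega) μ hμ hsum hall
        obtain ⟨U, W, hUW, hUm, hU, hW⟩ := hL x ⟨1, by rw [hx1, one_smul]⟩ hx2
        obtain ⟨ν, hν, hνs⟩ := hx3 U W hUW hU hW
        exact ⟨ν, hν, by rw [hνs, hUm]⟩
    have hPL : (∀ μ : Multiset ℕ, (∀ a ∈ μ, 0 < a ∧ a ≤ r) → μ.sum = n → ∃ ν : Multiset ℕ, ν ≤ μ ∧ ν.sum = m) →
        (∀ x : Matrix.SpecialLinearGroup (Fin n) F,
        (∃ c : F, ((x ^ r : Matrix.SpecialLinearGroup (Fin n) F) : Matrix (Fin n) (Fin n) F) = c • (1 : Matrix (Fin n) (Fin n) F)) →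
        (∀ c : F, (x : Matrix (Fin n) (Fin n) F) ≠ c • (1 : Matrix (Fin n) (Fin n) F)) →
        ∃ U W : Submodule F (Fin n → F), IsCompl U W ∧ Module.finrank F ↥U = m ∧
          U.map (Matrix.toLin' (x : Matrix (Fin n) (Fin n) F)) ≤ U ∧ W.map (Matrix.toLin' (x : Matrix (Fin n) (Fin n) F)) ≤ W) := by
      intro hP x ⟨c, hxc⟩ _
      have hz := toLin_pow_eq_smul x r c hxc
      have hc0 : c ≠ 0 := scalar_ne_zero_of_SL (by omega) (x ^ r) c hxc
      obtain ⟨d, hd'⟩ := exists_pow_eq_of_not_dvd r hr hnd c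
      have hd0 : d ≠ 0 := by
        rintro rfl
        rw [zero_pow hr.ne_zero] at hd'
        exact hc0 hd'.symm
      rw [← hd'] at hz
      have hy : (d⁻¹ • Matrix.toLin' (x : Matrix (Fin n) (Fin n) F)) ^ r = 1 := by
        rw [_root_.smul_pow, hz, smul_smul, ← mul_pow, inv_mul_cancel₀ hd0, one_pow, one_smul]
      obtain ⟨U, W, hUW, hU, hW, hUm⟩ := H9Nil.exists_compl_of_pow_char_eq_one r _ hy m
        (by rw [hfr]; exact hP)
      have key : ∀ A : Submodule F (Fin n → F),
          Inv (d⁻¹ • Matrix.toLin' (x : Matrix (Fin n) (Fin n) F)) A →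
          A.map (Matrix.toLin' (x : Matrix (Fin n) (Fin n) F)) ≤ A := by
        intro A hA
        rw [← inv_iff]
        intro v hv
        have h1 := A.smul_mem d (hA v hv)
        rwa [LinearMap.smul_apply, smul_smul, mul_inv_cancel₀ hd0, one_smul] at h1
      exact ⟨U, W, hUW, hUm, key U hU, key W hW⟩
    constructor
    · intro hL
      have hP := hLP hL
      rcases Nat.lt_or_ge 2 r with h2 | h2
      · exact Or.inl ⟨rfl, h2, hP⟩
      · have hr2 : r = 2 := le_antisymm h2 hr.two_le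
        refine Or.inr (Or.inl ⟨rfl, hr2, ?_⟩)
        by_contra hcon
        obtain ⟨hno, hnm⟩ := not_or.mp hcon
        have hneven : Even n := Nat.not_odd_iff_even.mp hno
        obtain ⟨t, ht⟩ := hneven
        obtain ⟨ν, hν, hνs⟩ := hP (Multiset.replicate t 2) (by
          intro a ha
          rw [Multiset.eq_of_mem_replicate ha, hr2]
          exact ⟨by norm_num, le_rfl⟩) (by
          rw [Multiset.sum_replicate, smul_eq_mul]; omega)
        exact hnm (hνs ▸ H9Nil.even_sum_of_le_replicate_two ν t hν)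
    · rintro (⟨-, -, hP⟩ | ⟨-, hp2, hoe⟩ | ⟨hne, -⟩)
      · exact hPL hP
      · exact hPL (fun μ hμ hsum => H9Nil.partition_property_two n m hmn' hoe μ
          (fun a ha => by have := hμ a ha; rw [hp2] at this; exact this) hsum)
      · exact absurd rfl hne
  · -- the case r ≠ p
    have hrΩ' := dvd_card_subspaces_of_dvd_card_pairs (F := F) n m r hr hrp hrΩ
    have h49 := Cfsg.Agent.S5949.result hq n m (by omega) ⟨fun h => by
      have := congrArg Prod.fst h; simp at this; omega, fun h => by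
      have := congrArg Prod.fst h; simp at this; omega⟩ hm (by omega) r hrΩ'
    have hequiv : (∀ x : Matrix.SpecialLinearGroup (Fin n) F,
        (∃ c : F, ((x ^ r : Matrix.SpecialLinearGroup (Fin n) F) : Matrix (Fin n) (Fin n) F) = c • (1 : Matrix (Fin n) (Fin n) F)) →
        (∀ c : F, (x : Matrix (Fin n) (Fin n) F) ≠ c • (1 : Matrix (Fin n) (Fin n) F)) →
        ∃ U W : Submodule F (Fin n → F), IsCompl U W ∧ Module.finrank F ↥U = m ∧
          U.map (Matrix.toLin' (x : Matrix (Fin n) (Fin n) F)) ≤ U ∧ W.map (Matrix.toLin' (x : Matrix (Fin n) (Fin n) F)) ≤ W) ↔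
        (∀ x : Matrix.SpecialLinearGroup (Fin n) F,
        (∃ c : F, ((x ^ r : Matrix.SpecialLinearGroup (Fin n) F) : Matrix (Fin n) (Fin n) F) = c • (1 : Matrix (Fin n) (Fin n) F)) →
        (∀ c : F, (x : Matrix (Fin n) (Fin n) F) ≠ c • (1 : Matrix (Fin n) (Fin n) F)) →
        ∃ W : Submodule F (Fin n → F), Module.finrank F ↥W = m ∧ W.map (Matrix.toLin' (x : Matrix (Fin n) (Fin n) F)) ≤ W) := by
      constructor
      · intro h x hx1 hx2
        obtain ⟨U, W, -, hUm, hU, -⟩ := h x hx1 hx2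
        exact ⟨U, hUm, hU⟩
      · intro h x hx1 hx2
        obtain ⟨U, hUm, hU⟩ := h x hx1 hx2
        obtain ⟨c, hxc⟩ := hx1
        have hz := toLin_pow_eq_smul x r c hxc
        have hc0 : c ≠ 0 := scalar_ne_zero_of_SL (by omega) (x ^ r) c hxc
        have hss := isSemisimple_of_pow_eq_smul_of_ne r hrp c hc0 _ hz
        obtain ⟨W, hUW, hW⟩ := exists_inv_compl _ hss U ((inv_iff _ U).mpr hU)
        exact ⟨U, W, hUW, hUm, hU, (inv_iff _ W).mp hW⟩
    rw [hequiv, h49]
    constructor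
    · intro h
      exact Or.inr (Or.inr h)
    · rintro (⟨h, -⟩ | ⟨h, -⟩ | h)
      · exact absurd h hrp
      · exact absurd h hrp
      · exact h

end Cfsg.Agent.S5950
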