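import Mathlib
import Cfsg.Statements.S5951
import Cfsg.Agent.Lib.Helper9.Elus12

set_option autoImplicit false
open scoped MatrixGroups
open Cfsg
open Cfsg.Agent.Lib.Helper9.H9Elus Cfsg.Agent.H9SemiInv

namespace Cfsg.Agent.S5951

/-- Elements of prime order of PSL_n(q) fixing no pair of subspaces `U < W` with `dim U = m`, `dim W = n − m`. Here `T = PSL_n(F)` for a field `F` with `q = p^f` elements (`n ≥ 2`, `(n, q) ≠ (2, 2), (2, 3)`); an element of `T` of prime order `r` is represented by a matrix `x` of determinant 1 with `x^r` scalar and `x` not scalar; `i` denotes the multiplicative order of `q` modulo `r` (when `r ≠ p`), and `(a)_r` the `r`-part of `a`. Let `1 ≤ m < n/2` and let `r` be a prime dividing the number of such pairs. Then every element of `T` of order `r` fixes such a pair (both `U` and `W`) if and only if `r ≠ p` and either (i) `i = 1` and (`r ∣ m`, or `(q−1)_r ≥ (n)_r` with `q ≡ 1 (mod 4)` required when `r = 2` and `n` is even), or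 (ii) `2 ≤ i ≤ m` and `n mod i ≥ 2 (m mod i)`. -/
theorem result {F : Type*} [Field F] [Fintype F] {p : ℕ} [Fact p.Prime] [CharP F p] {q : ℕ} (hq : Fintype.card F = q)
    (n m : ℕ) (hn : 2 ≤ n) (hT : (n, q) ≠ (2, 2) ∧ (n, q) ≠ (2, 3)) (hm : 1 ≤ m) (hmn : 2 * m < n)
    (r : ℕ) [Fact r.Prime]
    (hrΩ : r ∣ Nat.card {P : Submodule F (Fin n → F) × Submodule F (Fin n → F) //
        P.1 ≤ P.2 ∧ Module.finrank F ↥P.1 = m ∧ Module.finrank F ↥P.2 = n - m}) :
    (∀ x : Matrix.SpecialLinearGroup (Fin n) F,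
      (∃ c : F, ((x ^ r : Matrix.SpecialLinearGroup (Fin n) F) : Matrix (Fin n) (Fin n) F) = c • (1 : Matrix (Fin n) (Fin n) F)) →
      (∀ c : F, (x : Matrix (Fin n) (Fin n) F) ≠ c • (1 : Matrix (Fin n) (Fin n) F)) →
      ∃ U W : Submodule F (Fin n → F), U ≤ W ∧ Module.finrank F ↥U = m ∧ Module.finrank F ↥W = n - m ∧
        U.map (Matrix.toLin' (x : Matrix (Fin n) (Fin n) F)) ≤ U ∧ W.map (Matrix.toLin' (x : Matrix (Fin n) (Fin n) F)) ≤ W) ↔
    (r ≠ p ∧
      ((orderOf (q : ZMod r) = 1 ∧ (r ∣ m ∨ (padicValNat r n ≤ padicValNat r (q - 1) ∧ (r = 2 → Even n → q % 4 = 1)))) ∨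
       (2 ≤ orderOf (q : ZMod r) ∧ orderOf (q : ZMod r) ≤ m ∧ 2 * (m % orderOf (q : ZMod r)) ≤ n % orderOf (q : ZMod r)))) := by
  classical
  have hr : r.Prime := Fact.out
  subst hq
  have hfr : Module.finrank F (Fin n → F) = n := Module.finrank_fin_fun F
  have h2m : 2 * m ≤ n := by omega
  obtain ⟨hrp, hk⟩ := exists_order_dvd_flags (F := F) n m h2m r hrΩ
  have hi1 : 1 ≤ orderOf ((Fintype.card F : ℕ) : ZMod r) := order_pos r hrp
  have hin : orderOf ((Fintype.card F : ℕ) : ZMod r) ≤ n := by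
    obtain ⟨k, hk1, hk2, hd⟩ := hk
    have := Nat.le_of_dvd (by omega) hd
    omega
  rcases Nat.lt_or_ge (orderOf ((Fintype.card F : ℕ) : ZMod r)) 2 with hlt | hi2
  · -- the case i = 1
    have hi1eq : orderOf ((Fintype.card F : ℕ) : ZMod r) = 1 := by omega
    have hd : r ∣ Fintype.card F - 1 :=
      (orderOf_eq_one_iff_dvd r (Fintype.card F) Fintype.card_pos).mp hi1eq
    constructor
    · intro hL
      refine ⟨hrp, Or.inl ⟨hi1eq, ?_⟩⟩
      by_contra hcon
      obtain ⟨hrm, harith⟩ := not_or.mp hcon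
      obtain ⟨hrn, c, hc, hdet⟩ := exists_nonpower r hr hrp hd n (by omega) harith
      obtain ⟨x, hx1, hx2⟩ := model_irred r hr c hc n hrn hdet
      have hxns : ∀ c' : F, (x : Matrix (Fin n) (Fin n) F) ≠ c' • (1 : Matrix (Fin n) (Fin n) F) := by
        intro c' hx'
        exact hc c' (scalar_pow_eq (by omega) x r c c' hx1 hx')
      obtain ⟨U, W, -, hUm, -, hU, -⟩ := hL x ⟨c, hx1⟩ hxns
      exact hrm (hUm ▸ hx2 U hU)
    · rintro ⟨-, ⟨-, hcond⟩ | ⟨h2, -⟩⟩
      swap
      · omega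
      intro x ⟨c, hxc⟩ hxns
      have hz := toLin_pow_eq_smul x r c hxc
      have hc0 : c ≠ 0 := scalar_ne_zero_of_SL (by omega) (x ^ r) c hxc
      by_cases hcp : ∃ d : F, d ^ r = c
      · obtain ⟨d, hd'⟩ := hcp
        have hd0 : d ≠ 0 := by
          rintro rfl
          rw [zero_pow hr.ne_zero] at hd'
          exact hc0 hd'.symm
        rw [← hd'] at hz
        obtain ⟨U, W, hUW, hU, hW, hUm, hWm⟩ := exists_flag_of_pow_eq_smul_pow r hrp _ d hd0 hz m
          (by rw [hfr]; exact h2m) (by rw [hi1eq, Nat.mod_one, Nat.mod_one])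
        rw [hfr] at hWm
        exact ⟨U, W, hUW, hUm, hWm, (inv_iff _ U).mp hU, (inv_iff _ W).mp hW⟩
      · have hcp' : ∀ b : F, b ^ r ≠ c := fun b hb => hcp ⟨b, hb⟩
        have hrn : r ∣ n := by
          have := dvd_finrank_of_inv r hr c hcp' _ hz ⊤ (fun v _ => Submodule.mem_top)
          rwa [finrank_top, hfr] at this
        rcases hcond with hrm | ⟨hv, h2⟩
        · obtain ⟨U, W, hUW, hU, hW, hUm, hWm⟩ := exists_flag_of_dvd r hr c hcp' _ hz m hrm
            (by rw [hfr]; exact h2m)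
          rw [hfr] at hWm
          exact ⟨U, W, hUW, hUm, hWm, (inv_iff _ U).mp hU, (inv_iff _ W).mp hW⟩
        · exfalso
          have hdet := det_of_pow_eq_smul r hr c hcp' _ hz
          rw [det_toLin_SL, hfr] at hdet
          obtain ⟨b, hb⟩ := is_power_of_arith r hr hd n (by omega) hrn hv h2 c hc0 hdet.symm
          exact hcp' b hb
  · -- the case i ≥ 2
    have hnd : ¬ r ∣ Fintype.card F - 1 := by
      intro h
      have := (orderOf_eq_one_iff_dvd r (Fintype.card F) Fintype.card_pos).mpr h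
      omega
    constructor
    · intro hL
      have hmod : 2 * (m % orderOf ((Fintype.card F : ℕ) : ZMod r)) ≤
          n % orderOf ((Fintype.card F : ℕ) : ZMod r) := by
        obtain ⟨x, hx1, hx2, hx3⟩ := model_cyclotomic_ker (F := F) r hrp n hi2 hin
        obtain ⟨U, W, hUW, hUm, hWm, hU, hW⟩ := hL x ⟨1, by rw [hx1, one_smul]⟩ hx2
        have hy : (Matrix.toLin' (x : Matrix (Fin n) (Fin n) F)) ^ r = 1 := by
          have := toLin_pow_eq_smul x r 1 (by rw [hx1, one_smul])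
          rwa [one_smul] at this
        exact two_mod_le_of_flag r hrp _ hy U W hUW ((inv_iff _ U).mpr hU) ((inv_iff _ W).mpr hW) m
          hUm (by rw [hfr]; exact hWm) (by rw [hfr]; omega) _ hx3 (Nat.mod_lt n (by omega))
      exact ⟨hrp, Or.inr ⟨hi2, order_le_of_two_mod_le n m _ hi1 hk hmod, hmod⟩⟩
    · rintro ⟨-, ⟨h1, -⟩ | ⟨-, -, hmod⟩⟩
      · omega
      intro x ⟨c, hxc⟩ hxns
      have hz := toLin_pow_eq_smul x r c hxc
      have hc0 : c ≠ 0 := scalar_ne_zero_of_SL (by omega) (x ^ r) c hxc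
      obtain ⟨d, hd'⟩ := exists_pow_eq_of_not_dvd r hr hnd c
      have hd0 : d ≠ 0 := by
        rintro rfl
        rw [zero_pow hr.ne_zero] at hd'
        exact hc0 hd'.symm
      rw [← hd'] at hz
      obtain ⟨U, W, hUW, hU, hW, hUm, hWm⟩ := exists_flag_of_pow_eq_smul_pow r hrp _ d hd0 hz m
        (by rw [hfr]; exact h2m) (by rw [hfr]; exact hmod)
      rw [hfr] at hWm
      exact ⟨U, W, hUW, hUm, hWm, (inv_iff _ U).mp hU, (inv_iff _ W).mp hW⟩

end Cfsg.Agent.S5951
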