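import Mathlib
import Cfsg.Statements.S5952
import Cfsg.Agent.Lib.Helper9.SemiInv1

set_option autoImplicit false
open Cfsg
open Cfsg.Agent

namespace Cfsg.Agent.S5952

/-- Which dimensions of invariant subspaces a semisimple linear map has. Let `V` be a finite-dimensional vector space over a field `F` and `f` an invertible semisimple linear map of `V`. Suppose `V` is the internal direct sum of the fixed space `C_V(f)` (the eigenspace for 1) and subspaces `U_1, …, U_s`, each `f`-invariant of dimension `a ≥ 1` on which `f` acts irreducibly (no `f`-invariant subspaces other than 0 and `U_j`). Let `0 < m < dim V` and `ℓ = m mod a`. Then `f` leaves some `m`-dimensional subspace invariant if and only if `dim C_V(f) ≥ m`, or `a ≤ m` and `dim C_V(f) ≥ ℓ`. -/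
theorem result {F V : Type*} [Field F] [AddCommGroup V] [Module F V]
    [FiniteDimensional F V] (f : V →ₗ[F] V) (hf : Function.Bijective f) (hss : Module.End.IsSemisimple f)
    {s a : ℕ} (ha : 1 ≤ a) (U : Fin s → Submodule F V)
    (hUinv : ∀ j, (U j).map f ≤ U j) (hUdim : ∀ j, Module.finrank F ↥(U j) = a)
    (hUirr : ∀ j, ∀ W : Submodule F V, W ≤ U j → W.map f ≤ W → W = ⊥ ∨ W = U j)
    (hdec : DirectSum.IsInternal (fun o : Option (Fin s) => o.elim (Module.End.eigenspace f 1) U))
    (m : ℕ) (hm : 0 < m) (hmV : m < Module.finrank F V) :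
    (∃ W : Submodule F V, Module.finrank F ↥W = m ∧ W.map f ≤ W) ↔
    (m ≤ Module.finrank F ↥(Module.End.eigenspace f 1) ∨
      (a ≤ m ∧ m % a ≤ Module.finrank F ↥(Module.End.eigenspace f 1))) := by
  classical
  set C := Module.End.eigenspace f 1 with hC
  set c := Module.finrank F ↥C with hc
  set A : Option (Fin s) → Submodule F V := fun o => o.elim C U with hA
  obtain ⟨hind, htop⟩ := (DirectSum.isInternal_submodule_iff_iSupIndep_and_iSup_eq_top A).1 hdec
  have hUind : iSupIndep U := hind.comp (Option.some_injective _)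
  set U' := ⨆ j ∈ (Finset.univ : Finset (Fin s)), U j with hU'
  have hCU : Disjoint C U' := by
    have h1 := hind none
    refine h1.mono_right (iSup₂_le fun j _ => ?_)
    exact le_iSup₂_of_le (some j) (Option.some_ne_none j) le_rfl
  have hCUtop : C ⊔ U' = ⊤ := by
    rw [eq_top_iff, ← htop]
    apply iSup_le
    rintro (_ | j)
    · exact le_sup_left
    · exact le_sup_of_le_right (le_iSup₂_of_le j (Finset.mem_univ j) le_rfl)
  have hV : Module.finrank F V = c + s * a := by
    rw [← finrank_top F V, ← hCUtop, H9SemiInv.finrank_sup_of_disjoint hCU,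
      H9SemiInv.finrank_biSup U hUind a hUdim, Finset.card_univ, Fintype.card_fin]
  have hUinv' : ∀ j, H9SemiInv.Inv f (U j) := fun j => (H9SemiInv.inv_iff f _).2 (hUinv j)
  have hUirr' : ∀ j, ∀ W : Submodule F V, W ≤ U j → H9SemiInv.Inv f W → W = ⊥ ∨ W = U j :=
    fun j W hW hWi => hUirr j W hW ((H9SemiInv.inv_iff f _).1 hWi)
  have hCfix : ∀ x ∈ C, f x = x := by
    intro x hx
    have := Module.End.mem_eigenspace_iff.1 hx
    rwa [one_smul] at this
  have hU'inv : H9SemiInv.Inv f U' := H9SemiInv.Inv.biSup hUinv' _
  constructor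
  · rintro ⟨W, hWdim, hWinv⟩
    rw [← H9SemiInv.inv_iff] at hWinv
    set g : V →ₗ[F] V := f - 1 with hg
    have hgC : ∀ x, g x = 0 ↔ x ∈ C := by
      intro x
      rw [hC, Module.End.mem_eigenspace_iff, one_smul, hg, LinearMap.sub_apply, Module.End.one_apply,
        sub_eq_zero]
    set Y := W.map g with hY
    have hYU : Y ≤ U' := by
      rintro _ ⟨w, hw, rfl⟩
      have hw' : w ∈ C ⊔ U' := by rw [hCUtop]; trivial
      obtain ⟨x, hx, u, hu, rfl⟩ := Submodule.mem_sup.1 hw'
      rw [map_add, (hgC x).2 hx, zero_add, hg, LinearMap.sub_apply, Module.End.one_apply]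
      exact Submodule.sub_mem _ (hU'inv u hu) hu
    have hYinv : H9SemiInv.Inv f Y := by
      rintro _ ⟨w, hw, rfl⟩
      refine ⟨f w, hWinv w hw, ?_⟩
      simp only [hg, LinearMap.sub_apply, Module.End.one_apply, map_sub]
    have hdvd : a ∣ Module.finrank F ↥Y :=
      H9SemiInv.dvd_finrank_of_le_biSup f U hUind a hUdim hUinv' hUirr' Finset.univ Y hYU hYinv
    have hrn := LinearMap.finrank_range_add_finrank_ker (g.domRestrict W)
    rw [LinearMap.range_domRestrict, hWdim] at hrn
    have hker : Module.finrank F ↥(LinearMap.ker (g.domRestrict W)) ≤ c := by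
      set φ : ↥(LinearMap.ker (g.domRestrict W)) →ₗ[F] ↥C :=
        LinearMap.codRestrict C (W.subtype ∘ₗ (LinearMap.ker (g.domRestrict W)).subtype) (by
          intro x
          rw [← hgC]
          have := x.2
          rw [LinearMap.mem_ker, LinearMap.domRestrict_apply] at this
          exact this) with hφ
      apply LinearMap.finrank_le_finrank_of_injective (f := φ)
      intro x y hxy
      have h1 := congrArg (fun z : ↥C => (z : V)) hxy
      simp only [hφ, LinearMap.codRestrict_apply, LinearMap.comp_apply, Submodule.subtype_apply] at h1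
      exact Subtype.ext (Subtype.ext h1)
    obtain ⟨k, hk⟩ := hdvd
    change Module.finrank F ↥Y + _ = m at hrn
    rw [hk] at hrn
    rcases Nat.eq_zero_or_pos k with hk0 | hkpos
    · left
      rw [hk0, Nat.mul_zero, zero_add] at hrn
      omega
    · right
      have h1 : a ≤ a * k := Nat.le_mul_of_pos_right a hkpos
      refine ⟨by omega, ?_⟩
      rw [← hrn, Nat.mul_add_mod]
      exact le_trans (Nat.mod_le _ _) hker
  · intro hcase
    have hCsub : ∀ C' : Submodule F V, C' ≤ C → H9SemiInv.Inv f C' := by
      intro C' hC' x hx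
      rw [hCfix x (hC' hx)]
      exact hx
    rcases hcase with h1 | ⟨h1, h2⟩
    · obtain ⟨C', hC', hdim⟩ := H9SemiInv.exists_sub_finrank C m h1
      exact ⟨C', hdim, (H9SemiInv.inv_iff f _).1 (hCsub C' hC')⟩
    · set k := m / a with hk
      set k' := min k s with hk'
      have hka : a * k + m % a = m := Nat.div_add_mod m a
      have hk'k : k' ≤ k := min_le_left _ _
      have hk's : k' ≤ s := min_le_right _ _
      have hk'a : k' * a ≤ m := by
        calc k' * a ≤ k * a := Nat.mul_le_mul_right a hk'k
          _ = a * k := Nat.mul_comm _ _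
          _ ≤ m := by omega
      have hd : m - k' * a ≤ c := by
        rcases le_total k s with h | h
        · have : k' = k := min_eq_left h
          rw [this, Nat.mul_comm]
          omega
        · have : k' = s := min_eq_right h
          rw [this]
          omega
      obtain ⟨S, -, hS⟩ := Finset.exists_subset_card_eq (s := (Finset.univ : Finset (Fin s)))
        (n := k') (by rw [Finset.card_univ, Fintype.card_fin]; exact hk's)
      obtain ⟨C', hC', hdim⟩ := H9SemiInv.exists_sub_finrank C (m - k' * a) hd
      have hSle : (⨆ j ∈ S, U j) ≤ U' :=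
        iSup₂_le fun j _ => le_iSup₂_of_le j (Finset.mem_univ j) le_rfl
      refine ⟨C' ⊔ ⨆ j ∈ S, U j, ?_, ?_⟩
      · rw [H9SemiInv.finrank_sup_of_disjoint (hCU.mono hC' hSle), hdim,
          H9SemiInv.finrank_biSup U hUind a hUdim, hS]
        omega
      · rw [← H9SemiInv.inv_iff]
        exact (hCsub C' hC').sup (H9SemiInv.Inv.biSup hUinv' S)

end Cfsg.Agent.S5952
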