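import Cfsg.Statements.S5953
import Cfsg.Agent.Lib.Helper6.TSU8

set_option autoImplicit false
open scoped MatrixGroups
open Cfsg

namespace Cfsg.Agent.S5953

open Cfsg.Agent.Lib.Helper6.TSU Cfsg.Agent.Lib.Helper1.SpBlk in
/-- Elements of prime order of PSU_n(q) with no fixed totally isotropic `m`-space. Here `T = PSU_n(q)` (`n ≥ 3`, `(n, q) ≠ (3, 2)`), realised through the matrices of determinant 1 over the field `F` with `q²` elements preserving the Hermitian form `h(u, v) = Σ u_i v_i^q`; an element of `T` of prime order `r` is such a matrix `x` with `x^r` scalar and `x` not scalar. For `r ≠ p` let `i` be the multiplicative order of `q` modulo `r`, `b = i/2` for `i` even and `b = i` for `i` odd, `c = i, i/2, 2i` according as `i ≡ 0, 2 (mod 4)` or `i` odd, and write `k = n mod c`, `ℓ = m mod b`, `ℓ' = m mod c`, `n' = ⌊n/b⌋`, `m' = ⌊m/b⌋`, `s = (r−1)/b`; `(a)_r` is the `r`-part of `a`. Let `1 ≤ m ≤ n/2` and let `r` be a prime dividing the number of totally isotropic `m`-spaces. Then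 every element of `T` of order `r` fixes a totally isotropic `m`-space if and only if either (i) `r = 2`, `p ≠ 2`, and (`m < n/2` or `(q+1)_2 ≤ (n)_2`); or (ii) `r ≠ p`, `r > 2`, `b ≤ m`, `k ≥ 2ℓ`, and either `i ≢ 2 (mod 4)`, or `i ≡ 2 (mod 4)`, `n' − 2m' ≥ s` and (`i > 2`, or `i = 2` and (`r ∣ m` or `(q+1)_r ≥ (n)_r`)). -/
theorem result {F : Type*} [Field F] [Fintype F] {p : ℕ} [Fact p.Prime] [CharP F p] {q : ℕ} (hq : Fintype.card F = q ^ 2)
    (n m : ℕ) (hn : 3 ≤ n) (hT : (n, q) ≠ (3, 2)) (hm : 1 ≤ m) (hmn : 2 * m ≤ n)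
    (r : ℕ) [Fact r.Prime]
    (hrΩ : r ∣ Nat.card {W : Submodule F (Fin n → F) // Module.finrank F ↥W = m ∧ (∀ u ∈ W, ∀ v ∈ W, Cfsg.hermForm n F q u v = 0)})
    (i b c : ℕ) (hi : i = orderOf (q : ZMod r)) (hb : b = if Even i then i / 2 else i)
    (hc : c = if i % 4 = 0 then i else if i % 4 = 2 then i / 2 else 2 * i) :
    (∀ x : Matrix.SpecialLinearGroup (Fin n) F, x ∈ Cfsg.SU n F q →
      (∃ z : F, ((x ^ r : Matrix.SpecialLinearGroup (Fin n) F) : Matrix (Fin n) (Fin n) F) = z • (1 : Matrix (Fin n) (Fin n) F)) →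
      (∀ z : F, (x : Matrix (Fin n) (Fin n) F) ≠ z • (1 : Matrix (Fin n) (Fin n) F)) →
      ∃ W : Submodule F (Fin n → F), Module.finrank F ↥W = m ∧ (∀ u ∈ W, ∀ v ∈ W, Cfsg.hermForm n F q u v = 0) ∧
        W.map (Matrix.toLin' (x : Matrix (Fin n) (Fin n) F)) ≤ W) ↔
    ((r = 2 ∧ p ≠ 2 ∧ (2 * m < n ∨ padicValNat 2 (q + 1) ≤ padicValNat 2 n)) ∨
     (r ≠ p ∧ 2 < r ∧ b ≤ m ∧ 2 * (m % b) ≤ n % c ∧
       (i % 4 ≠ 2 ∨ (i % 4 = 2 ∧ (r - 1) / b + 2 * (m / b) ≤ n / b ∧
         (2 < i ∨ (i = 2 ∧ (r ∣ m ∨ padicValNat r n ≤ padicValNat r (q + 1)))))))) := by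
  classical
  have hrpr : r.Prime := Fact.out
  have hrp : r ≠ p := by
    rintro rfl
    exact not_char_dvd_card_ts (F := F) hq n m hmn hrΩ
  have hrq : ¬ r ∣ q := not_dvd_q hq r hrp
  have hb' : b = bOf i := hb
  have hc' : c = cOf i := hc
  have hn0 : 0 < n := by omega
  have hbF : orderOf ((Fintype.card F : ℕ) : ZMod r) = b := by
    rw [hq, orderOf_sq_eq q r hrq, ← hi, hb']
  constructor
  · intro Hall
    have HallF : AllFix n F q m r := Hall
    by_cases hr2 : r = 2
    · left
      refine ⟨hr2, fun hp2 => hrp (hr2.trans hp2.symm), ?_⟩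
      by_contra hcon
      push Not at hcon
      obtain ⟨h1, h2⟩ := hcon
      have hp2 : p ≠ 2 := fun hp2 => hrp (hr2.trans hp2.symm)
      obtain ⟨x, hx, hxz, hns, hnf⟩ :=
        exists_su_sq_not_fixTS hq (odd_q hq hp2) n m hm (by omega) h2
      apply hnf
      apply Hall x hx _ hns
      rw [hr2]
      exact hxz
    · right
      have hcF : orderOf (-(q : ZMod r)) = c := by
        rw [orderOf_neg_eq q r hr2 hrq, ← hi, hc']
      obtain ⟨j, hj1, hj2, hj3, hj4⟩ := exists_dvd_of_dvd_card_ts hq n m hmn r hrq hrΩ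
      rw [hcF] at hj4
      have hcpos : 0 < c := by rw [← hcF]; exact orderOf_neg_pos q r hrq
      have hcn : c ≤ n := (Nat.le_of_dvd (by omega) hj4).trans hj2
      have hk2m : n % c < 2 * m := by
        obtain ⟨t, rfl⟩ := hj4
        have e : n = (n - c * t) + c * t := by omega
        have h3 : n % c ≤ n - c * t := by
          rw [e, Nat.add_mul_mod_self_left, ← e]
          exact Nat.mod_le _ _
        omega
      have hcases := cOf_cases i
      rw [← hb', ← hc'] at hcases
      have hb1 : 1 ≤ b := by rw [← hbF]; exact Cfsg.Agent.Lib.Helper9.H9Elus.order_pos (F := F) r hrp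
      -- (A)
      have hA : b ≤ m ∧ 2 * (m % b) ≤ n % c := by
        by_cases hq1 : r ∣ q + 1
        · have hi2 : i = 2 := by rw [hi]; exact (orderOf_eq_two_iff q r hr2).2 hq1
          have hb1' : b = 1 := by rw [hb', hi2]; rfl
          have hc1' : c = 1 := by rw [hc', hi2]; rfl
          rw [hb1', hc1']
          exact ⟨hm, by omega⟩
        · have h3 := nec_A hq n m r hrp hq1 (by rw [hcF]; exact hcn) (by rw [hcF]; exact hk2m)
            (by rw [hcF, hbF]; rcases hcases with ⟨-, h⟩ | ⟨-, h⟩ <;> omega) HallF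
          rw [hbF, hcF] at h3
          exact h3
      refine ⟨hrp, lt_of_le_of_ne hrpr.two_le (Ne.symm hr2), hA.1, hA.2, ?_⟩
      by_cases hi4 : i % 4 = 2
      · right
        have hcb : c = b := by
          rcases hcases with ⟨-, h⟩ | ⟨h, -⟩
          · exact h
          · exact absurd hi4 h
        refine ⟨hi4, ?_, ?_⟩
        · by_cases hq1 : r ∣ q + 1
          · have hi2 : i = 2 := by rw [hi]; exact (orderOf_eq_two_iff q r hr2).2 hq1
            have hb1' : b = 1 := by rw [hb', hi2]; rfl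
            have h3 := nec_B_diag hq n m hn hm r hrp hr2 hq1 HallF
            rw [hb1', Nat.div_one, Nat.div_one, Nat.div_one]
            exact h3
          · have h3 := nec_B hq n m r hrp hr2 hq1 (by rw [hcF, hbF, hcb])
              (by rw [hbF, ← hcb]; exact hcn) (by rw [hbF]; exact hA.1) HallF
            rw [hbF] at h3
            exact h3
        · by_cases hi2 : i = 2
          · right
            have hq1 : r ∣ q + 1 := (orderOf_eq_two_iff q r hr2).1 (by rw [← hi]; exact hi2)
            exact ⟨hi2, nec_C hq n m hn0 r hr2 hq1 HallF⟩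
          · left
            omega
      · left
        exact hi4
  · rintro (⟨hr2, hp2, hcond⟩ | ⟨-, hr2, -, h1, h2⟩) x hx ⟨z, hxz⟩ _
    · subst hr2
      exact fixTS_of_sq_su hq (odd_q hq hp2) n m hmn hcond x hx z hxz
    · have hr2' : r ≠ 2 := by omega
      have hcF : orderOf (-(q : ZMod r)) = c := by
        rw [orderOf_neg_eq q r hr2' hrq, ← hi, hc']
      have hcases := cOf_cases i
      rw [← hb', ← hc'] at hcases
      apply pos_odd hq n m hn0 hmn r hrp hr2' _ _ _ _ x hx z hxz
      · rw [hcF, hbF]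
        rcases hcases with ⟨-, h⟩ | ⟨-, h⟩
        · exact Or.inl h
        · exact Or.inr h
      · rw [hcF, hbF]
        exact h1
      · rw [hcF, hbF]
        rcases h2 with h2 | ⟨-, h2, -⟩
        · left
          rcases hcases with ⟨h, -⟩ | ⟨-, h⟩
          · exact absurd h h2
          · exact h
        · exact Or.inr h2
      · intro hq1
        have hi2 : i = 2 := by rw [hi]; exact (orderOf_eq_two_iff q r hr2').2 hq1
        rcases h2 with h2 | ⟨-, -, h2⟩
        · exact absurd (by rw [hi2]) h2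
        · rcases h2 with h2 | ⟨-, h2⟩
          · omega
          · exact h2

end Cfsg.Agent.S5953
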