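import Cfsg.Statements.S5954
import Cfsg.Agent.Lib.Helper4.NDU_DVD
import Cfsg.Agent.Lib.Helper1.NDU4
import Cfsg.Agent.Lib.Helper9.NDU2_B
import Cfsg.Agent.Lib.Helper9.NDU2_C

set_option autoImplicit false
open scoped MatrixGroups
open Cfsg

namespace Cfsg.Agent.S5954

/-- Elements of prime order of PSU_n(q) with no fixed nondegenerate `m`-space. Here `T = PSU_n(q)` (`n ≥ 3`, `(n, q) ≠ (3, 2)`), realised through the matrices of determinant 1 over the field `F` with `q²` elements preserving the Hermitian form `h(u, v) = Σ u_i v_i^q`; an element of `T` of prime order `r` is such a matrix `x` with `x^r` scalar and `x` not scalar. For `r ≠ p` let `i` be the multiplicative order of `q` modulo `r`, `b = i/2` for `i` even and `b = i` for `i` odd, `c = i, i/2, 2i` according as `i ≡ 0, 2 (mod 4)` or `i` odd, and write `k = n mod c`, `ℓ = m mod b`, `ℓ' = m mod c`, `n' = ⌊n/b⌋`, `m' = ⌊m/b⌋`, `s = (r−1)/b`; `(a)_r` is the `r`-part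 of `a`. Let `1 ≤ m < n/2` and let `r` be a prime dividing the number of nondegenerate `m`-spaces. Then every element of `T` of order `r` fixes a nondegenerate `m`-space if and only if one of: (i) `r = p > 2` and every partition of `n` into parts of size at most `p` contains (as a sub-multiset) a partition of `m`; (ii) `r = p = 2` and (`n` is odd or `m` is even); (iii) `r = 2 ≠ p` and (`n` is odd, or `m` is even, or `(q+1)_2 ≥ (n)_2` and `q ≡ 3 (mod 4)`); (iv) `r ≠ p`, `r > 2`, and either `i ≠ 2`, `c ≤ m` and `k ≥ ℓ'`, or `i = 2` and (`r ∣ m` or `(q+1)_r ≥ (n)_r`). -/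
theorem result {F : Type*} [Field F] [Fintype F] {p : ℕ} [Fact p.Prime] [CharP F p] {q : ℕ} (hq : Fintype.card F = q ^ 2)
    (n m : ℕ) (hn : 3 ≤ n) (hT : (n, q) ≠ (3, 2)) (hm : 1 ≤ m) (hmn : 2 * m < n)
    (r : ℕ) [Fact r.Prime]
    (hrΩ : r ∣ Nat.card {W : Submodule F (Fin n → F) // Module.finrank F ↥W = m ∧ (∀ u ∈ W, u ≠ 0 → ∃ v ∈ W, Cfsg.hermForm n F q u v ≠ 0)})
    (i b c : ℕ) (hi : i = orderOf (q : ZMod r)) (hb : b = if Even i then i / 2 else i)
    (hc : c = if i % 4 = 0 then i else if i % 4 = 2 then i / 2 else 2 * i) :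
    (∀ x : Matrix.SpecialLinearGroup (Fin n) F, x ∈ Cfsg.SU n F q →
      (∃ z : F, ((x ^ r : Matrix.SpecialLinearGroup (Fin n) F) : Matrix (Fin n) (Fin n) F) = z • (1 : Matrix (Fin n) (Fin n) F)) →
      (∀ z : F, (x : Matrix (Fin n) (Fin n) F) ≠ z • (1 : Matrix (Fin n) (Fin n) F)) →
      ∃ W : Submodule F (Fin n → F), Module.finrank F ↥W = m ∧ (∀ u ∈ W, u ≠ 0 → ∃ v ∈ W, Cfsg.hermForm n F q u v ≠ 0) ∧
        W.map (Matrix.toLin' (x : Matrix (Fin n) (Fin n) F)) ≤ W) ↔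
    ((r = p ∧ 2 < p ∧ (∀ μ : Multiset ℕ, (∀ a ∈ μ, 0 < a ∧ a ≤ p) → μ.sum = n → ∃ ν : Multiset ℕ, ν ≤ μ ∧ ν.sum = m)) ∨
     (r = p ∧ p = 2 ∧ (Odd n ∨ Even m)) ∨
     (r = 2 ∧ p ≠ 2 ∧ (Odd n ∨ Even m ∨ (padicValNat 2 n ≤ padicValNat 2 (q + 1) ∧ q % 4 = 3))) ∨
     (r ≠ p ∧ 2 < r ∧ ((i ≠ 2 ∧ c ≤ m ∧ m % c ≤ n % c) ∨ (i = 2 ∧ (r ∣ m ∨ padicValNat r n ≤ padicValNat r (q + 1)))))) := by
  have hp : p.Prime := Fact.out
  have hr : r.Prime := Fact.out
  have hmn' : m ≤ n := by omega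
  have hn1 : 1 ≤ n := by omega
  have hn2 : 2 ≤ n := by omega
  have hc' : c = Cfsg.Agent.Lib.Helper4.NDU.cDim (orderOf ((q : ℕ) : ZMod r)) := by
    rw [hc, hi, Cfsg.Agent.Lib.Helper4.NDU.cDim]
  constructor
  · intro hall
    by_cases hrp : r = p
    · by_cases hp2 : p = 2
      · right; left
        refine ⟨hrp, hp2, ?_⟩
        by_contra hpar
        obtain ⟨h1, h2⟩ := not_or.mp hpar
        obtain ⟨x, hx, hx2, hns, hnot⟩ := Cfsg.Agent.Lib.Helper9.NDU2.exists_su_invol_not_fix hq hp2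
          n m (Nat.not_odd_iff_even.mp h1) (Nat.not_even_iff_odd.mp h2) hn2
        have hr2 : r = 2 := hrp.trans hp2
        exact hnot (hall x hx (by rw [hr2]; exact hx2) hns)
      · left
        refine ⟨hrp, lt_of_le_of_ne hp.two_le (Ne.symm hp2), ?_⟩
        intro μ hμ1 hsum
        by_contra hno
        obtain ⟨x, hx, hxp, hnot⟩ :=
          Cfsg.Agent.Lib.Helper1.NDU.exists_unipotent_not_fixNDH hq n m μ hμ1 hsum hno
        have hns : ∀ z : F, (x : Matrix (Fin n) (Fin n) F) ≠ z • (1 : Matrix (Fin n) (Fin n) F) :=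
          fun z hz => hnot (Cfsg.Agent.Lib.Helper4.NDU.su_fix_of_scalar hq n m hmn' x z hz)
        apply hnot
        apply hall x hx ⟨1, ?_⟩ hns
        rw [hrp, hxp, one_smul]
        rfl
    · by_cases hr2 : r = 2
      · right; right; left
        have hp2 : p ≠ 2 := fun hp2 => hrp (hr2.trans hp2.symm)
        refine ⟨hr2, hp2, ?_⟩
        by_contra hcon
        obtain ⟨h1, hcon2⟩ := not_or.mp hcon
        obtain ⟨h2, h3⟩ := not_or.mp hcon2
        obtain ⟨x, hx, hx2, hns, hnot⟩ := Cfsg.Agent.Lib.Helper9.NDU2.exists_su_sq_not_fix hq hp2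
          n m (Nat.not_odd_iff_even.mp h1) (Nat.not_even_iff_odd.mp h2) hn2 h3
        exact hnot (hall x hx (by rw [hr2]; exact hx2) hns)
      · right; right; right
        refine ⟨hrp, lt_of_le_of_ne hr.two_le (Ne.symm hr2), ?_⟩
        by_cases hi2 : i = 2
        · right
          refine ⟨hi2, ?_⟩
          have hrq1 : r ∣ q + 1 :=
            (Cfsg.Agent.Lib.Helper4.NDU.orderOf_eq_two_iff r hr2 q).mp (hi.symm.trans hi2)
          by_contra hcon
          obtain ⟨x, hx, hxr, hns, hnot⟩ :=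
            Cfsg.Agent.Lib.Helper4.NDU.exists_su_dvd_not_fix hq n m hn1 r hr2 hrq1 hcon
          exact hnot (hall x hx hxr hns)
        · left
          refine ⟨hi2, ?_⟩
          have hrq1 : ¬ r ∣ q + 1 := fun hd =>
            hi2 (hi.trans ((Cfsg.Agent.Lib.Helper4.NDU.orderOf_eq_two_iff r hr2 q).mpr hd))
          by_contra hcon
          rw [hc'] at hcon
          obtain ⟨x, hx, hxr, hns, hnot⟩ :=
            Cfsg.Agent.Lib.Helper4.NDU.exists_su_odd_not_fix hq n m hmn' r hrp hr2 hrq1 hrΩ hcon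
          exact hnot (hall x hx hxr hns)
  · rintro (⟨hrp, hp2, hμ⟩ | ⟨hrp, hp2, hpar⟩ | ⟨hr2, hp2, hcond⟩ | ⟨hrp, hr2, hcond⟩) x hx hxr hns
    · have hxp : ∃ z : F, ((x ^ p : Matrix.SpecialLinearGroup (Fin n) F) :
          Matrix (Fin n) (Fin n) F) = z • (1 : Matrix (Fin n) (Fin n) F) := by
        rw [← hrp]; exact hxr
      exact Cfsg.Agent.Lib.Helper1.NDU.fixNDH_of_unipotent_su hq n m hn1 hμ x hx hxp
    · obtain ⟨z, hz⟩ := hxr
      have hr2 : r = 2 := hrp.trans hp2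
      rw [hr2] at hz
      exact Cfsg.Agent.Lib.Helper9.NDU2.su_sq_fix hq n m hmn' x hx z hz hpar
    · obtain ⟨z, hz⟩ := hxr
      rw [hr2] at hz
      rcases hcond with h1 | h1 | ⟨h1, h2⟩
      · exact Cfsg.Agent.Lib.Helper9.NDU2.su_sq_fix hq n m hmn' x hx z hz (Or.inl h1)
      · exact Cfsg.Agent.Lib.Helper9.NDU2.su_sq_fix hq n m hmn' x hx z hz (Or.inr h1)
      · exact Cfsg.Agent.Lib.Helper9.NDU2.su_sq_fix_of_val hq hp2 n m hmn' x hx z hz h1 h2
    · have hr2' : r ≠ 2 := by omega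
      rcases hcond with ⟨hi2, -, hmod⟩ | ⟨hi2, hcond⟩
      · have hrq1 : ¬ r ∣ q + 1 := fun hd =>
          hi2 (hi.trans ((Cfsg.Agent.Lib.Helper4.NDU.orderOf_eq_two_iff r hr2' q).mpr hd))
        rw [hc'] at hmod
        exact Cfsg.Agent.Lib.Helper4.NDU.su_odd_fix hq n m hn1 r hrp hr2' hrq1 x hx hxr hmn' hmod
      · have hrq1 : r ∣ q + 1 :=
          (Cfsg.Agent.Lib.Helper4.NDU.orderOf_eq_two_iff r hr2' q).mp (hi.symm.trans hi2)
        exact Cfsg.Agent.Lib.Helper4.NDU.su_dvd_fix hq n m hn1 r hrp hr2' hrq1 x hx hxr hmn' hcond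

end Cfsg.Agent.S5954
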