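import Cfsg.Statements.S5955
import Cfsg.Agent.Lib.Helper1.TISp6
import Cfsg.Agent.Lib.Helper1.TISp_CLS
import Cfsg.Agent.Lib.Helper9.TISp_INV2

set_option autoImplicit false
open scoped MatrixGroups
open Cfsg

namespace Cfsg.Agent.S5955

open Cfsg.Agent.Lib.Helper1.TISp Cfsg.Agent.Lib.Helper1.SpBlk Cfsg.Agent.Lib.Helper2.SpIsom in
/-- Elements of prime order of PSp_n(q) with no fixed totally isotropic `m`-space. Here `T = PSp_n(q)` with `n = 2d ≥ 4`, `(n, q) ≠ (4, 2)`, realised through the symplectic matrices over the field `F` with `q` elements (preserving the standard alternating form); an element of `T` of prime order `r` is such a matrix `x` with `x^r` scalar and `x` not scalar. For `r ≠ p` let `i` be the multiplicative order of `q` modulo `r`, `c = i` for `i` even and `c = 2i` for `i` odd, and write `k = n mod c`, `ℓ = m mod i`, `ℓ' = m mod c`, `n' = ⌊n/i⌋`, `m' = ⌊m/i⌋`, `t = (r−1)/i`. Let `1 ≤ m ≤ n/2` and let `r` be a prime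 dividing the number of totally isotropic `m`-spaces. Then every element of `T` of order `r` fixes a totally isotropic `m`-space if and only if either (i) `r = 2 ≠ p` and (`m` is even or `q ≡ 1 (mod 4)`); or (ii) `r ≠ p`, `r > 2`, `i ≤ m`, `k ≥ 2ℓ`, and (`i` is odd or `n' − 2m' ≥ t`). -/
theorem result {F : Type*} [Field F] [Fintype F] {p : ℕ} [Fact p.Prime] [CharP F p] {q : ℕ} (hq : Fintype.card F = q)
    (d m : ℕ) (hd : 2 ≤ d) (hT : (d, q) ≠ (2, 2)) (hm : 1 ≤ m) (hmd : m ≤ d)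
    (r : ℕ) [Fact r.Prime]
    (hrΩ : r ∣ Nat.card {W : Submodule F (Fin d ⊕ Fin d → F) // Module.finrank F ↥W = m ∧ (∀ u ∈ W, ∀ v ∈ W, Cfsg.sympForm d F u v = 0)})
    (i c : ℕ) (hi : i = orderOf (q : ZMod r)) (hc : c = if Even i then i else 2 * i) :
    (∀ x : ↥(Matrix.symplecticGroup (Fin d) F),
      (∃ z : F, ((x ^ r : ↥(Matrix.symplecticGroup (Fin d) F)) : Matrix (Fin d ⊕ Fin d) (Fin d ⊕ Fin d) F) = z • (1 : Matrix (Fin d ⊕ Fin d) (Fin d ⊕ Fin d) F)) →
      (∀ z : F, (x : Matrix (Fin d ⊕ Fin d) (Fin d ⊕ Fin d) F) ≠ z • (1 : Matrix (Fin d ⊕ Fin d) (Fin d ⊕ Fin d) F)) →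
      ∃ W : Submodule F (Fin d ⊕ Fin d → F), Module.finrank F ↥W = m ∧ (∀ u ∈ W, ∀ v ∈ W, Cfsg.sympForm d F u v = 0) ∧
        W.map (Matrix.toLin' (x : Matrix (Fin d ⊕ Fin d) (Fin d ⊕ Fin d) F)) ≤ W) ↔
    ((r = 2 ∧ p ≠ 2 ∧ (Even m ∨ q % 4 = 1)) ∨
     (r ≠ p ∧ 2 < r ∧ i ≤ m ∧ 2 * (m % i) ≤ (2 * d) % c ∧ (Odd i ∨ (r - 1) / i + 2 * (m / i) ≤ (2 * d) / i))) := by
  classical
  subst hq
  subst hi
  have hcc : c = blockDim (orderOf ((Fintype.card F : ℕ) : ZMod r)) := by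
    rw [hc]
    rfl
  subst hcc
  have hrprime : r.Prime := Fact.out
  have hpprime : p.Prime := Fact.out
  have hrp : r ≠ p := by
    rintro rfl
    exact not_char_dvd_card_ti (F := F) d m hmd hrΩ
  have hnd : ∀ x : Fin d ⊕ Fin d → F, (∀ y, sympBilin d F x y = 0) → x = 0 := by
    intro x hx
    apply sympForm_nondeg x
    intro y
    rw [← sympBilin_apply]
    exact hx y
  constructor
  · intro H
    have H' : ∀ x : Matrix.symplecticGroup (Fin d) F,
        (∃ z : F, ((x ^ r : Matrix.symplecticGroup (Fin d) F) :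
          Matrix (Fin d ⊕ Fin d) (Fin d ⊕ Fin d) F) = z • 1) →
        FixTI (sympBilin d F)
          (Matrix.toLin' (x : Matrix (Fin d ⊕ Fin d) (Fin d ⊕ Fin d) F)) m := by
      intro x hx
      by_contra hnf
      obtain ⟨W, hWfr, hWti, hWinv⟩ := H x hx (not_scalar_of_not_fixTI m hmd x hnf)
      exact hnf ⟨W, hWfr, fun u hu v hv => by rw [sympBilin_apply]; exact hWti u hu v hv, hWinv⟩
    by_cases hr2 : r = 2
    · left
      subst hr2
      refine ⟨rfl, fun hp2 => hrp hp2.symm, ?_⟩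
      by_contra hcon
      push Not at hcon
      obtain ⟨hmodd, hq4⟩ := hcon
      have hqodd : Fintype.card F % 2 = 1 := by
        obtain ⟨n, -, hn⟩ := FiniteField.card F p
        rw [hn]
        exact Nat.odd_iff.1 ((hpprime.odd_of_ne_two (fun hp2 => hrp hp2.symm)).pow)
      have hq3 : Fintype.card F % 4 = 3 := by omega
      obtain ⟨x, hx2, hxnf⟩ :=
        exists_sq_neg_one_not_fixTI (F := F) d m (Nat.not_even_iff_odd.1 hmodd) hq3
      exact hxnf (H' x ⟨-1, hx2⟩)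
    · right
      have h3 := cond_of_forall_fixTI (F := F) r hrp hr2 d m hmd hrΩ
        (fun h hh hi => exists_classes r hrp hr2 h hh hi)
        (fun x hxr => H' x ⟨1, by rw [hxr, one_smul]; rfl⟩)
      have h2r := hrprime.two_le
      exact ⟨hrp, by omega, h3.1, h3.2.1, h3.2.2⟩
  · rintro (⟨hr2, hp2, hcond⟩ | ⟨-, hr2, -, hB, hC⟩) x hx _
    · subst hr2
      obtain ⟨z, hz⟩ := hx
      have h2F : (2 : F) ≠ 0 := by
        intro h0
        have h1 : ((2 : ℕ) : F) = 0 := by exact_mod_cast h0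
        rw [CharP.cast_eq_zero_iff F p 2] at h1
        exact hp2 ((Nat.prime_dvd_prime_iff_eq hpprime Nat.prime_two).1 h1)
      have hTz : (Matrix.toLin' (x : Matrix (Fin d ⊕ Fin d) (Fin d ⊕ Fin d) F)) ^ 2 = z • 1 := by
        rw [← Matrix.toLin'_pow, ← coe_pow_sp, hz, map_smul, Matrix.toLin'_one]
        rfl
      obtain ⟨W, h1, h2, h3⟩ := fixTI_of_sq_eq_smul h2F (sympBilin d F) sympBilin_isAlt hnd d
        (finrank_std d) (Matrix.toLin' (x : Matrix (Fin d ⊕ Fin d) (Fin d ⊕ Fin d) F))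
        (toLin_isom x) z hTz m hmd hcond
      exact ⟨W, h1, fun u hu v hv => by rw [← sympBilin_apply]; exact h2 u hu v hv, h3⟩
    · obtain ⟨W, h1, h2, h3⟩ := fixTI_of_cond_sp (F := F) r hrp (by omega) (by omega) m hmd hB hC
        x hx
      exact ⟨W, h1, fun u hu v hv => by rw [← sympBilin_apply]; exact h2 u hu v hv, h3⟩

end Cfsg.Agent.S5955
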