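import Cfsg.Statements.S5956
import Cfsg.Agent.Lib.Helper1.NDSp7

set_option autoImplicit false
open scoped MatrixGroups
open Cfsg

namespace Cfsg.Agent.S5956

open Cfsg.Agent.Lib.Helper1.NDSp Cfsg.Agent.Lib.Helper1.TISp Cfsg.Agent.Lib.Helper1.SpBlk Cfsg.Agent.Lib.Helper2.SpIsom in
/-- Elements of prime order of PSp_n(q) with no fixed nondegenerate `m`-space. Here `T = PSp_n(q)` with `n = 2d ≥ 4`, `(n, q) ≠ (4, 2)`, realised through the symplectic matrices over the field `F` with `q` elements (preserving the standard alternating form); an element of `T` of prime order `r` is such a matrix `x` with `x^r` scalar and `x` not scalar. For `r ≠ p` let `i` be the multiplicative order of `q` modulo `r`, `c = i` for `i` even and `c = 2i` for `i` odd, and write `k = n mod c`, `ℓ = m mod i`, `ℓ' = m mod c`, `n' = ⌊n/i⌋`, `m' = ⌊m/i⌋`, `t = (r−1)/i`. Let `m` be even with `2 ≤ m < n/2` and let `r` be a prime dividing the number of nondegenerate `m`-spaces. Then every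 element of `T` of order `r` fixes a nondegenerate `m`-space if and only if one of: (i) `r = p > 2` and every partition of `n` into parts of size at most `p` in which every odd part has even multiplicity contains (as a sub-multiset) a partition of `m` in which every odd part has even multiplicity; (ii) `r = p = 2` and (`n ≡ 2 (mod 4)` or `m ≡ 0 (mod 4)`); (iii) `r = 2 ≠ p`; (iv) `r ≠ p`, `r > 2`, `c ≤ m` and `k ≥ ℓ'`. -/
theorem result {F : Type*} [Field F] [Fintype F] {p : ℕ} [Fact p.Prime] [CharP F p] {q : ℕ} (hq : Fintype.card F = q)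
    (d m : ℕ) (hd : 2 ≤ d) (hT : (d, q) ≠ (2, 2)) (hm : 2 ≤ m) (hme : Even m) (hmd : m < d)
    (r : ℕ) [Fact r.Prime]
    (hrΩ : r ∣ Nat.card {W : Submodule F (Fin d ⊕ Fin d → F) // Module.finrank F ↥W = m ∧ (∀ u ∈ W, u ≠ 0 → ∃ v ∈ W, Cfsg.sympForm d F u v ≠ 0)})
    (i c : ℕ) (hi : i = orderOf (q : ZMod r)) (hc : c = if Even i then i else 2 * i) :
    (∀ x : ↥(Matrix.symplecticGroup (Fin d) F),
      (∃ z : F, ((x ^ r : ↥(Matrix.symplecticGroup (Fin d) F)) : Matrix (Fin d ⊕ Fin d) (Fin d ⊕ Fin d) F) = z • (1 : Matrix (Fin d ⊕ Fin d) (Fin d ⊕ Fin d) F)) →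
      (∀ z : F, (x : Matrix (Fin d ⊕ Fin d) (Fin d ⊕ Fin d) F) ≠ z • (1 : Matrix (Fin d ⊕ Fin d) (Fin d ⊕ Fin d) F)) →
      ∃ W : Submodule F (Fin d ⊕ Fin d → F), Module.finrank F ↥W = m ∧ (∀ u ∈ W, u ≠ 0 → ∃ v ∈ W, Cfsg.sympForm d F u v ≠ 0) ∧
        W.map (Matrix.toLin' (x : Matrix (Fin d ⊕ Fin d) (Fin d ⊕ Fin d) F)) ≤ W) ↔
    ((r = p ∧ 2 < p ∧ (∀ μ : Multiset ℕ, (∀ a ∈ μ, 0 < a ∧ a ≤ p) → (∀ a : ℕ, Odd a → Even (μ.count a)) → μ.sum = 2 * d →
        ∃ ν : Multiset ℕ, ν ≤ μ ∧ ν.sum = m ∧ ∀ a : ℕ, Odd a → Even (ν.count a))) ∨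
     (r = p ∧ p = 2 ∧ ((2 * d) % 4 = 2 ∨ m % 4 = 0)) ∨
     (r = 2 ∧ p ≠ 2) ∨
     (r ≠ p ∧ 2 < r ∧ c ≤ m ∧ m % c ≤ (2 * d) % c)) := by
  classical
  subst hq
  subst hi
  have hcc : c = blockDim (orderOf ((Fintype.card F : ℕ) : ZMod r)) := by
    rw [hc]
    rfl
  subst hcc
  have hrprime : r.Prime := Fact.out
  have hpprime : p.Prime := Fact.out
  have hm2d : m ≤ 2 * d := by omega
  have hconv : ∀ x : Matrix.symplecticGroup (Fin d) F,
      FixND (sympBilin d F) (Matrix.toLin' (x : Matrix (Fin d ⊕ Fin d) (Fin d ⊕ Fin d) F)) m →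
      ∃ W : Submodule F (Fin d ⊕ Fin d → F), Module.finrank F ↥W = m ∧
        (∀ u ∈ W, u ≠ 0 → ∃ v ∈ W, Cfsg.sympForm d F u v ≠ 0) ∧
        W.map (Matrix.toLin' (x : Matrix (Fin d ⊕ Fin d) (Fin d ⊕ Fin d) F)) ≤ W := by
    rintro x ⟨W, h1, h2, h3⟩
    refine ⟨W, h1, ?_, h3⟩
    intro u hu hu0
    obtain ⟨v, hv, hne⟩ := h2 u hu hu0
    rw [sympBilin_apply] at hne
    exact ⟨v, hv, hne⟩
  constructor
  · intro H
    have H' : ∀ x : Matrix.symplecticGroup (Fin d) F,
        (∃ z : F, ((x ^ r : Matrix.symplecticGroup (Fin d) F) :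
          Matrix (Fin d ⊕ Fin d) (Fin d ⊕ Fin d) F) = z • 1) →
        FixND (sympBilin d F)
          (Matrix.toLin' (x : Matrix (Fin d ⊕ Fin d) (Fin d ⊕ Fin d) F)) m := by
      intro x hx
      by_contra hnf
      obtain ⟨W, hWfr, hWnd, hWinv⟩ := H x hx (not_scalar_of_not_fixND m hme hm2d x hnf)
      refine hnf ⟨W, hWfr, ?_, hWinv⟩
      intro u hu hu0
      obtain ⟨v, hv, hne⟩ := hWnd u hu hu0
      rw [← sympBilin_apply] at hne
      exact ⟨v, hv, hne⟩
    have H1 : ∀ x : Matrix.symplecticGroup (Fin d) F, x ^ r = 1 →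
        FixND (sympBilin d F)
          (Matrix.toLin' (x : Matrix (Fin d ⊕ Fin d) (Fin d ⊕ Fin d) F)) m := by
      intro x hxr
      apply H' x
      refine ⟨1, ?_⟩
      rw [hxr, one_smul]
      rfl
    by_cases hrp : r = p
    · subst hrp
      by_cases hp2 : r = 2
      · right
        left
        refine ⟨rfl, hp2, ?_⟩
        by_contra hcon
        push Not at hcon
        obtain ⟨hc1, hc2⟩ := hcon
        have hde : Even d := by
          rw [Nat.even_iff]
          omega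
        have hm4 : m % 4 = 2 := by
          obtain ⟨k, hk⟩ := hme
          omega
        obtain ⟨x, hx2, -, hxnf⟩ := exists_involution_not_fixND (F := F)
          (two_eq_zero_of_char (p := r) hp2) d m hd hde hm4
        apply hxnf
        apply H1 x
        rw [hp2]
        exact hx2
      · left
        have h2r := hrprime.two_le
        refine ⟨rfl, by omega, ?_⟩
        intro μ hμ1 hμ2 hsum
        by_contra hno
        obtain ⟨x, hxp, hxnf⟩ := exists_unipotent_not_fixND (F := F) (p := r) hp2 d m μ hμ1 hμ2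
          hsum hno
        exact hxnf (H1 x hxp)
    · right
      right
      by_cases hr2 : r = 2
      · left
        refine ⟨hr2, ?_⟩
        intro hp2
        exact hrp (hr2.trans hp2.symm)
      · right
        have h3 := cond_of_forall_fixND (F := F) (p := p) r hrp hr2 m hm2d
          (exists_dvd_of_dvd_card_nd d m hme hm2d r hrprime hrp hrΩ) H1
        have h2r := hrprime.two_le
        exact ⟨hrp, by omega, h3.1, h3.2⟩
  · rintro (⟨hrp, hp2, hμ⟩ | ⟨hrp, hp2, hcond⟩ | ⟨hr2, hp2⟩ | ⟨hrp, hr2, -, hmod⟩) x hx _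
    · subst hrp
      exact hconv x (fixND_of_unipotent_sp (F := F) (p := r) (by omega) (by omega) m hμ x hx)
    · subst hrp
      subst hp2
      exact hconv x (fixND_of_involution_sp (F := F) (p := 2) rfl (by omega) m hme hm2d hcond x hx)
    · subst hr2
      exact hconv x (fixND_of_sq_sp (F := F) (p := p) hp2 m hme hm2d x hx)
    · exact hconv x (fixND_of_cond_sp (F := F) (p := p) r hrp (by omega) (by omega) m hme hm2d
        hmod x hx)

end Cfsg.Agent.S5956
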