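import Mathlib
import Cfsg.Statements.S5957
import Cfsg.Agent.Lib.Helper9.InvMono1
import Cfsg.Agent.Lib.Helper9.InvSq4

set_option autoImplicit false
open scoped MatrixGroups
open Cfsg
open Cfsg.Agent

namespace Cfsg.Agent.S5957

/-- Involutions of PSL_n(q) and imprimitive subgroups. Here `T = PSL_n(F)` for a field `F` with `q = p^f` elements (`n ≥ 2`, `(n, q) ≠ (2, 2), (2, 3)`), `n = a·t` with `t ≥ 2`, and Ω is the set of direct-sum decompositions of `F^n` into `t` subspaces of dimension `a` (unordered; their number is the number of ordered ones divided by `t!`), whose stabilizers are the imprimitive subgroups of type GL_a(q) ≀ S_t (maximal except in some small cases; maximality is not assumed); an element of `T` of prime order `r` (a matrix `x` of determinant 1 with `x^r` scalar, `x` not scalar) fixes a point of Ω when it permutes the summands of some such decomposition. If the number of such decompositions is even, then every involution of `T` stabilizes one of them (the action is 2-elusive). -/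
theorem result {F : Type*} [Field F] [Fintype F] {p : ℕ} [Fact p.Prime] [CharP F p] {q : ℕ} (hq : Fintype.card F = q)
    (n a t : ℕ) (hn : 2 ≤ n) (hT : (n, q) ≠ (2, 2) ∧ (n, q) ≠ (2, 3)) (hat : n = a * t) (ha : 1 ≤ a) (ht : 2 ≤ t)
    (hΩ : 2 ∣ Nat.card {D : Fin t → Submodule F (Fin n → F) // Cfsg.Geo.IsMDecomposition a D} / Nat.factorial t)
    (x : Matrix.SpecialLinearGroup (Fin n) F)
    (hx1 : ∃ z : F, ((x ^ 2 : Matrix.SpecialLinearGroup (Fin n) F) : Matrix (Fin n) (Fin n) F) = z • (1 : Matrix (Fin n) (Fin n) F))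
    (hx2 : ∀ z : F, (x : Matrix (Fin n) (Fin n) F) ≠ z • (1 : Matrix (Fin n) (Fin n) F)) :
    ∃ D : Fin t → Submodule F (Fin n → F), Cfsg.Geo.IsMDecomposition a D ∧
        ∃ σ : Equiv.Perm (Fin t), ∀ j, (D j).map (Matrix.toLin' (x : Matrix (Fin n) (Fin n) F)) = D (σ j) := by
  classical
  obtain ⟨z, hz⟩ := hx1
  set X : (Fin n → F) →ₗ[F] (Fin n → F) := Matrix.toLin' (x : Matrix (Fin n) (Fin n) F) with hX
  have hxx : (x : Matrix (Fin n) (Fin n) F) * (x : Matrix (Fin n) (Fin n) F)
      = z • (1 : Matrix (Fin n) (Fin n) F) := by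
    rw [← hz, pow_two]; rfl
  have hX2 : ∀ u, X (X u) = z • u := by
    intro u
    rw [hX, ← LinearMap.comp_apply, ← Matrix.toLin'_mul, hxx]
    simp
  have hz0 : z ≠ 0 := by
    intro h0
    have h1 : ((x : Matrix (Fin n) (Fin n) F) * (x : Matrix (Fin n) (Fin n) F)).det = 1 := by
      rw [Matrix.det_mul, x.2, one_mul]
    haveI : Nonempty (Fin n) := ⟨⟨0, by omega⟩⟩
    rw [hxx, h0, zero_smul, Matrix.det_zero] at h1
    exact zero_ne_one h1
  have hXinj : Function.Injective X := by
    rw [← LinearMap.ker_eq_bot, LinearMap.ker_eq_bot']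
    intro u hu
    have := hX2 u
    rw [hu, map_zero] at this
    exact (smul_eq_zero.1 this.symm).resolve_left hz0
  obtain ⟨ι, i1, i2, v, π, c, hm, hspan⟩ := Cfsg.Agent.H9Inv.exists_mono X z hX2 hz0
  have hcard : Fintype.card ι = a * t := by
    have h1 := finrank_span_eq_card hm.li
    rw [hspan, finrank_top, Module.finrank_fin_fun] at h1
    rw [← h1, hat]
  obtain ⟨D, hfin, hind, htop, σ, hσ⟩ := Cfsg.Agent.H9Inv.mono_decomp X hXinj v hm.li hspan π hm.inv c
    hm.act a t ha hcard
  exact ⟨D, ⟨ht, ha, hfin, hind, htop⟩, σ, hσ⟩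

end Cfsg.Agent.S5957
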