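import Mathlib
import Cfsg.Statements.S5958
import Cfsg.Agent.Lib.Helper4.EqDecD

set_option autoImplicit false
open scoped MatrixGroups
open Cfsg

namespace Cfsg.Agent.S5958

open Module Polynomial
open Cfsg.Agent.H9SemiInv Cfsg.Agent.Lib.Helper9.H9Elus Cfsg.Agent.Lib.Helper4.EqDec

/-- Elements of odd prime order of PSL_n(q) and imprimitive subgroups. Here `T = PSL_n(F)` for a field `F` with `q = p^f` elements (`n ≥ 2`, `(n, q) ≠ (2, 2), (2, 3)`), `n = a·t` with `t ≥ 2`, and Ω is the set of direct-sum decompositions of `F^n` into `t` subspaces of dimension `a` (unordered; their number is the number of ordered ones divided by `t!`), whose stabilizers are the imprimitive subgroups of type GL_a(q) ≀ S_t (maximal except in some small cases; maximality is not assumed); an element of `T` of prime order `r` (a matrix `x` of determinant 1 with `x^r` scalar, `x` not scalar) fixes a point of Ω when it permutes the summands of some such decomposition. Let `r ≠ p` be an odd prime dividing the number of such decompositions, let `c` be the multiplicative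 order of `q` modulo `r`, and write `k = n mod c`, `ℓ = a mod c`. Then every element of `T` of order `r` stabilizes such a decomposition if and only if either `a = 1`, `c = r − 1 > 1` and `n ≤ k·r`, or `c ≤ a` and `k = t·ℓ`. -/
theorem result {F : Type*} [Field F] [Fintype F] {p : ℕ} [Fact p.Prime] [CharP F p] {q : ℕ} (hq : Fintype.card F = q)
    (n a t : ℕ) (hn : 2 ≤ n) (hT : (n, q) ≠ (2, 2) ∧ (n, q) ≠ (2, 3)) (hat : n = a * t) (ha : 1 ≤ a) (ht : 2 ≤ t)
    (r : ℕ) [Fact r.Prime] (hr2 : r ≠ 2) (hrp : r ≠ p) (hΩ : r ∣ Nat.card {D : Fin t → Submodule F (Fin n → F) // Cfsg.Geo.IsMDecomposition a D} / Nat.factorial t)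
    (c : ℕ) (hc : c = orderOf (q : ZMod r)) :
    (∀ x : Matrix.SpecialLinearGroup (Fin n) F,
      (∃ z : F, ((x ^ r : Matrix.SpecialLinearGroup (Fin n) F) : Matrix (Fin n) (Fin n) F) = z • (1 : Matrix (Fin n) (Fin n) F)) →
      (∀ z : F, (x : Matrix (Fin n) (Fin n) F) ≠ z • (1 : Matrix (Fin n) (Fin n) F)) →
      ∃ D : Fin t → Submodule F (Fin n → F), Cfsg.Geo.IsMDecomposition a D ∧
        ∃ σ : Equiv.Perm (Fin t), ∀ j, (D j).map (Matrix.toLin' (x : Matrix (Fin n) (Fin n) F)) = D (σ j)) ↔
    ((a = 1 ∧ 1 < c ∧ c = r - 1 ∧ n ≤ (n % c) * r) ∨ (c ≤ a ∧ n % c = t * (a % c))) := by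
  subst hq
  subst hc
  have hr : r.Prime := Fact.out
  have hfrV : finrank F (Fin n → F) = n := Module.finrank_fin_fun F
  set c := orderOf ((Fintype.card F : ℕ) : ZMod r) with hcdef
  constructor
  · -- necessity
    intro hall
    have hcdvd : c ∣ r - 1 := order_dvd_pred (F := F) r hrp
    by_contra hnot
    rw [not_or] at hnot
    obtain ⟨hn1, hn2⟩ := hnot
    have key : ∀ x : Matrix.SpecialLinearGroup (Fin n) F,
        ((x ^ r : Matrix.SpecialLinearGroup (Fin n) F) : Matrix (Fin n) (Fin n) F) = 1 →
        (∀ z : F, (x : Matrix (Fin n) (Fin n) F) ≠ z • (1 : Matrix (Fin n) (Fin n) F)) →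
        ∃ D : Fin t → Submodule F (Fin n → F), (∀ j, finrank F ↥(D j) = a) ∧ iSupIndep D ∧
          iSup D = ⊤ ∧ ∃ σ : Equiv.Perm (Fin t),
            ∀ j, (D j).map (Matrix.toLin' (x : Matrix (Fin n) (Fin n) F)) = D (σ j) := by
      intro x hx1 hxns
      obtain ⟨D, hD, σ, hσ⟩ := hall x ⟨1, by rw [hx1, one_smul]⟩ hxns
      exact ⟨D, hD.finrank_eq, hD.indep, hD.iSup_eq_top, σ, hσ⟩
    have hpow1 : ∀ x : Matrix.SpecialLinearGroup (Fin n) F,
        ((x ^ r : Matrix.SpecialLinearGroup (Fin n) F) : Matrix (Fin n) (Fin n) F) = 1 →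
        (Matrix.toLin' (x : Matrix (Fin n) (Fin n) F)) ^ r = 1 := by
      intro x hx1
      have := toLin_pow_eq_smul x r 1 (by rw [hx1, one_smul])
      rwa [one_smul] at this
    by_cases hca : c ≤ a
    · -- the case `c ≤ a`
      have hmodne : n % c ≠ t * (a % c) := fun h => hn2 ⟨hca, h⟩
      have hc2 : 2 ≤ c := by
        by_contra hlt
        have hcpos : 1 ≤ c := order_pos (F := F) r hrp
        have hc1 : c = 1 := by omega
        apply hmodne
        rw [hc1, Nat.mod_one, Nat.mod_one, mul_zero]
      have hcn : c ≤ n := by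
        calc c ≤ a := hca
          _ ≤ a * t := Nat.le_mul_of_pos_right a (by omega)
          _ = n := hat.symm
      obtain ⟨x, hx1, hxns, hxker⟩ := model_cyclotomic_ker (F := F) r hrp n hc2 hcn
      obtain ⟨D, hfin, hind, htop, σ, hσ⟩ := key x hx1 hxns
      have hyr := hpow1 x hx1
      set y := Matrix.toLin' (x : Matrix (Fin n) (Fin n) F) with hy
      have hfixle : finrank F ↥(fixE y) ≤ n % c := hxker
      have hmodlt : n % c < c := Nat.mod_lt _ (by omega)
      by_cases hmoved : ∃ j, σ j ≠ j
      · obtain ⟨j, hj⟩ := hmoved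
        have h1 := (bounds_of_moved y D σ r hrp hyr a ha hfin hind htop hσ j hj).1
        omega
      · push Not at hmoved
        have hmap' : ∀ j, (D j).map y = D j := fun j => by rw [hσ j, hmoved j]
        have h1 := mul_mod_le_of_fixed y D r hrp hyr a hfin hind hmap'
        rw [Fintype.card_fin] at h1
        apply hmodne
        have h2 : t * (a % c) ≤ n % c := h1.trans hfixle
        have h3 : (t * (a % c)) % c = n % c := by
          rw [hat, Nat.mul_mod, Nat.mod_mod, ← Nat.mul_mod, mul_comm]
        have h4 : t * (a % c) < c := lt_of_le_of_lt h2 hmodlt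
        rw [Nat.mod_eq_of_lt h4] at h3
        exact h3.symm
    · -- the case `a < c`
      rw [not_le] at hca
      have hc2 : 2 ≤ c := by omega
      have hcn : c ≤ n := order_le_of_dvd_card_decomp (F := F) a t hat ha ht r hrp hΩ
      by_cases hspecial : a = 1 ∧ c = r - 1
      · obtain ⟨ha1, hcr⟩ := hspecial
        have hlt : (n % c) * r < n := by
          by_contra hle
          exact hn1 ⟨ha1, by omega, hcr, not_lt.mp hle⟩
        obtain ⟨x, hx1, hxns, hxker⟩ := model_cyclotomic_ker (F := F) r hrp n hc2 hcn
        obtain ⟨D, hfin, hind, htop, σ, hσ⟩ := key x hx1 hxns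
        have hyr := hpow1 x hx1
        set y := Matrix.toLin' (x : Matrix (Fin n) (Fin n) F) with hy
        have hfixle : finrank F ↥(fixE y) ≤ n % c := hxker
        have hfin1 : ∀ j, finrank F ↥(D j) = 1 := fun j => by rw [hfin j, ha1]
        have h1 := card_le_mul_finrank_fixE_of_lines y D σ r hrp hyr hfin1 hind hσ hc2
        rw [Fintype.card_fin] at h1
        have hnt : n = t := by rw [hat, ha1, one_mul]
        have h2 : r * finrank F ↥(fixE y) ≤ r * (n % c) := Nat.mul_le_mul_left r hfixle
        have h3 : (n % c) * r = r * (n % c) := mul_comm _ _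
        omega
      · obtain ⟨x, hx1, hxns, hxker⟩ := model_one_block (F := F) r hrp n hc2 hcn
        obtain ⟨D, hfin, hind, htop, σ, hσ⟩ := key x hx1 hxns
        have hyr := hpow1 x hx1
        set y := Matrix.toLin' (x : Matrix (Fin n) (Fin n) F) with hy
        have hfixge : n - c ≤ finrank F ↥(fixE y) := hxker
        by_cases hmoved : ∃ j, σ j ≠ j
        · obtain ⟨j, hj⟩ := hmoved
          have hb := (bounds_of_moved y D σ r hrp hyr a ha hfin hind htop hσ j hj).2
          rw [Fintype.card_fin] at hb
          have hta : t * a = n := by rw [hat, mul_comm]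
          have h1 : (r - 1) * a ≤ c := by omega
          have hr2' := hr.two_le
          have h2 : c ≤ r - 1 := Nat.le_of_dvd (by omega) hcdvd
          apply hspecial
          have ha1 : a = 1 := by
            by_contra hne
            have h3 : 2 ≤ a := by omega
            have h4 : (r - 1) * 2 ≤ (r - 1) * a := Nat.mul_le_mul_left _ h3
            omega
          refine ⟨ha1, ?_⟩
          rw [ha1, mul_one] at h1
          omega
        · push Not at hmoved
          have hmap' : ∀ j, (D j).map y = D j := fun j => by rw [hσ j, hmoved j]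
          have htopfix := top_le_fixE_of_fixed y D r hrp hyr a hfin htop hmap' hca
          apply hxns 1
          have hy1 : y = 1 := by
            apply LinearMap.ext
            intro v
            exact (mem_fixE y v).mp (htopfix Submodule.mem_top)
          rw [one_smul]
          apply Matrix.toLin'.injective
          rw [Matrix.toLin'_one]
          exact hy1
  · -- sufficiency
    rintro hcond x ⟨z, hxz⟩ hxns
    have hz0 : z ≠ 0 := scalar_ne_zero_of_SL (by omega) (x ^ r) z hxz
    have hxr := toLin_pow_eq_smul x r z hxz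
    have hcond' : (a = 1 ∧ 1 < c ∧ c = r - 1 ∧
        finrank F (Fin n → F) ≤ (finrank F (Fin n → F) % c) * r) ∨
        (c ≤ a ∧ finrank F (Fin n → F) % c = t * (a % c)) := by
      rw [hfrV]
      exact hcond
    obtain ⟨D, hfin, hind, htop, σ, hσ⟩ := suff_decomp r hrp
      (Matrix.toLin' (x : Matrix (Fin n) (Fin n) F)) z hz0 hxr a t (by rw [hfrV]; exact hat) hcond'
    exact ⟨D, ⟨ht, ha, hfin, hind, htop⟩, σ, hσ⟩

end Cfsg.Agent.S5958
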