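import Mathlib
import Cfsg.Statements.S5959
import Cfsg.Agent.Lib.Helper9.NilType2
import Cfsg.Agent.Lib.Helper9.NilType4

set_option autoImplicit false
open scoped MatrixGroups
open Cfsg
open Cfsg.Agent Module

namespace Cfsg.Agent.S5959

/-- Elements of order `p` of PSL_n(q) and imprimitive subgroups: a necessary condition. Here `T = PSL_n(F)` for a field `F` with `q = p^f` elements (`n ≥ 2`, `(n, q) ≠ (2, 2), (2, 3)`), `n = a·t` with `t ≥ 2`, and Ω is the set of direct-sum decompositions of `F^n` into `t` subspaces of dimension `a` (unordered; their number is the number of ordered ones divided by `t!`), whose stabilizers are the imprimitive subgroups of type GL_a(q) ≀ S_t (maximal except in some small cases; maximality is not assumed); an element of `T` of prime order `r` (a matrix `x` of determinant 1 with `x^r` scalar, `x` not scalar) fixes a point of Ω when it permutes the summands of some such decomposition. Suppose `p > 2` divides the number of such decompositions. If every element of `T`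 of order `p` stabilizes such a decomposition, then every partition of `n` into parts of size at most `p` in which the part `p` occurs fewer than `a` times contains (as a sub-multiset) a partition of `a`. -/
theorem result {F : Type*} [Field F] [Fintype F] {p : ℕ} [Fact p.Prime] [CharP F p] {q : ℕ} (hq : Fintype.card F = q)
    (n a t : ℕ) (hn : 2 ≤ n) (hT : (n, q) ≠ (2, 2) ∧ (n, q) ≠ (2, 3)) (hat : n = a * t) (ha : 1 ≤ a) (ht : 2 ≤ t)
    (hp : 2 < p) (hΩ : p ∣ Nat.card {D : Fin t → Submodule F (Fin n → F) // Cfsg.Geo.IsMDecomposition a D} / Nat.factorial t)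
    (h : ∀ x : Matrix.SpecialLinearGroup (Fin n) F,
      (∃ z : F, ((x ^ p : Matrix.SpecialLinearGroup (Fin n) F) : Matrix (Fin n) (Fin n) F) = z • (1 : Matrix (Fin n) (Fin n) F)) →
      (∀ z : F, (x : Matrix (Fin n) (Fin n) F) ≠ z • (1 : Matrix (Fin n) (Fin n) F)) →
      ∃ D : Fin t → Submodule F (Fin n → F), Cfsg.Geo.IsMDecomposition a D ∧
        ∃ σ : Equiv.Perm (Fin t), ∀ j, (D j).map (Matrix.toLin' (x : Matrix (Fin n) (Fin n) F)) = D (σ j)) :
    (∀ μ : Multiset ℕ, (∀ b ∈ μ, 0 < b ∧ b ≤ p) → μ.sum = n → μ.count p < a → ∃ ν : Multiset ℕ, ν ≤ μ ∧ ν.sum = a) := by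
  classical
  intro μ hμ hsum hcount
  have hp' : p.Prime := Fact.out
  have han : a ≤ n := by
    rw [hat]
    exact Nat.le_mul_of_pos_right a (by omega)
  by_cases hall : ∀ c ∈ μ, c = 1
  · have hμeq : μ = Multiset.replicate (Multiset.card μ) 1 := Multiset.eq_replicate_card.2 hall
    have hcard : Multiset.card μ = n := by
      rw [hμeq] at hsum
      simpa using hsum
    refine ⟨Multiset.replicate a 1, ?_, by simp⟩
    rw [hμeq, hcard]
    exact (Multiset.replicate_le_replicate 1).2 han
  push Not at hall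
  obtain ⟨c₀, hc₀, hc₀1⟩ := hall
  obtain ⟨N, hNp, hcnt⟩ := H9Nil.exists_model (F := F) n p μ (fun c hc => (hμ c hc).2) hsum
  have hkn : ∀ k, p ≤ k → H9Nil.kap N ⊤ k = n := by
    intro k hk
    rw [H9Nil.kap_of_pow_eq_zero N ⊤ hNp hk, finrank_top, Module.finrank_fin_fun]
  set X : (Fin n → F) →ₗ[F] (Fin n → F) := 1 + N with hX
  have hXp : X ^ p = 1 := H9Nil.one_add_pow_char p N hNp
  have hNX : ∀ w, N w = X w - w := by
    intro w
    rw [hX, LinearMap.add_apply, Module.End.one_apply, add_sub_cancel_left]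
  set M : Matrix (Fin n) (Fin n) F := LinearMap.toMatrixAlgEquiv' X with hM
  have hMX : Matrix.toLin' M = X := by
    rw [hM]
    exact Matrix.toLin'_toMatrix' X
  have hMp : M ^ p = 1 := by
    rw [hM, ← map_pow, hXp, map_one]
  have hdet : M.det = 1 := by
    apply H9Nil.eq_one_of_pow_char p
    rw [← Matrix.det_pow, hMp, Matrix.det_one]
  set x : Matrix.SpecialLinearGroup (Fin n) F := ⟨M, hdet⟩ with hx
  have hx1 : ∃ z : F, ((x ^ p : Matrix.SpecialLinearGroup (Fin n) F) : Matrix (Fin n) (Fin n) F)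
      = z • (1 : Matrix (Fin n) (Fin n) F) := by
    refine ⟨1, ?_⟩
    rw [Matrix.SpecialLinearGroup.coe_pow, one_smul]
    exact hMp
  have hx2 : ∀ z : F, (x : Matrix (Fin n) (Fin n) F) ≠ z • (1 : Matrix (Fin n) (Fin n) F) := by
    intro z hz
    have hz' : M = z • (1 : Matrix (Fin n) (Fin n) F) := hz
    have hXz : ∀ w, X w = z • w := by
      intro w
      rw [← hMX, hz']
      simp
    have hNz : ∀ w, N w = (z - 1) • w := by
      intro w
      rw [hNX, hXz, sub_smul, one_smul]
    have hNpz : ∀ (k : ℕ) (w : Fin n → F), (N ^ k) w = (z - 1) ^ k • w := by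
      intro k
      induction k with
      | zero => intro w; simp
      | succ k ih =>
        intro w
        rw [pow_succ, Module.End.mul_apply, hNz, map_smul, ih, smul_smul, pow_succ, mul_comm]
    set w₀ : Fin n → F := Pi.single ⟨0, by omega⟩ 1 with hw₀
    have hw₀0 : w₀ ≠ 0 := by
      intro h0
      have := congrFun h0 ⟨0, by omega⟩
      simp [hw₀] at this
    have h1 := hNpz p w₀
    rw [hNp, LinearMap.zero_apply] at h1
    have h2 : (z - 1) ^ p = 0 := (smul_eq_zero.1 h1.symm).resolve_right hw₀0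
    have h3 : z - 1 = 0 := (pow_eq_zero_iff hp'.ne_zero).1 h2
    have hN0 : N ^ 1 = 0 := by
      apply LinearMap.ext
      intro w
      rw [pow_one, hNz, h3, zero_smul, LinearMap.zero_apply]
    have hk1 : ∀ k, 1 ≤ k → H9Nil.kap N ⊤ k = n := by
      intro k hk
      rw [H9Nil.kap_of_pow_eq_zero N ⊤ hN0 hk, finrank_top, Module.finrank_fin_fun]
    have hc₀2 : 2 ≤ c₀ := by
      have := (hμ c₀ hc₀).1
      omega
    obtain ⟨k, rfl⟩ : ∃ k, c₀ = k + 2 := ⟨c₀ - 2, by omega⟩
    have h4 := hcnt (k + 1)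
    rw [hk1 (k + 1 + 2) (by omega), hk1 (k + 1) (by omega), hk1 (k + 1 + 1) (by omega)] at h4
    have h5 : 0 < Multiset.count (k + 1 + 1) μ := Multiset.count_pos.2 hc₀
    omega
  obtain ⟨D, hD, σ, hσ⟩ := h x hx1 hx2
  have hσ' : ∀ j, (D j).map X = D (σ j) := by
    intro j
    rw [← hMX]
    exact hσ j
  have hDne : ∀ j, D j ≠ ⊥ := by
    intro j hj
    have := hD.finrank_eq j
    rw [hj, finrank_bot] at this
    omega
  have hDinj : Function.Injective D := hD.indep.injective hDne
  have hpowσ : ∀ (k : ℕ) (j : Fin t), (D j).map (X ^ k) = D ((σ ^ k) j) := by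
    intro k
    induction k with
    | zero =>
      intro j
      rw [pow_zero, pow_zero, Module.End.one_eq_id, Submodule.map_id, Equiv.Perm.one_apply]
    | succ k ih =>
      intro j
      rw [pow_succ', Module.End.mul_eq_comp, Submodule.map_comp, ih, hσ', pow_succ', Equiv.Perm.mul_apply]
  have hσp : ∀ j, (σ ^ p) j = j := by
    intro j
    apply hDinj
    rw [← hpowσ, hXp, Module.End.one_eq_id, Submodule.map_id]
  have hfix : ∀ j, σ j = j := by
    intro j
    by_contra hj
    have hper : Function.IsPeriodicPt σ p j := by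
      show (⇑σ)^[p] j = j
      rw [Equiv.Perm.iterate_eq_pow]
      exact hσp j
    have hmin : Function.minimalPeriod σ j = p := by
      rcases (Nat.dvd_prime hp').1 hper.minimalPeriod_dvd with h1 | h1
      · exact absurd (Function.minimalPeriod_eq_one_iff_isFixedPt.1 h1) hj
      · exact h1
    have hne : ∀ i, 0 < i → i < p → (σ ^ i) j ≠ j := by
      intro i hi0 hip hij
      have hper' : Function.IsPeriodicPt σ i j := by
        show (⇑σ)^[i] j = j
        rw [Equiv.Perm.iterate_eq_pow]
        exact hij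
      have := hper'.minimalPeriod_dvd
      rw [hmin] at this
      have := Nat.le_of_dvd hi0 this
      omega
    -- injectivity of N^(p-1) on D j
    have hinj : D j ⊓ LinearMap.ker (N ^ (p - 1)) = ⊥ := by
      rw [eq_bot_iff]
      rintro w ⟨hw, hwk⟩
      have hwk' : (N ^ (p - 1)) w = 0 := hwk
      rw [H9Nil.pow_pred_eq_sum p N] at hwk'
      obtain ⟨p₁, hp₁⟩ : ∃ p₁, p = p₁ + 1 := ⟨p - 1, by have := hp'.one_le; omega⟩
      rw [hp₁, Finset.sum_range_succ', LinearMap.add_apply, pow_zero, Module.End.one_apply,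
        LinearMap.sum_apply] at hwk'
      have hrest : ∑ i ∈ Finset.range p₁, ((1 + N) ^ (i + 1)) w ∈ ⨆ k, ⨆ (_ : k ≠ j), D k := by
        apply Submodule.sum_mem
        intro i hi
        rw [Finset.mem_range] at hi
        have h1 : (X ^ (i + 1)) w ∈ D ((σ ^ (i + 1)) j) := by
          rw [← hpowσ]
          exact Submodule.mem_map_of_mem hw
        have h2 : (σ ^ (i + 1)) j ≠ j := hne (i + 1) (by omega) (by omega)
        exact Submodule.mem_iSup_of_mem _ (Submodule.mem_iSup_of_mem h2 h1)
      have hw2 : w ∈ ⨆ k, ⨆ (_ : k ≠ j), D k := by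
        have : w = -∑ i ∈ Finset.range p₁, ((1 + N) ^ (i + 1)) w := by
          rw [eq_neg_iff_add_eq_zero, add_comm]
          exact hwk'
        rw [this]
        exact Submodule.neg_mem _ hrest
      have hdis := hD.indep j
      rw [Submodule.disjoint_def] at hdis
      rw [Submodule.mem_bot]
      exact hdis w hw hw2
    have h1 := H9Nil.finrank_map_add (N ^ (p - 1)) (D j)
    rw [hinj, finrank_bot, add_zero, hD.finrank_eq] at h1
    have h2 : (D j).map (N ^ (p - 1)) ≤ LinearMap.range (N ^ (p - 1)) := by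
      rintro _ ⟨w, _, rfl⟩
      exact ⟨w, rfl⟩
    have h3 := Submodule.finrank_mono h2
    have h4 := LinearMap.finrank_range_add_finrank_ker (N ^ (p - 1))
    rw [Module.finrank_fin_fun, ← H9Nil.kap_top] at h4
    have h5 := hcnt (p - 1)
    have e1 : p - 1 + 1 = p := Nat.sub_add_cancel hp'.one_le
    have e2 : p - 1 + 2 = p + 1 := by omega
    rw [e1, e2, hkn p le_rfl, hkn (p + 1) (by omega)] at h5
    omega
  have hDinv : ∀ j, H9SemiInv.Inv N (D j) := by
    intro j w hw
    rw [hNX]
    apply Submodule.sub_mem _ _ hw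
    have : X w ∈ (D j).map X := Submodule.mem_map_of_mem hw
    rw [hσ', hfix] at this
    exact this
  set j₀ : Fin t := ⟨0, by omega⟩ with hj₀
  set W₂ : Submodule F (Fin n → F) := ⨆ k ∈ (Finset.univ : Finset (Fin t)).erase j₀, D k with hW₂
  have hdis : Disjoint (D j₀) W₂ :=
    H9SemiInv.disjoint_biSup_finset hD.indep (Finset.notMem_erase _ _)
  have htop : D j₀ ⊔ W₂ = ⊤ := by
    rw [eq_top_iff, ← hD.iSup_eq_top]
    apply iSup_le
    intro k
    by_cases hk : k = j₀
    · rw [hk]; exact le_sup_left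
    · exact le_sup_of_le_right
        (le_iSup₂_of_le k (Finset.mem_erase.2 ⟨hk, Finset.mem_univ _⟩) le_rfl)
  have hW₂inv : H9SemiInv.Inv N W₂ := H9SemiInv.Inv.biSup hDinv _
  exact H9Nil.exists_subpartition (H9Nil.kap N (D j₀)) (H9Nil.kap N W₂) (H9Nil.kap N ⊤) μ a p
    (H9Nil.kap_add N (D j₀) W₂ (hDinv j₀) hW₂inv hdis htop)
    (H9Nil.kap_zero N _) (H9Nil.kap_mono N _)
    (H9Nil.kap_concave N _ (hDinv j₀)) (H9Nil.kap_concave N _ hW₂inv)
    (fun k hk => by rw [H9Nil.kap_of_pow_eq_zero N _ hNp hk, hD.finrank_eq]) hcnt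

end Cfsg.Agent.S5959
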