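import Mathlib
import Cfsg.Statements.S5960
import Cfsg.Agent.Lib.Helper9.SpInv7

set_option autoImplicit false
open scoped MatrixGroups
open Cfsg
open Cfsg.Agent

namespace Cfsg.Agent.S5960

/-- Involutions of PSp_n(q) and imprimitive subgroups. Here `T = PSp_n(q)`, `n = 2d ≥ 4`, `(n, q) ≠ (4, 2)`, realised through the symplectic matrices over the field `F` with `q` elements and the standard alternating form; `n = a·t` with `a` even and `t ≥ 2`, and Ω is the (nonempty) set of orthogonal decompositions of `F^n` into `t` nondegenerate subspaces of dimension `a` (unordered; counted as ordered ones divided by `t!`), whose stabilizers are the imprimitive subgroups of type Sp_a(q) ≀ S_t (maximality is not assumed); an element of `T` of prime order `r` (a symplectic matrix `x` with `x^r` scalar, `x` not scalar) fixes a point of Ω when it permutes the summands of some such decomposition. If the number of such decompositions is even,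 then every involution of `T` stabilizes one of them (the action is 2-elusive). -/
theorem result {F : Type*} [Field F] [Fintype F] {p : ℕ} [Fact p.Prime] [CharP F p] {q : ℕ} (hq : Fintype.card F = q)
    (d : ℕ) (hd : 2 ≤ d) (hT : (d, q) ≠ (2, 2))
    (a t : ℕ) (hat : 2 * d = a * t) (ha : 2 ≤ a) (hae : Even a) (ht : 2 ≤ t) (hΩ : 2 ∣ Nat.card {D : Fin t → Submodule F (Fin d ⊕ Fin d → F) // (Cfsg.Geo.IsMDecomposition a D ∧ (∀ j, ∀ u ∈ D j, u ≠ 0 → ∃ v ∈ D j, Cfsg.sympForm d F u v ≠ 0) ∧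
          (∀ j j', j ≠ j' → ∀ u ∈ D j, ∀ v ∈ D j', Cfsg.sympForm d F u v = 0))} / Nat.factorial t)
    (x : ↥(Matrix.symplecticGroup (Fin d) F))
    (hx1 : ∃ z : F, ((x ^ 2 : ↥(Matrix.symplecticGroup (Fin d) F)) : Matrix (Fin d ⊕ Fin d) (Fin d ⊕ Fin d) F) = z • (1 : Matrix (Fin d ⊕ Fin d) (Fin d ⊕ Fin d) F))
    (hx2 : ∀ z : F, (x : Matrix (Fin d ⊕ Fin d) (Fin d ⊕ Fin d) F) ≠ z • (1 : Matrix (Fin d ⊕ Fin d) (Fin d ⊕ Fin d) F)) :
    ∃ D : Fin t → Submodule F (Fin d ⊕ Fin d → F), (Cfsg.Geo.IsMDecomposition a D ∧ (∀ j, ∀ u ∈ D j, u ≠ 0 → ∃ v ∈ D j, Cfsg.sympForm d F u v ≠ 0) ∧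
          (∀ j j', j ≠ j' → ∀ u ∈ D j, ∀ v ∈ D j', Cfsg.sympForm d F u v = 0)) ∧
        ∃ σ : Equiv.Perm (Fin t), ∀ j, (D j).map (Matrix.toLin' (x : Matrix (Fin d ⊕ Fin d) (Fin d ⊕ Fin d) F)) = D (σ j) := by
  classical
  obtain ⟨z, hz⟩ := hx1
  set X : (Fin d ⊕ Fin d → F) →ₗ[F] (Fin d ⊕ Fin d → F) :=
    Matrix.toLin' (x : Matrix (Fin d ⊕ Fin d) (Fin d ⊕ Fin d) F) with hX
  have hXf : ∀ u v, Cfsg.sympForm d F (X u) (X v) = Cfsg.sympForm d F u v := by
    intro u v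
    rw [hX, Matrix.toLin'_apply, Matrix.toLin'_apply]
    exact Cfsg.Agent.Lib.Helper1.SpBasic.form_mulVec x u v
  have hxx : (x : Matrix (Fin d ⊕ Fin d) (Fin d ⊕ Fin d) F) * (x : Matrix (Fin d ⊕ Fin d) (Fin d ⊕ Fin d) F)
      = z • (1 : Matrix (Fin d ⊕ Fin d) (Fin d ⊕ Fin d) F) := by
    rw [← hz, pow_two]; rfl
  have hX2 : ∀ u, X (X u) = z • u := by
    intro u
    rw [hX, ← LinearMap.comp_apply, ← Matrix.toLin'_mul, hxx]
    simp
  have hz0 : z ≠ 0 := by
    intro h0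
    set u₀ : Fin d ⊕ Fin d → F := Pi.single (Sum.inl ⟨0, by omega⟩) 1 with hu₀
    have hu₀0 : u₀ ≠ 0 := by
      intro h
      have := congrFun h (Sum.inl ⟨0, by omega⟩)
      simp [hu₀] at this
    obtain ⟨v₀, hv₀⟩ : ∃ v₀, Cfsg.sympForm d F u₀ v₀ ≠ 0 := by
      by_contra hcon
      push Not at hcon
      exact hu₀0 (Cfsg.Agent.Lib.Helper2.SpIsom.sympForm_nondeg u₀ hcon)
    have h1 : Cfsg.sympForm d F (X (X u₀)) (X (X v₀)) = Cfsg.sympForm d F u₀ v₀ := by
      rw [hXf, hXf]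
    rw [hX2, h0, zero_smul, Cfsg.Agent.H9SpMax.form_zero_left] at h1
    exact hv₀ h1.symm
  have hXinj : Function.Injective X := by
    rw [← LinearMap.ker_eq_bot, LinearMap.ker_eq_bot']
    intro u hu
    have := hX2 u
    rw [hu, map_zero] at this
    exact (smul_eq_zero.1 this.symm).resolve_left hz0
  obtain ⟨ι, i1, i2, v, π, hG, hA, hspan⟩ := Cfsg.Agent.H9SpInv.exists_spanning X hXf z hz0 hX2
  obtain ⟨a', ha'⟩ := hae
  have hcard : Fintype.card ι = a' * t := by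
    have h1 := finrank_span_eq_card hG.li
    rw [hspan, finrank_top, Cfsg.Agent.H9SpMax.SpPair.finrank_space, Fintype.card_sum] at h1
    have h2 : 2 * d = 2 * (a' * t) := by rw [hat, ha']; ring
    omega
  obtain ⟨D, hfin, hind, htop, hnd, horth, σ, hσ⟩ := Cfsg.Agent.H9SpInv.hyp_decomp X hXinj v π hG hA
    hspan a' t (by omega) hcard
  refine ⟨D, ⟨⟨ht, by omega, ?_, hind, htop⟩, hnd, horth⟩, σ, hσ⟩
  intro j
  rw [hfin j, ha']
  ring

end Cfsg.Agent.S5960
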