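import Mathlib
import Cfsg.Statements.S5962
import Cfsg.Agent.Lib.Helper9.SpInv2

set_option autoImplicit false
open scoped MatrixGroups
open Cfsg
open Cfsg.Agent

namespace Cfsg.Agent.S5962

/-- Involutions of PSp_n(q), q odd, and the subgroups GL_{n/2}(q).2. Here `T = PSp_n(q)`, `n = 2d ≥ 4`, `q` odd, realised through the symplectic matrices over the field `F` with `q` elements; Ω is the set of unordered pairs `{U, W}` of complementary totally isotropic `d`-spaces (`F^n = U ⊕ W`), whose stabilizers are the subgroups of type GL_d(q).2 (maximal except in some small cases; maximality is not assumed); an element of `T` of prime order `r` (a symplectic matrix `x` with `x^r` scalar, `x` not scalar) fixes such a pair when it fixes or interchanges `U` and `W`. If the number of such pairs is even, every involution of `T` fixes one of them (the action is 2-elusive). -/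
theorem result {F : Type*} [Field F] [Fintype F] {p : ℕ} [Fact p.Prime] [CharP F p] {q : ℕ} (hq : Fintype.card F = q)
    (d : ℕ) (hd : 2 ≤ d) (hT : (d, q) ≠ (2, 2)) (hodd : Odd q)
    (hΩ : 2 ∣ Nat.card {P : Submodule F (Fin d ⊕ Fin d → F) × Submodule F (Fin d ⊕ Fin d → F) // IsCompl P.1 P.2 ∧ (∀ u ∈ P.1, ∀ v ∈ P.1, Cfsg.sympForm d F u v = 0) ∧ (∀ u ∈ P.2, ∀ v ∈ P.2, Cfsg.sympForm d F u v = 0)} / 2)
    (x : ↥(Matrix.symplecticGroup (Fin d) F))
    (hx1 : ∃ z : F, ((x ^ 2 : ↥(Matrix.symplecticGroup (Fin d) F)) : Matrix (Fin d ⊕ Fin d) (Fin d ⊕ Fin d) F) = z • (1 : Matrix (Fin d ⊕ Fin d) (Fin d ⊕ Fin d) F))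
    (hx2 : ∀ z : F, (x : Matrix (Fin d ⊕ Fin d) (Fin d ⊕ Fin d) F) ≠ z • (1 : Matrix (Fin d ⊕ Fin d) (Fin d ⊕ Fin d) F)) :
    ∃ U W : Submodule F (Fin d ⊕ Fin d → F), IsCompl U W ∧ (∀ u ∈ U, ∀ v ∈ U, Cfsg.sympForm d F u v = 0) ∧ (∀ u ∈ W, ∀ v ∈ W, Cfsg.sympForm d F u v = 0) ∧
        ((U.map (Matrix.toLin' (x : Matrix (Fin d ⊕ Fin d) (Fin d ⊕ Fin d) F)) = U ∧ W.map (Matrix.toLin' (x : Matrix (Fin d ⊕ Fin d) (Fin d ⊕ Fin d) F)) = W) ∨
         (U.map (Matrix.toLin' (x : Matrix (Fin d ⊕ Fin d) (Fin d ⊕ Fin d) F)) = W ∧ W.map (Matrix.toLin' (x : Matrix (Fin d ⊕ Fin d) (Fin d ⊕ Fin d) F)) = U)) := by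
  classical
  obtain ⟨z, hz⟩ := hx1
  set X : (Fin d ⊕ Fin d → F) →ₗ[F] (Fin d ⊕ Fin d → F) :=
    Matrix.toLin' (x : Matrix (Fin d ⊕ Fin d) (Fin d ⊕ Fin d) F) with hX
  have hXf : ∀ u v, Cfsg.sympForm d F (X u) (X v) = Cfsg.sympForm d F u v := by
    intro u v
    rw [hX, Matrix.toLin'_apply, Matrix.toLin'_apply]
    exact Cfsg.Agent.Lib.Helper1.SpBasic.form_mulVec x u v
  have hxx : (x : Matrix (Fin d ⊕ Fin d) (Fin d ⊕ Fin d) F) * (x : Matrix (Fin d ⊕ Fin d) (Fin d ⊕ Fin d) F)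
      = z • (1 : Matrix (Fin d ⊕ Fin d) (Fin d ⊕ Fin d) F) := by
    rw [← hz, pow_two]; rfl
  have hX2 : ∀ u, X (X u) = z • u := by
    intro u
    rw [hX, ← LinearMap.comp_apply, ← Matrix.toLin'_mul, hxx]
    simp
  have h2 : (2 : F) ≠ 0 := by
    intro h
    have h1 : ringChar F = 2 :=
      CharP.ringChar_of_prime_eq_zero Nat.prime_two (by exact_mod_cast h)
    have h3 := FiniteField.even_card_iff_char_two.1 h1
    rw [hq] at h3
    obtain ⟨k, hk⟩ := hodd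
    omega
  have hzz : z * z = 1 := by
    set u₀ : Fin d ⊕ Fin d → F := Pi.single (Sum.inl ⟨0, by omega⟩) 1 with hu₀
    have hu₀0 : u₀ ≠ 0 := by
      intro h
      have := congrFun h (Sum.inl ⟨0, by omega⟩)
      simp [hu₀] at this
    obtain ⟨v₀, hv₀⟩ : ∃ v₀, Cfsg.sympForm d F u₀ v₀ ≠ 0 := by
      by_contra hcon
      push Not at hcon
      exact hu₀0 (Cfsg.Agent.Lib.Helper2.SpIsom.sympForm_nondeg u₀ hcon)
    have h1 : Cfsg.sympForm d F (X (X u₀)) (X (X v₀)) = Cfsg.sympForm d F u₀ v₀ := by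
      rw [hXf, hXf]
    rw [hX2, hX2, Cfsg.Agent.Lib.Helper2.Symp.sympForm_smul_left,
      Cfsg.Agent.Lib.Helper2.Symp.sympForm_smul_right, ← mul_assoc] at h1
    have h3 : (z * z - 1) * Cfsg.sympForm d F u₀ v₀ = 0 := by linear_combination h1
    rcases mul_eq_zero.1 h3 with h4 | h4
    · linear_combination h4
    · exact absurd h4 hv₀
  have hfr : 2 * d - Module.finrank F ↥((⊥ : Submodule F (Fin d ⊕ Fin d → F)) ⊔ ⊥) = 2 * d := by
    rw [sup_bot_eq, finrank_bot, Nat.sub_zero]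
  rcases mul_self_eq_one_iff.1 hzz with h1 | h1
  · have hX2' : ∀ u, X (X u) = u := by
      intro u; rw [hX2, h1, one_smul]
    obtain ⟨U, W, hg, hU, hW, htop⟩ := Cfsg.Agent.H9SpInv.fix_mode X hXf hX2' h2 _ ⊥ ⊥
      Cfsg.Agent.H9SpInv.goodPair_bot (Submodule.map_bot _) (Submodule.map_bot _) hfr
    exact ⟨U, W, ⟨hg.disjoint, codisjoint_iff.2 htop⟩, hg.tiU, hg.tiW, Or.inl ⟨hU, hW⟩⟩
  · have hX2' : ∀ u, X (X u) = -u := by
      intro u; rw [hX2, h1, neg_one_smul]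
    obtain ⟨U, W, hg, hU, hW, htop⟩ := Cfsg.Agent.H9SpInv.swap_mode X hXf hX2' h2 _ ⊥ ⊥
      Cfsg.Agent.H9SpInv.goodPair_bot (Submodule.map_bot _) (Submodule.map_bot _) hfr
    exact ⟨U, W, ⟨hg.disjoint, codisjoint_iff.2 htop⟩, hg.tiU, hg.tiW, Or.inr ⟨hU, hW⟩⟩

end Cfsg.Agent.S5962
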