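import Mathlib
import Cfsg.Statements.S5964
import Cfsg.Agent.Lib.Helper9.GReal4
import Cfsg.Agent.Lib.Helper9.Elus5

set_option autoImplicit false
open scoped MatrixGroups
open Cfsg
open Cfsg.Agent.Lib.Helper9.H9GSpInv Cfsg.Agent.Lib.Helper9.H9GConj Cfsg.Agent.Lib.Helper9.H9GReal Cfsg.Agent.Lib.Helper9.H9Elus

namespace Cfsg.Agent.S5964

/-- Involutions of PSL_n(q) and subfield subgroups. Here `T = PSL_n(F)` for a field `F` with `q = p^f` elements (`n ≥ 2`, `(n, q) ≠ (2, 2), (2, 3)`), `F₀` is the subfield with `q₀` elements where `q = q₀^k` for a prime `k`, and `H` is the subgroup of matrices of determinant 1 lying in the subfield group of `F₀` (invertible matrices over `F₀` times scalars) — a maximal subgroup of type GL_n(q₀) (the case `n = 2`, `q₀ = 2` is excluded); Ω is the set of `T`-conjugates of `H` (cosets of `H`), so an element of `T` of prime order `r` (a matrix `x` of determinant 1 with `x^r` scalar, `x` not scalar) fixes a point of Ω when some conjugate of `x` by a matrix of determinant 1 lies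 in `H`. Suppose the index of `H` is even. Then every involution of `T` is conjugate in `T` into `H` if and only if either `q` is even, or `k = 2` and `(n)_2 ≤ (q − 1)_2`. (For `q` odd and `k` odd the index of `H` is odd, so that case does not arise.) -/
theorem result {F : Type*} [Field F] [Fintype F] {p : ℕ} [Fact p.Prime] [CharP F p] {q : ℕ} (hq : Fintype.card F = q)
    (n : ℕ) (hn : 2 ≤ n) (hT : (n, q) ≠ (2, 2) ∧ (n, q) ≠ (2, 3))
    (F₀ : Subfield F) (k q₀ : ℕ) (hk : k.Prime) (hF₀ : Nat.card ↥F₀ = q₀) (hqk : q = q₀ ^ k) (hC5 : ¬ (n = 2 ∧ q₀ = 2)) (hΩ : 2 ∣ ((Cfsg.Geo.subfieldSubgroup F₀ 1).comap (Matrix.SpecialLinearGroup.toGL : Matrix.SpecialLinearGroup (Fin n) F →* GL (Fin n) F)).index) :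
    (∀ x : Matrix.SpecialLinearGroup (Fin n) F,
      (∃ z : F, ((x ^ 2 : Matrix.SpecialLinearGroup (Fin n) F) : Matrix (Fin n) (Fin n) F) = z • (1 : Matrix (Fin n) (Fin n) F)) →
      (∀ z : F, (x : Matrix (Fin n) (Fin n) F) ≠ z • (1 : Matrix (Fin n) (Fin n) F)) →
      ∃ P : Matrix.SpecialLinearGroup (Fin n) F, P⁻¹ * x * P ∈ ((Cfsg.Geo.subfieldSubgroup F₀ 1).comap (Matrix.SpecialLinearGroup.toGL : Matrix.SpecialLinearGroup (Fin n) F →* GL (Fin n) F))) ↔
    (Odd q → (k = 2 ∧ padicValNat 2 n ≤ padicValNat 2 (q - 1))) := by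
  classical
  subst hq
  have hn0 : n ≠ 0 := by omega
  haveI : Nonempty (Fin n) := ⟨⟨0, by omega⟩⟩
  have hfrV : Module.finrank F (Fin n → F) = n := by simp
  have hperf : (2 : F) = 0 → ∀ b : F, ∃ c : F, c ^ 2 = b := by
    intro h2 b
    have hr : ringChar F = 2 :=
      CharP.ringChar_of_prime_eq_zero Nat.prime_two (by exact_mod_cast h2)
    obtain ⟨a, ha⟩ := FiniteField.isSquare_of_char_two hr b
    exact ⟨a, by rw [ha, pow_two]⟩
  have hoddcard : (2 : F) ≠ 0 → Fintype.card F % 2 = 1 := by
    intro h2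
    apply FiniteField.odd_card_of_char_ne_two
    intro hr
    apply h2
    have := ringChar.Nat.cast_ringChar (R := F)
    rw [hr] at this
    exact_mod_cast this
  have h2ofodd : Odd (Fintype.card F) → (2 : F) ≠ 0 := by
    intro hodd h2
    have hr : ringChar F = 2 :=
      CharP.ringChar_of_prime_eq_zero Nat.prime_two (by exact_mod_cast h2)
    have hev : Fintype.card F % 2 = 0 := FiniteField.even_card_of_char_two hr
    have := Nat.odd_iff.mp hodd
    omega
  have hq₀odd : Odd (Fintype.card F) → Odd q₀ := by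
    intro hodd
    rcases Nat.even_or_odd q₀ with h | h
    · exfalso
      rw [hqk] at hodd
      have : Even (q₀ ^ k) := h.pow_of_ne_zero hk.ne_zero
      exact (Nat.not_even_iff_odd.mpr hodd) this
    · exact h
  constructor
  · intro hL hodd
    have h2 := h2ofodd hodd
    have hQodd := hq₀odd hodd
    have hk2 : k = 2 := by
      by_contra hk2
      have hkodd : Odd k := hk.odd_of_ne_two hk2
      exact odd_index_subfield (by omega) F₀ q₀ k hF₀ hqk hQodd hkodd hΩ
    refine ⟨hk2, ?_⟩
    subst hk2
    by_contra hv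
    have h2p : 2 ≠ p := by
      intro h
      apply h2
      have := CharP.cast_eq_zero F p
      rw [← h] at this
      exact_mod_cast this
    have hdvd : 2 ∣ Fintype.card F - 1 := by
      have := hoddcard h2
      omega
    obtain ⟨hrn, c, hc, hdet⟩ := exists_nonpower (F := F) (p := p) 2 Nat.prime_two h2p hdvd n hn0
      (fun h => hv h.1)
    obtain ⟨x, hx2, -⟩ := model_irred 2 Nat.prime_two c hc n hrn hdet
    have hxns : ∀ z : F, (x : Matrix (Fin n) (Fin n) F) ≠ z • (1 : Matrix (Fin n) (Fin n) F) := by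
      intro e he
      apply hc e
      have h1 : ((x ^ 2 : Matrix.SpecialLinearGroup (Fin n) F) : Matrix (Fin n) (Fin n) F)
          = (e ^ 2) • (1 : Matrix (Fin n) (Fin n) F) := by
        rw [pow_two, Matrix.SpecialLinearGroup.coe_mul, he, Matrix.smul_mul, Matrix.mul_smul,
          Matrix.one_mul, smul_smul, pow_two]
      rw [hx2] at h1
      have h3 := congrFun (congrFun h1 ⟨0, by omega⟩) ⟨0, by omega⟩
      simpa using h3.symm
    obtain ⟨P, hP⟩ := hL x ⟨c, hx2⟩ hxns
    exact not_conj_mem_subfield (by omega) F₀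
      (fun a ha => exists_sq_of_mem_subfield F₀ q₀ hF₀ hqk a ha) x c hc hx2 P hP
  · intro hR x hx hns
    obtain ⟨z, hz⟩ := hx
    set t := Matrix.toLin' (x : Matrix (Fin n) (Fin n) F) with ht
    have ht2 : t ^ 2 = z • 1 := by
      rw [ht, pow_two, Module.End.mul_eq_comp, ← Matrix.toLin'_mul,
        ← Matrix.SpecialLinearGroup.coe_mul, ← pow_two, hz, map_smul, Matrix.toLin'_one]
      rfl
    have hz0 : z ≠ 0 := by
      rintro rfl
      have h1 := congrArg Matrix.det hz
      rw [Matrix.SpecialLinearGroup.det_coe, zero_smul, Matrix.det_zero] at h1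
      exact one_ne_zero h1
    have htns : ∀ c : F, t ≠ c • 1 := by
      intro c h
      apply hns c
      have h1 := congrArg LinearMap.toMatrix' h
      rwa [ht, LinearMap.toMatrix'_toLin', map_smul, LinearMap.toMatrix'_one] at h1
    have hdet1 : LinearMap.det t = 1 := by
      rw [ht, LinearMap.det_toLin', Matrix.SpecialLinearGroup.det_coe]
    have hsq : ∃ d : F, d ^ 2 = z := by
      by_cases h2 : (2 : F) = 0
      · exact hperf h2 z
      · by_contra hsq
        push Not at hsq
        have hodd : Odd (Fintype.card F) := Nat.odd_iff.mpr (hoddcard h2)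
        obtain ⟨hk2, hv⟩ := hR hodd
        subst hk2
        have hrn : 2 ∣ n := by
          have := dvd_finrank_of_inv 2 Nat.prime_two z hsq t ht2 ⊤ (fun x _ => Submodule.mem_top)
          rwa [finrank_top, hfrV] at this
        have hpow := det_of_pow_eq_smul 2 Nat.prime_two z hsq t ht2
        rw [hdet1, hfrV] at hpow
        have hdvd : 2 ∣ Fintype.card F - 1 := by
          have := hoddcard h2
          omega
        have h4 : Fintype.card F % 4 = 1 := by
          rw [hqk]
          obtain ⟨m, hm⟩ := hq₀odd hodd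
          rw [hm]
          have : (2 * m + 1) ^ 2 = 4 * (m * (m + 1)) + 1 := by ring
          rw [this]
          omega
        obtain ⟨b, hb⟩ := is_power_of_arith (F := F) 2 Nat.prime_two hdvd n hn0 hrn hv
          (fun _ _ => h4) z hz0 hpow.symm
        exact hsq b hb
    obtain ⟨d, rfl⟩ := hsq
    have hd0 : d ≠ 0 := by
      rintro rfl
      exact hz0 (by ring)
    have hts : t = d • (d⁻¹ • t) := by
      rw [smul_smul, mul_inv_cancel₀ hd0, one_smul]
    by_cases h2 : (2 : F) = 0
    · exact conj_mem_subfield F₀ x d hd0 (d⁻¹ • t) hts (realOver_char_two F₀ d hd0 h2 t ht2)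
        (fun δ _ => cent_char_two h2 (hperf h2) d t ht2 (htns d) δ)
    · exact conj_mem_subfield F₀ x d hd0 (d⁻¹ • t) hts (realOver_of_sq_eq F₀ d hd0 h2 t ht2)
        (fun δ _ => cent_of_sq_eq d t hd0 h2 ht2 (htns d) δ)

end Cfsg.Agent.S5964
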