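import Mathlib
import Cfsg.Statements.S5965
import Cfsg.Agent.Lib.Helper6.SubF_Fwd
import Cfsg.Agent.Lib.Helper6.SubF_Bwd
import Cfsg.Agent.Lib.Lead.SubF_IDX
import Cfsg.Agent.Lib.Helper5.SubF_BLK
import Cfsg.Agent.Lib.Helper3.SubF_REAL
import Cfsg.Agent.Lib.Helper1.SubF_SYM
import Cfsg.Agent.Lib.Helper1.SubF_EIG
import Cfsg.Agent.Lib.Helper1.SubF_CENT

set_option autoImplicit false
open scoped MatrixGroups
open Cfsg
open Cfsg.Agent.Lib.Helper6.SubF

namespace Cfsg.Agent.S5965

/-- Elements of odd prime order r ≠ p of PSL_n(q) and subfield subgroups. Here `T = PSL_n(F)` for a field `F` with `q = p^f` elements (`n ≥ 2`, `(n, q) ≠ (2, 2), (2, 3)`), `F₀` is the subfield with `q₀` elements where `q = q₀^k` for a prime `k`, and `H` is the subgroup of matrices of determinant 1 lying in the subfield group of `F₀` (invertible matrices over `F₀` times scalars) — a maximal subgroup of type GL_n(q₀) (the case `n = 2`, `q₀ = 2` is excluded); Ω is the set of `T`-conjugates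 of `H` (cosets of `H`), so an element of `T` of prime order `r` (a matrix `x` of determinant 1 with `x^r` scalar, `x` not scalar) fixes a point of Ω when some conjugate of `x` by a matrix of determinant 1 lies in `H`. Let `r ≠ p` be an odd prime dividing the index of `H`, with `(n, r) ≠ (6, 3)` and, when `r = k` divides `q₀ − 1`, with `(n)_r ≤ (q − 1)_r`. Then every element of `T` of order `r` is conjugate in `T` into `H` if and only if `r = k`, or `k = 2`, `r = n ∈ {3, 5}` and `(q₀ + 1)_r = r`. The two excluded cases, `(n, r) = (6, 3)` and `r = k ∣ q₀ − 1` with `(n)_r > (q − 1)_r`, are ones where this criterion can fail, so they are left out. -/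
theorem result {F : Type*} [Field F] [Fintype F] {p : ℕ} [Fact p.Prime] [CharP F p] {q : ℕ} (hq : Fintype.card F = q)
    (n : ℕ) (hn : 2 ≤ n) (hT : (n, q) ≠ (2, 2) ∧ (n, q) ≠ (2, 3))
    (F₀ : Subfield F) (k q₀ : ℕ) (hk : k.Prime) (hF₀ : Nat.card ↥F₀ = q₀) (hqk : q = q₀ ^ k) (hC5 : ¬ (n = 2 ∧ q₀ = 2)) (r : ℕ) [Fact r.Prime] (hr2 : r ≠ 2) (hrp : r ≠ p) (hgap : ¬ (n = 6 ∧ r = 3)) (hgapk : r = k → r ∣ q₀ - 1 → padicValNat r n ≤ padicValNat r (q - 1)) (hΩ : r ∣ ((Cfsg.Geo.subfieldSubgroup F₀ 1).comap (Matrix.SpecialLinearGroup.toGL : Matrix.SpecialLinearGroup (Fin n) F →* GL (Fin n) F)).index) :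
    (∀ x : Matrix.SpecialLinearGroup (Fin n) F,
      (∃ z : F, ((x ^ r : Matrix.SpecialLinearGroup (Fin n) F) : Matrix (Fin n) (Fin n) F) = z • (1 : Matrix (Fin n) (Fin n) F)) →
      (∀ z : F, (x : Matrix (Fin n) (Fin n) F) ≠ z • (1 : Matrix (Fin n) (Fin n) F)) →
      ∃ P : Matrix.SpecialLinearGroup (Fin n) F, P⁻¹ * x * P ∈ ((Cfsg.Geo.subfieldSubgroup F₀ 1).comap (Matrix.SpecialLinearGroup.toGL : Matrix.SpecialLinearGroup (Fin n) F →* GL (Fin n) F))) ↔
    (r = k ∨ (k = 2 ∧ r = n ∧ (n = 3 ∨ n = 5) ∧ padicValNat r (q₀ + 1) = 1)) := by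
  classical
  subst hq
  have hr : r.Prime := Fact.out
  have hp : p.Prime := Fact.out
  haveI : Nontrivial (Fin n → F) := by
    haveI : Nonempty (Fin n) := ⟨⟨0, by omega⟩⟩
    infer_instance
  have hcent : ∀ (t : (Fin n → F) →ₗ[F] (Fin n → F)) (z : F), z ≠ 0 → t ^ r = z • 1 →
      ∀ δ : F, δ ≠ 0 → ∃ c : (Fin n → F) →ₗ[F] (Fin n → F), LinearMap.det c = δ ∧
        ∀ v, c (t v) = t (c v) := by
    intro t z hz ht δ hδ
    exact exists_commute_det_of_pow_eq_smul (p := p) r hr.ne_zero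
      (fun h => hrp ((Nat.prime_dvd_prime_iff_eq hp hr).mp h).symm) z hz t ht δ hδ
  constructor
  · intro hL
    by_cases hrk : r = k
    · exact Or.inl hrk
    · right
      exact forward hn F₀ k q₀ hk hF₀ hqk r hr2 hrp hgap
        (exists_dvd_geom_of_dvd_index n hn F₀ k q₀ hk.one_le hF₀ hqk r hr hrp hΩ)
        (fun x P hd hx hx1 hP => order_le_of_conj_mem F₀ q₀ hF₀ r hrp hd x P hx hx1 hP)
        hL hrk
  · rintro (hrk | ⟨hk2, hrn, hn35, hv⟩)
    · subst hrk
      exact backward_prime hn F₀ q₀ hF₀ r hr2 hqk (hgapk rfl)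
        (fun y hy => realOver_of_pow_prime_eq_one F₀ q₀ r hrp hF₀ hqk y hy) hcent
    · subst hk2
      have hd : r ∣ Fintype.card F - 1 := by
        have hd1 : r ∣ q₀ + 1 := dvd_of_one_le_padicValNat (by omega)
        have hq₀1 : 1 ≤ q₀ := by
          have : 0 < Nat.card F₀ := Nat.card_pos
          omega
        have hfac : Fintype.card F - 1 = (q₀ - 1) * (q₀ + 1) := by
          rw [hqk]
          obtain ⟨m, rfl⟩ : ∃ m, q₀ = m + 1 := ⟨q₀ - 1, by omega⟩
          simp only [Nat.add_sub_cancel]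
          have : (m + 1) ^ 2 = m * (m + 1 + 1) + 1 := by ring
          rw [this, Nat.add_sub_cancel]
        rw [hfac]
        exact Dvd.dvd.mul_left hd1 _
      have hd1 : r ∣ q₀ + 1 := dvd_of_one_le_padicValNat (by omega)
      exact backward_special F₀ q₀ hF₀ r hr2 hqk hrn hn35 hv
        (fun y hy hsym => realOver_of_symm_spectrum F₀ q₀ r hrp hr2 hF₀ hd hd1 y hy hsym)
        (fun y hy => by
          obtain ⟨b, lam, hb⟩ := exists_eigenbasis (p := p) r hrp hd y hy
          exact ⟨_, inferInstance, b, lam, hb⟩)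
        hcent

end Cfsg.Agent.S5965
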