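import Mathlib
import Cfsg.Statements.S5966
import Cfsg.Agent.Lib.Helper9.GReal8
import Cfsg.Agent.Lib.Helper9.NilType7

set_option autoImplicit false
open scoped MatrixGroups
open Cfsg
open Cfsg.Agent.Lib.Helper9.H9GSpInv Cfsg.Agent.Lib.Helper9.H9GConj Cfsg.Agent.Lib.Helper9.H9GReal Cfsg.Agent.Lib.Helper9.H9Elus

namespace Cfsg.Agent.S5966

/-- Elements of order 3 of PSL_n(q) in characteristic 3 and subfield subgroups. Here `T = PSL_n(F)` for a field `F` with `q` elements, `q` a power of 3 (`n ≥ 2`, `(n, q) ≠ (2, 2), (2, 3)`), `F₀` is the subfield with `q₀` elements where `q = q₀^k` for a prime `k`, and `H` is the subgroup of matrices of determinant 1 lying in the subfield group of `F₀` (invertible matrices over `F₀` times scalars) — a maximal subgroup of type GL_n(q₀) (the case `n = 2`, `q₀ = 2` is excluded); Ω is the set of `T`-conjugates of `H` (cosets of `H`), so an element of `T` of prime order `r` (a matrix `x` of determinant 1 with `x^r` scalar, `x` not scalar) fixes a point of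 Ω when some conjugate of `x` by a matrix of determinant 1 lies in `H`. Suppose 3 divides the index of `H`. Then every element of `T` of order 3 is conjugate in `T` into `H` if and only if `n` is odd, or `n` is even and `k > 2`. -/
theorem result {F : Type*} [Field F] [Fintype F] [CharP F 3] {q : ℕ} (hq : Fintype.card F = q)
    (n : ℕ) (hn : 2 ≤ n) (hT : (n, q) ≠ (2, 3))
    (F₀ : Subfield F) (k q₀ : ℕ) (hk : k.Prime) (hF₀ : Nat.card ↥F₀ = q₀) (hqk : q = q₀ ^ k) (hC5 : ¬ (n = 2 ∧ q₀ = 2)) (hΩ : 3 ∣ ((Cfsg.Geo.subfieldSubgroup F₀ 1).comap (Matrix.SpecialLinearGroup.toGL : Matrix.SpecialLinearGroup (Fin n) F →* GL (Fin n) F)).index) :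
    (∀ x : Matrix.SpecialLinearGroup (Fin n) F,
      (∃ z : F, ((x ^ 3 : Matrix.SpecialLinearGroup (Fin n) F) : Matrix (Fin n) (Fin n) F) = z • (1 : Matrix (Fin n) (Fin n) F)) →
      (∀ z : F, (x : Matrix (Fin n) (Fin n) F) ≠ z • (1 : Matrix (Fin n) (Fin n) F)) →
      ∃ P : Matrix.SpecialLinearGroup (Fin n) F, P⁻¹ * x * P ∈ ((Cfsg.Geo.subfieldSubgroup F₀ 1).comap (Matrix.SpecialLinearGroup.toGL : Matrix.SpecialLinearGroup (Fin n) F →* GL (Fin n) F))) ↔
    (Odd n ∨ (Even n ∧ 2 < k)) := by
  classical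
  subst hq
  have hn0 : n ≠ 0 := by omega
  haveI : Fact (Nat.Prime 3) := ⟨Nat.prime_three⟩
  haveI : Nonempty (Fin n) := ⟨⟨0, by omega⟩⟩
  have hfrV : Module.finrank F (Fin n → F) = n := by simp
  have h3 : (3 : F) = 0 := by
    have := CharP.cast_eq_zero F 3
    exact_mod_cast this
  have h2 : (2 : F) ≠ 0 := by
    intro h
    have h' : ((2 : ℕ) : F) = 0 := by exact_mod_cast h
    have := (CharP.cast_eq_zero_iff F 3 2).mp h'
    omega
  have hcube : ∀ b : F, ∃ c : F, c ^ 3 = b := by
    intro b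
    apply exists_pow_eq_of_not_dvd 3 Nat.prime_three ?_ b
    obtain ⟨m, -, hm⟩ := FiniteField.card F 3
    rw [hm]
    have hm1 : 1 ≤ (m : ℕ) := m.pos
    obtain ⟨j, hj⟩ : ∃ j, (m : ℕ) = j + 1 := ⟨(m : ℕ) - 1, by omega⟩
    have h3j : (3 : ℕ) ^ (m : ℕ) = 3 * 3 ^ j := by rw [hj, pow_succ, mul_comm]
    have hpos : 1 ≤ 3 ^ j := Nat.one_le_pow _ _ (by norm_num)
    rw [h3j]
    generalize 3 ^ j = y at hpos
    omega
  constructor
  · intro hL
    by_contra hR
    push Not at hR
    obtain ⟨hnodd, hk2⟩ := hR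
    have hev : Even n := Nat.not_odd_iff_even.mp hnodd
    have hk2' : k = 2 := by
      have := hk2 hev
      have := hk.two_le
      omega
    subst hk2'
    obtain ⟨a, hna⟩ := hev
    have ha : 1 ≤ a := by omega
    have hF : ringChar F ≠ 2 := by
      intro hr
      apply h2
      have := ringChar.Nat.cast_ringChar (R := F)
      rw [hr] at this
      exact_mod_cast this
    obtain ⟨ν, hν⟩ := FiniteField.exists_nonsquare hF
    have hν' : ∀ c : F, c ^ 2 ≠ ν := by
      intro c hc
      exact hν ⟨c, by rw [← hc, pow_two]⟩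
    have hν0 : ν ≠ 0 := by
      rintro rfl
      exact hν' 0 (by ring)
    let x : Matrix.SpecialLinearGroup (Fin n) F :=
      ⟨unipFin a n hna ha ν, det_unipFin a n hna ha ν⟩
    obtain ⟨P, hP⟩ := hL x
      ⟨1, by
        rw [pow_succ, pow_two, Matrix.SpecialLinearGroup.coe_mul, Matrix.SpecialLinearGroup.coe_mul,
          one_smul]
        exact unipFin_cube h3 a n hna ha ν⟩
      (fun z => unipFin_ne_smul a n hna ha ν hν0 z)
    exact not_conj_unipFin h2 a n hna ha F₀
      (fun b hb => exists_sq_of_mem_subfield F₀ q₀ hF₀ hqk b hb) ν hν' x rfl P hP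
  · intro hR x hx hns
    obtain ⟨z, hz⟩ := hx
    set t := Matrix.toLin' (x : Matrix (Fin n) (Fin n) F) with ht
    have ht3 : t ^ 3 = z • 1 := by
      rw [ht, pow_succ, pow_two, Module.End.mul_eq_comp, Module.End.mul_eq_comp,
        ← Matrix.toLin'_mul, ← Matrix.toLin'_mul, ← Matrix.SpecialLinearGroup.coe_mul,
        ← Matrix.SpecialLinearGroup.coe_mul, ← pow_two, ← pow_succ, hz, map_smul,
        Matrix.toLin'_one]
      rfl
    have hz0 : z ≠ 0 := by
      rintro rfl
      have h1 := congrArg Matrix.det hz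
      rw [Matrix.SpecialLinearGroup.det_coe, zero_smul, Matrix.det_zero] at h1
      exact one_ne_zero h1
    have htns : ∀ c : F, t ≠ c • 1 := by
      intro c h
      apply hns c
      have h1 := congrArg LinearMap.toMatrix' h
      rwa [ht, LinearMap.toMatrix'_toLin', map_smul, LinearMap.toMatrix'_one] at h1
    obtain ⟨d, rfl⟩ := hcube z
    have hd0 : d ≠ 0 := by
      rintro rfl
      exact hz0 (by ring)
    set s : (Fin n → F) →ₗ[F] (Fin n → F) := d⁻¹ • t with hs
    have hs3 : s ^ 3 = 1 := by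
      rw [hs, smul_pow, ht3, smul_smul, inv_pow, inv_mul_cancel₀ (pow_ne_zero 3 hd0), one_smul]
    set N : (Fin n → F) →ₗ[F] (Fin n → F) := s - 1 with hN
    have hN3 : N ^ 3 = 0 := Cfsg.Agent.H9Nil.sub_one_pow_char 3 s hs3
    have hts : t = d • s := by
      rw [hs, smul_smul, mul_inv_cancel₀ hd0, one_smul]
    have hsN : s = (1 : F) • (1 : (Fin n → F) →ₗ[F] (Fin n → F)) + N := by
      rw [hN, one_smul]
      abel
    have hN0 : N ≠ 0 := by
      intro h0
      apply htns d
      rw [hts, hsN, h0, add_zero, one_smul]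
    have hsreal : RealOver F₀ s := by
      rw [hsN]
      exact RealOver.smul_one_add F₀ N (realOver_of_nilpotent F₀ N 3 hN3) 1 F₀.one_mem
    have hcomm : ∀ c : (Fin n → F) →ₗ[F] (Fin n → F), (∀ v, c (N v) = N (c v)) →
        ∀ v, c (t v) = t (c v) := by
      intro c hc v
      have htv : ∀ w, t w = d • w + d • N w := by
        intro w
        rw [hts, hsN]
        simp
      rw [htv, htv, map_add, map_smul, map_smul, hc]
    apply conj_mem_subfield' (by omega) F₀ x d hd0 s hts hsreal
    intro δ hδ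
    by_cases hN2 : N ^ 2 = 0
    · by_cases hex : ∃ u, N u = 0 ∧ u ∉ LinearMap.range N
      · obtain ⟨u, hu, hur⟩ := hex
        obtain ⟨c, hc, hdet⟩ := cent_nil_of_notMem N u hu hur δ
        exact ⟨c, hcomm c hc, 1, F₀.one_mem, one_ne_zero, by rw [hdet, mul_one]⟩
      · push Not at hex
        have hker : LinearMap.ker N ≤ LinearMap.range N := fun u hu => hex u (LinearMap.mem_ker.mp hu)
        have hrk : LinearMap.range N ≤ LinearMap.ker N := by
          rintro _ ⟨w, rfl⟩
          rw [LinearMap.mem_ker, ← Module.End.mul_apply, ← pow_two, hN2, LinearMap.zero_apply]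
        have heq : LinearMap.ker N = LinearMap.range N := le_antisymm hker hrk
        have hrn := LinearMap.finrank_range_add_finrank_ker N
        rw [heq, hfrV] at hrn
        have hev : Even n := ⟨_, hrn.symm⟩
        have hkodd : Odd k := by
          rcases hR with h | ⟨-, h⟩
          · exact absurd hev (Nat.not_even_iff_odd.mpr h)
          · exact hk.odd_of_ne_two (by omega)
        obtain ⟨α, a, haF, ha0, hαa⟩ := exists_sq_mul_mem h2 F₀ q₀ k hF₀ hqk hkodd δ
        obtain ⟨c, hc, hdet⟩ := cent_nil N 2 (by norm_num) hN2 (by simpa using hN0) α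
        exact ⟨c, hcomm c hc, a, haF, ha0, by rw [hdet, hαa]⟩
    · obtain ⟨α, hα⟩ := hcube δ
      obtain ⟨c, hc, hdet⟩ := cent_nil N 3 (by norm_num) hN3 (by simpa using hN2) α
      exact ⟨c, hcomm c hc, 1, F₀.one_mem, one_ne_zero, by rw [hdet, mul_one, hα]⟩

end Cfsg.Agent.S5966
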