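import Mathlib
import Cfsg.Statements.S5967
import Cfsg.Agent.Lib.Helper9.GSpInv5

set_option autoImplicit false
open scoped MatrixGroups
open Cfsg
open Cfsg.Agent.Lib.Helper9.H9GSpInv

namespace Cfsg.Agent.S5967

/-- Involutions of PSL_n(q) and the symplectic-type subgroups. Here `T = PSL_n(F)` for a field `F` with `q` elements, `n ≥ 4` even, `f` is a nondegenerate alternating form on `F^n`, and `H` is the subgroup of matrices of determinant 1 preserving `f` up to a scalar — a maximal subgroup of type Sp_n(q); Ω is the set of `T`-conjugates of `H` (cosets of `H`), so an element of `T` of prime order `r` (a matrix `x` of determinant 1 with `x^r` scalar, `x` not scalar) fixes a point of Ω when some conjugate of `x` by a matrix of determinant 1 preserves `f` up to a scalar. Suppose the index of `H` is even. Then every involution of `T` is conjugate in `T` into `H` if and only if `(q − 1)_2 ≤ (n)_2`. -/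
theorem result {F : Type*} [Field F] [Fintype F] {p : ℕ} [Fact p.Prime] [CharP F p] {q : ℕ} (hq : Fintype.card F = q)
    (n : ℕ) (hn : 4 ≤ n) (he : Even n) (f : (Fin n → F) → (Fin n → F) → F) (hf : Cfsg.Geo.IsSymplecticForm f)
    (hΩ : 2 ∣ ((Cfsg.Geo.similarityGroup f).comap (Matrix.SpecialLinearGroup.toGL : Matrix.SpecialLinearGroup (Fin n) F →* GL (Fin n) F)).index) :
    (∀ x : Matrix.SpecialLinearGroup (Fin n) F,
      (∃ z : F, ((x ^ 2 : Matrix.SpecialLinearGroup (Fin n) F) : Matrix (Fin n) (Fin n) F) = z • (1 : Matrix (Fin n) (Fin n) F)) →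
      (∀ z : F, (x : Matrix (Fin n) (Fin n) F) ≠ z • (1 : Matrix (Fin n) (Fin n) F)) →
      ∃ P : Matrix.SpecialLinearGroup (Fin n) F, P⁻¹ * x * P ∈ ((Cfsg.Geo.similarityGroup f).comap (Matrix.SpecialLinearGroup.toGL : Matrix.SpecialLinearGroup (Fin n) F →* GL (Fin n) F))) ↔
    padicValNat 2 (q - 1) ≤ padicValNat 2 n := by
  classical
  subst hq
  have hn0 : n ≠ 0 := by omega
  haveI : Nonempty (Fin n) := ⟨⟨0, by omega⟩⟩
  have hfrV : Module.finrank F (Fin n → F) = n := by simp
  constructor
  · intro hL
    by_contra hv
    push Not at hv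
    have h2 : (2 : F) ≠ 0 := by
      intro h2
      have hr : ringChar F = 2 :=
        CharP.ringChar_of_prime_eq_zero Nat.prime_two (by exact_mod_cast h2)
      have hev : Fintype.card F % 2 = 0 := FiniteField.even_card_of_char_two hr
      have hcard : 1 < Fintype.card F := Fintype.one_lt_card
      have : padicValNat 2 (Fintype.card F - 1) = 0 :=
        padicValNat.eq_zero_of_not_dvd (by omega)
      omega
    obtain ⟨d, hd0, hd⟩ := exists_pow_eq_neg_one (F := F) n hn0 hv
    have h01 : (⟨0, by omega⟩ : Fin n) ≠ ⟨1, by omega⟩ := by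
      intro h; simpa using congrArg Fin.val h
    have h02 : (⟨0, by omega⟩ : Fin n) ≠ ⟨2, by omega⟩ := by
      intro h; simpa using congrArg Fin.val h
    have h12 : (⟨1, by omega⟩ : Fin n) ≠ ⟨2, by omega⟩ := by
      intro h; simpa using congrArg Fin.val h
    let x : Matrix.SpecialLinearGroup (Fin n) F :=
      ⟨pseudoRefl d ⟨0, by omega⟩, by rw [det_pseudoRefl, hd, neg_neg]⟩
    obtain ⟨P, hP⟩ := hL x
      ⟨d ^ 2, by
        rw [pow_two, Matrix.SpecialLinearGroup.coe_mul]
        exact pseudoRefl_sq d _⟩
      (fun z => pseudoRefl_ne_smul d hd0 h2 _ _ h01 z)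
    exact no_conj f hf h2 _ _ _ h01 h02 h12 d hd0 x rfl P hP
  · intro hv x hx hns
    obtain ⟨z, hz⟩ := hx
    set t := Matrix.toLin' (x : Matrix (Fin n) (Fin n) F) with ht
    have ht2 : t ^ 2 = z • 1 := by
      rw [ht, pow_two, Module.End.mul_eq_comp, ← Matrix.toLin'_mul, ← Matrix.SpecialLinearGroup.coe_mul, ← pow_two, hz,
        map_smul, Matrix.toLin'_one]
      rfl
    have hz0 : z ≠ 0 := by
      rintro rfl
      have h1 := congrArg Matrix.det hz
      rw [Matrix.SpecialLinearGroup.det_coe, zero_smul, Matrix.det_zero] at h1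
      exact one_ne_zero h1
    have htns : ∀ c : F, t ≠ c • 1 := by
      intro c h
      apply hns c
      have h1 := congrArg LinearMap.toMatrix' h
      rwa [ht, LinearMap.toMatrix'_toLin', map_smul, LinearMap.toMatrix'_one] at h1
    by_cases h2 : (2 : F) = 0
    · have hr : ringChar F = 2 :=
        CharP.ringChar_of_prime_eq_zero Nat.prime_two (by exact_mod_cast h2)
      have hsq : ∀ δ : F, ∃ a : F, a ^ 2 = δ := by
        intro δ
        obtain ⟨a, ha⟩ := FiniteField.isSquare_of_char_two hr δ
        exact ⟨a, by rw [ha, pow_two]⟩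
      obtain ⟨a, ha⟩ := hsq z
      rw [← ha] at ht2
      apply conj_mem_of_hasSimForm f hf x (a ^ 2) (ha ▸ hz0)
      · exact hasSimForm_char_two h2 a t ht2 (by rw [hfrV]; exact he)
      · intro δ _
        exact cent_char_two h2 hsq a t ht2 (htns a) δ
    · have hodd : Fintype.card F % 2 = 1 := by
        apply FiniteField.odd_card_of_char_ne_two
        intro hr
        apply h2
        have := ringChar.Nat.cast_ringChar (R := F)
        rw [hr] at this
        exact_mod_cast this
      by_cases hsq : ∃ d : F, d ^ 2 = z
      · obtain ⟨d, rfl⟩ := hsq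
        have hd0 : d ≠ 0 := by
          rintro rfl
          exact hz0 (by ring)
        have hc := isCompl_eigen d t hd0 h2 ht2
        have hfr := Submodule.finrank_add_eq_of_isCompl hc
        rw [hfrV] at hfr
        have hdet := det_of_sq_eq d t hd0 h2 ht2
        have hdet1 : LinearMap.det t = 1 := by
          rw [ht, LinearMap.det_toLin', Matrix.SpecialLinearGroup.det_coe]
        rw [hdet1] at hdet
        have hm : Even (Module.finrank F (LinearMap.ker (t - (-d) • 1))) := by
          by_contra hnev
          rw [Nat.not_even_iff_odd] at hnev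
          apply pow_ne_neg_one h2 n hn0 hv d
          rw [← hfr, pow_add]
          rw [neg_pow, hnev.neg_one_pow] at hdet
          linear_combination hdet
        have hp : Even (Module.finrank F (LinearMap.ker (t - d • 1))) := by
          have h3 : Even (Module.finrank F (LinearMap.ker (t - d • 1)) +
              Module.finrank F (LinearMap.ker (t - (-d) • 1))) := by rw [hfr]; exact he
          exact (Nat.even_add.mp h3).mpr hm
        apply conj_mem_of_hasSimForm f hf x (d ^ 2) (pow_ne_zero 2 hd0)
          (hasSimForm_of_even d t hd0 h2 ht2 hp hm)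
        intro δ _
        exact cent_of_sq_eq d t hd0 h2 ht2 (htns d) δ
      · push Not at hsq
        apply conj_mem_of_hasSimForm f hf x (-z) (neg_ne_zero.mpr hz0)
          (hasSimForm_irred z hsq t ht2)
        intro δ _
        exact cent_irred z hsq t ht2 δ (exists_norm_eq hodd z hz0 δ)

end Cfsg.Agent.S5967
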