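import Mathlib
import Cfsg.Statements.S5969
import Cfsg.Agent.Lib.Helper9.ExtInv4

set_option autoImplicit false
open scoped MatrixGroups
open Cfsg
open Cfsg.Agent.Lib.Helper9.H9GSpInv Cfsg.Agent.Lib.Helper9.H9GConj Cfsg.Agent.Lib.Helper9.H9ExtInv

namespace Cfsg.Agent.S5969

/-- Involutions of PSL_n(q) and extension-field subgroups of degree 2. Here `T = PSL_n(F)` for a field `F` with `q = p^f` elements (`n ≥ 2`, `(n, q) ≠ (2, 2), (2, 3)`), `k` is a prime dividing `n`, `K` is a subalgebra of the `n × n` matrices that is a field of degree `k` over `F` (an extension-field structure F_{q^k} on `F^n`), and `H` is the subgroup of matrices of determinant 1 normalizing `K` — a subgroup of type GL_{n/k}(q^k) (maximal except in some small cases; maximality is not assumed); Ω is the set of cosets of `H` in `T`, so an element of `T` of prime order `r` (a matrix `x` of determinant 1 with `x^r` scalar, `x` not scalar) fixes a point of Ω when some conjugate of `x` by a matrix of determinant 1 normalizes `K`. Take `k = 2` and suppose the index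 of `H` is even. Then every involution of `T` is conjugate in `T` into `H` if and only if `n = 2`, or `q` is odd and `(q − 1)_2 ≤ (n)_2`. -/
theorem result {F : Type*} [Field F] [Fintype F] {p : ℕ} [Fact p.Prime] [CharP F p] {q : ℕ} (hq : Fintype.card F = q)
    (n : ℕ) (hn : 2 ≤ n) (hT : (n, q) ≠ (2, 2) ∧ (n, q) ≠ (2, 3))
    (k : ℕ) (hk : k.Prime) (hkn : k ∣ n) (K : Subalgebra F (Matrix (Fin n) (Fin n) F)) (hK : Cfsg.Geo.IsFieldSubalgebra k K) (hk2 : k = 2) (hΩ : 2 ∣ ((Cfsg.Geo.subalgebraNormalizer K).comap (Matrix.SpecialLinearGroup.toGL : Matrix.SpecialLinearGroup (Fin n) F →* GL (Fin n) F)).index) :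
    (∀ x : Matrix.SpecialLinearGroup (Fin n) F,
      (∃ z : F, ((x ^ 2 : Matrix.SpecialLinearGroup (Fin n) F) : Matrix (Fin n) (Fin n) F) = z • (1 : Matrix (Fin n) (Fin n) F)) →
      (∀ z : F, (x : Matrix (Fin n) (Fin n) F) ≠ z • (1 : Matrix (Fin n) (Fin n) F)) →
      ∃ P : Matrix.SpecialLinearGroup (Fin n) F, P⁻¹ * x * P ∈ ((Cfsg.Geo.subalgebraNormalizer K).comap (Matrix.SpecialLinearGroup.toGL : Matrix.SpecialLinearGroup (Fin n) F →* GL (Fin n) F))) ↔
    (n = 2 ∨ (Odd q ∧ padicValNat 2 (q - 1) ≤ padicValNat 2 n)) := by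
  classical
  subst hq
  subst hk2
  have hn0 : n ≠ 0 := by omega
  haveI : Nonempty (Fin n) := ⟨⟨0, by omega⟩⟩
  have he : Even n := (even_iff_two_dvd).mpr hkn
  have hfrV : Module.finrank F (Fin n → F) = n := by simp
  have hperf : (2 : F) = 0 → ∀ b : F, ∃ c : F, c ^ 2 = b := by
    intro h2 b
    have hr : ringChar F = 2 :=
      CharP.ringChar_of_prime_eq_zero Nat.prime_two (by exact_mod_cast h2)
    obtain ⟨a, ha⟩ := FiniteField.isSquare_of_char_two hr b
    exact ⟨a, by rw [ha, pow_two]⟩
  have hoddcard : (2 : F) ≠ 0 → Fintype.card F % 2 = 1 := by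
    intro h2
    apply FiniteField.odd_card_of_char_ne_two
    intro hr
    apply h2
    have := ringChar.Nat.cast_ringChar (R := F)
    rw [hr] at this
    exact_mod_cast this
  constructor
  · intro hL
    by_cases hn2 : n = 2
    · exact Or.inl hn2
    right
    have hn3 : 3 ≤ n := by
      obtain ⟨j, hj⟩ := he
      omega
    have h01 : (⟨0, by omega⟩ : Fin n) ≠ ⟨1, by omega⟩ := by
      intro h; simpa using congrArg Fin.val h
    have h2 : (2 : F) ≠ 0 := by
      intro h2
      let x : Matrix.SpecialLinearGroup (Fin n) F :=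
        ⟨Matrix.transvection ⟨0, by omega⟩ ⟨1, by omega⟩ 1, Matrix.det_transvection_of_ne _ _ h01 1⟩
      obtain ⟨P, hP⟩ := hL x
        ⟨1, by
          rw [pow_two, Matrix.SpecialLinearGroup.coe_mul]
          show Matrix.transvection _ _ 1 * Matrix.transvection _ _ 1 = _
          rw [Matrix.transvection_mul_transvection_same _ _ h01, one_smul]
          have : (1 : F) + 1 = 0 := by rw [one_add_one_eq_two]; exact h2
          rw [this, Matrix.transvection_zero]⟩
        (fun z hz => by
          have h1 := congrFun (congrFun hz ⟨0, by omega⟩) ⟨1, by omega⟩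
          change Matrix.transvection _ _ (1 : F) _ _ = _ at h1
          rw [Matrix.transvection, Matrix.add_apply, Matrix.one_apply_ne h01, Matrix.single_apply_same,
            Matrix.smul_apply, Matrix.one_apply_ne h01] at h1
          simp at h1)
      refine not_conj_mem_normalizer hn3 K hK x 1 one_ne_zero
        (LinearMap.proj ⟨1, by omega⟩) (Pi.single ⟨0, by omega⟩ 1) ?_ ?_ ?_ P hP
      · intro h
        have := congrArg (fun f : (Fin n → F) →ₗ[F] F => f (Pi.single ⟨1, by omega⟩ 1)) h
        simp at this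
      · intro h
        have := congrFun h ⟨0, by omega⟩
        simp at this
      · intro u
        exact transvection_mulVec _ _ u
    refine ⟨Nat.odd_iff.mpr (hoddcard h2), ?_⟩
    by_contra hv
    push Not at hv
    obtain ⟨d, hd0, hd⟩ := exists_pow_eq_neg_one (F := F) n hn0 hv
    let x : Matrix.SpecialLinearGroup (Fin n) F :=
      ⟨pseudoRefl d ⟨0, by omega⟩, by rw [det_pseudoRefl, hd, neg_neg]⟩
    obtain ⟨P, hP⟩ := hL x
      ⟨d ^ 2, by
        rw [pow_two, Matrix.SpecialLinearGroup.coe_mul]
        exact pseudoRefl_sq d _⟩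
      (fun z => pseudoRefl_ne_smul d hd0 h2 _ _ h01 z)
    refine not_conj_mem_normalizer hn3 K hK x d hd0
      ((-2 : F) • (LinearMap.proj ⟨0, by omega⟩ : (Fin n → F) →ₗ[F] F))
      (Pi.single ⟨0, by omega⟩ 1) ?_ ?_ ?_ P hP
    · intro h
      have := congrArg (fun f : (Fin n → F) →ₗ[F] F => f (Pi.single ⟨0, by omega⟩ 1)) h
      simp at this
      exact h2 this
    · intro h
      have := congrFun h ⟨0, by omega⟩
      simp at this
    · intro u
      show Matrix.mulVec (pseudoRefl d _) u = _
      rw [pseudoRefl_mulVec, negCoord_eq]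
  · intro hR x hx hns
    obtain ⟨z, hz⟩ := hx
    set t := Matrix.toLin' (x : Matrix (Fin n) (Fin n) F) with ht
    have ht2 : t ^ 2 = z • 1 := by
      rw [ht, pow_two, Module.End.mul_eq_comp, ← Matrix.toLin'_mul,
        ← Matrix.SpecialLinearGroup.coe_mul, ← pow_two, hz, map_smul, Matrix.toLin'_one]
      rfl
    have hz0 : z ≠ 0 := by
      rintro rfl
      have h1 := congrArg Matrix.det hz
      rw [Matrix.SpecialLinearGroup.det_coe, zero_smul, Matrix.det_zero] at h1
      exact one_ne_zero h1
    have htns : ∀ c : F, t ≠ c • 1 := by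
      intro c h
      apply hns c
      have h1 := congrArg LinearMap.toMatrix' h
      rwa [ht, LinearMap.toMatrix'_toLin', map_smul, LinearMap.toMatrix'_one] at h1
    by_cases hA : n = 2 ∧ ∃ d : F, d ^ 2 = z
    · obtain ⟨hn2, d, rfl⟩ := hA
      subst hn2
      have hd0 : d ≠ 0 := by
        rintro rfl
        exact hz0 (by ring)
      obtain ⟨σ, hσσ, hσns, θ, hθ, hθns, θ', hθ', hrel⟩ := exists_semilinear hperf K hK
      have hy2 : (d • σ) ^ 2 = (d ^ 2) • (1 : (Fin 2 → F) →ₗ[F] (Fin 2 → F)) := by
        apply LinearMap.ext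
        intro v
        rw [pow_two, Module.End.mul_apply, LinearMap.smul_apply, LinearMap.smul_apply, map_smul,
          hσσ, smul_smul, LinearMap.smul_apply, Module.End.one_apply, pow_two]
      have hyns : ∀ c : F, d • σ ≠ c • 1 := by
        intro c hc
        apply hσns (d⁻¹ * c)
        have := congrArg (fun f : (Fin 2 → F) →ₗ[F] (Fin 2 → F) => d⁻¹ • f) hc
        simp only [smul_smul, inv_mul_cancel₀ hd0, one_smul] at this
        exact this
      obtain ⟨g, hg⟩ := conj_of_finrank_two (d ^ 2) t (d • σ) ht2 hy2 hfrV hfrV htns hyns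
      apply conj_mem_normalizer K hK x (d • σ) g hg ?_ θ hθ hθns θ' hθ'
      · rw [map_smul, Matrix.smul_mul, hrel, Matrix.mul_smul]
      · intro δ _
        apply cent_of_finrank_two (d ^ 2) t ht2 hfrV htns δ
        by_cases h2 : (2 : F) = 0
        · obtain ⟨a, ha⟩ := hperf h2 δ
          exact ⟨a, 0, by rw [← ha]; ring⟩
        · exact exists_norm_eq (hoddcard h2) (d ^ 2) hz0 δ
    · have h2 : (2 : F) ≠ 0 := by
        rcases hR with hn2 | ⟨hodd, -⟩
        · intro h2
          exact hA ⟨hn2, hperf h2 z⟩
        · intro h2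
          have hr : ringChar F = 2 :=
            CharP.ringChar_of_prime_eq_zero Nat.prime_two (by exact_mod_cast h2)
          have hev : Fintype.card F % 2 = 0 := FiniteField.even_card_of_char_two hr
          have := Nat.odd_iff.mp hodd
          omega
      have hodd := hoddcard h2
      obtain ⟨θ, hθ, hθns, ν, hν, hθθ⟩ := exists_sq_eq_nonsquare h2 K hK
      set T := Matrix.toLin' θ with hT
      have hT2 : T ^ 2 = ν • 1 := by
        rw [hT, pow_two, Module.End.mul_eq_comp, ← Matrix.toLin'_mul, hθθ, map_smul,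
          Matrix.toLin'_one]
        rfl
      by_cases hsq : ∃ d : F, d ^ 2 = z
      · obtain ⟨d, rfl⟩ := hsq
        have hn2 : n ≠ 2 := fun h => hA ⟨h, d, rfl⟩
        have hv : padicValNat 2 (Fintype.card F - 1) ≤ padicValNat 2 n := by
          rcases hR with h | ⟨-, h⟩
          · exact absurd h hn2
          · exact h
        have hd0 : d ≠ 0 := by
          rintro rfl
          exact hz0 (by ring)
        have hc := isCompl_eigen d t hd0 h2 ht2
        have hfr := Submodule.finrank_add_eq_of_isCompl hc
        rw [hfrV] at hfr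
        have hdet := det_of_sq_eq d t hd0 h2 ht2
        have hdet1 : LinearMap.det t = 1 := by
          rw [ht, LinearMap.det_toLin', Matrix.SpecialLinearGroup.det_coe]
        rw [hdet1] at hdet
        have hm : Even (Module.finrank F (LinearMap.ker (t - (-d) • 1))) := by
          by_contra hnev
          rw [Nat.not_even_iff_odd] at hnev
          apply pow_ne_neg_one h2 n hn0 hv d
          rw [← hfr, pow_add]
          rw [neg_pow, hnev.neg_one_pow] at hdet
          linear_combination hdet
        obtain ⟨m, hm'⟩ := hm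
        obtain ⟨y, hy2, hyT, hyker⟩ := exists_commuting_of_even T ν hν hT2 d hd0 h2 m
          (by rw [hfrV]; omega)
        have hc' := isCompl_eigen d y hd0 h2 hy2
        have hfr' := Submodule.finrank_add_eq_of_isCompl hc'
        rw [hfrV] at hfr'
        obtain ⟨g, hg⟩ := conj_of_sq_eq d hd0 h2 t y ht2 hy2 (by omega) (by omega)
        apply conj_mem_normalizer K hK x y g hg ?_ θ hθ hθns θ hθ
        · apply Matrix.toLin'.injective
          rw [Matrix.toLin'_mul, Matrix.toLin'_mul, Matrix.toLin'_toMatrix', ← hT]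
          apply LinearMap.ext
          intro v
          exact hyT v
        · intro δ _
          exact cent_of_sq_eq d t hd0 h2 ht2 (htns d) δ
      · push Not at hsq
        obtain ⟨c, hc⟩ := exists_eq_mul_sq h2 ν z hν hsq
        have hy2 : (c • T) ^ 2 = z • (1 : (Fin n → F) →ₗ[F] (Fin n → F)) := by
          rw [smul_pow, hT2, smul_smul, hc, mul_comm]
        obtain ⟨g, hg⟩ := conj_irred z hsq t (c • T) ht2 hy2 rfl
        apply conj_mem_normalizer K hK x (c • T) g hg ?_ θ hθ hθns θ hθ
        · rw [map_smul, hT, LinearMap.toMatrix'_toLin', Matrix.smul_mul, Matrix.mul_smul]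
        · intro δ _
          exact cent_irred z hsq t ht2 δ (exists_norm_eq hodd z hz0 δ)

end Cfsg.Agent.S5969
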