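import Mathlib
import Cfsg.Statements.S5970
import Cfsg.Agent.Lib.Helper9.PExt7
import Cfsg.Agent.Lib.Helper9.PExt10

set_option autoImplicit false
open scoped MatrixGroups
open Cfsg
open Cfsg.Agent.Lib.Helper9.H9PExt

namespace Cfsg.Agent.S5970

/-- Elements of order `n` of PSL_n(q), `n` prime, and the normalizer of a Singer cycle. Here `T = PSL_n(F)` for a field `F` with `q = p^f` elements (`n ≥ 2`, `(n, q) ≠ (2, 2), (2, 3)`), `k` is a prime dividing `n`, `K` is a subalgebra of the `n × n` matrices that is a field of degree `k` over `F` (an extension-field structure F_{q^k} on `F^n`), and `H` is the subgroup of matrices of determinant 1 normalizing `K` — a subgroup of type GL_{n/k}(q^k) (maximal except in some small cases; maximality is not assumed); Ω is the set of cosets of `H` in `T`, so an element of `T` of prime order `r` (a matrix `x` of determinant 1 with `x^r` scalar, `x` not scalar) fixes a point of Ω when some conjugate of `x` by a matrix of determinant 1 normalizes `K`. Take `k = n > 3` prime with `n ≠ p` (so `H` is the normalizer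 of a Singer cycle), and suppose `n` divides the index of `H`. Then every element of `T` of order `n` is conjugate in `T` into `H` if and only if the multiplicative order of `q` modulo `n` is `n − 1`. -/
theorem result {F : Type*} [Field F] [Fintype F] {p : ℕ} [Fact p.Prime] [CharP F p] {q : ℕ} (hq : Fintype.card F = q)
    (n : ℕ) (hn : 2 ≤ n) (hT : (n, q) ≠ (2, 2) ∧ (n, q) ≠ (2, 3))
    (k : ℕ) (hk : k.Prime) (hkn : k ∣ n) (K : Subalgebra F (Matrix (Fin n) (Fin n) F)) (hK : Cfsg.Geo.IsFieldSubalgebra k K) (hkn' : k = n) (hn3 : 3 < n) (hnp : n ≠ p) (hΩ : n ∣ ((Cfsg.Geo.subalgebraNormalizer K).comap (Matrix.SpecialLinearGroup.toGL : Matrix.SpecialLinearGroup (Fin n) F →* GL (Fin n) F)).index) :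
    (∀ x : Matrix.SpecialLinearGroup (Fin n) F,
      (∃ z : F, ((x ^ n : Matrix.SpecialLinearGroup (Fin n) F) : Matrix (Fin n) (Fin n) F) = z • (1 : Matrix (Fin n) (Fin n) F)) →
      (∀ z : F, (x : Matrix (Fin n) (Fin n) F) ≠ z • (1 : Matrix (Fin n) (Fin n) F)) →
      ∃ P : Matrix.SpecialLinearGroup (Fin n) F, P⁻¹ * x * P ∈ ((Cfsg.Geo.subalgebraNormalizer K).comap (Matrix.SpecialLinearGroup.toGL : Matrix.SpecialLinearGroup (Fin n) F →* GL (Fin n) F))) ↔
    orderOf (q : ZMod n) = n - 1 := by
  classical
  subst hq
  subst hkn'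
  haveI : Fact k.Prime := ⟨hk⟩
  have hpp : p.Prime := Fact.out
  have hq0 : ((Fintype.card F : ℕ) : ZMod k) ≠ 0 := by
    intro h0
    rw [ZMod.natCast_eq_zero_iff] at h0
    obtain ⟨f, -, hf⟩ := FiniteField.card F p
    rw [hf] at h0
    have h1 := hk.dvd_of_dvd_pow h0
    exact hnp ((Nat.prime_dvd_prime_iff_eq hk hpp).mp h1)
  constructor
  · intro hL
    by_contra hc
    obtain ⟨x, hx1, hx2, hx3⟩ := exists_not_conj (K := K) hK hn3 hq0 hc
    obtain ⟨P, hP⟩ := hL x ⟨1, hx1⟩ hx2
    exact hx3 P hP
  · intro hord x hz hns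
    obtain ⟨z, hz⟩ := hz
    -- `z = 1`
    have hzn : z ^ k = 1 := by
      have h1 := congrArg Matrix.det hz
      rw [Matrix.det_smul, Matrix.det_one, mul_one, Fintype.card_fin] at h1
      rw [← h1]
      exact (x ^ k).2
    have hz1 : z = 1 := by
      by_contra hne
      have hz0 : z ≠ 0 := by
        intro h0
        rw [h0, zero_pow (by omega)] at hzn
        exact zero_ne_one hzn
      have h2 : orderOf (Units.mk0 z hz0) = k := by
        apply orderOf_eq_prime
        · apply Units.ext
          rw [Units.val_pow_eq_pow_val, Units.val_mk0, hzn, Units.val_one]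
        · intro h1
          apply hne
          have := congrArg Units.val h1
          simpa using this
      have h3 : k ∣ Fintype.card F - 1 := by
        rw [← h2, ← Fintype.card_units F]
        exact orderOf_dvd_card
      have h4 : ((Fintype.card F : ℕ) : ZMod k) = 1 := by
        have h5 := (ZMod.natCast_eq_zero_iff (Fintype.card F - 1) k).mpr h3
        rw [Nat.cast_sub Fintype.card_pos, Nat.cast_one, sub_eq_zero] at h5
        exact h5
      rw [h4, orderOf_one] at hord
      omega
    rw [hz1, one_smul, Matrix.SpecialLinearGroup.coe_pow] at hz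
    have hx1 : (x : Matrix (Fin k) (Fin k) F) ≠ 1 := by
      intro h1
      apply hns 1
      rw [h1, one_smul]
    exact conj_mem_of_order hK hnp (by omega) hord x hz hx1

end Cfsg.Agent.S5970
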