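import Mathlib
import Cfsg.Statements.S5971
import Cfsg.Agent.Lib.Helper9.PExt10
import Cfsg.Agent.Lib.Helper9.PExt11
import Cfsg.Agent.Lib.Helper9.PExt15

set_option autoImplicit false
open scoped MatrixGroups
open Cfsg
open Cfsg.Agent.Lib.Helper9.H9PExt

namespace Cfsg.Agent.S5971

/-- Elements of order 3 of PSL_3(q) and the normalizer of a Singer cycle. Here `T = PSL_n(F)` for a field `F` with `q = p^f` elements (`n ≥ 2`, `(n, q) ≠ (2, 2), (2, 3)`), `k` is a prime dividing `n`, `K` is a subalgebra of the `n × n` matrices that is a field of degree `k` over `F` (an extension-field structure F_{q^k} on `F^n`), and `H` is the subgroup of matrices of determinant 1 normalizing `K` — a subgroup of type GL_{n/k}(q^k) (maximal except in some small cases; maximality is not assumed); Ω is the set of cosets of `H` in `T`, so an element of `T` of prime order `r` (a matrix `x` of determinant 1 with `x^r` scalar, `x` not scalar) fixes a point of Ω when some conjugate of `x` by a matrix of determinant 1 normalizes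 `K`. Take `n = k = 3` and suppose 3 divides the index of `H`. Then every element of `T` of order 3 is conjugate in `T` into `H` if and only if `q ≡ 4, 7` or `8 (mod 9)`. -/
theorem result {F : Type*} [Field F] [Fintype F] {p : ℕ} [Fact p.Prime] [CharP F p] {q : ℕ} (hq : Fintype.card F = q)
    (n : ℕ) (hn : n = 3) (k : ℕ) (hk : k.Prime) (hkn : k ∣ n) (K : Subalgebra F (Matrix (Fin n) (Fin n) F)) (hK : Cfsg.Geo.IsFieldSubalgebra k K) (hk3 : k = 3) (hΩ : 3 ∣ ((Cfsg.Geo.subalgebraNormalizer K).comap (Matrix.SpecialLinearGroup.toGL : Matrix.SpecialLinearGroup (Fin n) F →* GL (Fin n) F)).index) :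
    (∀ x : Matrix.SpecialLinearGroup (Fin n) F,
      (∃ z : F, ((x ^ 3 : Matrix.SpecialLinearGroup (Fin n) F) : Matrix (Fin n) (Fin n) F) = z • (1 : Matrix (Fin n) (Fin n) F)) →
      (∀ z : F, (x : Matrix (Fin n) (Fin n) F) ≠ z • (1 : Matrix (Fin n) (Fin n) F)) →
      ∃ P : Matrix.SpecialLinearGroup (Fin n) F, P⁻¹ * x * P ∈ ((Cfsg.Geo.subalgebraNormalizer K).comap (Matrix.SpecialLinearGroup.toGL : Matrix.SpecialLinearGroup (Fin n) F →* GL (Fin n) F))) ↔
    (q % 9 = 4 ∨ q % 9 = 7 ∨ q % 9 = 8) := by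
  classical
  subst hn
  subst hk3
  subst hq
  have hpp : p.Prime := Fact.out
  obtain ⟨f, -, hf⟩ := FiniteField.card F p
  have hq1 : 1 ≤ Fintype.card F := Fintype.card_pos
  have hp3 : p ≠ 3 → Fintype.card F % 3 ≠ 0 := by
    intro hp3 h0
    have h1 : 3 ∣ p ^ (f : ℕ) := by
      rw [← hf]; exact Nat.dvd_of_mod_eq_zero h0
    have h2 := Nat.prime_three.dvd_of_dvd_pow h1
    exact hp3 ((Nat.prime_dvd_prime_iff_eq Nat.prime_three hpp).mp h2).symm
  have hcube : ∀ (x : Matrix.SpecialLinearGroup (Fin 3) F) (z : F),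
      ((x ^ 3 : Matrix.SpecialLinearGroup (Fin 3) F) : Matrix (Fin 3) (Fin 3) F)
        = z • (1 : Matrix (Fin 3) (Fin 3) F) → z ^ 3 = 1 := by
    intro x z hz
    have h1 := congrArg Matrix.det hz
    rw [Matrix.det_smul, Matrix.det_one, mul_one, Fintype.card_fin] at h1
    rw [← h1]
    exact (x ^ 3).2
  constructor
  · intro hL
    by_contra hc
    by_cases h3 : p = 3
    · subst h3
      obtain ⟨x, hx3, R, hxR, hR0, hRr⟩ := exists_transvection_elt (F := F)
      obtain ⟨P, hP⟩ := hL x ⟨1, hx3⟩ (not_smul_of_rank _ 1 R hxR hR0 (by omega))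
      exact not_conj_of_rank hK x 1 R hxR hR0 (by omega) P hP
    · have hq3 := hp3 h3
      have hcases : Fintype.card F % 9 = 1 ∨ (Fintype.card F % 9 = 2 ∨ Fintype.card F % 9 = 5) := by
        omega
      rcases hcases with h1 | h25
      · have h9 : 9 ∣ Fintype.card F - 1 := by omega
        obtain ⟨d, hd9, hd3⟩ := exists_order_nine h9
        obtain ⟨x, hx3, R, hxR, hR0, hRr⟩ := exists_diag_elt_nine d hd9 hd3
        obtain ⟨P, hP⟩ := hL x ⟨d ^ 3, hx3⟩ (not_smul_of_rank _ d R hxR hR0 (by omega))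
        exact not_conj_of_rank hK x d R hxR hR0 (by omega) P hP
      · exact not_three_dvd_index hK h25 hΩ
  · intro hq9 x hz hns
    obtain ⟨z, hz⟩ := hz
    have hz3 := hcube x z hz
    by_cases hq8 : Fintype.card F % 3 = 2
    · -- `q ≡ 2 (mod 3)`
      have hz1 : z = 1 := cube_eq_one_of_mod hq8 z hz3
      rw [hz1, one_smul, Matrix.SpecialLinearGroup.coe_pow] at hz
      have hx1 : (x : Matrix (Fin 3) (Fin 3) F) ≠ 1 := by
        intro h1
        apply hns 1
        rw [h1, one_smul]
      have e1 : (2 : ZMod 3) ^ 2 = 1 := by decide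
      have e2 : (2 : ZMod 3) ≠ 1 := by decide
      haveI : Fact (Nat.Prime 3) := ⟨Nat.prime_three⟩
      have hnp : 3 ≠ p := by
        intro h3
        subst h3
        have h1 : 3 ∣ Fintype.card F := by
          rw [hf]; exact dvd_pow_self 3 (PNat.ne_zero f)
        omega
      have hord : orderOf ((Fintype.card F : ℕ) : ZMod 3) = 3 - 1 := by
        have h2 : ((Fintype.card F : ℕ) : ZMod 3) = 2 := by
          rw [← ZMod.natCast_mod, hq8]; rfl
        rw [h2]
        haveI : Fact (Nat.Prime 2) := ⟨Nat.prime_two⟩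
        exact orderOf_eq_prime e1 e2
      exact conj_mem_of_order hK hnp (by norm_num) hord x hz hx1
    · -- `q ≡ 4, 7 (mod 9)`
      have h3 : 3 ∣ Fintype.card F - 1 := by omega
      have h9 : ¬ 9 ∣ Fintype.card F - 1 := by omega
      obtain ⟨ω, hω1, hω⟩ := exists_prim_cube_root h3
      have hz1 : z = 1 := by
        by_contra hne
        have hnc := not_cube_of_not_nine h9 z hz3 hne
        rw [Matrix.SpecialLinearGroup.coe_pow] at hz
        have hdet := det_of_cube_eq (x : Matrix (Fin 3) (Fin 3) F) z hnc hz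
        rw [x.2] at hdet
        exact hne hdet.symm
      rw [hz1, one_smul, Matrix.SpecialLinearGroup.coe_pow] at hz
      exact conj_mem_of_cube hK ω hω1 hω x hz hns

end Cfsg.Agent.S5971
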