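import Cfsg.Statements.S5972
import Cfsg.Agent.Lib.Helper2.OrthElJ
import Cfsg.Agent.Lib.Helper2.OrthElQ
import Cfsg.Agent.Lib.Helper2.OrthElX

set_option autoImplicit false
open scoped MatrixGroups
open Cfsg

namespace Cfsg.Agent.S5972

/-- Elements of prime order of Ω_n(q), n = 2d+1 ≥ 7, q odd, with no fixed totally singular `m`-space. Here `T = Ω_n(q)` is realised as the commutator subgroup of the isometry group of the quadratic form `x₀² + Σ xᵢyᵢ` over the field `F` with `q` elements (it has trivial centre, so its elements of prime order `r` are used directly); let `1 ≤ m ≤ d` and let `r` be a prime dividing the number of totally singular `m`-spaces. For `r ≠ p` let `i` be the multiplicative order of `q` modulo `r`, `c = i` for `i` even and `c = 2i` for `i` odd, and write `k = n mod c`, `ℓ = m mod i`, `n' = ⌊n/i⌋`, `m' = ⌊m/i⌋`, `t = (r−1)/i`. Then every element of `T` of order `r` fixes some totally singular `m`-space if and only if either (i) `r = 2` and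 (`m < (n−1)/2` or `q ≡ 1 (mod 4)`); or (ii) `r ≠ p` is odd, `i ≤ m`, `k > 2ℓ`, and (`i` is odd or `n' − 2m' ≥ t`). -/
theorem result {F : Type*} [Field F] [Fintype F] {p : ℕ} [Fact p.Prime] [CharP F p] {q : ℕ} (hq : Fintype.card F = q) (hqodd : Odd q)
    (d m : ℕ) (hd : 3 ≤ d) (hm : 1 ≤ m) (hmd : m ≤ d)
    (r : ℕ) [Fact r.Prime]
    (hrΩ : r ∣ Nat.card {W : Submodule F (Unit ⊕ (Fin d ⊕ Fin d) → F) // Module.finrank F ↥W = m ∧ (∀ w ∈ W, Cfsg.quadFormOdd d F w = 0)})
    (i c : ℕ) (hi : i = orderOf (q : ZMod r)) (hc : c = if Even i then i else 2 * i) :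
    (∀ x : GL (Unit ⊕ (Fin d ⊕ Fin d)) F, x ∈ Cfsg.Geo.omegaGL (Cfsg.quadFormOdd d F) → orderOf x = r →
      ∃ W : Submodule F (Unit ⊕ (Fin d ⊕ Fin d) → F), Module.finrank F ↥W = m ∧ (∀ w ∈ W, Cfsg.quadFormOdd d F w = 0) ∧
        W.map (Matrix.toLin' (x : Matrix (Unit ⊕ (Fin d ⊕ Fin d)) (Unit ⊕ (Fin d ⊕ Fin d)) F)) ≤ W) ↔
    ((r = 2 ∧ (m < d ∨ q % 4 = 1)) ∨
     (r ≠ p ∧ 2 < r ∧ i ≤ m ∧ 2 * (m % i) < (2 * d + 1) % c ∧ (Odd i ∨ (r - 1) / i + 2 * (m / i) ≤ (2 * d + 1) / i))) := by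
  open Cfsg.Agent.Lib.Helper2.OrthEl Cfsg.Agent.Lib.Helper2.OrthCard in
  subst hq
  subst hi
  subst hc
  have h2 : (2 : F) ≠ 0 := two_ne_zero_of_odd_card hqodd
  have hQ := QOd_nondeg (F := F) h2 d
  rw [← QOd_coe] at hrΩ
  constructor
  · intro hall
    have hr := (Fact.out : r.Prime)
    rcases Nat.lt_or_ge 2 r with hr2 | hr2
    · right
      have hrp : r ≠ p := by
        intro h
        subst h
        exact not_char_dvd_card_ts hqodd hQ d (finrank_odd_space d) m hmd hrΩ
      obtain ⟨j, hjm, hj⟩ := exists_dvd_of_dvd_card_ts hqodd hQ d (finrank_odd_space d) m hmd hr hrΩ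
      have hβ := mod_lt_of_dvd (Fintype.card F) r d m j Fintype.card_pos hjm hmd hj
      obtain ⟨h1, h3, h4⟩ := nec_odd hqodd d m (by omega) hmd r hrp hr2 hβ hall
      exact ⟨hrp, hr2, h1, h3, h4⟩
    · left
      have hr2' : r = 2 := le_antisymm hr2 hr.two_le
      refine ⟨hr2', ?_⟩
      by_contra hcon
      rw [not_or] at hcon
      obtain ⟨hcon1, hcon2⟩ := hcon
      have hmd' : m = d := by omega
      have h43 : Fintype.card F % 4 = 3 := by
        obtain ⟨k, hk⟩ := hqodd
        omega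
      obtain ⟨x, hmem, hord, hno⟩ := exists_bad_two hqodd d (by omega) h43
      obtain ⟨W, hdim, hts, hmap⟩ := hall x hmem (hord.trans hr2'.symm)
      have := hno W hts hmap
      omega
  · rintro (⟨hr2, hcase⟩ | ⟨hrp, hr2, him, hk, ht⟩)
    · intro x hx hord
      have hx2 : x ^ 2 = 1 := by
        rw [← hr2, ← hord]
        exact pow_orderOf_eq_one x
      exact exists_of_two hqodd d m hmd hcase x hx hx2
    · intro x hx hord
      have hxr : x ^ r = 1 := by
        rw [← hord]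
        exact pow_orderOf_eq_one x
      exact exists_of_odd hqodd d m hmd r hrp hr2 him hk ht x (mem_iso_of_mem_omegaGL hx) hxr

end Cfsg.Agent.S5972
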