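import Cfsg.Statements.S5973
import Cfsg.Agent.Lib.Helper7.TSO_BR
import Cfsg.Agent.Lib.Helper7.TSO_R2P
import Cfsg.Agent.Lib.Lead.TSO_CNT
import Cfsg.Agent.Lib.Lead.TSO_ARITH
import Cfsg.Agent.Lib.Helper2.QuadStd

set_option autoImplicit false
open scoped MatrixGroups
open Cfsg

namespace Cfsg.Agent.S5973

open Module QuadraticMap Polynomial
open Cfsg.Agent.Lib.Helper5.OrthCls (IsPlus)
open Cfsg.Agent.Lib.Helper7.TSO
open Cfsg.Agent.Lib.Helper5.QuadGlue Cfsg.Agent.Lib.Helper2.QuadStd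

/-- Elements of prime order of PΩ⁺_n(q), n = 2d ≥ 8, with no fixed totally singular `m`-space, `m < n/2`. Here `T = PΩ⁺_n(q)` is realised through `Ω⁺_n(q)`, the commutator subgroup of the isometry group of the quadratic form `Σ xᵢyᵢ` over the field `F` with `q` elements; an element of `T` of prime order `r` is an element `x` of `Ω⁺_n(q)` with `x^r` scalar and `x` not scalar. Let `1 ≤ m < d` and let `r` be a prime dividing the number of totally singular `m`-spaces. For `r ≠ p` let `i` be the multiplicative order of `q` modulo `r`, `c = i` for `i` even and `c = 2i` for `i` odd, and write `k = n mod c`, `ℓ = m mod i`, `n' = ⌊n/i⌋`, `m' = ⌊m/i⌋`, `t = (r−1)/i`. Then every element of `T` of order `r` fixes some totally singular `m`-space if and only if one of: (i) `r = 2 ≠ p` and either `q ≡ 1 (mod 4)`, or `q ≡ 3 (mod 4)`, `m ≤ n/2 − 2` and (`m` even or `n ≡ 2 (mod 4)`); (ii) `r ≠ p` odd, `i` odd, `i ≤ m` and `k ≥ 2ℓ`; (iii)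 `r ≠ p` odd, `i` even, `i ≤ m`, `n' − 2m' ≥ t`, and one of: `i ≥ 2ℓ`, `k = 0`, `n/i` odd and `n' − 2m' > t`; or `k ≥ 2ℓ` and `n'` even; or `k > 2ℓ` and `n'` odd. -/
theorem result {F : Type*} [Field F] [Fintype F] {p : ℕ} [Fact p.Prime] [CharP F p] {q : ℕ} (hq : Fintype.card F = q)
    (d m : ℕ) (hd : 4 ≤ d) (hm : 1 ≤ m) (hmd : m < d)
    (r : ℕ) [Fact r.Prime]
    (hrΩ : r ∣ Nat.card {W : Submodule F (Fin d ⊕ Fin d → F) // Module.finrank F ↥W = m ∧ (∀ w ∈ W, Cfsg.quadFormPlus d F w = 0)})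
    (i c : ℕ) (hi : i = orderOf (q : ZMod r)) (hc : c = if Even i then i else 2 * i) :
    (∀ x : GL (Fin d ⊕ Fin d) F, x ∈ Cfsg.Geo.omegaGL (Cfsg.quadFormPlus d F) →
      (∃ z : F, ((x ^ r : GL (Fin d ⊕ Fin d) F) : Matrix (Fin d ⊕ Fin d) (Fin d ⊕ Fin d) F) = z • (1 : Matrix (Fin d ⊕ Fin d) (Fin d ⊕ Fin d) F)) →
      (∀ z : F, (x : Matrix (Fin d ⊕ Fin d) (Fin d ⊕ Fin d) F) ≠ z • (1 : Matrix (Fin d ⊕ Fin d) (Fin d ⊕ Fin d) F)) →
      ∃ W : Submodule F (Fin d ⊕ Fin d → F), Module.finrank F ↥W = m ∧ (∀ w ∈ W, Cfsg.quadFormPlus d F w = 0) ∧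
        W.map (Matrix.toLin' (x : Matrix (Fin d ⊕ Fin d) (Fin d ⊕ Fin d) F)) ≤ W) ↔
    ((r = 2 ∧ p ≠ 2 ∧ (q % 4 = 1 ∨ (q % 4 = 3 ∧ m + 2 ≤ d ∧ (Even m ∨ (2 * d) % 4 = 2)))) ∨
     (r ≠ p ∧ 2 < r ∧ Odd i ∧ i ≤ m ∧ 2 * (m % i) ≤ (2 * d) % c) ∨
     (r ≠ p ∧ 2 < r ∧ Even i ∧ i ≤ m ∧ (r - 1) / i + 2 * (m / i) ≤ (2 * d) / i ∧
       ((2 * (m % i) ≤ i ∧ (2 * d) % c = 0 ∧ Odd ((2 * d) / i) ∧ (r - 1) / i + 2 * (m / i) < (2 * d) / i) ∨
        (2 * (m % i) ≤ (2 * d) % c ∧ Even ((2 * d) / i)) ∨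
        (2 * (m % i) < (2 * d) % c ∧ Odd ((2 * d) / i))))) := by
  subst hq
  subst hi
  have hr := (Fact.out : r.Prime)
  have hp := (Fact.out : p.Prime)
  have hQ := QP_nondeg (F := F) d
  have hplus : IsPlus (QP d F) := Cfsg.Agent.Lib.Helper5.OrthCls.isPlus_QP d
  have hfr : finrank F (Fin d ⊕ Fin d → F) = 2 * d := by
    rw [Module.finrank_fintype_fun_eq_card, Fintype.card_sum, Fintype.card_fin]; ring
  have hcardι : Fintype.card (Fin d ⊕ Fin d) = 2 * d := by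
    rw [Fintype.card_sum, Fintype.card_fin]; ring
  have hrΩ' : r ∣ Nat.card {W : Submodule F (Fin d ⊕ Fin d → F) //
      finrank F W = m ∧ ∀ w ∈ W, (QP d F) w = 0} := by
    simpa only [QP_apply] using hrΩ
  -- `r ≠ p`
  have hrp : r ≠ p := by
    rintro rfl
    exact not_char_dvd_card_ts_even (QP d F) hQ d hfr m hmd hrΩ'
  rcases Nat.lt_or_ge 2 r with hr2 | hr2
  · -- odd `r`
    have hrow := row_odd_iff (p := p) (QP d F) hQ (by rw [hcardι]; omega)
      (by rw [hcardι]; exact ⟨d, by ring⟩) r hrp hr2 m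
    rw [hcardι] at hrow
    simp only [QP_apply] at hrow
    rw [QP_coe] at hrow
    rw [hrow]
    set i := orderOf ((Fintype.card F : ℕ) : ZMod r) with hi
    have hi0 : 0 < i := by
      apply orderOf_pos_iff.2
      apply isOfFinOrder_iff_pow_eq_one.2
      refine ⟨r - 1, by have := hr.two_le; omega, ?_⟩
      apply ZMod.pow_card_sub_one_eq_one
      intro h0
      rw [ZMod.natCast_eq_zero_iff] at h0
      obtain ⟨n, -, hn⟩ := FiniteField.card F p
      rw [hn] at h0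
      exact hrp ((Nat.prime_dvd_prime_iff_eq hr hp).1 (hr.dvd_of_dvd_pow h0))
    have hidvd : i ∣ r - 1 := by
      apply orderOf_dvd_of_pow_eq_one
      apply ZMod.pow_card_sub_one_eq_one
      intro h0
      rw [ZMod.natCast_eq_zero_iff] at h0
      obtain ⟨n, -, hn⟩ := FiniteField.card F p
      rw [hn] at h0
      exact hrp ((Nat.prime_dvd_prime_iff_eq hr hp).1 (hr.dvd_of_dvd_pow h0))
    have ht1 : 1 ≤ (r - 1) / i := by
      have : i ≤ r - 1 := Nat.le_of_dvd (by omega) hidvd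
      exact (Nat.one_le_div_iff hi0).2 this
    obtain ⟨j, hjm, hj⟩ := cnt_plus (QP d F) hQ hplus d hfr m hmd r hrp (by omega) hrΩ'
    rw [← hi] at hj
    rcases Nat.even_or_odd i with hev | hod
    · have hc' : c = i := by rw [hc, if_pos hev]
      have hcnt : ∃ j, j < m ∧ (i ∣ d - j ∨ (d - j - 1) % i = i / 2) := by
        refine ⟨j, hjm, ?_⟩
        rcases hj with h | h
        · exact Or.inl h
        · exact Or.inr h.2
      rw [arith_plus_even _ hplus d m i _ hev hi0 ht1 hm hmd hcnt, hc']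
      constructor
      · rintro ⟨h1, h2, h3⟩
        right; right
        exact ⟨hrp, hr2, hev, h1, h2, h3⟩
      · rintro (⟨h1, -⟩ | ⟨-, -, h1, -⟩ | ⟨-, -, -, h1, h2, h3⟩)
        · omega
        · exact absurd hev (Nat.not_even_iff_odd.2 h1)
        · exact ⟨h1, h2, h3⟩
    · have hc' : c = 2 * i := by rw [hc, if_neg (Nat.not_even_iff_odd.2 hod)]
      have hcnt : ∃ j, j < m ∧ i ∣ d - j := by
        refine ⟨j, hjm, ?_⟩
        rcases hj with h | h
        · exact h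
        · exact absurd h.1 (Nat.not_even_iff_odd.2 hod)
      rw [arith_plus_odd _ hplus d m i _ hod hm hmd hcnt, hc']
      constructor
      · rintro ⟨h1, h2⟩
        right; left
        exact ⟨hrp, hr2, hod, h1, h2⟩
      · rintro (⟨h1, -⟩ | ⟨-, -, -, h1, h2⟩ | ⟨-, -, h1, -⟩)
        · omega
        · exact ⟨h1, h2⟩
        · exact absurd h1 (Nat.not_even_iff_odd.2 hod)
  · -- `r = 2`
    have hr2' : r = 2 := le_antisymm hr2 hr.two_le
    subst hr2'
    have hp2 : p ≠ 2 := fun h => hrp h.symm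
    have hodd : Odd (Fintype.card F) := by
      obtain ⟨n, -, hn⟩ := FiniteField.card F p
      rw [hn]
      exact Odd.pow (hp.odd_of_ne_two hp2)
    rw [two_plus hodd d m hd hm hmd]
    constructor
    · intro h
      left
      exact ⟨rfl, hp2, h⟩
    · rintro (⟨-, -, h⟩ | ⟨-, h, -⟩ | ⟨-, h, -⟩)
      · exact h
      · omega
      · omega

end Cfsg.Agent.S5973
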