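import Cfsg.Statements.S5974
import Cfsg.Agent.Lib.Helper2.OrthCfL

set_option autoImplicit false
open scoped MatrixGroups
open Cfsg

namespace Cfsg.Agent.S5974

/-- Elements of prime order of PΩ⁺_n(q), n = 2d ≥ 8, with no fixed nondegenerate hyperbolic `m`-space. Here `T = PΩ⁺_n(q)` is realised through `Ω⁺_n(q)`, the commutator subgroup of the isometry group of `Q = Σ xᵢyᵢ` over the field `F` with `q` elements; an element of `T` of prime order `r` is an element `x` of `Ω⁺_n(q)` with `x^r` scalar and `x` not scalar. A hyperbolic `m`-space is a subspace `W` of even dimension `m` on which the polar form of `Q` is nondegenerate and which contains a totally singular subspace of dimension `m/2`. Let `m` be even with `2 ≤ m < n/2`, and let `r` be a prime dividing the number of hyperbolic `m`-spaces, with `r = 2` or `r ≠ p`. For `r ≠ p` let `i` be the multiplicative order of `q` modulo `r`, `c = i` for `i` even and `c = 2i` for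 `i` odd, and write `k = n mod c`, `ℓ' = m mod c`. Then every element of `T` of order `r` fixes some hyperbolic `m`-space if and only if one of: (i) `r = 2` and (`n ≡ 2 (mod 4)`, or `m ≡ 0 (mod 4)`, or `q ≡ 1 (mod 4)`); (ii) `r ≠ p` odd, `i` odd, `c ≤ m` and `k ≥ ℓ'`; (iii) `r ≠ p` odd, `i` even, and either `k = 0` and (`n/i` odd, or `ℓ' = 0` and `m/i` even), or `i ≤ m` and (`k > ℓ' > 0`, or `k = ℓ' > 0` and `(n + m − 2k)/i` even, or `k > ℓ' = 0` and `m/i` even). -/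
theorem result {F : Type*} [Field F] [Fintype F] {p : ℕ} [Fact p.Prime] [CharP F p] {q : ℕ} (hq : Fintype.card F = q)
    (d m : ℕ) (hd : 4 ≤ d) (hm : 2 ≤ m) (hme : Even m) (hmd : m < d)
    (r : ℕ) [Fact r.Prime] (hr : r = 2 ∨ r ≠ p)
    (hrΩ : r ∣ Nat.card {W : Submodule F (Fin d ⊕ Fin d → F) // (Module.finrank F ↥W = m ∧ (∀ u ∈ W, u ≠ 0 → ∃ v ∈ W, QuadraticMap.polar (Cfsg.quadFormPlus d F) u v ≠ 0) ∧
          ∃ U : Submodule F (Fin d ⊕ Fin d → F), U ≤ W ∧ 2 * Module.finrank F ↥U = m ∧ ∀ u ∈ U, Cfsg.quadFormPlus d F u = 0)})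
    (i c : ℕ) (hi : i = orderOf (q : ZMod r)) (hc : c = if Even i then i else 2 * i) :
    (∀ x : GL (Fin d ⊕ Fin d) F, x ∈ Cfsg.Geo.omegaGL (Cfsg.quadFormPlus d F) →
      (∃ z : F, ((x ^ r : GL (Fin d ⊕ Fin d) F) : Matrix (Fin d ⊕ Fin d) (Fin d ⊕ Fin d) F) = z • (1 : Matrix (Fin d ⊕ Fin d) (Fin d ⊕ Fin d) F)) →
      (∀ z : F, (x : Matrix (Fin d ⊕ Fin d) (Fin d ⊕ Fin d) F) ≠ z • (1 : Matrix (Fin d ⊕ Fin d) (Fin d ⊕ Fin d) F)) →
      ∃ W : Submodule F (Fin d ⊕ Fin d → F), (Module.finrank F ↥W = m ∧ (∀ u ∈ W, u ≠ 0 → ∃ v ∈ W, QuadraticMap.polar (Cfsg.quadFormPlus d F) u v ≠ 0) ∧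
          ∃ U : Submodule F (Fin d ⊕ Fin d → F), U ≤ W ∧ 2 * Module.finrank F ↥U = m ∧ ∀ u ∈ U, Cfsg.quadFormPlus d F u = 0) ∧
        W.map (Matrix.toLin' (x : Matrix (Fin d ⊕ Fin d) (Fin d ⊕ Fin d) F)) ≤ W) ↔
    ((r = 2 ∧ ((2 * d) % 4 = 2 ∨ m % 4 = 0 ∨ q % 4 = 1)) ∨
     (r ≠ p ∧ 2 < r ∧ Odd i ∧ c ≤ m ∧ m % c ≤ (2 * d) % c) ∨
     (r ≠ p ∧ 2 < r ∧ Even i ∧
       (((2 * d) % c = 0 ∧ (Odd ((2 * d) / i) ∨ (m % c = 0 ∧ Even (m / i)))) ∨
        (i ≤ m ∧ ((m % c < (2 * d) % c ∧ 0 < m % c) ∨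
                  ((2 * d) % c = m % c ∧ 0 < m % c ∧ Even ((2 * d + m - 2 * ((2 * d) % c)) / i)) ∨
                  (0 < (2 * d) % c ∧ m % c = 0 ∧ Even (m / i))))))) := by
  classical
  have hi' : i = orderOf ((Fintype.card F : ℕ) : ZMod r) := by rw [hq]; exact hi
  obtain ⟨a, ha⟩ := hme
  have hma : m = 2 * a := by omega
  have hrΩ' : r ∣ Nat.card (Cfsg.Agent.Lib.Helper2.OrthCf.TySub
      (Cfsg.Agent.Lib.Helper5.QuadGlue.QP d F) m True) := by
    rw [← Nat.card_congr (Equiv.subtypeEquivRight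
      (Cfsg.Agent.Lib.Helper2.OrthCf.key_plus (F := F) d m))]
    exact hrΩ
  simp only [Cfsg.Agent.Lib.Helper2.OrthCf.key_plus]
  rw [← Cfsg.Agent.Lib.Helper2.QuadStd.QP_coe]
  have hrpr : r.Prime := Fact.out
  by_cases hr2 : r = 2
  · subst hr2
    rw [Cfsg.Agent.Lib.Helper2.OrthCf.core_two_plus d m a hd hma (by omega) hmd, hq]
    constructor
    · intro h
      left
      exact ⟨rfl, h⟩
    · rintro (⟨-, h⟩ | ⟨-, h, -⟩ | ⟨-, h, -⟩)
      · exact h
      · omega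
      · omega
  · have hrp : r ≠ p := by
      rcases hr with h | h
      · exact absurd h hr2
      · exact h
    have hr3 : 2 < r := by
      have := hrpr.two_le
      omega
    have hi1 : 1 ≤ i := by
      rw [hi']
      exact Cfsg.Agent.Lib.Helper9.H9Elus.order_pos (F := F) r hrp
    rw [Cfsg.Agent.Lib.Helper2.OrthCf.core_even (Cfsg.Agent.Lib.Helper5.QuadGlue.QP d F)
      (Cfsg.Agent.Lib.Helper2.QuadStd.QP_nondeg d) d m (by omega)
      (by simp only [Fintype.card_sum, Fintype.card_fin]; ring) (by omega) ⟨a, ha⟩ (by omega) r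
      hrp hr2 True True
      (iff_of_true (Cfsg.Agent.Lib.Helper5.OrthCls.isPlus_QP d) trivial) hrΩ' i c hi' hc,
      Cfsg.Agent.Lib.Helper2.OrthCf.arith_S5974 i c d m hi1 hc (by omega)]
    constructor
    · rintro (h | h)
      · right
        left
        exact ⟨hrp, hr3, h⟩
      · right
        right
        exact ⟨hrp, hr3, h⟩
    · rintro (⟨h, -⟩ | ⟨-, -, h⟩ | ⟨-, -, h⟩)
      · exact absurd h hr2
      · left
        exact h
      · right
        exact h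

end Cfsg.Agent.S5974
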