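import Cfsg.Statements.S5979
import Cfsg.Agent.Lib.Helper9.TensK6

set_option autoImplicit false
open scoped MatrixGroups
open Cfsg
open Module
open Cfsg.Agent.H9SemiInv
open Cfsg.Agent.Lib.Helper9.H9Elus
open Cfsg.Agent.Lib.Helper9.H9GSpInv
open Cfsg.Agent.Lib.Helper9.H9TK

namespace Cfsg.Agent.S5979

/-- Elements of prime order of PSL_n(q) and the stabilizers of tensor decompositions with factors of different dimensions. Here `T = PSL_n(F)` for a field `F` with `q` elements and `n = a·b` with `2 ≤ a < b`; a tensor decomposition `F^n ≅ F^a ⊗ F^b` is given by a bijection `e` of index sets and a change of basis `P`, and `H` is the subgroup of matrices of determinant 1 in its stabilizer (the conjugate by `P` of the group of Kronecker products `g₁ ⊗ g₂`) — a subgroup of type GL_a(q) ⊗ GL_b(q) (maximality is not assumed); Ω is the set of cosets of `H` in `T`, so an element of `T` of prime order `r` (a matrix `x` of determinant 1 with `x^r` scalar, `x` not scalar) fixes a point of Ω exactly when some conjugate of `x` by a matrix of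 determinant 1 lies in `H`. Let `r` be a prime dividing the index of `H`. Then every element of `T` of order `r` fixes a point of Ω if and only if `r = 2`, `a = 2`, `q` is odd and `(q − 1)_2 ≤ (n)_2` (2-parts). -/
theorem result {F : Type*} [Field F] [Fintype F] {p : ℕ} [Fact p.Prime] [CharP F p] {q : ℕ} (hq : Fintype.card F = q)
    (n a b : ℕ) (hab : n = a * b) (ha : 2 ≤ a) (hlt : a < b) (e : Fin n ≃ Fin a × Fin b) (P : GL (Fin n) F)
    (r : ℕ) [Fact r.Prime]
    (hΩ : r ∣ (Cfsg.Geo.tensorProductSubgroup a b e P).relIndex (Cfsg.Geo.specialLinear (Fin n) F)) :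
    (∀ x ∈ Cfsg.Geo.specialLinear (Fin n) F, (∃ z : F, ((x ^ r : GL (Fin n) F) : Matrix (Fin n) (Fin n) F) = z • (1 : Matrix (Fin n) (Fin n) F)) →
      (∀ z : F, (x : Matrix (Fin n) (Fin n) F) ≠ z • (1 : Matrix (Fin n) (Fin n) F)) →
      ∃ g ∈ Cfsg.Geo.specialLinear (Fin n) F, g⁻¹ * x * g ∈ Cfsg.Geo.tensorProductSubgroup a b e P) ↔
    (r = 2 ∧ a = 2 ∧ Odd q ∧ padicValNat 2 (q - 1) ≤ padicValNat 2 n) := by
  classical
  subst hq
  have hp : p.Prime := Fact.out
  have hr : r.Prime := Fact.out
  have hb3 : 3 ≤ b := by omega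
  have hn6 : 6 ≤ n := by subst hab; nlinarith
  have hn0 : n ≠ 0 := by omega
  have hfrV : finrank F (Fin n → F) = n := by simp
  have h01 : (⟨0, by omega⟩ : Fin n) ≠ ⟨1, by omega⟩ := by
    intro h; simpa using congrArg Fin.val h
  have h02 : (⟨0, by omega⟩ : Fin n) ≠ ⟨2, by omega⟩ := by
    intro h; simpa using congrArg Fin.val h
  have h12 : (⟨1, by omega⟩ : Fin n) ≠ ⟨2, by omega⟩ := by
    intro h; simpa using congrArg Fin.val h
  constructor
  · intro hL
    -- every suitable matrix is a Kronecker product in suitable coordinates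
    have key : ∀ M : Matrix (Fin n) (Fin n) F, M.det = 1 → (∃ z : F, M ^ r = z • 1) →
        (∀ z : F, M ≠ z • 1) → IsKron a b (Matrix.toLin' M) := by
      intro M hdet hpow hns
      set x : GL (Fin n) F :=
        Matrix.GeneralLinearGroup.mkOfDetNeZero M (by rw [hdet]; exact one_ne_zero) with hx
      have hxc : (x : Matrix (Fin n) (Fin n) F) = M := rfl
      have hxmem : x ∈ Cfsg.Geo.specialLinear (Fin n) F := by
        change Matrix.GeneralLinearGroup.det x = 1
        apply Units.ext
        rw [Matrix.GeneralLinearGroup.val_det_apply, hxc, hdet, Units.val_one]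
      obtain ⟨g, -, hg⟩ := hL x hxmem
        (by rw [Units.val_pow_eq_pow_val, hxc]; exact hpow) (by rw [hxc]; exact hns)
      have := isKron_of_conj_mem e P x g hg
      rwa [hxc] at this
    -- scalar conclusion in matrix form
    have scal : ∀ M : Matrix (Fin n) (Fin n) F, (∃ c : F, Matrix.toLin' M = c • 1) →
        ∃ c : F, M = c • 1 := by
      rintro M ⟨c, hc⟩
      refine ⟨c, ?_⟩
      have := congrArg LinearMap.toMatrix' hc
      rwa [LinearMap.toMatrix'_toLin', map_smul, LinearMap.toMatrix'_one] at this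
    have hrp : r ≠ p := by
      rintro rfl
      have hk := key (Matrix.transvection ⟨0, by omega⟩ ⟨1, by omega⟩ (1 : F))
        (Matrix.det_transvection_of_ne _ _ h01 _)
        ⟨1, by rw [transvection_pow_char r _ _ h01, one_smul]⟩
        (transvection_ne_smul _ _ h01)
      have hfix := transvection_fixed (F := F) (⟨0, by omega⟩ : Fin n) ⟨1, by omega⟩
      obtain ⟨c, hc⟩ := scal _ (hk.scalar_of_large 1 (by rw [← hab]; omega) (by rw [← hab]; omega))
      exact transvection_ne_smul _ _ h01 c hc
    by_cases hr2 : r = 2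
    · subst hr2
      have hp2 : p ≠ 2 := fun h => hrp h.symm
      have h2 : (2 : F) ≠ 0 := by
        intro h2
        have := (CharP.cast_eq_zero_iff F p 2).mp (by exact_mod_cast h2)
        exact hp2 ((Nat.prime_dvd_prime_iff_eq hp Nat.prime_two).mp this)
      have hm1 : (-1 : F) ≠ 1 := by
        intro h
        apply h2
        linear_combination -h
      refine ⟨rfl, ?_, ?_, ?_⟩
      · by_contra ha2
        have ha3 : 3 ≤ a := by omega
        have hk := key (Matrix.diagonal (dvec (-1 : F) (-1) ⟨0, by omega⟩ ⟨1, by omega⟩))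
          (by rw [det_diagonal_dvec]; ring)
          ⟨1, by rw [diagonal_dvec_pow _ _ _ _ 2 (by ring) (by ring), one_smul]⟩
          (diagonal_dvec_ne_smul _ _ hm1 _ _ ⟨2, by omega⟩ h01 h02 h12)
        have hfix := diagonal_dvec_fixed (-1 : F) (-1) (⟨0, by omega⟩ : Fin n) ⟨1, by omega⟩
        obtain ⟨c, hc⟩ := scal _ (hk.scalar_of_large 1 (by rw [← hab]; omega)
          (by rw [← hab]; omega))
        exact diagonal_dvec_ne_smul _ _ hm1 _ _ ⟨2, by omega⟩ h01 h02 h12 c hc
      · rw [Nat.odd_iff]
        apply FiniteField.odd_card_of_char_ne_two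
        rw [ringChar.eq F p]
        exact hp2
      · by_contra hv
        push Not at hv
        obtain ⟨d, hd0, hd⟩ := exists_pow_eq_neg_one (F := F) n hn0 hv
        have hk := key (pseudoRefl d ⟨0, by omega⟩)
          (by rw [det_pseudoRefl, hd, neg_neg])
          ⟨d ^ 2, by rw [pow_two]; exact pseudoRefl_sq d _⟩
          (fun z => pseudoRefl_ne_smul d hd0 h2 _ _ h01 z)
        have hfix := pseudoRefl_fixed d (⟨0, by omega⟩ : Fin n)
        obtain ⟨c, hc⟩ := scal _ (hk.scalar_of_large d (by rw [← hab]; omega)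
          (by rw [← hab]; omega))
        exact pseudoRefl_ne_smul d hd0 h2 _ _ h01 c hc
    · exfalso
      have hipos := order_pos (F := F) r hrp
      by_cases hi1 : orderOf ((Fintype.card F : ℕ) : ZMod r) = 1
      · have hd := (orderOf_eq_one_iff_dvd r (Fintype.card F) Fintype.card_pos).mp hi1
        obtain ⟨ζ, hζ0, hζ⟩ := exists_orderOf_eq (F := F) r hd
        have hζr : ζ ^ r = 1 := by rw [← hζ]; exact pow_orderOf_eq_one ζ
        have hζ1 : ζ ≠ 1 := by
          rintro rfl
          rw [orderOf_one] at hζ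
          exact hr.one_lt.ne hζ
        have hζi : ζ⁻¹ ≠ ζ := by
          intro h
          have h1 : ζ ^ 2 = 1 := by
            rw [pow_two]
            nth_rewrite 1 [← h]
            exact inv_mul_cancel₀ hζ0
          have h2 := orderOf_dvd_of_pow_eq_one h1
          rw [hζ] at h2
          exact hr2 ((Nat.prime_dvd_prime_iff_eq hr Nat.prime_two).mp h2)
        have hk := key (Matrix.diagonal (dvec ζ ζ⁻¹ ⟨0, by omega⟩ ⟨1, by omega⟩))
          (by rw [det_diagonal_dvec, mul_inv_cancel₀ hζ0])
          ⟨1, by rw [diagonal_dvec_pow _ _ _ _ r hζr (by rw [inv_pow, hζr, inv_one]), one_smul]⟩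
          (diagonal_dvec_ne_smul _ _ hζ1 _ _ ⟨2, by omega⟩ h01 h02 h12)
        have hfix := diagonal_dvec_fixed ζ ζ⁻¹ (⟨0, by omega⟩ : Fin n) ⟨1, by omega⟩
        obtain ⟨h, hrep⟩ := hk.isRep_of_large 1 (by rw [← hab]; omega)
        exact hrep.not_eigen_one ha ζ (diagonal_dvec_eigen ζ ζ⁻¹ hζ1 hζi _ _ h01)
      · have hi2 : 2 ≤ orderOf ((Fintype.card F : ℕ) : ZMod r) := by omega
        have hin : orderOf ((Fintype.card F : ℕ) : ZMod r) ≤ n := by
          apply order_le_of_dvd_card_GL r hrp n
          exact (hΩ.trans (Subgroup.relIndex_dvd_card _ _)).trans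
            (Subgroup.card_subgroup_dvd_card _)
        obtain ⟨x, hxr, hxns, hxfix⟩ := model_single (F := F) r hrp n hi2 hin
        have hk := key (x : Matrix (Fin n) (Fin n) F) x.2
          ⟨1, by rw [← Matrix.SpecialLinearGroup.coe_pow, hxr, one_smul]⟩ hxns
        have hrep : ∃ h : (Fin b → F) →ₗ[F] (Fin b → F),
            IsRep a h (Matrix.toLin' (x : Matrix (Fin n) (Fin n) F)) := by
          by_cases hib : orderOf ((Fintype.card F : ℕ) : ZMod r) < b
          · exact hk.isRep_of_large 1 (by rw [← hab]; omega)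
          · apply IsKron.isRep_of_lt_order r hrp (by omega) (by omega) (by omega) hk
            rw [← Matrix.toLin'_pow, ← Matrix.SpecialLinearGroup.coe_pow, hxr, Matrix.toLin'_one]
            rfl
        obtain ⟨h, hrep⟩ := hrep
        apply hrep.not_single r hrp ha
        · rw [← Matrix.toLin'_pow, ← Matrix.SpecialLinearGroup.coe_pow, hxr, Matrix.toLin'_one]
          rfl
        · intro h1
          apply hxns 1
          have := congrArg LinearMap.toMatrix' h1
          rwa [LinearMap.toMatrix'_toLin', LinearMap.toMatrix'_one, ← one_smul F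
            (1 : Matrix (Fin n) (Fin n) F)] at this
        · rw [hfrV]; exact hxfix
  · rintro ⟨rfl, rfl, hodd, hv⟩ x hxmem hx hns
    obtain ⟨z, hz⟩ := hx
    haveI : Nonempty (Fin n) := ⟨⟨0, by omega⟩⟩
    set t := Matrix.toLin' (x : Matrix (Fin n) (Fin n) F) with ht
    have hdetx : (x : Matrix (Fin n) (Fin n) F).det = 1 := by
      have h1 : Matrix.GeneralLinearGroup.det x = 1 := hxmem
      have h2 := congrArg Units.val h1
      rwa [Matrix.GeneralLinearGroup.val_det_apply, Units.val_one] at h2
    have ht2 : t ^ 2 = z • 1 := by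
      rw [ht, ← Matrix.toLin'_pow, ← Units.val_pow_eq_pow_val, hz, map_smul, Matrix.toLin'_one]
      rfl
    have hz0 : z ≠ 0 := by
      rintro rfl
      have h1 := congrArg Matrix.det hz
      rw [Units.val_pow_eq_pow_val, Matrix.det_pow, hdetx, one_pow, zero_smul, Matrix.det_zero] at h1
      exact one_ne_zero h1
    have htns : ∀ c : F, t ≠ c • 1 := by
      intro c h
      apply hns c
      have h1 := congrArg LinearMap.toMatrix' h
      rwa [ht, LinearMap.toMatrix'_toLin', map_smul, LinearMap.toMatrix'_one] at h1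
    have hoddc : Fintype.card F % 2 = 1 := Nat.odd_iff.mp hodd
    have h2 : (2 : F) ≠ 0 := by
      intro h2
      have hr2 : ringChar F = 2 :=
        CharP.ringChar_of_prime_eq_zero Nat.prime_two (by exact_mod_cast h2)
      have hev : Fintype.card F % 2 = 0 := FiniteField.even_card_of_char_two hr2
      omega
    have hdet1 : LinearMap.det t = 1 := by
      rw [ht, LinearMap.det_toLin', hdetx]
    by_cases hsq : ∃ d : F, d ^ 2 = z
    · obtain ⟨d, rfl⟩ := hsq
      have hd0 : d ≠ 0 := by
        rintro rfl
        exact hz0 (by ring)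
      have hc := isCompl_eigen d t hd0 h2 ht2
      have hfr := Submodule.finrank_add_eq_of_isCompl hc
      rw [hfrV] at hfr
      have hdet := det_of_sq_eq d t hd0 h2 ht2
      rw [hdet1] at hdet
      have hne : Even n := ⟨b, by rw [hab]; ring⟩
      have hm : Even (Module.finrank F (LinearMap.ker (t - (-d) • 1))) := by
        by_contra hnev
        rw [Nat.not_even_iff_odd] at hnev
        apply pow_ne_neg_one h2 n hn0 hv d
        rw [← hfr, pow_add]
        rw [neg_pow, hnev.neg_one_pow] at hdet
        linear_combination hdet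
      have hp' : Even (Module.finrank F (LinearMap.ker (t - d • 1))) := by
        have h3 : Even (Module.finrank F (LinearMap.ker (t - d • 1)) +
            Module.finrank F (LinearMap.ker (t - (-d) • 1))) := by rw [hfr]; exact hne
        exact (Nat.even_add.mp h3).mpr hm
      obtain ⟨k₁, hk₁⟩ := hp'
      obtain ⟨k₂, hk₂⟩ := hm
      have hkk : k₁ + k₂ = b := by omega
      have hK := isKron_of_sq_eq d t hd0 h2 ht2 k₁ k₂ (by omega) (by omega)
      rw [hkk] at hK
      exact conj_mem_of_isKron e P x hK
        (fun δ _ => cent_of_sq_eq d t hd0 h2 ht2 (htns d) δ)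
    · push Not at hsq
      have hK := isKron_of_irred z hsq hz0 t ht2 b (by rw [hfrV, hab])
      exact conj_mem_of_isKron e P x hK
        (fun δ _ => cent_irred z hsq t ht2 δ (exists_norm_eq hoddc z hz0 δ))

end Cfsg.Agent.S5979
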