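import Cfsg.Statements.S5980
import Cfsg.Agent.Lib.Helper9.TensS6
import Cfsg.Agent.Lib.Helper9.TensS8
import Cfsg.Agent.Lib.Helper9.TensK6
import Cfsg.Agent.Lib.Helper2.SpIsom

set_option autoImplicit false
open scoped MatrixGroups
open Cfsg
open Module
open Cfsg.Agent.H9SemiInv
open Cfsg.Agent.Lib.Helper9.H9Elus
open Cfsg.Agent.Lib.Helper9.H9TK

namespace Cfsg.Agent.S5980

/-- Elements of prime order of PSp_n(q), q odd, and the stabilizers of tensor decompositions Sp_a(q) ⊗ O_b(q). Here `T = PSp_{2d}(F)` for a field `F` with `q` elements, `q` odd, `d ≥ 2`, realised through the matrices preserving the standard alternating form `f`; `2d = a·b` with `a` even, `b ≥ 3`, and the bijection `e` and change of basis `P` exhibit `f` as a non-zero scalar multiple of the tensor product of a non-degenerate alternating form `f₁` on `F^a` and a non-degenerate symmetric bilinear form `f₂` on `F^b`; `H` is the subgroup of `T` stabilizing this tensor decomposition (the elements of `T` in the conjugate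 by `P` of the group of Kronecker products) — a subgroup of type Sp_a(q) ⊗ O^ε_b(q) (maximality is not assumed). Ω is the set of cosets of `H` in `T`, so an element of `T` of prime order `r` (`x ∈ T` with `x^r` scalar, `x` not scalar) fixes a point of Ω exactly when some `T`-conjugate of `x` lies in `H`. Let `r` be a prime dividing the index of `H`. Then every element of `T` of order `r` fixes a point of Ω if and only if `r = 2` and `a = 2`. -/
theorem result {F : Type*} [Field F] [Fintype F] {p : ℕ} [Fact p.Prime] [CharP F p] {q : ℕ} (hq : Fintype.card F = q)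
    (hodd : Odd q) (d : ℕ) (hd : 2 ≤ d) (a b : ℕ) (hab : 2 * d = a * b) (ha : Even a) (ha2 : 2 ≤ a) (hb : 3 ≤ b)
    (e : (Fin d ⊕ Fin d) ≃ Fin a × Fin b) (P : GL (Fin d ⊕ Fin d) F)
    (f₁ : (Fin a → F) → (Fin a → F) → F) (f₂ : (Fin b → F) → (Fin b → F) → F)
    (hf₁ : Cfsg.Geo.IsSymplecticForm f₁) (hf₂ : Cfsg.Geo.IsSymmetricForm f₂)
    (hS : Cfsg.Geo.IsTensorFormStructure id (Cfsg.sympForm d F) f₁ f₂ e P)
    (r : ℕ) [Fact r.Prime]
    (hΩ : r ∣ (Cfsg.Geo.tensorProductSubgroup a b e P).relIndex (Cfsg.spGL d F)) :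
    (∀ x ∈ Cfsg.spGL d F, (∃ z : F, ((x ^ r : GL (Fin d ⊕ Fin d) F) : Matrix (Fin d ⊕ Fin d) (Fin d ⊕ Fin d) F) = z • (1 : Matrix (Fin d ⊕ Fin d) (Fin d ⊕ Fin d) F)) →
      (∀ z : F, (x : Matrix (Fin d ⊕ Fin d) (Fin d ⊕ Fin d) F) ≠ z • (1 : Matrix (Fin d ⊕ Fin d) (Fin d ⊕ Fin d) F)) →
      ∃ g ∈ Cfsg.spGL d F, g⁻¹ * x * g ∈ Cfsg.Geo.tensorProductSubgroup a b e P) ↔ (r = 2 ∧ a = 2) := by
  classical
  subst hq
  have hp : p.Prime := Fact.out
  have hr : r.Prime := Fact.out
  have hoddc : Fintype.card F % 2 = 1 := Nat.odd_iff.mp hodd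
  have h2 : (2 : F) ≠ 0 := by
    intro h2
    have hr2 : ringChar F = 2 :=
      CharP.ringChar_of_prime_eq_zero Nat.prime_two (by exact_mod_cast h2)
    have hev : Fintype.card F % 2 = 0 := FiniteField.even_card_of_char_two hr2
    omega
  have ha0 : 0 < a := by omega
  have hb0 : 0 < b := by omega
  constructor
  · intro hL
    -- every suitable element is a Kronecker product in suitable coordinates
    have key : ∀ x : GL (Fin d ⊕ Fin d) F, x ∈ Cfsg.spGL d F →
        ((x ^ r : GL (Fin d ⊕ Fin d) F) : Matrix (Fin d ⊕ Fin d) (Fin d ⊕ Fin d) F) = 1 →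
        (∀ c : F, (x : Matrix (Fin d ⊕ Fin d) (Fin d ⊕ Fin d) F) ≠ c • 1) →
        IsKron a b (Matrix.toLin' (x : Matrix (Fin d ⊕ Fin d) (Fin d ⊕ Fin d) F)) := by
      intro x hx hxr hns
      obtain ⟨g, -, hg⟩ := hL x hx ⟨1, by rw [hxr, one_smul]⟩ hns
      exact isKron_of_conj_mem' e P x g hg
    have scal : ∀ M : Matrix (Fin d ⊕ Fin d) (Fin d ⊕ Fin d) F,
        (∃ c : F, Matrix.toLin' M = c • 1) → ∃ c : F, M = c • 1 := by
      rintro M ⟨c, hc⟩
      refine ⟨c, ?_⟩
      have := congrArg LinearMap.toMatrix' hc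
      rwa [LinearMap.toMatrix'_toLin', map_smul, LinearMap.toMatrix'_one] at this
    have hrp : r ≠ p := by
      intro hrp'
      obtain ⟨x, hx, hxr, hns, hfix⟩ := model_transvection (F := F) p d (by omega)
      have hxr' : ((x ^ r : GL (Fin d ⊕ Fin d) F) :
          Matrix (Fin d ⊕ Fin d) (Fin d ⊕ Fin d) F) = 1 := by
        rw [hrp']
        exact hxr
      have hk := key x hx hxr' hns
      obtain ⟨c, hc⟩ := scal _ (hk.scalar_of_large 1 (by rw [← hab]; omega)
        (by rw [← hab]; omega))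
      exact hns c hc
    by_cases hr2 : r = 2
    · subst hr2
      refine ⟨rfl, ?_⟩
      by_contra ha2'
      have ha4 : 4 ≤ a := by
        obtain ⟨k, hk⟩ := ha
        omega
      obtain ⟨x, hx, hx2, hns, hfix⟩ := model_neg h2 d hd
      have hk := key x hx hx2 hns
      obtain ⟨c, hc⟩ := scal _ (hk.scalar_of_large 1 (by rw [← hab]; omega)
        (by rw [← hab]; omega))
      exact hns c hc
    · exfalso
      have hipos := order_pos (F := F) r hrp
      have hrdvd : r ∣ Nat.card ↥(Cfsg.spGL d F) :=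
        hΩ.trans (Subgroup.relIndex_dvd_card _ _)
      by_cases hi1 : orderOf ((Fintype.card F : ℕ) : ZMod r) = 1
      · have hd' := (orderOf_eq_one_iff_dvd r (Fintype.card F) Fintype.card_pos).mp hi1
        obtain ⟨ζ, hζ0, hζ⟩ := exists_orderOf_eq (F := F) r hd'
        have hζr : ζ ^ r = 1 := by rw [← hζ]; exact pow_orderOf_eq_one ζ
        have hζ1 : ζ ≠ 1 := by
          rintro rfl
          rw [orderOf_one] at hζ
          exact hr.one_lt.ne hζ
        have hζi : ζ⁻¹ ≠ ζ := by
          intro h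
          have h1 : ζ ^ 2 = 1 := by
            rw [pow_two]
            nth_rewrite 1 [← h]
            exact inv_mul_cancel₀ hζ0
          have h3 := orderOf_dvd_of_pow_eq_one h1
          rw [hζ] at h3
          exact hr2 ((Nat.prime_dvd_prime_iff_eq hr Nat.prime_two).mp h3)
        obtain ⟨x, hx, hxr, hns, hfix, heig⟩ := model_diag ζ r hζr hζ1 hζi d hd
        have hk := key x hx hxr hns
        obtain ⟨h, hrep⟩ := hk.isRep_of_large 1 (by rw [← hab]; omega)
        exact hrep.not_eigen_one ha2 ζ heig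
      · have hi2 : 2 ≤ orderOf ((Fintype.card F : ℕ) : ZMod r) := by omega
        rcases order_cases_of_dvd_card_sp r hrp d hrdvd with
          ⟨h, hh1, hhd, hih, hrq⟩ | ⟨hodd', hid⟩
        · obtain ⟨x, hx, hxr, hns, hker, hfix⟩ := model_even r hrp d h hh1 hhd hih hrq
          have hk := key x hx hxr hns
          have ht : (Matrix.toLin' (x : Matrix (Fin d ⊕ Fin d) (Fin d ⊕ Fin d) F)) ^ r = 1 := by
            rw [← Matrix.toLin'_pow, ← Units.val_pow_eq_pow_val, hxr, Matrix.toLin'_one]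
            rfl
          rcases hk.trichotomy r hrp ha0 hb0 hi2 ht with
            ⟨h', hrep⟩ | ⟨h', hrep⟩ | ⟨s1, ν1, s2, ν2, hν1, hν2, hda, hdb, hle⟩
          · exact hrep.not_of_factor r hrp ha2 ht _ dvd_rfl hker
          · exact hrep.not_of_factor r hrp (by omega) ht _ dvd_rfl hker
          · have := arith_even _ s1 ν1 s2 ν2 a b _ hi2 hν1 hν2 hda hdb hle
              (by rw [← hab]; exact hfix)
            omega
        · have hi3 : 3 ≤ orderOf ((Fintype.card F : ℕ) : ZMod r) := by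
            obtain ⟨k, hk⟩ := hodd'
            omega
          obtain ⟨x, g, hx, hxr, hns, hgd, hker, hfix⟩ := model_odd r hrp hr2 d hi3 hodd' hid
          have hk := key x hx hxr hns
          have ht : (Matrix.toLin' (x : Matrix (Fin d ⊕ Fin d) (Fin d ⊕ Fin d) F)) ^ r = 1 := by
            rw [← Matrix.toLin'_pow, ← Units.val_pow_eq_pow_val, hxr, Matrix.toLin'_one]
            rfl
          rcases hk.trichotomy r hrp ha0 hb0 hi2 ht with
            ⟨h', hrep⟩ | ⟨h', hrep⟩ | ⟨s1, ν1, s2, ν2, hν1, hν2, hda, hdb, hle⟩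
          · exact hrep.not_of_factor r hrp ha2 ht g hgd hker
          · exact hrep.not_of_factor r hrp (by omega) ht g hgd hker
          · have := arith_odd _ s1 ν1 s2 ν2 a b _ hi3 hν1 hν2 hda hdb hle
              (by rw [← hab]; exact hfix)
            obtain ⟨k, hk⟩ := ha
            omega
  · rintro ⟨rfl, rfl⟩ x hxmem hx hns
    obtain ⟨z, hz⟩ := hx
    obtain ⟨g, hg, hmem⟩ := conj_mem_tensor_two hb0 hoddc h2 e P x (Cfsg.sympForm d F)
      (Cfsg.Agent.Lib.Helper2.SpIsom.sympBilin d F)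
      Cfsg.Agent.Lib.Helper2.SpIsom.sympBilin_apply
      Cfsg.Agent.Lib.Helper2.SpIsom.sympBilin_isAlt
      (fun u hu => Cfsg.Agent.Lib.Helper2.SpIsom.sympForm_nondeg u
        (fun v => by rw [← Cfsg.Agent.Lib.Helper2.SpIsom.sympBilin_apply]; exact hu v))
      f₁ f₂ hf₁ hf₂ hS (fun u v => hxmem u v) z hz
    exact ⟨g, hg, hmem⟩

end Cfsg.Agent.S5980
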