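import Cfsg.Statements.S5982
import Cfsg.Agent.Lib.Helper4.SimU9

set_option autoImplicit false
open scoped MatrixGroups
open Cfsg

namespace Cfsg.Agent.S5982

open Module Polynomial
open Cfsg.Agent.Lib.Helper5.PSLCoset Cfsg.Agent.Lib.Helper4.SimU
open Cfsg.Agent.H9SemiInv Cfsg.Agent.Lib.Helper9.H9Elus Cfsg.Agent.Lib.Helper4.EqDec

/-- Elements of prime order of PSL_n(q), q = q₀², and the subgroups of unitary type. Here `T = PSL_n(F)` for a field `F` with `q = q₀²` elements (`n ≥ 3`), `f` is a non-degenerate unitary form on `F^n` for the involutory automorphism `x ↦ x^{q₀}`, and `H` is the subgroup of matrices of determinant 1 that preserve `f` up to a scalar — a subgroup of type GU_n(q₀) (maximality is not assumed); Ω is the set of cosets of `H` in `T`, so an element of `T` of prime order `r` (a matrix `x` of determinant 1 with `x^r` scalar, `x` not scalar) fixes a point of Ω exactly when some conjugate of `x` by a matrix of determinant 1 preserves `f` up to a scalar. Let `r` be a prime dividing the index of `H`, with `r = 2` or `r` different from the characteristic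 `p`, and with `(n, r) ≠ (6, 3)`. Then every element of `T` of order `r` fixes a point of Ω if and only if either `r = 2` and (`p = 2` or `(n)_2 ≤ (q − 1)_2`), or `r ∈ {3, 5}`, `n = r` and `(q₀ − 1)_r = r`. (Odd `r = p` and the case `(n, r) = (6, 3)` are not covered by this statement.) -/
theorem result {F : Type*} [Field F] [Fintype F] {p : ℕ} [Fact p.Prime] [CharP F p] {q : ℕ} (hq : Fintype.card F = q)
    (q₀ : ℕ) (hq₀ : q = q₀ ^ 2) (n : ℕ) (hn : 3 ≤ n) (f : (Fin n → F) → (Fin n → F) → F) (hf : Cfsg.Geo.IsUnitaryFormPow q₀ f)
    (r : ℕ) [Fact r.Prime] (hr : r = 2 ∨ r ≠ p) (hgap : ¬ (n = 6 ∧ r = 3))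
    (hΩ : r ∣ (Cfsg.Geo.similarityGroup f).relIndex (Cfsg.Geo.specialLinear (Fin n) F)) :
    (∀ x ∈ Cfsg.Geo.specialLinear (Fin n) F, (∃ z : F, ((x ^ r : GL (Fin n) F) : Matrix (Fin n) (Fin n) F) = z • (1 : Matrix (Fin n) (Fin n) F)) →
      (∀ z : F, (x : Matrix (Fin n) (Fin n) F) ≠ z • (1 : Matrix (Fin n) (Fin n) F)) →
      ∃ g ∈ Cfsg.Geo.specialLinear (Fin n) F, g⁻¹ * x * g ∈ Cfsg.Geo.similarityGroup f) ↔
    ((r = 2 ∧ (p = 2 ∨ padicValNat 2 n ≤ padicValNat 2 (q - 1))) ∨ ((r = 3 ∨ r = 5) ∧ n = r ∧ padicValNat r (q₀ - 1) = 1)) := by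
  classical
  subst hq
  have hF : Fintype.card F = q₀ ^ 2 := hq₀
  have hp : p.Prime := Fact.out
  have hrP : r.Prime := Fact.out
  obtain ⟨σ, hσ, hσQ⟩ := Cfsg.Agent.Lib.Helper2.HermDecomp.exists_sigma hF
  have hσ2 : ∀ a : F, σ (σ a) = a := by
    intro a
    have h2 : σ ^ 2 = 1 := by
      rw [← hσ]
      exact pow_orderOf_eq_one σ
    have := DFunLike.congr_fun h2 a
    rwa [pow_two] at this
  have hQ2 : 2 ≤ q₀ := by
    by_contra hlt
    have hQle : q₀ ≤ 1 := by omega
    have h1 : 1 < Fintype.card F := Fintype.one_lt_card
    rw [hF] at h1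
    have : q₀ ^ 2 ≤ 1 := by
      calc q₀ ^ 2 ≤ 1 ^ 2 := Nat.pow_le_pow_left hQle 2
        _ = 1 := one_pow 2
    omega
  have hQ1 : 1 ≤ q₀ := by omega
  obtain ⟨k, hk⟩ := exists_pow_of_sq_card (p := p) hF
  have hk0 : k ≠ 0 := by
    rintro rfl
    rw [pow_zero] at hk
    omega
  have hn1 : 1 ≤ n := by omega
  have hfrV : finrank F (Fin n → F) = n := Module.finrank_fin_fun F
  constructor
  · intro hL
    by_cases hr2 : r = 2
    · subst hr2
      left
      refine ⟨rfl, ?_⟩
      by_contra hcon
      push Not at hcon
      obtain ⟨hp2, hv⟩ := hcon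
      have hQodd : Odd q₀ := by
        rw [hk]
        exact Odd.pow (hp.odd_of_ne_two hp2)
      have h2Q : 2 ∣ q₀ - 1 := by
        obtain ⟨m, hm⟩ := hQodd
        exact ⟨m, by omega⟩
      obtain ⟨i, hi⟩ := exists_sq_eq_neg_one hF hQodd
      exact not_all_conj_of_model hσQ f hf 2
        (isDerModel_kummer hF hσQ 2 Nat.prime_two h2Q hQ1 (fun _ => ⟨i, hi⟩) n hv) hL
    · have hrp : r ≠ p := hr.resolve_left hr2
      right
      have hrQ : ¬ r ∣ q₀ := by
        rw [hk]
        intro h
        exact hrp ((Nat.prime_dvd_prime_iff_eq hrP hp).mp (hrP.dvd_of_dvd_pow h))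
      obtain ⟨j, hj, hjd⟩ := exists_dvd_Dfac hσ hσQ hF hn1 f hf r hrP hrQ hΩ
      have hi := neg_pow_of_dvd_Dfac q₀ (j + 1) r hQ1 hjd
      by_cases hc : r ∣ Fintype.card F - 1
      · have hrQ1 : r ∣ q₀ - 1 := dvd_pred_of_neg_pow q₀ r _ hr2 hQ1 (by rw [← hF]; exact hc) hi
        have hval : padicValNat r (Fintype.card F - 1) = padicValNat r (q₀ - 1) := by
          rw [hF]
          exact padicVal_sq_sub_one q₀ r hr2 hQ2 hrQ1
        by_cases h7 : 7 ≤ n
        · exact absurd hL (not_all_conj_of_model hσQ f hf r
            (isDerModel_of_seven_le hF hσ2 hσQ r hrP hr2 hrQ1 hQ1 n h7))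
        · by_cases hsp : (r = 3 ∨ r = 5) ∧ n = r ∧ padicValNat r (q₀ - 1) = 1
          · exact hsp
          · exfalso
            have hs1 : 1 ≤ padicValNat r (q₀ - 1) :=
              one_le_padicValNat_of_dvd (by omega) hrQ1
            have hv : padicValNat r n < padicValNat r (Fintype.card F - 1) := by
              rw [hval]
              by_cases hrn : r ∣ n
              · have hr3 : 3 ≤ r := by
                  have := hrP.two_le
                  omega
                obtain ⟨m, hm⟩ := hrn
                have hm1 : m = 1 ∨ m = 2 := by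
                  have hm0 : m ≠ 0 := by
                    rintro rfl
                    omega
                  by_contra hcon
                  have : 3 ≤ m := by omega
                  nlinarith
                rcases hm1 with rfl | rfl
                · -- n = r
                  have hnr : n = r := by omega
                  have hr35 : r = 3 ∨ r = 5 := by
                    have hr6 : r ≤ 6 := by omega
                    have : r = 3 ∨ r = 4 ∨ r = 5 ∨ r = 6 := by omega
                    rcases this with h | h | h | h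
                    · exact Or.inl h
                    · subst h; exact absurd hrP (by norm_num)
                    · exact Or.inr h
                    · subst h; exact absurd hrP (by norm_num)
                  have hne1 : padicValNat r (q₀ - 1) ≠ 1 := fun h => hsp ⟨hr35, hnr, h⟩
                  rw [hnr, padicValNat_self]
                  omega
                · -- n = 2 r, so r = 3 and n = 6
                  exfalso
                  apply hgap
                  constructor <;> omega
              · rw [padicValNat.eq_zero_of_not_dvd hrn]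
                omega
            exact not_all_conj_of_model hσQ f hf r
              (isDerModel_lt hF hσ2 hσQ r hrP hr2 hrQ1 hQ1 n hn hv) hL
      · exfalso
        have hpos := order_pos (F := F) r hrp
        have hc2 : 2 ≤ orderOf ((Fintype.card F : ℕ) : ZMod r) := by
          by_contra hlt
          have h1 : orderOf ((Fintype.card F : ℕ) : ZMod r) = 1 := by omega
          exact hc ((orderOf_eq_one_iff_dvd r (Fintype.card F) Fintype.card_pos).mp h1)
        have hcn : orderOf ((Fintype.card F : ℕ) : ZMod r) ≤ n := by
          have h1 := orderOf_sq_dvd q₀ r (j + 1 + 1) hi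
          rw [← hF] at h1
          have := Nat.le_of_dvd (by omega) h1
          omega
        exact not_all_conj_of_model hσQ f hf r
          (isDerModel_one_block (p := p) hF hσ2 hσQ r hr2 hrp hc2 n hcn _ hi) hL
  · intro hR x hxmem hx hns
    obtain ⟨z, hz⟩ := hx
    set t := Matrix.toLin' (x : Matrix (Fin n) (Fin n) F) with ht
    have hdetx : (x : Matrix (Fin n) (Fin n) F).det = 1 := by
      have h1 : Matrix.GeneralLinearGroup.det x = 1 := hxmem
      have h2 := congrArg Units.val h1
      rwa [Matrix.GeneralLinearGroup.val_det_apply, Units.val_one] at h2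
    have htr : t ^ r = z • 1 := by
      rw [ht, ← Matrix.toLin'_pow, ← Units.val_pow_eq_pow_val, hz, map_smul, Matrix.toLin'_one]
      rfl
    have hz0 : z ≠ 0 := by
      rintro rfl
      haveI : Nonempty (Fin n) := ⟨⟨0, hn1⟩⟩
      have h1 := congrArg Matrix.det hz
      rw [Units.val_pow_eq_pow_val, Matrix.det_pow, hdetx, one_pow, zero_smul, Matrix.det_zero]
        at h1
      exact one_ne_zero h1
    have htns : ∀ c : F, t ≠ c • 1 := by
      intro c h
      apply hns c
      have h1 := congrArg LinearMap.toMatrix' h
      rwa [ht, LinearMap.toMatrix'_toLin', map_smul, LinearMap.toMatrix'_one] at h1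
    have hdet1 : LinearMap.det t = 1 := by
      rw [ht, LinearMap.det_toLin', hdetx]
    rcases hR with ⟨rfl, h2⟩ | ⟨h35, hnr, hs1⟩
    · -- r = 2
      by_cases hp2 : p = 2
      · subst hp2
        exact conj_mem_char_two hσ hσ2 hσQ f hf x z hz0 htr htns
      · have hv : padicValNat 2 n ≤ padicValNat 2 (Fintype.card F - 1) := h2.resolve_left hp2
        have hQodd : Odd q₀ := by
          rw [hk]
          exact Odd.pow (hp.odd_of_ne_two hp2)
        by_cases hsq : ∃ w : F, w ^ 2 = z
        · obtain ⟨w, rfl⟩ := hsq
          have hw : w ≠ 0 := by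
            rintro rfl
            exact hz0 (by ring)
          exact conj_mem_of_sq (p := p) hσ hσ2 hσQ hQodd hp2 hF hn1 f hf x w hw htr
        · exfalso
          push Not at hsq
          have h2Q : 2 ∣ q₀ - 1 := by
            obtain ⟨m, hm⟩ := hQodd
            exact ⟨m, by omega⟩
          have h2q := dvd_card_sub_one hF 2 h2Q hQ1
          obtain ⟨i, hi⟩ := exists_sq_eq_neg_one hF hQodd
          have hdet := det_of_pow_eq_smul 2 Nat.prime_two z hsq t htr
          rw [hdet1, hfrV] at hdet
          have h2n : 2 ∣ n := by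
            have := dvd_finrank_of_inv 2 Nat.prime_two z hsq t htr ⊤
              (fun x _ => Submodule.mem_top)
            rwa [finrank_top, hfrV] at this
          obtain ⟨m, hm⟩ := h2n
          have hm0 : m ≠ 0 := by
            rintro rfl
            omega
          have hnm : n / 2 = m := by omega
          rw [hnm] at hdet
          have hle := padicVal_le_of_kummer 2 Nat.prime_two h2q (fun _ => ⟨i, hi⟩) z hsq m hm0
            hdet.symm
          have hvn : padicValNat 2 n = padicValNat 2 m + 1 := by
            rw [hm, padicValNat.mul (by norm_num) hm0, padicValNat_self, add_comm]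
          omega
    · -- r ∈ {3, 5}, n = r
      have hr2 : r ≠ 2 := by
        rcases h35 with h | h <;> omega
      have hrQ1 : r ∣ q₀ - 1 := dvd_of_one_le_padicValNat (by omega)
      have hrp : r ≠ p := by
        intro h
        have h1 : p ∣ q₀ := by
          rw [hk]
          exact dvd_pow_self p hk0
        have h2 : p ∣ q₀ - (q₀ - 1) := Nat.dvd_sub h1 (h ▸ hrQ1)
        have h3 : q₀ - (q₀ - 1) = 1 := by omega
        rw [h3] at h2
        exact hp.one_lt.ne' (Nat.dvd_one.mp h2)
      have hval : padicValNat r (Fintype.card F - 1) = 1 := by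
        rw [hF, padicVal_sq_sub_one q₀ r hr2 hQ2 hrQ1, hs1]
      have hrq := dvd_card_sub_one hF r hrQ1 hQ1
      have hrodd : Odd r := hrP.odd_of_ne_two hr2
      -- z is an r-th power
      have hpow : ∃ w : F, w ^ r = z := by
        by_contra hcon
        push Not at hcon
        have hdet := det_of_pow_eq_smul r hrP z hcon t htr
        rw [hdet1, hfrV, hnr, Nat.div_self hrP.pos, pow_one,
          Even.neg_one_pow (Odd.add_one hrodd), one_mul] at hdet
        exact hcon 1 (by rw [one_pow, hdet])
      obtain ⟨w, rfl⟩ := hpow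
      have hw : w ≠ 0 := by
        rintro rfl
        rw [zero_pow hrP.ne_zero] at hz0
        exact hz0 rfl
      set y : (Fin n → F) →ₗ[F] (Fin n → F) := w⁻¹ • t with hy
      have hyr : y ^ r = 1 := by
        rw [hy, _root_.smul_pow, htr, smul_smul, inv_pow, inv_mul_cancel₀ (pow_ne_zero r hw),
          one_smul]
      obtain ⟨b, lam, hb⟩ := Cfsg.Agent.Lib.Helper6.SubF.exists_eigenbasis (p := p) r hrp hrq y hyr
      have hlam : ∀ k, lam k ^ r = 1 := by
        intro k
        have h1 : ∀ m : ℕ, (y ^ m) (b k) = (lam k ^ m) • b k := by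
          intro m
          induction m with
          | zero => rw [pow_zero, pow_zero, Module.End.one_apply, one_smul]
          | succ m ih =>
            rw [pow_succ, Module.End.mul_apply, hb, map_smul, ih, smul_smul, pow_succ, mul_comm]
        have h2 := h1 r
        rw [hyr, Module.End.one_apply] at h2
        have h3 : ((1 : F) - lam k ^ r) • b k = 0 := by
          rw [sub_smul, one_smul, ← h2, sub_self]
        rcases smul_eq_zero.mp h3 with h4 | h4
        · exact (sub_eq_zero.mp h4).symm
        · exact absurd h4 (b.ne_zero k)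
      have htb : ∀ k, t (b k) = (w * lam k) • b k := by
        intro k
        have h1 := hb k
        rw [hy, LinearMap.smul_apply] at h1
        rw [mul_smul, ← h1, smul_smul, mul_inv_cancel₀ hw, one_smul]
      have hdetp : ∏ k, (w * lam k) = 1 := by
        rw [← det_eq_prod_of_eigenbasis b t _ htb, hdet1]
      have hcard : Fintype.card (Fin (finrank F (Fin n → F))) = r := by
        rw [Fintype.card_fin, hfrV, hnr]
      obtain ⟨π, μ, hπ, hμ0, hμ⟩ := exists_involution_of_special (σ := σ) hF hσQ r h35 hrQ1 hQ1
        hval hcard w hw lam hlam hdetp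
      refine conj_mem_of_eigen (p := p) hσ hσ2 hσQ hn1 f hf r hrP.ne_zero ?_ x (w ^ r) hz0 htr b
        (fun k => w * lam k) htb π hπ μ hμ0 hμ
      intro h
      exact hrp ((Nat.prime_dvd_prime_iff_eq hp hrP).mp h).symm

end Cfsg.Agent.S5982
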