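import Cfsg.Statements.S5983
import Cfsg.Agent.Lib.Helper5.SpQf9
import Cfsg.Agent.Lib.Helper9.OrthNM1

set_option autoImplicit false
open scoped MatrixGroups
open Cfsg

namespace Cfsg.Agent.S5983

/-- Elements of prime order of PSp_n(q), q even, and the subgroups of orthogonal type. Here `T = Sp_{2d}(F)` for a field `F` of characteristic 2 with `q` elements (`d ≥ 2`, `(d, q) ≠ (2, 2)`), realised as the invertible matrices preserving the standard alternating form; `Q` is a non-degenerate quadratic form on `F^{2d}` whose polar form is that alternating form, and `H` is the subgroup of `T` preserving `Q` up to a scalar (equivalently preserving `Q`) — a subgroup of type O^±_{2d}(q) (maximality is not assumed); `Q` is of plus type when `F^{2d}` contains a `d`-dimensional subspace on which `Q` vanishes, of minus type otherwise. Ω is the set of cosets of `H` in `T`, so an element of `T` of prime order `r` (`x ∈ T` with `x^r` scalar,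 `x` not scalar) fixes a point of Ω exactly when some `T`-conjugate of `x` preserves `Q`. Let `r` be a prime dividing the index of `H`. Then every element of `T` of order `r` fixes a point of Ω if and only if `r = 2` and either `Q` is of plus type or `d` is odd. -/
theorem result {F : Type*} [Field F] [Fintype F] {p : ℕ} [Fact p.Prime] [CharP F p] {q : ℕ} (hq : Fintype.card F = q)
    (hp : p = 2) (d : ℕ) (hd : 2 ≤ d) (hT : (d, q) ≠ (2, 2)) (Q : (Fin d ⊕ Fin d → F) → F) (hQ : Cfsg.Geo.IsNondegenerateQuadraticForm Q)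
    (hQf : ∀ u v, QuadraticMap.polar Q u v = Cfsg.sympForm d F u v)
    (r : ℕ) [Fact r.Prime]
    (hΩ : r ∣ (Cfsg.Geo.quadSimilarityGroup Q).relIndex (Cfsg.spGL d F)) :
    (∀ x ∈ Cfsg.spGL d F, (∃ z : F, ((x ^ r : GL (Fin d ⊕ Fin d) F) : Matrix (Fin d ⊕ Fin d) (Fin d ⊕ Fin d) F) = z • (1 : Matrix (Fin d ⊕ Fin d) (Fin d ⊕ Fin d) F)) →
      (∀ z : F, (x : Matrix (Fin d ⊕ Fin d) (Fin d ⊕ Fin d) F) ≠ z • (1 : Matrix (Fin d ⊕ Fin d) (Fin d ⊕ Fin d) F)) →
      ∃ g ∈ Cfsg.spGL d F, g⁻¹ * x * g ∈ Cfsg.Geo.quadSimilarityGroup Q) ↔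
    (r = 2 ∧ (Cfsg.Geo.IsPlusTypeOn Q ⊤ ∨ Odd d)) := by
  classical
  subst hp
  haveI : Finite F := Finite.of_fintype F
  obtain ⟨k, rfl⟩ : ∃ k, d = k + 1 := ⟨d - 1, by omega⟩
  obtain ⟨Qb, rfl, -⟩ := Cfsg.Agent.H9Orth.exists_quadForm Q hQ
  have hP : Cfsg.Agent.Lib.Helper5.O2Sp.PolSymp Qb := fun u v => hQf u v
  have hr : r.Prime := Fact.out
  have hd1 : 1 ≤ k + 1 := Nat.succ_pos k
  rw [← Cfsg.Agent.Lib.Helper5.SpQf.isPlus_iff_geo]
  constructor
  · intro hall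
    by_cases hr2 : r = 2
    · refine ⟨hr2, ?_⟩
      by_contra hcon
      push Not at hcon
      obtain ⟨hnp, hnodd⟩ := hcon
      have hev : Even (k + 1) := Nat.not_odd_iff_even.1 hnodd
      obtain ⟨x, hx1, hx2, hx3, hx4⟩ :=
        Cfsg.Agent.Lib.Helper5.SpQf.exists_invol_only_plus (F := F) hd1 hev
      have h1 := hall x hx1 ⟨1, by rw [hr2, hx2, one_smul]⟩ hx3
      obtain ⟨Q'', hP'', htype, hinv⟩ :=
        (Cfsg.Agent.Lib.Helper5.SpQf.conj_mem_iff hd1 hP x hx1).1 h1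
      exact hnp (htype.1 (hx4 Q'' hP'' hinv))
    · exfalso
      rcases Cfsg.Agent.Lib.Helper5.SpQf.dvd_cases_index k hP r hr hΩ with h2 | ⟨hplus, hdiv⟩ |
        ⟨hminus, hdiv⟩
      · exact hr2 h2
      · obtain ⟨x, hx1, hx2, hx3, hx4⟩ :=
          Cfsg.Agent.Lib.Helper5.SpQf.exists_only_minus (F := F) k r hr2 hdiv
        have h1 := hall x hx1 ⟨1, by rw [hx2, one_smul]⟩ hx3
        obtain ⟨Q'', hP'', htype, hinv⟩ :=
          (Cfsg.Agent.Lib.Helper5.SpQf.conj_mem_iff hd1 hP x hx1).1 h1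
        exact hx4 Q'' hP'' hinv (htype.2 hplus)
      · obtain ⟨x, hx1, hx2, hx3, hx4⟩ :=
          Cfsg.Agent.Lib.Helper5.SpQf.exists_only_plus (F := F) hd1 r hr2 hdiv
        have h1 := hall x hx1 ⟨1, by rw [hx2, one_smul]⟩ hx3
        obtain ⟨Q'', hP'', htype, hinv⟩ :=
          (Cfsg.Agent.Lib.Helper5.SpQf.conj_mem_iff hd1 hP x hx1).1 h1
        exact hminus (htype.1 (hx4 Q'' hP'' hinv))
  · rintro ⟨hr2, htype⟩ x hx ⟨z, hz⟩ -
    rw [Cfsg.Agent.Lib.Helper5.SpQf.conj_mem_iff hd1 hP x hx]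
    subst hr2
    have hxsp : (x : Matrix (Fin (k + 1) ⊕ Fin (k + 1)) (Fin (k + 1) ⊕ Fin (k + 1)) F) ∈
        Matrix.symplecticGroup (Fin (k + 1)) F := by
      rw [Cfsg.Agent.Lib.Helper1.SpCard.mem_symplectic_iff_form]
      exact (Cfsg.Agent.Lib.Helper5.SpQf.mem_spGL_iff x).1 hx
    have hz1 : z = 1 := by
      apply Cfsg.Agent.Lib.Helper5.SpQf.scalar_eq_one hd1 z
      rw [← hz]
      exact (Cfsg.Agent.Lib.Helper5.SpQf.mem_spGL_iff (x ^ 2)).1 (pow_mem hx 2)
    rw [hz1, one_smul, Units.val_pow_eq_pow_val, pow_two] at hz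
    obtain ⟨Q'', hP'', ht'', hinv⟩ := Cfsg.Agent.Lib.Helper5.SpQf.exists_invariant_form k
      (⟨_, hxsp⟩ : Matrix.symplecticGroup (Fin (k + 1)) F) (Subtype.ext hz)
      (Cfsg.Agent.Lib.Helper5.OrthCls.IsPlus Qb) htype
    exact ⟨Q'', hP'', ht'', hinv⟩

end Cfsg.Agent.S5983
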