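import Cfsg.Statements.S5984
import Cfsg.Agent.Lib.Helper9.UPol9

set_option autoImplicit false
open scoped MatrixGroups
open Cfsg
open Module Matrix Cfsg.Agent.Lib.Helper2 Cfsg.Agent.Lib.Helper2.IsomDecomp
  Cfsg.Agent.Lib.Helper2.HermDecomp Cfsg.Agent.Lib.Helper2.HermFrames
  Cfsg.Agent.Lib.Helper5.PSLCoset Cfsg.Agent.Lib.Helper2.GUIsom Cfsg.Agent.Lib.Helper9.UPol

set_option maxHeartbeats 1600000

namespace Cfsg.Agent.S5984

/-- Elements of prime order of PSU_n(q) and the stabilizers of pairs of complementary totally singular subspaces. Here `T = PSU_n(q)` is realised through `SU_n(q)`, the matrices of determinant 1 over the field `F` with `q²` elements preserving the hermitian form `Σ uᵢ vᵢ^q`, with `n ≥ 4` even; `D` is a pair of complementary subspaces of dimension `n/2` on each of which the form vanishes identically, and `H` is the subgroup of `SU_n(q)` fixing or interchanging the two members — a subgroup of type GL_{n/2}(q²).2 (maximality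 is not assumed). Ω is the set of cosets of `H`, so an element of `T` of prime order `r` (`x ∈ SU_n(q)` with `x^r` scalar, `x` not scalar) fixes a point of Ω exactly when some `SU_n(q)`-conjugate of `x` lies in `H`. Let `r` be a prime dividing the index of `H`. Then every element of `T` of order `r` fixes a point of Ω if and only if `r = 2`, `q` is odd and `(q + 1)_2 ≤ (n)_2` (2-parts). -/
theorem result {F : Type*} [Field F] [Fintype F] {p : ℕ} [Fact p.Prime] [CharP F p] {q : ℕ} (hq : Fintype.card F = q ^ 2)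
    (n : ℕ) (hn : 4 ≤ n) (he : Even n) (D : Fin 2 → Submodule F (Fin n → F)) (hD : Cfsg.Geo.IsMDecomposition (n / 2) D)
    (hDs : ∀ i, Cfsg.Geo.IsTotallySingularFor (Cfsg.hermForm n F q) (D i))
    (r : ℕ) [Fact r.Prime]
    (hΩ : r ∣ (Cfsg.Geo.decompositionStabilizer D).relIndex (Cfsg.GU n F q ⊓ Cfsg.Geo.specialLinear (Fin n) F)) :
    (∀ x ∈ Cfsg.GU n F q ⊓ Cfsg.Geo.specialLinear (Fin n) F, (∃ z : F, ((x ^ r : GL (Fin n) F) : Matrix (Fin n) (Fin n) F) = z • (1 : Matrix (Fin n) (Fin n) F)) →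
      (∀ z : F, (x : Matrix (Fin n) (Fin n) F) ≠ z • (1 : Matrix (Fin n) (Fin n) F)) →
      ∃ g ∈ Cfsg.GU n F q ⊓ Cfsg.Geo.specialLinear (Fin n) F, g⁻¹ * x * g ∈ Cfsg.Geo.decompositionStabilizer D) ↔
    (r = 2 ∧ Odd q ∧ padicValNat 2 (q + 1) ≤ padicValNat 2 n) := by
  classical
  have hr : r.Prime := Fact.out
  have hp : p.Prime := Fact.out
  obtain ⟨m, hm⟩ := he
  have hnm : n = 2 * m := by omega
  have hm2 : 2 ≤ m := by omega
  have hdiv : n / 2 = m := by omega
  rw [hdiv] at hD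
  obtain ⟨σ, hσ, hσq, h, hnd⟩ := exists_data hq n
  have hq2 : 2 ≤ q := Cfsg.Agent.Lib.Helper1.HermCount.two_le_q hq
  have hsup : D 0 ⊔ D 1 = ⊤ := sup_eq_top_of_decomp D hD
  have hAB : D 0 ⊓ D 1 = ⊥ := inf_eq_bot_of_decomp D hD
  have hAm : finrank F (D 0) = m := hD.finrank_eq 0
  have hBm : finrank F (D 1) = m := hD.finrank_eq 1
  have hA : TS (Cfsg.hermForm n F q) (D 0) := hDs 0
  have hB : TS (Cfsg.hermForm n F q) (D 1) := hDs 1
  have hA0 : D 0 ≠ ⊥ := by
    intro h0
    rw [h0, finrank_bot] at hAm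
    omega
  obtain ⟨f, hf⟩ : ∃ f, q = p ^ f := by
    obtain ⟨k, -, hk⟩ := FiniteField.card F p
    have : q ∣ p ^ (k : ℕ) := by
      rw [← hk, hq, pow_two]
      exact Dvd.intro _ rfl
    obtain ⟨a, -, ha⟩ := (Nat.dvd_prime_pow hp).1 this
    exact ⟨a, ha⟩
  have hrq_iff : r ∣ q → r = p := by
    intro hd
    rw [hf] at hd
    exact (Nat.prime_dvd_prime_iff_eq hr hp).1 (hr.dvd_of_dvd_pow hd)
  have key_fwd : (∀ x ∈ Cfsg.GU n F q ⊓ Cfsg.Geo.specialLinear (Fin n) F,
      (∃ z : F, ((x ^ r : GL (Fin n) F) : Matrix (Fin n) (Fin n) F) =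
        z • (1 : Matrix (Fin n) (Fin n) F)) →
      (∀ z : F, (x : Matrix (Fin n) (Fin n) F) ≠ z • (1 : Matrix (Fin n) (Fin n) F)) →
      ∃ g ∈ Cfsg.GU n F q ⊓ Cfsg.Geo.specialLinear (Fin n) F,
        g⁻¹ * x * g ∈ Cfsg.Geo.decompositionStabilizer D) →
      ∀ X : (Fin n → F) ≃ₗ[F] (Fin n → F), X ∈ isom (Cfsg.hermForm n F q) →
      LinearEquiv.det X = 1 → (∃ z : F, ∀ v, (X ^ r) v = z • v) →
      (∀ A' B' : Submodule F (Fin n → F), A' ⊓ B' = ⊥ → A' ⊔ B' = ⊤ →
        TS (Cfsg.hermForm n F q) A' → TS (Cfsg.hermForm n F q) B' → finrank F A' = m →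
        ¬ PairStab (X : (Fin n → F) →ₗ[F] (Fin n → F)) A' B') → False := by
    intro huniv X hX hdetX hXr hmodel
    have hns : ¬ ∃ z' : F, ∀ v, X v = z' • v := by
      rintro ⟨z', hz'⟩
      apply hmodel (D 0) (D 1) hAB hsup hA hB hAm
      left
      constructor
      · apply map_eq_of_mapsTo rfl
        intro u hu
        rw [hz']
        exact (D 0).smul_mem _ hu
      · apply map_eq_of_mapsTo rfl
        intro u hu
        rw [hz']
        exact (D 1).smul_mem _ hu
    set x := (glLin n F).symm X with hx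
    have hxX : glLin n F x = X := (glLin n F).apply_symm_apply X
    have hxG : x ∈ Cfsg.GU n F q ⊓ Cfsg.Geo.specialLinear (Fin n) F := by
      refine Subgroup.mem_inf.2 ⟨?_, ?_⟩
      · rw [Cfsg.Agent.H9SUMax.mem_GU_iff, hxX]
        exact hX
      · rw [Cfsg.Agent.H9SUMax.mem_specialLinear_iff, hxX]
        exact hdetX
    obtain ⟨z, hz⟩ := hXr
    have h1 : ∃ z : F, ((x ^ r : GL (Fin n) F) : Matrix (Fin n) (Fin n) F) =
        z • (1 : Matrix (Fin n) (Fin n) F) := by
      refine ⟨z, ?_⟩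
      apply Matrix.toLin'.injective
      apply LinearMap.ext
      intro v
      rw [Matrix.toLin'_apply, Matrix.toLin'_apply, Matrix.smul_mulVec, Matrix.one_mulVec]
      have e : ((x ^ r : GL (Fin n) F) : Matrix (Fin n) (Fin n) F) *ᵥ v =
          (glLin n F (x ^ r)) v := rfl
      rw [e, map_pow, hxX, hz]
    have h2 : ∀ z' : F, (x : Matrix (Fin n) (Fin n) F) ≠
        z' • (1 : Matrix (Fin n) (Fin n) F) := by
      intro z' hz'
      apply hns
      refine ⟨z', fun v => ?_⟩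
      rw [← hxX, glLin_apply, hz', Matrix.smul_mulVec, Matrix.one_mulVec]
    obtain ⟨g, hg, π, hπ⟩ := huniv x hxG h1 h2
    set Γ := glLin n F g with hΓ
    have hΓisom : Γ ∈ isom (Cfsg.hermForm n F q) := (Subgroup.mem_inf.1 hg).1
    set W := Γ⁻¹ * X * Γ with hW
    have hWcoe : ((W : (Fin n → F) ≃ₗ[F] (Fin n → F)) : (Fin n → F) →ₗ[F] (Fin n → F)) =
        Matrix.toLin' ((g⁻¹ * x * g : GL (Fin n) F) : Matrix (Fin n) (Fin n) F) := by
      rw [← glLin_coe, map_mul, map_mul, map_inv, hxX]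
    have hπ' : ∀ i, (D i).map
        ((W : (Fin n → F) ≃ₗ[F] (Fin n → F)) : (Fin n → F) →ₗ[F] (Fin n → F)) = D (π i) := by
      intro i
      rw [hWcoe]
      exact hπ i
    have hXΓ : ∀ v, X (Γ v) = Γ (W v) := by
      intro v
      rw [hW, LinearEquiv.mul_apply, LinearEquiv.mul_apply]
      exact (LinearEquiv.apply_symm_apply Γ _).symm
    have hWmem : ∀ i, ∀ a ∈ D i, W a ∈ D (π i) := by
      intro i a ha
      rw [← hπ' i]
      exact ⟨a, ha, rfl⟩
    have hTS : ∀ C : Submodule F (Fin n → F), TS (Cfsg.hermForm n F q) C →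
        TS (Cfsg.hermForm n F q) (C.map (Γ : (Fin n → F) →ₗ[F] (Fin n → F))) := by
      rintro C hC _ ⟨u, hu, rfl⟩ _ ⟨v, hv, rfl⟩
      exact (hΓisom u v).trans (hC u hu v hv)
    have hinf' : (D 0).map (Γ : (Fin n → F) →ₗ[F] (Fin n → F)) ⊓
        (D 1).map (Γ : (Fin n → F) →ₗ[F] (Fin n → F)) = ⊥ := by
      rw [← Submodule.map_inf _ Γ.injective, hAB, Submodule.map_bot]
    have hsup' : (D 0).map (Γ : (Fin n → F) →ₗ[F] (Fin n → F)) ⊔
        (D 1).map (Γ : (Fin n → F) →ₗ[F] (Fin n → F)) = ⊤ := by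
      rw [← Submodule.map_sup, hsup, Submodule.map_top, LinearEquiv.range]
    have hfin : ∀ C : Submodule F (Fin n → F),
        finrank F (C.map (Γ : (Fin n → F) →ₗ[F] (Fin n → F))) = finrank F C :=
      fun C => LinearEquiv.finrank_map_eq Γ C
    apply hmodel _ _ hinf' hsup' (hTS _ hA) (hTS _ hB) (by rw [hfin, hAm])
    have hcases : (π 0 = 0 ∧ π 1 = 1) ∨ (π 0 = 1 ∧ π 1 = 0) := by
      have hinj : π 0 ≠ π 1 := fun hh => by
        have := π.injective hh
        exact absurd this (by decide)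
      have e2 : ∀ a b : Fin 2, a ≠ b → (a = 0 ∧ b = 1) ∨ (a = 1 ∧ b = 0) := by decide
      exact e2 _ _ hinj
    have hmaps : ∀ i j : Fin 2, π i = j →
        Submodule.map (X : (Fin n → F) →ₗ[F] (Fin n → F))
          ((D i).map (Γ : (Fin n → F) →ₗ[F] (Fin n → F))) =
        (D j).map (Γ : (Fin n → F) →ₗ[F] (Fin n → F)) := by
      intro i j hij
      apply map_eq_of_mapsTo
      · rw [hfin, hfin, hD.finrank_eq i, hD.finrank_eq j]
      · rintro _ ⟨a, ha, rfl⟩
        show X (Γ a) ∈ _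
        rw [hXΓ]
        refine ⟨W a, ?_, rfl⟩
        rw [← hij]
        exact hWmem i a ha
    rcases hcases with ⟨h0, h1'⟩ | ⟨h0, h1'⟩
    · left
      exact ⟨hmaps 0 0 h0, hmaps 1 1 h1'⟩
    · right
      exact ⟨hmaps 0 1 h0, hmaps 1 0 h1'⟩
  constructor
  · intro huniv
    have contra := key_fwd huniv
    have hrp : r ≠ p := by
      intro hrp
      obtain ⟨a, haA, ha0⟩ := Submodule.exists_mem_ne_zero_of_ne_bot hA0
      obtain ⟨X, hX1, hX2, hX3, hX4⟩ := tv_model (p := p) hσ h hnd a ha0 (hA a haA a haA)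
      apply contra X hX1 hX2 ⟨1, fun v => by rw [hrp, hX3, one_smul]; rfl⟩
      intro A' B' h1 h2 h3 h4 h5
      exact hX4 A' B' h1 h2 h3 h4 (by omega)
    have hrq : ¬ r ∣ q := fun hd => hrp (hrq_iff hd)
    by_cases hr2 : r = 2
    · have hp2 : p ≠ 2 := fun hh => hrp (by rw [hr2, hh])
      have hqodd : Odd q := by
        rw [hf]
        exact (hp.odd_of_ne_two hp2).pow
      refine ⟨hr2, hqodd, ?_⟩
      by_contra hv
      obtain ⟨w, hw1, hw2⟩ := exists_w hq hqodd (by omega : 0 < n) hv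
      obtain ⟨n', rfl⟩ : ∃ n', n = n' + 1 := ⟨n - 1, by omega⟩
      obtain ⟨X, hX1, hX2, hX3, hX4⟩ := exists_refl_model hq hqodd w hw1 hw2
      apply contra X hX1 hX2 ⟨w ^ 2, fun v => by rw [hr2]; exact hX3 v⟩
      intro A' B' h1 h2 h3 h4 h5
      exact hX4 A' B' h1 h2 h3 h4 (by omega)
    · exfalso
      have hrodd : Odd r := hr.odd_of_ne_two hr2
      obtain ⟨j, hjm, hj⟩ := exists_j_of_dvd_relIndex hq (by omega) hnm D hD hDs hr hrq hΩ
      have hrF : (r : F) ≠ 0 := by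
        intro h0
        have := (CharP.cast_eq_zero_iff F p r).1 h0
        exact hrp ((Nat.prime_dvd_prime_iff_eq hp hr).1 this).symm
      have htj : (-(q : ZMod r)) ^ (2 * j + 1) = 1 :=
        (dvd_term_iff (r := r) (q := q) (by omega) (2 * j)).1
          (by rw [if_pos (even_two_mul j)]; exact hj)
      obtain ⟨d, hd⟩ : ∃ d, d = orderOf (-(q : ZMod r)) := ⟨_, rfl⟩
      have hdj : d ∣ 2 * j + 1 := by
        rw [hd]
        exact orderOf_dvd_of_pow_eq_one htj
      have hdodd : Odd d := Odd.of_dvd_nat (odd_two_mul_add_one j) hdj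
      have hdpos : 0 < d := Nat.pos_of_dvd_of_pos hdj (by omega)
      have hdle : d ≤ 2 * j + 1 := Nat.le_of_dvd (by omega) hdj
      have hq1iff : r ∣ q + 1 ↔ d = 1 := by
        have h1 := dvd_term_iff (r := r) (q := q) (by omega) 0
        rw [if_pos (by decide : Even 0), zero_add, pow_one, pow_one] at h1
        rw [h1, hd, orderOf_eq_one_iff]
      by_cases hd1 : d = 1
      · have hrq1 : r ∣ q + 1 := hq1iff.2 hd1
        obtain ⟨l, hl1, hl2, hl3⟩ := exists_lam hq hr hrq1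
        obtain ⟨n'', rfl⟩ : ∃ n'', n = n'' + 2 := ⟨n - 2, by omega⟩
        obtain ⟨X, hX1, hX2, hX3, hX4⟩ := exists_lam_model hq hrodd l hl1 hl2 hl3
        apply contra X hX1 hX2 ⟨1, fun v => by rw [hX3, one_smul]; rfl⟩
        intro A' B' h1 h2 h3 h4 h5
        exact hX4 A' B' h1 h2 h3 h4 (by omega)
      · obtain ⟨k, hk⟩ : ∃ k, d = k + 1 := ⟨d - 1, by omega⟩
        have hrk : ¬ r ∣ Nat.card (Cfsg.GU k F q) := by
          rw [dvd_card_GU_iff hq hrq, ← hd]
          rintro ⟨i, hi, hdi⟩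
          have := Nat.le_of_dvd (by omega) hdi
          omega
        have hrd : r ∣ Nat.card (Cfsg.GU (k + 1) F q) := by
          rw [dvd_card_GU_iff hq hrq, ← hd]
          exact ⟨k, by omega, by rw [← hk]⟩
        have hrq1 : Nat.Coprime r (q + 1) := by
          rw [Nat.Prime.coprime_iff_not_dvd hr]
          intro hdvd
          exact hd1 (hq1iff.1 hdvd)
        obtain ⟨X, hX1, hX2, hX3, hX4⟩ := exists_block_model hq (n := n) (k := k) (by omega)
          (by rw [← hk]; exact hdodd) hr hrF hrk hrd hrq1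
        apply contra X hX1 hX2 ⟨1, fun v => by rw [hX3, one_smul]; rfl⟩
        intro A' B' h1 h2 h3 h4 h5 hstab
        rcases hstab with ⟨s1, s2⟩ | ⟨s1, s2⟩
        · exact hX4 A' B' h1 h2 h3 h4 (mapsTo_of_map_eq s1) (mapsTo_of_map_eq s2)
        · have hA0' : A' ≠ ⊥ := by
            intro h0
            rw [h0, finrank_bot] at h5
            omega
          exact swap_odd_false X h1 hA0' hrodd (z := 1)
            (fun v => by rw [hX3, one_smul]; rfl) s1 s2
  · rintro ⟨hr2, hqodd, hv⟩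
    intro x hx hxr hxns
    obtain ⟨z, hz⟩ := hxr
    obtain ⟨X, hXdef⟩ : ∃ X, X = glLin n F x := ⟨_, rfl⟩
    have hXisom : X ∈ isom (Cfsg.hermForm n F q) := by
      rw [hXdef]
      exact (Subgroup.mem_inf.1 hx).1
    have hXdet : LinearEquiv.det X = 1 := by
      rw [hXdef]
      exact (Cfsg.Agent.H9SUMax.mem_specialLinear_iff x).1 (Subgroup.mem_inf.1 hx).2
    have hX2 : ∀ v, (X ^ 2) v = z • v := by
      intro v
      rw [hXdef, ← map_pow, glLin_apply, ← hr2, hz, Matrix.smul_mulVec, Matrix.one_mulVec]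
    have h2 := two_ne_zero_of_odd hq hqodd
    have hV' : finrank F (Fin n → F) = 2 * m := by rw [Module.finrank_fin_fun, hnm]
    obtain ⟨A', B', hA', hB', hsup', hXA', hXB'⟩ := exists_pair_of_sq hσ h hnd h2 hV' (by omega)
      (fun z hz => exists_sqrt_of_norm_one hq hqodd z (by rw [← hσq]; exact hz))
      (fun w hw hwn => no_w hq hqodd (by omega : 0 < n) hv w (by rw [← hσq]; exact hw)
        (by rw [hnm]; exact hwn))
      X hXisom hXdet hX2
    obtain ⟨Γ, hΓ1, hΓ2, hΓA, hΓB⟩ := exists_isom_pair_det hq hnm (by omega) hsup hA hB hsup'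
      hA' hB'
    obtain ⟨hAm', hBm'⟩ := finrank_of_ts_pair hq hnm hsup' hA' hB'
    obtain ⟨g, hgdef⟩ : ∃ g, g = (glLin n F).symm Γ := ⟨_, rfl⟩
    have hgΓ : glLin n F g = Γ := by
      rw [hgdef]
      exact (glLin n F).apply_symm_apply Γ
    refine ⟨g, Subgroup.mem_inf.2 ⟨?_, ?_⟩, ?_⟩
    · rw [Cfsg.Agent.H9SUMax.mem_GU_iff, hgΓ]
      exact hΓ1
    · rw [Cfsg.Agent.H9SUMax.mem_specialLinear_iff, hgΓ]
      exact hΓ2
    · refine ⟨1, fun i => ?_⟩
      rw [← glLin_coe, map_mul, map_mul, map_inv, hgΓ, ← hXdef]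
      have hmapA : (D 0).map (Γ : (Fin n → F) →ₗ[F] (Fin n → F)) = A' :=
        map_eq_of_mapsTo (hAm.trans hAm'.symm) hΓA
      have hmapB : (D 1).map (Γ : (Fin n → F) →ₗ[F] (Fin n → F)) = B' :=
        map_eq_of_mapsTo (hBm.trans hBm'.symm) hΓB
      have key : ∀ C C' : Submodule F (Fin n → F),
          C.map (Γ : (Fin n → F) →ₗ[F] (Fin n → F)) = C' → (∀ u ∈ C', X u ∈ C') →
          C.map ((Γ⁻¹ * X * Γ : (Fin n → F) ≃ₗ[F] (Fin n → F)) :
            (Fin n → F) →ₗ[F] (Fin n → F)) = C := by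
        intro C C' hCC' hXC'
        apply map_eq_of_mapsTo rfl
        intro u hu
        rw [LinearEquiv.mul_apply, LinearEquiv.mul_apply]
        have h1 : X (Γ u) ∈ C' := hXC' _ (by rw [← hCC']; exact ⟨u, hu, rfl⟩)
        rw [← hCC'] at h1
        obtain ⟨u', hu', hu'eq⟩ := h1
        have e : Γ⁻¹ (X (Γ u)) = u' := by
          rw [← hu'eq]
          exact LinearEquiv.symm_apply_apply Γ u'
        rw [e]
        exact hu'
      fin_cases i
      · exact key (D 0) A' hmapA hXA'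
      · exact key (D 1) B' hmapB hXB'

end Cfsg.Agent.S5984
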