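import Cfsg.Statements.S5985
import Cfsg.Agent.Lib.Helper5.NsPt2
import Cfsg.Agent.Lib.Helper5.NsPt5

set_option autoImplicit false
open scoped MatrixGroups
open Cfsg

namespace Cfsg.Agent.S5985

/-- Elements of prime order of Ω⁺_n(q), q even, with no fixed nonsingular 1-space. Here `T = PΩ⁺_n(F)`, `n = 2d ≥ 8`, realised through `Ω⁺_n(q)`, the commutator subgroup of the isometry group of `Q = Σ xᵢyᵢ` over the field `F` with `q` elements; an element of `T` of prime order `r` is an element `x` of `Ω⁺_n(q)` with `x^r` scalar and `x` not scalar; `q` is even (so the centre is trivial). Let Ω be the set of 1-dimensional subspaces spanned by a vector `v` with `Q(v) ≠ 0`, and let `r` be a prime dividing their number. Then every element of `T` of order `r` fixes some nonsingular 1-space if and only if `r = 2` and `n ≡ 2 (mod 4)` (that is, `d` is odd). -/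
theorem result {F : Type*} [Field F] [Fintype F] {p : ℕ} [Fact p.Prime] [CharP F p] {q : ℕ} (hq : Fintype.card F = q)
    (hp : p = 2) (d : ℕ) (hd : 4 ≤ d) (r : ℕ) [Fact r.Prime]
    (hrΩ : r ∣ Nat.card {W : Submodule F (Fin d ⊕ Fin d → F) // Module.finrank F ↥W = 1 ∧ ∃ v ∈ W, Cfsg.quadFormPlus d F v ≠ 0}) :
    (∀ x : GL (Fin d ⊕ Fin d) F, x ∈ Cfsg.Geo.omegaGL (Cfsg.quadFormPlus d F) →
      (∃ z : F, ((x ^ r : GL (Fin d ⊕ Fin d) F) : Matrix (Fin d ⊕ Fin d) (Fin d ⊕ Fin d) F) = z • (1 : Matrix (Fin d ⊕ Fin d) (Fin d ⊕ Fin d) F)) →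
      (∀ z : F, (x : Matrix (Fin d ⊕ Fin d) (Fin d ⊕ Fin d) F) ≠ z • (1 : Matrix (Fin d ⊕ Fin d) (Fin d ⊕ Fin d) F)) →
      ∃ W : Submodule F (Fin d ⊕ Fin d → F), (Module.finrank F ↥W = 1 ∧ ∃ v ∈ W, Cfsg.quadFormPlus d F v ≠ 0) ∧ W.map (Matrix.toLin' (x : Matrix (Fin d ⊕ Fin d) (Fin d ⊕ Fin d) F)) ≤ W) ↔ (r = 2 ∧ Odd d) := by
  classical
  have hr : r.Prime := Fact.out
  subst hp
  have hd1 : 1 ≤ d := by omega
  have hd3 : 3 ≤ d := by omega
  have hcases := Cfsg.Agent.Lib.Helper5.NsPt.dvd_cases hq d hd1 r hr hrΩ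
  rw [← Cfsg.Agent.Lib.Helper2.QuadStd.QP_coe d]
  have hQs : ∀ (c : F) (v : Fin d ⊕ Fin d → F), (Cfsg.Agent.Lib.Helper5.QuadGlue.QP d F) (c • v) =
      c ^ 2 * (Cfsg.Agent.Lib.Helper5.QuadGlue.QP d F) v := by
    intro c v
    rw [Cfsg.Agent.Lib.Helper5.QuadGlue.QP_apply, Cfsg.Agent.Lib.Helper5.QuadGlue.QP_apply,
      Cfsg.Agent.Lib.Helper5.NsPt.quadFormPlus_smul]
  constructor
  · intro H
    have hno : ∀ g : ↥(Cfsg.isometryGroup F ⇑(Cfsg.Agent.Lib.Helper5.QuadGlue.QP d F)),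
        g ∈ Cfsg.Omega F ⇑(Cfsg.Agent.Lib.Helper5.QuadGlue.QP d F) →
        ((g : Matrix.GeneralLinearGroup (Fin d ⊕ Fin d) F) :
          Matrix (Fin d ⊕ Fin d) (Fin d ⊕ Fin d) F) ^ r = 1 →
        (∀ z : F, ((g : Matrix.GeneralLinearGroup (Fin d ⊕ Fin d) F) :
          Matrix (Fin d ⊕ Fin d) (Fin d ⊕ Fin d) F) ≠ z • 1) →
        (∀ v : Fin d ⊕ Fin d → F, Matrix.mulVec ((g : Matrix.GeneralLinearGroup (Fin d ⊕ Fin d) F) :
          Matrix (Fin d ⊕ Fin d) (Fin d ⊕ Fin d) F) v = v →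
          Cfsg.Agent.Lib.Helper5.QuadGlue.QP d F v = 0) → False := by
      intro g hgΩ hgr hgns hgfix
      obtain ⟨W, ⟨hW1, v, hvW, hvQ⟩, hmap⟩ := H g.1 ⟨g, hgΩ, rfl⟩
        ⟨1, by rw [Units.val_pow_eq_pow_val, hgr, one_smul]⟩ hgns
      have hfix := Cfsg.Agent.Lib.Helper5.NsPt.fixed_of_point
        (⇑(Cfsg.Agent.Lib.Helper5.QuadGlue.QP d F)) hQs
        ((g : Matrix.GeneralLinearGroup (Fin d ⊕ Fin d) F) :
          Matrix (Fin d ⊕ Fin d) (Fin d ⊕ Fin d) F) (fun v => g.2 v v) W hW1 v hvW hvQ hmap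
      exact hvQ (hgfix v hfix)
    rcases hcases with h2 | hdiv
    · refine ⟨h2, ?_⟩
      by_contra hodd
      rw [Nat.not_odd_iff_even] at hodd
      obtain ⟨g, hgΩ, hgg, hgns, hgfix⟩ :=
        Cfsg.Agent.Lib.Helper5.NsPt.exists_invol_no_fixed (F := F) hd3 hodd
      apply hno g hgΩ ?_ hgns hgfix
      rw [h2, pow_two]
      exact hgg
    · exfalso
      have hr2 : r ≠ 2 := by
        intro h
        rw [h] at hdiv
        obtain ⟨n, -, hn⟩ := FiniteField.card F 2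
        rw [hq] at hn
        have h1 : 2 ∣ q ^ d := by
          rw [hn, ← pow_mul]
          exact dvd_pow_self 2 (by
            have := n.pos
            positivity)
        have h2 : 1 ≤ q ^ d := Nat.one_le_pow _ _ (by rw [hn]; positivity)
        omega
      have hodd : Odd r := hr.odd_of_ne_two hr2
      rw [← hq] at hdiv
      obtain ⟨P, Q, hPQ, hPr, hfix⟩ :=
        Cfsg.Agent.Lib.Helper5.NsPt.exists_fpf_matrix (F := F) hd1 r hr2 hdiv
      obtain ⟨g, hgΩ, hgr, hgns, hgfix⟩ :=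
        Cfsg.Agent.Lib.Helper5.NsPt.exists_odd_no_fixed hd3 r hodd P Q hPQ hPr hfix
      exact hno g hgΩ hgr hgns hgfix
  · rintro ⟨rfl, hodd⟩ x hx hx2 hxns
    obtain ⟨g, hgΩ, rfl⟩ := hx
    obtain ⟨z, hz⟩ := hx2
    have hMM : ((g : Matrix.GeneralLinearGroup (Fin d ⊕ Fin d) F) :
          Matrix (Fin d ⊕ Fin d) (Fin d ⊕ Fin d) F) *
        ((g : Matrix.GeneralLinearGroup (Fin d ⊕ Fin d) F) :
          Matrix (Fin d ⊕ Fin d) (Fin d ⊕ Fin d) F) = z • 1 := by
      rw [← pow_two, ← Units.val_pow_eq_pow_val]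
      exact hz
    -- a nonsingular vector
    have i0 : Fin d := ⟨0, by omega⟩
    let v₀ : Fin d ⊕ Fin d → F := fun _ => 1
    have hv₀ : Cfsg.Agent.Lib.Helper5.QuadGlue.QP d F
        (Pi.single (Sum.inl i0) 1 + Pi.single (Sum.inr i0) 1) = 1 := by
      rw [Cfsg.Agent.Lib.Helper5.QuadGlue.QP_apply]
      unfold Cfsg.quadFormPlus
      rw [Finset.sum_eq_single i0]
      · simp
      · intro j _ hj
        simp [Pi.single_apply, hj]
      · intro h
        exact absurd (Finset.mem_univ _) h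
    have hz1 : z = 1 := by
      have h1 := g.2 (Pi.single (Sum.inl i0) 1 + Pi.single (Sum.inr i0) 1)
        (Pi.single (Sum.inl i0) 1 + Pi.single (Sum.inr i0) 1)
      have h2 := g.2 (Matrix.mulVec ((g : Matrix.GeneralLinearGroup (Fin d ⊕ Fin d) F) :
          Matrix (Fin d ⊕ Fin d) (Fin d ⊕ Fin d) F)
          (Pi.single (Sum.inl i0) 1 + Pi.single (Sum.inr i0) 1))
        (Matrix.mulVec ((g : Matrix.GeneralLinearGroup (Fin d ⊕ Fin d) F) :
          Matrix (Fin d ⊕ Fin d) (Fin d ⊕ Fin d) F)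
          (Pi.single (Sum.inl i0) 1 + Pi.single (Sum.inr i0) 1))
      simp only [Units.coeHom_apply] at h1 h2
      rw [h1, Matrix.mulVec_mulVec, hMM, Matrix.smul_mulVec, Matrix.one_mulVec, hQs, hv₀,
        mul_one] at h2
      have h4 : (z - 1) ^ 2 = 0 := by
        have h2' : (2 : F) = 0 := CharTwo.two_eq_zero
        have : (z - 1) ^ 2 = z ^ 2 - 2 * z + 1 := by ring
        rw [this, h2, h2', zero_mul, sub_zero]
        exact CharTwo.add_self_eq_zero 1
      exact sub_eq_zero.1 (pow_eq_zero_iff (by norm_num) |>.1 h4)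
    have hgg : g * g = 1 := by
      apply Subtype.ext
      apply Units.ext
      rw [Subgroup.coe_mul, Units.val_mul, hMM, hz1, one_smul]
      rfl
    obtain ⟨v, hv, hvQ⟩ := Cfsg.Agent.Lib.Helper5.NsPt.exists_fixed_nonsing hd3 hodd g hgΩ hgg
    have hv0 : v ≠ 0 := by
      rintro rfl
      exact hvQ (map_zero _)
    refine ⟨Submodule.span F {v}, ⟨Cfsg.Agent.Lib.Helper5.NsPt.finrank_span_one v hv0, v,
      Submodule.mem_span_singleton_self v, hvQ⟩, ?_⟩
    rw [Submodule.map_span, Set.image_singleton, Matrix.toLin'_apply]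
    exact le_of_eq (congrArg (fun w => Submodule.span F {w}) hv)

end Cfsg.Agent.S5985
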