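import Cfsg.Statements.S5986
import Cfsg.Agent.Lib.Helper5.NsPt3
import Cfsg.Agent.Lib.Helper5.NsPt11

set_option autoImplicit false
open scoped MatrixGroups
open Cfsg

namespace Cfsg.Agent.S5986

/-- Elements of prime order of Ω⁻_n(q), q even, with no fixed nonsingular 1-space. Here `T = PΩ⁻_n(F)`, `n = 2d ≥ 8`, realised through `Ω⁻_n(q)`, the commutator subgroup of the isometry group of `Q = Σ_{i<d−1} xᵢyᵢ + z₁² + a z₁z₂ + b z₂²` with `z₁² + a z₁z₂ + b z₂²` anisotropic, over the field `F` with `q` elements; an element of `T` of prime order `r` is an element `x` of `Ω⁻_n(q)` with `x^r` scalar and `x` not scalar; `q` is even (so the centre is trivial). Let Ω be the set of 1-dimensional subspaces spanned by a vector `v` with `Q(v) ≠ 0`, and let `r` be a prime dividing their number. Then every element of `T` of order `r` fixes some nonsingular 1-space if and only if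 `r = 2`. -/
theorem result {F : Type*} [Field F] [Fintype F] {p : ℕ} [Fact p.Prime] [CharP F p] {q : ℕ} (hq : Fintype.card F = q)
    (hp : p = 2) (d : ℕ) (hd : 4 ≤ d) (a b : F) (hab : ∀ x y : F, x ^ 2 + a * x * y + b * y ^ 2 = 0 → x = 0 ∧ y = 0) (r : ℕ) [Fact r.Prime]
    (hrΩ : r ∣ Nat.card {W : Submodule F ((Fin (d - 1) ⊕ Fin (d - 1)) ⊕ Fin 2 → F) // Module.finrank F ↥W = 1 ∧ ∃ v ∈ W, Cfsg.quadFormMinus (d - 1) F a b v ≠ 0}) :
    (∀ x : GL ((Fin (d - 1) ⊕ Fin (d - 1)) ⊕ Fin 2) F, x ∈ Cfsg.Geo.omegaGL (Cfsg.quadFormMinus (d - 1) F a b) →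
      (∃ z : F, ((x ^ r : GL ((Fin (d - 1) ⊕ Fin (d - 1)) ⊕ Fin 2) F) : Matrix ((Fin (d - 1) ⊕ Fin (d - 1)) ⊕ Fin 2) ((Fin (d - 1) ⊕ Fin (d - 1)) ⊕ Fin 2) F) = z • (1 : Matrix ((Fin (d - 1) ⊕ Fin (d - 1)) ⊕ Fin 2) ((Fin (d - 1) ⊕ Fin (d - 1)) ⊕ Fin 2) F)) →
      (∀ z : F, (x : Matrix ((Fin (d - 1) ⊕ Fin (d - 1)) ⊕ Fin 2) ((Fin (d - 1) ⊕ Fin (d - 1)) ⊕ Fin 2) F) ≠ z • (1 : Matrix ((Fin (d - 1) ⊕ Fin (d - 1)) ⊕ Fin 2) ((Fin (d - 1) ⊕ Fin (d - 1)) ⊕ Fin 2) F)) →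
      ∃ W : Submodule F ((Fin (d - 1) ⊕ Fin (d - 1)) ⊕ Fin 2 → F), (Module.finrank F ↥W = 1 ∧ ∃ v ∈ W, Cfsg.quadFormMinus (d - 1) F a b v ≠ 0) ∧ W.map (Matrix.toLin' (x : Matrix ((Fin (d - 1) ⊕ Fin (d - 1)) ⊕ Fin 2) ((Fin (d - 1) ⊕ Fin (d - 1)) ⊕ Fin 2) F)) ≤ W) ↔ r = 2 := by
  classical
  have hr : r.Prime := Fact.out
  subst hp
  have hd1 : 1 ≤ d := by omega
  have h2F : (2 : F) = 0 := CharTwo.two_eq_zero
  have hcases := Cfsg.Agent.Lib.Helper5.NsPt.dvd_cases_minus hq d hd1 a b hab r hr hrΩ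
  have hQs : ∀ (c : F) (v : (Fin (d - 1) ⊕ Fin (d - 1)) ⊕ Fin 2 → F),
      Cfsg.quadFormMinus (d - 1) F a b (c • v) = c ^ 2 * Cfsg.quadFormMinus (d - 1) F a b v :=
    fun c v => Cfsg.Agent.Lib.Helper5.NsPt.quadFormMinus_smul (d - 1) a b c v
  constructor
  · intro H
    by_contra hr2
    have hdiv : r ∣ Fintype.card F ^ (d - 1 + 1) + 1 := by
      rcases hcases with h | h
      · exact absurd h hr2
      · rw [hq, show d - 1 + 1 = d by omega]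
        exact h
    obtain ⟨g, hgΩ, hgr, hgns, hgfix⟩ :=
      Cfsg.Agent.Lib.Helper5.NsPt.exists_odd_no_fixed_minus (F := F) (d - 1) (by omega) a b hab r
        hr2 hdiv
    obtain ⟨W, ⟨hW1, v, hvW, hvQ⟩, hmap⟩ := H g.1 ⟨g, hgΩ, rfl⟩
      ⟨1, by rw [Units.val_pow_eq_pow_val, hgr, one_smul]⟩ hgns
    have hfix := Cfsg.Agent.Lib.Helper5.NsPt.fixed_of_point
      (Cfsg.quadFormMinus (d - 1) F a b) hQs
      ((g : Matrix.GeneralLinearGroup ((Fin (d - 1) ⊕ Fin (d - 1)) ⊕ Fin 2) F) :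
        Matrix ((Fin (d - 1) ⊕ Fin (d - 1)) ⊕ Fin 2) ((Fin (d - 1) ⊕ Fin (d - 1)) ⊕ Fin 2) F)
      (fun v => g.2 v v) W hW1 v hvW hvQ hmap
    exact hvQ (hgfix v hfix)
  · rintro rfl x hx hx2 hxns
    obtain ⟨g, hgΩ, rfl⟩ := hx
    obtain ⟨z, hz⟩ := hx2
    have hMM : ((g : Matrix.GeneralLinearGroup ((Fin (d - 1) ⊕ Fin (d - 1)) ⊕ Fin 2) F) :
          Matrix ((Fin (d - 1) ⊕ Fin (d - 1)) ⊕ Fin 2) ((Fin (d - 1) ⊕ Fin (d - 1)) ⊕ Fin 2) F) *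
        ((g : Matrix.GeneralLinearGroup ((Fin (d - 1) ⊕ Fin (d - 1)) ⊕ Fin 2) F) :
          Matrix ((Fin (d - 1) ⊕ Fin (d - 1)) ⊕ Fin 2) ((Fin (d - 1) ⊕ Fin (d - 1)) ⊕ Fin 2) F) =
        z • 1 := by
      rw [← pow_two, ← Units.val_pow_eq_pow_val]
      exact hz
    have hz1 : z = 1 := by
      have h1 := g.2 (Pi.single (Sum.inr 0) 1) (Pi.single (Sum.inr 0) 1)
      have h2 := g.2 (Matrix.mulVec
        ((g : Matrix.GeneralLinearGroup ((Fin (d - 1) ⊕ Fin (d - 1)) ⊕ Fin 2) F) :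
          Matrix ((Fin (d - 1) ⊕ Fin (d - 1)) ⊕ Fin 2) ((Fin (d - 1) ⊕ Fin (d - 1)) ⊕ Fin 2) F)
          (Pi.single (Sum.inr 0) 1))
        (Matrix.mulVec
        ((g : Matrix.GeneralLinearGroup ((Fin (d - 1) ⊕ Fin (d - 1)) ⊕ Fin 2) F) :
          Matrix ((Fin (d - 1) ⊕ Fin (d - 1)) ⊕ Fin 2) ((Fin (d - 1) ⊕ Fin (d - 1)) ⊕ Fin 2) F)
          (Pi.single (Sum.inr 0) 1))
      simp only [Units.coeHom_apply] at h1 h2
      rw [h1, Matrix.mulVec_mulVec, hMM, Matrix.smul_mulVec, Matrix.one_mulVec, hQs,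
        Cfsg.Agent.Lib.Helper5.NsPt.quadFormMinus_single, mul_one] at h2
      have h4 : (z - 1) ^ 2 = 0 := by
        have : (z - 1) ^ 2 = z ^ 2 - 2 * z + 1 := by ring
        rw [this, h2, h2F, zero_mul, sub_zero]
        exact CharTwo.add_self_eq_zero 1
      exact sub_eq_zero.1 (pow_eq_zero_iff (by norm_num) |>.1 h4)
    rw [hz1, one_smul] at hMM
    obtain ⟨v, hv, hvQ⟩ := Cfsg.Agent.Lib.Helper5.NsPt.exists_fixed_nonsing_minus a b hab _ hMM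
    have hv0 : v ≠ 0 := by
      rintro rfl
      apply hvQ
      unfold Cfsg.quadFormMinus
      simp
    refine ⟨Submodule.span F {v}, ⟨Cfsg.Agent.Lib.Helper5.NsPt.finrank_span_one v hv0, v,
      Submodule.mem_span_singleton_self v, hvQ⟩, ?_⟩
    rw [Submodule.map_span, Set.image_singleton, Matrix.toLin'_apply]
    exact le_of_eq (congrArg (fun w => Submodule.span F {w}) hv)

end Cfsg.Agent.S5986
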