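import Cfsg.Statements.S5987
import Cfsg.Agent.Lib.Helper7.TSO_BR
import Cfsg.Agent.Lib.Helper7.TSO_R2M
import Cfsg.Agent.Lib.Lead.TSO_CNT
import Cfsg.Agent.Lib.Lead.TSO_ARITH
import Cfsg.Agent.Lib.Helper2.OrthCard1

set_option autoImplicit false
open scoped MatrixGroups
open Cfsg

namespace Cfsg.Agent.S5987

open Module QuadraticMap Polynomial
open Cfsg.Agent.Lib.Helper5.OrthCls (IsPlus)
open Cfsg.Agent.Lib.Helper7.TSO
open Cfsg.Agent.Lib.Helper2.OrthCard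

/-- Elements of prime order of PΩ⁻_n(q) with no fixed totally singular `m`-space. Here `T = PΩ⁻_n(F)`, `n = 2d ≥ 8`, realised through `Ω⁻_n(q)`, the commutator subgroup of the isometry group of `Q = Σ_{i<d−1} xᵢyᵢ + z₁² + a z₁z₂ + b z₂²` with `z₁² + a z₁z₂ + b z₂²` anisotropic, over the field `F` with `q` elements; an element of `T` of prime order `r` is an element `x` of `Ω⁻_n(q)` with `x^r` scalar and `x` not scalar. Let `1 ≤ m ≤ d − 1` and let `r` be a prime dividing the number of totally singular `m`-spaces (subspaces of dimension `m` on which `Q` vanishes); for `r ≠ p` let `i` be the multiplicative order of `q` modulo `r`, `c = i` for `i` even and `c = 2i` for `i` odd, and write `k = n mod c`, `ℓ = m mod i`, `n' = ⌊n/i⌋`, `m' = ⌊m/i⌋`, `t = (r−1)/i`. Then every element of `T` of order `r` fixes some totally singular `m`-space if and only if one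 of: (i) `r = 2 ≠ p` and (`n ≡ 0 (mod 4)`, or `m` is even, or `q ≢ 7 (mod 8)`); (ii) `r ≠ p` odd, `i` odd, `i ≤ m` and (`k = 0` or `k > 2ℓ`); (iii) `r ≠ p` odd, `i` even, `i ≤ m`, `n' − 2m' ≥ t`, and one of: (a) `i ≥ 2ℓ`, `k = 0`, `n/i` even and `n' − 2m' > t` (all four); (b) `k ≥ 2ℓ` and `n'` odd; (c) `k > 2ℓ` and `n'` even. -/
theorem result {F : Type*} [Field F] [Fintype F] {p : ℕ} [Fact p.Prime] [CharP F p] {q : ℕ} (hq : Fintype.card F = q)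
    (d m : ℕ) (hd : 4 ≤ d) (hm : 1 ≤ m) (hmd : m + 1 ≤ d) (a b : F) (hab : ∀ x y : F, x ^ 2 + a * x * y + b * y ^ 2 = 0 → x = 0 ∧ y = 0)
    (r : ℕ) [Fact r.Prime]
    (hrΩ : r ∣ Nat.card {W : Submodule F ((Fin (d - 1) ⊕ Fin (d - 1)) ⊕ Fin 2 → F) // Module.finrank F ↥W = m ∧ Cfsg.Geo.IsTotallySingularQuad (Cfsg.quadFormMinus (d - 1) F a b) W})
    (i c : ℕ) (hi : i = orderOf (q : ZMod r)) (hc : c = if Even i then i else 2 * i) :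
    (∀ x : GL ((Fin (d - 1) ⊕ Fin (d - 1)) ⊕ Fin 2) F, x ∈ Cfsg.Geo.omegaGL (Cfsg.quadFormMinus (d - 1) F a b) →
      (∃ z : F, ((x ^ r : GL ((Fin (d - 1) ⊕ Fin (d - 1)) ⊕ Fin 2) F) : Matrix ((Fin (d - 1) ⊕ Fin (d - 1)) ⊕ Fin 2) ((Fin (d - 1) ⊕ Fin (d - 1)) ⊕ Fin 2) F) = z • (1 : Matrix ((Fin (d - 1) ⊕ Fin (d - 1)) ⊕ Fin 2) ((Fin (d - 1) ⊕ Fin (d - 1)) ⊕ Fin 2) F)) →
      (∀ z : F, (x : Matrix ((Fin (d - 1) ⊕ Fin (d - 1)) ⊕ Fin 2) ((Fin (d - 1) ⊕ Fin (d - 1)) ⊕ Fin 2) F) ≠ z • (1 : Matrix ((Fin (d - 1) ⊕ Fin (d - 1)) ⊕ Fin 2) ((Fin (d - 1) ⊕ Fin (d - 1)) ⊕ Fin 2) F)) →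
      ∃ W : Submodule F ((Fin (d - 1) ⊕ Fin (d - 1)) ⊕ Fin 2 → F), (Module.finrank F ↥W = m ∧ Cfsg.Geo.IsTotallySingularQuad (Cfsg.quadFormMinus (d - 1) F a b) W) ∧ W.map (Matrix.toLin' (x : Matrix ((Fin (d - 1) ⊕ Fin (d - 1)) ⊕ Fin 2) ((Fin (d - 1) ⊕ Fin (d - 1)) ⊕ Fin 2) F)) ≤ W) ↔
    ((r = 2 ∧ p ≠ 2 ∧ (Even d ∨ Even m ∨ q % 8 ≠ 7)) ∨
     (r ≠ p ∧ 2 < r ∧ Odd i ∧ i ≤ m ∧ ((2 * d) % c = 0 ∨ 2 * (m % i) < (2 * d) % c)) ∨
     (r ≠ p ∧ 2 < r ∧ Even i ∧ i ≤ m ∧ (r - 1) / i + 2 * (m / i) ≤ (2 * d) / i ∧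
       ((2 * (m % i) ≤ i ∧ (2 * d) % c = 0 ∧ Even ((2 * d) / i) ∧ (r - 1) / i + 2 * (m / i) < (2 * d) / i) ∨
        (2 * (m % i) ≤ (2 * d) % c ∧ Odd ((2 * d) / i)) ∨
        (2 * (m % i) < (2 * d) % c ∧ Even ((2 * d) / i))))) := by
  subst hq
  subst hi
  have hr := (Fact.out : r.Prime)
  have hp := (Fact.out : p.Prime)
  have hd1 : 1 ≤ d := by omega
  have hmd' : m < d := by omega
  have hcoe := QMn_coe (F := F) (d - 1) a b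
  have hQ := QMn_nondeg (F := F) (d - 1) a b hab
  have hminus : ¬ IsPlus (QMn (d - 1) a b) :=
    Cfsg.Agent.Lib.Helper5.OrthCls.not_isPlus_QMn (d - 1) a b hab
  have hcardι : Fintype.card ((Fin (d - 1) ⊕ Fin (d - 1)) ⊕ Fin 2) = 2 * d := by
    simp only [Fintype.card_sum, Fintype.card_fin]
    omega
  have hfr : finrank F ((Fin (d - 1) ⊕ Fin (d - 1)) ⊕ Fin 2 → F) = 2 * d := by
    rw [Module.finrank_fintype_fun_eq_card, hcardι]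
  have hrΩ' : r ∣ Nat.card {W : Submodule F ((Fin (d - 1) ⊕ Fin (d - 1)) ⊕ Fin 2 → F) //
      finrank F W = m ∧ ∀ w ∈ W, (QMn (d - 1) a b) w = 0} := by
    rw [← hcoe] at hrΩ
    exact hrΩ
  -- `r ≠ p`
  have hrp : r ≠ p := by
    rintro rfl
    exact not_char_dvd_card_ts_even (QMn (d - 1) a b) hQ d hfr m hmd' hrΩ'
  rcases Nat.lt_or_ge 2 r with hr2 | hr2
  · -- odd `r`
    have hrow := row_odd_iff (p := p) (QMn (d - 1) a b) hQ (by rw [hcardι]; omega)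
      (by rw [hcardι]; exact ⟨d, by ring⟩) r hrp hr2 m
    rw [hcardι] at hrow
    have hL : (∀ x : GL ((Fin (d - 1) ⊕ Fin (d - 1)) ⊕ Fin 2) F, x ∈ Cfsg.Geo.omegaGL (Cfsg.quadFormMinus (d - 1) F a b) →
      (∃ z : F, ((x ^ r : GL ((Fin (d - 1) ⊕ Fin (d - 1)) ⊕ Fin 2) F) : Matrix ((Fin (d - 1) ⊕ Fin (d - 1)) ⊕ Fin 2) ((Fin (d - 1) ⊕ Fin (d - 1)) ⊕ Fin 2) F) = z • (1 : Matrix ((Fin (d - 1) ⊕ Fin (d - 1)) ⊕ Fin 2) ((Fin (d - 1) ⊕ Fin (d - 1)) ⊕ Fin 2) F)) →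
      (∀ z : F, (x : Matrix ((Fin (d - 1) ⊕ Fin (d - 1)) ⊕ Fin 2) ((Fin (d - 1) ⊕ Fin (d - 1)) ⊕ Fin 2) F) ≠ z • (1 : Matrix ((Fin (d - 1) ⊕ Fin (d - 1)) ⊕ Fin 2) ((Fin (d - 1) ⊕ Fin (d - 1)) ⊕ Fin 2) F)) →
      ∃ W : Submodule F ((Fin (d - 1) ⊕ Fin (d - 1)) ⊕ Fin 2 → F), (Module.finrank F ↥W = m ∧ Cfsg.Geo.IsTotallySingularQuad (Cfsg.quadFormMinus (d - 1) F a b) W) ∧ W.map (Matrix.toLin' (x : Matrix ((Fin (d - 1) ⊕ Fin (d - 1)) ⊕ Fin 2) ((Fin (d - 1) ⊕ Fin (d - 1)) ⊕ Fin 2) F)) ≤ W) ↔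
      (∀ x : GL ((Fin (d - 1) ⊕ Fin (d - 1)) ⊕ Fin 2) F, x ∈ Cfsg.Geo.omegaGL ⇑(QMn (d - 1) a b) →
      (∃ z : F, ((x ^ r : GL ((Fin (d - 1) ⊕ Fin (d - 1)) ⊕ Fin 2) F) : Matrix ((Fin (d - 1) ⊕ Fin (d - 1)) ⊕ Fin 2) ((Fin (d - 1) ⊕ Fin (d - 1)) ⊕ Fin 2) F) = z • (1 : Matrix ((Fin (d - 1) ⊕ Fin (d - 1)) ⊕ Fin 2) ((Fin (d - 1) ⊕ Fin (d - 1)) ⊕ Fin 2) F)) →
      (∀ z : F, (x : Matrix ((Fin (d - 1) ⊕ Fin (d - 1)) ⊕ Fin 2) ((Fin (d - 1) ⊕ Fin (d - 1)) ⊕ Fin 2) F) ≠ z • (1 : Matrix ((Fin (d - 1) ⊕ Fin (d - 1)) ⊕ Fin 2) ((Fin (d - 1) ⊕ Fin (d - 1)) ⊕ Fin 2) F)) →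
      ∃ W : Submodule F ((Fin (d - 1) ⊕ Fin (d - 1)) ⊕ Fin 2 → F), finrank F W = m ∧ (∀ w ∈ W, (QMn (d - 1) a b) w = 0) ∧ W.map (Matrix.toLin' (x : Matrix ((Fin (d - 1) ⊕ Fin (d - 1)) ⊕ Fin 2) ((Fin (d - 1) ⊕ Fin (d - 1)) ⊕ Fin 2) F)) ≤ W) := by
      rw [← hcoe]
      constructor
      · intro h x hx hxr hns
        obtain ⟨W, ⟨h1, h3⟩, h4⟩ := h x hx hxr hns
        exact ⟨W, h1, h3, h4⟩
      · intro h x hx hxr hns
        obtain ⟨W, h1, h3, h4⟩ := h x hx hxr hns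
        exact ⟨W, ⟨h1, h3⟩, h4⟩
    rw [hL, hrow]
    set i := orderOf ((Fintype.card F : ℕ) : ZMod r) with hi
    have hi0 : 0 < i := by
      apply orderOf_pos_iff.2
      apply isOfFinOrder_iff_pow_eq_one.2
      refine ⟨r - 1, by have := hr.two_le; omega, ?_⟩
      apply ZMod.pow_card_sub_one_eq_one
      intro h0
      rw [ZMod.natCast_eq_zero_iff] at h0
      obtain ⟨n, -, hn⟩ := FiniteField.card F p
      rw [hn] at h0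
      exact hrp ((Nat.prime_dvd_prime_iff_eq hr hp).1 (hr.dvd_of_dvd_pow h0))
    have hidvd : i ∣ r - 1 := by
      apply orderOf_dvd_of_pow_eq_one
      apply ZMod.pow_card_sub_one_eq_one
      intro h0
      rw [ZMod.natCast_eq_zero_iff] at h0
      obtain ⟨n, -, hn⟩ := FiniteField.card F p
      rw [hn] at h0
      exact hrp ((Nat.prime_dvd_prime_iff_eq hr hp).1 (hr.dvd_of_dvd_pow h0))
    have ht1 : 1 ≤ (r - 1) / i := by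
      have : i ≤ r - 1 := Nat.le_of_dvd (by omega) hidvd
      exact (Nat.one_le_div_iff hi0).2 this
    obtain ⟨j, hjm, hj⟩ := cnt_minus (QMn (d - 1) a b) hQ hminus d hfr m hmd' r hrp (by omega) hrΩ'
    rw [← hi] at hj
    rcases Nat.even_or_odd i with hev | hod
    · have hc' : c = i := by rw [hc, if_pos hev]
      have hcnt : ∃ j, j < m ∧ ((d - j) % i = i / 2 ∨ i ∣ d - j - 1) := by
        refine ⟨j, hjm, ?_⟩
        rcases hj with h | h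
        · exact Or.inl h.2
        · exact Or.inr h
      rw [arith_minus_even _ hminus d m i _ hev hi0 ht1 hm hmd' hcnt, hc']
      constructor
      · rintro ⟨h1, h2, h3⟩
        right; right
        exact ⟨hrp, hr2, hev, h1, h2, h3⟩
      · rintro (⟨h1, -⟩ | ⟨-, -, h1, -⟩ | ⟨-, -, -, h1, h2, h3⟩)
        · omega
        · exact absurd hev (Nat.not_even_iff_odd.2 h1)
        · exact ⟨h1, h2, h3⟩
    · have hc' : c = 2 * i := by rw [hc, if_neg (Nat.not_even_iff_odd.2 hod)]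
      have hcnt : ∃ j, j < m ∧ i ∣ d - j - 1 := by
        refine ⟨j, hjm, ?_⟩
        rcases hj with h | h
        · exact absurd h.1 (Nat.not_even_iff_odd.2 hod)
        · exact h
      rw [arith_minus_odd _ hminus d m i _ hod hm hmd' hcnt, hc']
      constructor
      · rintro ⟨h1, h2⟩
        right; left
        exact ⟨hrp, hr2, hod, h1, h2⟩
      · rintro (⟨h1, -⟩ | ⟨-, -, -, h1, h2⟩ | ⟨-, -, h1, -⟩)
        · omega
        · exact ⟨h1, h2⟩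
        · exact absurd h1 (Nat.not_even_iff_odd.2 hod)
  · -- `r = 2`
    have hr2' : r = 2 := le_antisymm hr2 hr.two_le
    subst hr2'
    have hp2 : p ≠ 2 := fun h => hrp h.symm
    have hodd : Odd (Fintype.card F) := by
      obtain ⟨n, -, hn⟩ := FiniteField.card F p
      rw [hn]
      exact Odd.pow (hp.odd_of_ne_two hp2)
    rw [two_minus hodd d m hd hm hmd a b hab]
    constructor
    · intro h
      left
      exact ⟨rfl, hp2, h⟩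
    · rintro (⟨-, -, h⟩ | ⟨-, h, -⟩ | ⟨-, h, -⟩)
      · exact h
      · omega
      · omega

end Cfsg.Agent.S5987
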