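import Cfsg.Statements.S5988
import Cfsg.Agent.Lib.Helper5.OEll_A
import Cfsg.Agent.Lib.Helper5.OEll_C
import Cfsg.Agent.Lib.Helper2.OrthCfM
import Cfsg.Agent.Lib.Helper2.OrthCfJ
import Cfsg.Agent.Lib.Helper2.OrthCfL

set_option autoImplicit false
open scoped MatrixGroups
open Cfsg

namespace Cfsg.Agent.S5988

/-- Elements of prime order of PΩ⁺_n(q) with no fixed elliptic `m`-space. Here `T = PΩ⁺_n(F)`, `n = 2d ≥ 8`, realised through `Ω⁺_n(q)`, the commutator subgroup of the isometry group of `Q = Σ xᵢyᵢ` over the field `F` with `q` elements; an element of `T` of prime order `r` is an element `x` of `Ω⁺_n(q)` with `x^r` scalar and `x` not scalar; a nondegenerate `m`-space (even `m`) is a subspace on which the polar form of `Q` is nondegenerate; it is hyperbolic if it contains an `m/2`-dimensional subspace on which `Q` vanishes, elliptic otherwise. Let `m` be even with `2 ≤ m < n/2` and let `r` be a prime dividing the number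 of elliptic `m`-spaces; for `r ≠ p` let `i` be the multiplicative order of `q` modulo `r`, `c = i` for `i` even and `c = 2i` for `i` odd, and write `k = n mod c`, `ℓ = m mod i`, `ℓ' = m mod c`, `n' = ⌊n/i⌋`, `m' = ⌊m/i⌋`, `t = (r−1)/i`. Then every element of `T` of order `r` fixes some elliptic `m`-space if and only if one of: (i) `r = 2 ≠ p` and either `n ≡ 0 (mod 4)`, `q ≡ 3 (mod 4)` and `m ≡ 2 (mod 4)`, or `n ≡ 2 (mod 4)` and `q ≢ 1 (mod 8)`; (ii) `r ≠ p` odd, `i` odd, `c ≤ m` and `k > ℓ' > 0`; (iii) `r ≠ p` odd, `i` even, and either `k = 0` and (`n/i` odd, or `ℓ' = 0` and `m/i` odd), or `i ≤ m` and (`k > ℓ' > 0`, or `k = ℓ' > 0` and `(n + m − 2k)/i` odd, or `k > ℓ' = 0` and `m/i` odd). (For `r = p` there is always an element of order `p` fixing no elliptic `m`-space.) -/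
theorem result {F : Type*} [Field F] [Fintype F] {p : ℕ} [Fact p.Prime] [CharP F p] {q : ℕ} (hq : Fintype.card F = q)
    (d m : ℕ) (hd : 4 ≤ d) (hm : 2 ≤ m) (hme : Even m) (hmd : m < d)
    (r : ℕ) [Fact r.Prime]
    (hrΩ : r ∣ Nat.card {W : Submodule F (Fin d ⊕ Fin d → F) // Module.finrank F ↥W = m ∧ Cfsg.Geo.IsNondegenerateOn (QuadraticMap.polar (Cfsg.quadFormPlus d F)) W ∧ ¬ Cfsg.Geo.IsPlusTypeOn (Cfsg.quadFormPlus d F) W})
    (i c : ℕ) (hi : i = orderOf (q : ZMod r)) (hc : c = if Even i then i else 2 * i) :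
    (∀ x : GL (Fin d ⊕ Fin d) F, x ∈ Cfsg.Geo.omegaGL (Cfsg.quadFormPlus d F) →
      (∃ z : F, ((x ^ r : GL (Fin d ⊕ Fin d) F) : Matrix (Fin d ⊕ Fin d) (Fin d ⊕ Fin d) F) = z • (1 : Matrix (Fin d ⊕ Fin d) (Fin d ⊕ Fin d) F)) →
      (∀ z : F, (x : Matrix (Fin d ⊕ Fin d) (Fin d ⊕ Fin d) F) ≠ z • (1 : Matrix (Fin d ⊕ Fin d) (Fin d ⊕ Fin d) F)) →
      ∃ W : Submodule F (Fin d ⊕ Fin d → F), (Module.finrank F ↥W = m ∧ Cfsg.Geo.IsNondegenerateOn (QuadraticMap.polar (Cfsg.quadFormPlus d F)) W ∧ ¬ Cfsg.Geo.IsPlusTypeOn (Cfsg.quadFormPlus d F) W) ∧ W.map (Matrix.toLin' (x : Matrix (Fin d ⊕ Fin d) (Fin d ⊕ Fin d) F)) ≤ W) ↔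
    ((r = 2 ∧ p ≠ 2 ∧ ((Even d ∧ q % 4 = 3 ∧ m % 4 = 2) ∨ (Odd d ∧ q % 8 ≠ 1))) ∨
     (r ≠ p ∧ 2 < r ∧ Odd i ∧ c ≤ m ∧ 0 < m % c ∧ m % c < (2 * d) % c) ∨
     (r ≠ p ∧ 2 < r ∧ Even i ∧
       (((2 * d) % c = 0 ∧ (Odd ((2 * d) / i) ∨ (m % c = 0 ∧ Odd (m / i)))) ∨
        (i ≤ m ∧ ((0 < m % c ∧ m % c < (2 * d) % c) ∨
                  (0 < m % c ∧ m % c = (2 * d) % c ∧ Odd ((2 * d + m - 2 * ((2 * d) % c)) / i)) ∨
                  (m % c = 0 ∧ 0 < (2 * d) % c ∧ Odd (m / i))))))) := by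
  classical
  have hi' : i = orderOf ((Fintype.card F : ℕ) : ZMod r) := by rw [hq]; exact hi
  have hrpr : r.Prime := Fact.out
  have hppr : p.Prime := Fact.out
  have hkey : ∀ W : Submodule F (Fin d ⊕ Fin d → F),
      (Module.finrank F ↥W = m ∧
        Cfsg.Geo.IsNondegenerateOn (QuadraticMap.polar (Cfsg.quadFormPlus d F)) W ∧
        ¬ Cfsg.Geo.IsPlusTypeOn (Cfsg.quadFormPlus d F) W) ↔
      (Module.finrank F ↥W = m ∧
        Cfsg.Agent.Lib.Helper2.OrthEl.NDeg (Cfsg.Agent.Lib.Helper5.QuadGlue.QP d F) W ∧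
        (Cfsg.Agent.Lib.Helper2.OrthNd.PlusS (Cfsg.Agent.Lib.Helper5.QuadGlue.QP d F) W ↔
          False)) := by
    intro W
    rw [← Cfsg.Agent.Lib.Helper2.QuadStd.QP_coe, Cfsg.Agent.Lib.Helper2.OrthNd.ndegOn_iff,
      Cfsg.Agent.Lib.Helper2.OrthNd.plusOn_iff, iff_false]
  by_cases hrp : r = p
  · -- the unipotent derangement
    subst hrp
    constructor
    · intro h
      exfalso
      obtain ⟨x, hx, hxp, hns, hbad⟩ :=
        Cfsg.Agent.Lib.Helper5.OEll.ell_exists_unip_plus (F := F) (p := r) d (by omega)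
      obtain ⟨W, ⟨hWm, hWn, hWt⟩, hWx⟩ := h x hx
        ⟨1, by rw [hxp, Units.val_one, one_smul]⟩ hns
      exact hbad W (by rw [hWm]; exact hme) hWn hWt hWx
    · rintro (⟨h1, h2, -⟩ | ⟨h, -⟩ | ⟨h, -⟩)
      · exact absurd h1 h2
      · exact absurd rfl h
      · exact absurd rfl h
  by_cases hr2 : r = 2
  · subst hr2
    have hp2 : p ≠ 2 := fun h => hrp h.symm
    have h2 : (2 : F) ≠ 0 := by
      intro h
      have h' : ((2 : ℕ) : F) = 0 := by exact_mod_cast h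
      have := (CharP.cast_eq_zero_iff F p 2).1 h'
      exact hp2 ((Nat.prime_dvd_prime_iff_eq hppr Nat.prime_two).1 this)
    have hodd : Odd (Fintype.card F) := by
      rw [Nat.odd_iff]
      exact Cfsg.Agent.Lib.Helper2.OrthCf.odd_card_of_two_ne_zero h2
    rw [← hq]
    constructor
    · intro h
      left
      refine ⟨rfl, hp2, ?_⟩
      by_contra hcon
      obtain ⟨x, hx, hxr, hns, hbad⟩ :=
        Cfsg.Agent.Lib.Helper5.OEll.ell_plus_two_bad hodd d m (by omega) hme hcon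
      obtain ⟨W, ⟨hWm, hWn, hWt⟩, hWx⟩ := h x hx hxr hns
      exact hbad W hWm hWn hWt hWx
    · rintro (⟨-, -, h⟩ | ⟨-, h, -⟩ | ⟨-, h, -⟩)
      · intro x hx hxr _
        exact Cfsg.Agent.Lib.Helper5.OEll.ell_plus_two_fix hodd d m (by omega) (by omega) hme
          (by omega) h x hx hxr
      · omega
      · omega
  · have hr3 : 2 < r := by
      have := hrpr.two_le
      omega
    have hi1 : 1 ≤ i := by
      rw [hi']
      exact Cfsg.Agent.Lib.Helper9.H9Elus.order_pos (F := F) r hrp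
    have hrΩ' : r ∣ Nat.card (Cfsg.Agent.Lib.Helper2.OrthCf.TySub
        (Cfsg.Agent.Lib.Helper5.QuadGlue.QP d F) m False) := by
      rw [← Nat.card_congr (Equiv.subtypeEquivRight hkey)]
      exact hrΩ
    simp only [hkey]
    rw [← Cfsg.Agent.Lib.Helper2.QuadStd.QP_coe]
    rw [Cfsg.Agent.Lib.Helper2.OrthCf.core_even (Cfsg.Agent.Lib.Helper5.QuadGlue.QP d F)
      (Cfsg.Agent.Lib.Helper2.QuadStd.QP_nondeg d) d m (by omega)
      (by simp only [Fintype.card_sum, Fintype.card_fin]; ring) (by omega) hme (by omega) r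
      hrp hr2 True False
      (iff_of_true (Cfsg.Agent.Lib.Helper5.OrthCls.isPlus_QP d) trivial) hrΩ' i c hi' hc,
      Cfsg.Agent.Lib.Helper2.OrthCf.arith_S5988 i c d m hi1 hc (by omega)]
    constructor
    · rintro (h | h)
      · right
        left
        exact ⟨hrp, hr3, h⟩
      · right
        right
        exact ⟨hrp, hr3, h⟩
    · rintro (⟨h, -⟩ | ⟨-, -, h⟩ | ⟨-, -, h⟩)
      · exact absurd h hr2
      · left
        exact h
      · right
        exact h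


end Cfsg.Agent.S5988
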