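import Cfsg.Statements.S5989
import Cfsg.Agent.Lib.Helper5.OPar_ASM4
import Cfsg.Agent.Lib.Helper5.OPar_UNI

set_option autoImplicit false
open scoped MatrixGroups
open Cfsg

namespace Cfsg.Agent.S5989

/-- Elements of prime order of PΩ⁺_n(q), q odd, with no fixed nondegenerate `m`-space of odd dimension. Here `T = PΩ⁺_n(F)`, `n = 2d ≥ 8`, realised through `Ω⁺_n(q)`, the commutator subgroup of the isometry group of `Q = Σ xᵢyᵢ` over the field `F` with `q` elements; an element of `T` of prime order `r` is an element `x` of `Ω⁺_n(q)` with `x^r` scalar and `x` not scalar; `q` and `m` are odd, `1 ≤ m < n/2`. The nondegenerate `m`-spaces (subspaces on which the polar form is nondegenerate) fall into two isometry classes, each an orbit of `T`, and the two actions are equivalent; fix one such space `W₀` and let Ω be the set of nondegenerate `m`-spaces isometric to `W₀` (some linear isomorphism preserves `Q`). Let `r` be a prime dividing the size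 of Ω; for `r ≠ p` let `i` be the multiplicative order of `q` modulo `r`, `c = i` for `i` even and `c = 2i` for `i` odd, and write `k = n mod c`, `ℓ = m mod i`, `ℓ' = m mod c`, `n' = ⌊n/i⌋`, `m' = ⌊m/i⌋`, `t = (r−1)/i`. Then every element of `T` of order `r` fixes a member of Ω if and only if one of: (i) `r = 2`, `n ≡ 2 (mod 4)` and `q ≢ 1 (mod 8)`; (ii) `r ≠ p` odd, `i` odd, `c ≤ m` and `k > ℓ' > 0`; (iii) `r ≠ p` odd, `i` even, and either `k = 0` and `n/i` odd, or `i ≤ m` and `k > ℓ' > 0`. (For `r = p` there is always an element of order `p` fixing no member of Ω.) -/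
theorem result {F : Type*} [Field F] [Fintype F] {p : ℕ} [Fact p.Prime] [CharP F p] {q : ℕ} (hq : Fintype.card F = q)
    (hodd : Odd q) (d m : ℕ) (hd : 4 ≤ d) (hm : Odd m) (hmd : m < d)
    (W₀ : Submodule F (Fin d ⊕ Fin d → F)) (hW₀ : Module.finrank F ↥W₀ = m ∧ Cfsg.Geo.IsNondegenerateOn (QuadraticMap.polar (Cfsg.quadFormPlus d F)) W₀)
    (r : ℕ) [Fact r.Prime]
    (hrΩ : r ∣ Nat.card {W : Submodule F (Fin d ⊕ Fin d → F) // Module.finrank F ↥W = m ∧ Cfsg.Geo.IsNondegenerateOn (QuadraticMap.polar (Cfsg.quadFormPlus d F)) W ∧ Cfsg.Geo.AreIsometricFor (Cfsg.quadFormPlus d F) W W₀})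
    (i c : ℕ) (hi : i = orderOf (q : ZMod r)) (hc : c = if Even i then i else 2 * i) :
    (∀ x : GL (Fin d ⊕ Fin d) F, x ∈ Cfsg.Geo.omegaGL (Cfsg.quadFormPlus d F) →
      (∃ z : F, ((x ^ r : GL (Fin d ⊕ Fin d) F) : Matrix (Fin d ⊕ Fin d) (Fin d ⊕ Fin d) F) = z • (1 : Matrix (Fin d ⊕ Fin d) (Fin d ⊕ Fin d) F)) →
      (∀ z : F, (x : Matrix (Fin d ⊕ Fin d) (Fin d ⊕ Fin d) F) ≠ z • (1 : Matrix (Fin d ⊕ Fin d) (Fin d ⊕ Fin d) F)) →
      ∃ W : Submodule F (Fin d ⊕ Fin d → F), (Module.finrank F ↥W = m ∧ Cfsg.Geo.IsNondegenerateOn (QuadraticMap.polar (Cfsg.quadFormPlus d F)) W ∧ Cfsg.Geo.AreIsometricFor (Cfsg.quadFormPlus d F) W W₀) ∧ W.map (Matrix.toLin' (x : Matrix (Fin d ⊕ Fin d) (Fin d ⊕ Fin d) F)) ≤ W) ↔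
    ((r = 2 ∧ Odd d ∧ q % 8 ≠ 1) ∨
     (r ≠ p ∧ 2 < r ∧ Odd i ∧ c ≤ m ∧ 0 < m % c ∧ m % c < (2 * d) % c) ∨
     (r ≠ p ∧ 2 < r ∧ Even i ∧ (((2 * d) % c = 0 ∧ Odd ((2 * d) / i)) ∨ (i ≤ m ∧ 0 < m % c ∧ m % c < (2 * d) % c)))) := by
  classical
  subst hq
  have hodd' : Odd (Fintype.card F) := hodd
  have hpodd := Cfsg.Agent.Lib.Helper5.UniO.odd_char_of_odd_card p hodd'
  have hp2 : p ≠ 2 := by
    rintro rfl
    exact absurd hpodd (by decide)
  have hcb : c = Cfsg.Agent.Lib.Helper5.OPar.blockDim (orderOf ((Fintype.card F : ℕ) : ZMod r)) := by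
    rw [hc, hi]; rfl
  have hmpos : 0 < m % c ∨ True := Or.inr trivial
  by_cases hrp : r = p
  · -- r = p : a unipotent derangement
    subst hrp
    constructor
    · intro H
      exfalso
      obtain ⟨x, hxΩ, hxp, hns, hbad⟩ := Cfsg.Agent.Lib.Helper5.OPar.par_plus_unip hodd' r d m hd hm
      obtain ⟨W, ⟨hWm, hWn, -⟩, hWx⟩ := H x hxΩ ⟨1, by rw [hxp, one_smul]; rfl⟩ hns
      exact hbad W hWm hWn hWx
    · rintro (⟨h1, -⟩ | ⟨h1, -⟩ | ⟨h1, -⟩)
      · exact absurd h1 hp2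
      · exact absurd rfl h1
      · exact absurd rfl h1
  by_cases hr2 : r = 2
  · subst hr2
    constructor
    · intro H
      left
      refine ⟨rfl, ?_⟩
      by_contra hcon
      have hcase : Even d ∨ Fintype.card F % 8 = 1 := by
        by_cases hde : Even d
        · exact Or.inl hde
        · right
          by_contra h8
          exact hcon ⟨Nat.not_even_iff_odd.1 hde, h8⟩
      obtain ⟨x, hxΩ, hxr, hns, hbad⟩ :=
        Cfsg.Agent.Lib.Helper5.OPar.par_plus_two_bad hodd' d m (by omega) hm hcase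
      obtain ⟨W, ⟨hWm, hWn, -⟩, hWx⟩ := H x hxΩ hxr hns
      exact hbad W hWm hWn hWx
    · rintro (⟨-, hdo, h8⟩ | ⟨-, h1, -⟩ | ⟨-, h1, -⟩)
      · intro x hxΩ hxr _
        exact Cfsg.Agent.Lib.Helper5.OPar.par_plus_two_fix hodd' d m (by omega) hm hmd W₀ hW₀ hdo h8
          x hxΩ hxr
      · omega
      · omega
  · -- r odd, r ≠ p
    have hr3 : 2 < r := by
      have := (Fact.out : r.Prime).two_le
      omega
    have hipos : 0 < i := by
      rw [hi]
      exact Cfsg.Agent.Lib.Helper9.H9Elus.order_pos (F := F) r hrp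
    -- the normal form of the condition
    have hnorm : ((r ≠ p ∧ 2 < r ∧ Odd i ∧ c ≤ m ∧ 0 < m % c ∧ m % c < (2 * d) % c) ∨
        (r ≠ p ∧ 2 < r ∧ Even i ∧ (((2 * d) % c = 0 ∧ Odd ((2 * d) / i)) ∨
          (i ≤ m ∧ 0 < m % c ∧ m % c < (2 * d) % c)))) ↔
        ((c ≤ m ∧ m % c < (2 * d) % c) ∨ ((2 * d) % c = 0 ∧ Even i ∧ Odd ((2 * d) / i))) := by
      have hceven : Even c := by rw [hcb]; exact Cfsg.Agent.Lib.Helper5.OPar.blockDim_even _
      have hcpos : 0 < c := by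
        rw [hc]; split_ifs <;> omega
      have hmodpos : 0 < m % c := by
        obtain ⟨c', hc'⟩ := hceven
        obtain ⟨m', hm'⟩ := hm
        have hmdm := Nat.div_add_mod m c
        rcases Nat.eq_zero_or_pos (m % c) with h | h
        · have e1 : c * (m / c) = 2 * (c' * (m / c)) := by rw [hc']; ring
          omega
        · exact h
      rcases Nat.even_or_odd i with hie | hio
      · have hci : c = i := by rw [hc, if_pos hie]
        constructor
        · rintro (⟨-, -, h3, -⟩ | ⟨-, -, -, h4 | h4⟩)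
          · exact absurd hie (Nat.not_even_iff_odd.2 h3)
          · exact Or.inr ⟨h4.1, hie, h4.2⟩
          · exact Or.inl ⟨by rw [hci]; exact h4.1, h4.2.2⟩
        · rintro (h | h)
          · exact Or.inr ⟨hrp, hr3, hie, Or.inr ⟨by rw [← hci]; exact h.1, hmodpos, h.2⟩⟩
          · exact Or.inr ⟨hrp, hr3, hie, Or.inl ⟨h.1, h.2.2⟩⟩
      · constructor
        · rintro (⟨-, -, -, h4, -, h6⟩ | ⟨-, -, h3, -⟩)
          · exact Or.inl ⟨h4, h6⟩
          · exact absurd h3 (Nat.not_even_iff_odd.2 hio)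
        · rintro (h | h)
          · exact Or.inl ⟨hrp, hr3, hio, h.1, hmodpos, h.2⟩
          · exact absurd h.2.1 (Nat.not_even_iff_odd.2 hio)
    have hr2' : ¬ (r = 2 ∧ Odd d ∧ Fintype.card F % 8 ≠ 1) := fun h => hr2 h.1
    rw [or_iff_right hr2', hnorm, hcb, hi]
    constructor
    · intro H
      by_contra hcon
      obtain ⟨x, hxΩ, hxr, hns, hbad⟩ := Cfsg.Agent.Lib.Helper5.OPar.par_plus_ss_bad hodd' d m
        (by omega) hm hmd W₀ hW₀ r hrp hr3 hrΩ hcon
      obtain ⟨W, ⟨hWm, hWn, -⟩, hWx⟩ := H x hxΩ hxr hns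
      exact hbad W hWm hWn hWx
    · intro hcond x hxΩ hxr hns
      exact Cfsg.Agent.Lib.Helper5.OPar.par_plus_ss_fix hodd' d m (by omega) hm hmd W₀ hW₀ r hrp hr3
        hcond x hxΩ hxr hns


end Cfsg.Agent.S5989
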