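import Cfsg.Statements.S5990
import Cfsg.Agent.Lib.Helper5.OEll_A
import Cfsg.Agent.Lib.Helper2.OCf_TSRM
import Cfsg.Agent.Lib.Helper2.OrthCfN
import Cfsg.Agent.Lib.Helper9.OCf_R2E3

set_option autoImplicit false
open scoped MatrixGroups
open Cfsg

namespace Cfsg.Agent.S5990

/-- Elements of prime order of PΩ⁻_n(q) with no fixed elliptic `m`-space. Here `T = PΩ⁻_n(F)`, `n = 2d ≥ 8`, realised through `Ω⁻_n(q)`, the commutator subgroup of the isometry group of `Q = Σ_{i<d−1} xᵢyᵢ + z₁² + a z₁z₂ + b z₂²` with `z₁² + a z₁z₂ + b z₂²` anisotropic, over the field `F` with `q` elements; an element of `T` of prime order `r` is an element `x` of `Ω⁻_n(q)` with `x^r` scalar and `x` not scalar; a nondegenerate `m`-space (even `m`) is a subspace on which the polar form of `Q` is nondegenerate; it is hyperbolic if it contains an `m/2`-dimensional subspace on which `Q` vanishes, elliptic otherwise. Let `m` be even with `2 ≤ m ≤ n − 2` (no restriction `m < n/2`: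 fixing an elliptic `m`-space is the same as fixing its hyperbolic orthogonal complement) and let `r` be a prime dividing the number of elliptic `m`-spaces, with `r = 2` or `r ≠ p`; for `r ≠ p` let `i` be the multiplicative order of `q` modulo `r`, `c = i` for `i` even and `c = 2i` for `i` odd, and write `k = n mod c`, `ℓ = m mod i`, `ℓ' = m mod c`, `n' = ⌊n/i⌋`, `m' = ⌊m/i⌋`, `t = (r−1)/i`. Then every element of `T` of order `r` fixes some elliptic `m`-space if and only if one of: (i) `r = p = 2` and (`n ≡ 0 (mod 4)` or `m ≡ 2 (mod 4)`); (ii) `r = 2 ≠ p` and (`n ≡ 0 (mod 4)`, or `q ≢ 7 (mod 8)`, or `m ≡ 2 (mod 4)`); (iii) `r ≠ p` odd, `i` odd, and `k = 0` or (`c ≤ m` and `k ≥ ℓ' > 0`); (iv) `r ≠ p` odd, `i` even, and either `k = 0` and (`n/i` even, or `ℓ' = 0` and `m/i` odd), or `k > 0`, `i ≤ m` and (`k > ℓ' > 0`, or `ℓ' = 0` and `m/i` odd, or `k = ℓ'` and `(n + m − 2k)/i` even). (Odd `r = p` is not covered by this statement.) -/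
theorem result {F : Type*} [Field F] [Fintype F] {p : ℕ} [Fact p.Prime] [CharP F p] {q : ℕ} (hq : Fintype.card F = q)
    (d m : ℕ) (hd : 4 ≤ d) (hm : 2 ≤ m) (hme : Even m) (hmn : m + 2 ≤ 2 * d) (a b : F) (hab : ∀ x y : F, x ^ 2 + a * x * y + b * y ^ 2 = 0 → x = 0 ∧ y = 0)
    (r : ℕ) [Fact r.Prime] (hr : r = 2 ∨ r ≠ p)
    (hrΩ : r ∣ Nat.card {W : Submodule F ((Fin (d - 1) ⊕ Fin (d - 1)) ⊕ Fin 2 → F) // Module.finrank F ↥W = m ∧ Cfsg.Geo.IsNondegenerateOn (QuadraticMap.polar (Cfsg.quadFormMinus (d - 1) F a b)) W ∧ ¬ Cfsg.Geo.IsPlusTypeOn (Cfsg.quadFormMinus (d - 1) F a b) W})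
    (i c : ℕ) (hi : i = orderOf (q : ZMod r)) (hc : c = if Even i then i else 2 * i) :
    (∀ x : GL ((Fin (d - 1) ⊕ Fin (d - 1)) ⊕ Fin 2) F, x ∈ Cfsg.Geo.omegaGL (Cfsg.quadFormMinus (d - 1) F a b) →
      (∃ z : F, ((x ^ r : GL ((Fin (d - 1) ⊕ Fin (d - 1)) ⊕ Fin 2) F) : Matrix ((Fin (d - 1) ⊕ Fin (d - 1)) ⊕ Fin 2) ((Fin (d - 1) ⊕ Fin (d - 1)) ⊕ Fin 2) F) = z • (1 : Matrix ((Fin (d - 1) ⊕ Fin (d - 1)) ⊕ Fin 2) ((Fin (d - 1) ⊕ Fin (d - 1)) ⊕ Fin 2) F)) →
      (∀ z : F, (x : Matrix ((Fin (d - 1) ⊕ Fin (d - 1)) ⊕ Fin 2) ((Fin (d - 1) ⊕ Fin (d - 1)) ⊕ Fin 2) F) ≠ z • (1 : Matrix ((Fin (d - 1) ⊕ Fin (d - 1)) ⊕ Fin 2) ((Fin (d - 1) ⊕ Fin (d - 1)) ⊕ Fin 2) F)) →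
      ∃ W : Submodule F ((Fin (d - 1) ⊕ Fin (d - 1)) ⊕ Fin 2 → F), (Module.finrank F ↥W = m ∧ Cfsg.Geo.IsNondegenerateOn (QuadraticMap.polar (Cfsg.quadFormMinus (d - 1) F a b)) W ∧ ¬ Cfsg.Geo.IsPlusTypeOn (Cfsg.quadFormMinus (d - 1) F a b) W) ∧ W.map (Matrix.toLin' (x : Matrix ((Fin (d - 1) ⊕ Fin (d - 1)) ⊕ Fin 2) ((Fin (d - 1) ⊕ Fin (d - 1)) ⊕ Fin 2) F)) ≤ W) ↔
    ((r = 2 ∧ p = 2 ∧ (Even d ∨ m % 4 = 2)) ∨
     (r = 2 ∧ p ≠ 2 ∧ (Even d ∨ q % 8 ≠ 7 ∨ m % 4 = 2)) ∨
     (r ≠ p ∧ 2 < r ∧ Odd i ∧ ((2 * d) % c = 0 ∨ (c ≤ m ∧ 0 < m % c ∧ m % c ≤ (2 * d) % c))) ∨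
     (r ≠ p ∧ 2 < r ∧ Even i ∧
       (((2 * d) % c = 0 ∧ (Even ((2 * d) / i) ∨ (m % c = 0 ∧ Odd (m / i)))) ∨
        (0 < (2 * d) % c ∧ i ≤ m ∧ ((0 < m % c ∧ m % c < (2 * d) % c) ∨ (m % c = 0 ∧ Odd (m / i)) ∨
                                    (m % c = (2 * d) % c ∧ Even ((2 * d + m - 2 * ((2 * d) % c)) / i))))))) := by
  classical
  have hrpr : r.Prime := Fact.out
  have hppr : p.Prime := Fact.out
  by_cases hr2 : r = 2
  · subst hr2
    by_cases h2 : (2 : F) = 0
    · -- characteristic two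
      have hp2 : p = 2 := by
        have h' : ((2 : ℕ) : F) = 0 := by exact_mod_cast h2
        have := (CharP.cast_eq_zero_iff F p 2).1 h'
        exact (Nat.prime_dvd_prime_iff_eq hppr Nat.prime_two).1 this
      constructor
      · intro h
        left
        exact ⟨rfl, hp2,
          Cfsg.Agent.Lib.Helper2.OrthCf.S5990_two_char2_nec h2 d m hd hme a b hab h⟩
      · rintro (⟨-, -, hcond⟩ | ⟨-, h, -⟩ | ⟨-, h, -⟩ | ⟨-, h, -⟩)
        · intro x hx hxr _
          obtain ⟨z, hz⟩ := hxr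
          have hcoe := Cfsg.Agent.Lib.Helper2.OrthCard.QMn_coe (F := F) (d - 1) a b
          have hQ := Cfsg.Agent.Lib.Helper2.OrthCard.QMn_nondeg (F := F) (d - 1) a b hab
          have hcard : Fintype.card ((Fin (d - 1) ⊕ Fin (d - 1)) ⊕ Fin 2) = 2 * d := by
            simp only [Fintype.card_sum, Fintype.card_fin]; omega
          have hn : Module.finrank F ((Fin (d - 1) ⊕ Fin (d - 1)) ⊕ Fin 2 → F) = 2 * d := by
            rw [Module.finrank_fintype_fun_eq_card, hcard]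
          haveI : Nontrivial ((Fin (d - 1) ⊕ Fin (d - 1)) ⊕ Fin 2 → F) := by
            apply Module.nontrivial_of_finrank_pos (R := F)
            rw [hn]
            omega
          have hx' : x ∈ Cfsg.Geo.omegaGL ⇑(Cfsg.Agent.Lib.Helper2.OrthCard.QMn (d - 1) a b) := by
            rw [hcoe]; exact hx
          set y : Module.End F ((Fin (d - 1) ⊕ Fin (d - 1)) ⊕ Fin 2 → F) :=
            Matrix.toLin' (x : Matrix ((Fin (d - 1) ⊕ Fin (d - 1)) ⊕ Fin 2)
              ((Fin (d - 1) ⊕ Fin (d - 1)) ⊕ Fin 2) F) with hy_def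
          have hiso : ∀ v, Cfsg.Agent.Lib.Helper2.OrthCard.QMn (d - 1) a b (y v) =
              Cfsg.Agent.Lib.Helper2.OrthCard.QMn (d - 1) a b v :=
            Cfsg.Agent.Lib.Helper2.OrthEl.iso_apply
              (Cfsg.Agent.Lib.Helper2.OrthEl.mem_iso_of_mem_omegaGL hx')
          have hpow : y ^ 2 =
              z • (1 : Module.End F ((Fin (d - 1) ⊕ Fin (d - 1)) ⊕ Fin 2 → F)) := by
            rw [hy_def, ← Matrix.toLin'_pow, ← Units.val_pow_eq_pow_val, hz, map_smul,
              Matrix.toLin'_one]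
            rfl
          have hyy : ∀ v, y (y v) = z • v := by
            intro v
            have := congrArg
              (fun f : Module.End F ((Fin (d - 1) ⊕ Fin (d - 1)) ⊕ Fin 2 → F) => f v) hpow
            simpa [pow_two] using this
          have hzz := Cfsg.Agent.Lib.Helper2.OrthCf.sq_scalar_mul_self hQ hiso z hyy
          have hz1 : z = 1 := by
            have h3 : (z - 1) * (z - 1) = 0 := by
              have : (z - 1) * (z - 1) = z * z - 2 * z + 1 := by ring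
              rw [this, hzz, h2]
              have h4 : (1 : F) + 1 = 0 := by rw [one_add_one_eq_two]; exact h2
              linear_combination h4
            rcases mul_eq_zero.1 h3 with h | h <;> exact sub_eq_zero.1 h
          have hyy' : ∀ v, y (y v) = v := by
            intro v
            rw [hyy, hz1, one_smul]
          have hV : ¬ Cfsg.Agent.Lib.Helper2.OrthNd.PlusS
              (Cfsg.Agent.Lib.Helper2.OrthCard.QMn (d - 1) a b) ⊤ := by
            rw [Cfsg.Agent.Lib.Helper2.OrthCf.plusS_top_iff_isPlus]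
            exact Cfsg.Agent.Lib.Helper5.OrthCls.not_isPlus_QMn (d - 1) a b hab
          obtain ⟨W, hWinv, hWnd, hWdim, hWt⟩ :=
            Cfsg.Agent.Lib.Helper2.OrthCf.r2e_minus_pos h2 hQ hiso hyy' d m (by omega) hn hV hm
              hme hmn hcond
          refine ⟨W, ?_, (Cfsg.Agent.H9SemiInv.inv_iff _ _).1 hWinv⟩
          rw [← hcoe, Cfsg.Agent.Lib.Helper2.OrthCf.key_not_plus]
          exact ⟨hWdim, hWnd, iff_false_intro hWt⟩
        · exact absurd hp2 h
        · omega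
        · omega
    · -- odd characteristic
      have hp2 : p ≠ 2 := by
        rintro rfl
        exact h2 (CharTwo.two_eq_zero)
      have hodd : Odd (Fintype.card F) := by
        rw [Nat.odd_iff]
        exact Cfsg.Agent.Lib.Helper2.OrthCf.odd_card_of_two_ne_zero h2
      rw [← hq]
      constructor
      · intro h
        right
        left
        refine ⟨rfl, hp2, ?_⟩
        by_contra hcon
        obtain ⟨x, hx, hxr, hns, hbad⟩ :=
          Cfsg.Agent.Lib.Helper5.OEll.ell_minus_two_bad hodd d m (by omega) hme a b hab hcon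
        obtain ⟨W, ⟨hWm, hWn, hWt⟩, hWx⟩ := h x hx hxr hns
        exact hbad W hWm hWn hWt hWx
      · rintro (⟨-, h, -⟩ | ⟨-, -, h⟩ | ⟨-, h, -⟩ | ⟨-, h, -⟩)
        · exact absurd h hp2
        · intro x hx hxr _
          exact Cfsg.Agent.Lib.Helper5.OEll.ell_minus_two_fix hodd d m (by omega) (by omega) hme
            (by omega) a b hab h x hx hxr
        · omega
        · omega
  · have hrp : r ≠ p := by
      rcases hr with h | h
      · exact absurd h hr2
      · exact h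
    have hr3 : 2 < r := by
      have := hrpr.two_le
      omega
    rw [Cfsg.Agent.Lib.Helper2.OrthCf.odd_half_S5990 hq d m hd hm hme hmn a b hab r hrp hr2 hrΩ
      i c hi hc]
    constructor
    · rintro (h | h)
      · right
        right
        left
        exact ⟨hrp, hr3, h⟩
      · right
        right
        right
        exact ⟨hrp, hr3, h⟩
    · rintro (⟨h, -⟩ | ⟨h, -⟩ | ⟨-, -, h⟩ | ⟨-, -, h⟩)
      · exact absurd h hr2
      · exact absurd h hr2
      · left
        exact h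
      · right
        exact h


end Cfsg.Agent.S5990
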