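import Cfsg.Statements.S5991
import Cfsg.Agent.Lib.Helper5.OPar_ASM6
import Cfsg.Agent.Lib.Helper5.OPar_UNIM
-- import your own Cfsg.Agent.* helpers here

set_option autoImplicit false
open scoped MatrixGroups
open Cfsg

namespace Cfsg.Agent.S5991

/-- Elements of prime order of PΩ⁻_n(q), q odd, with no fixed nondegenerate `m`-space of odd dimension. Here `T = PΩ⁻_n(F)`, `n = 2d ≥ 8`, realised through `Ω⁻_n(q)`, the commutator subgroup of the isometry group of `Q = Σ_{i<d−1} xᵢyᵢ + z₁² + a z₁z₂ + b z₂²` with `z₁² + a z₁z₂ + b z₂²` anisotropic, over the field `F` with `q` elements; an element of `T` of prime order `r` is an element `x` of `Ω⁻_n(q)` with `x^r` scalar and `x` not scalar; `q` and `m` are odd, `1 ≤ m < n/2`. The nondegenerate `m`-spaces fall into two isometry classes, each an orbit of `T`, with equivalent actions; fix one such space `W₀` and let Ω be the set of nondegenerate `m`-spaces isometric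 to `W₀`. Let `r` be a prime dividing the size of Ω; for `r ≠ p` let `i` be the multiplicative order of `q` modulo `r`, `c = i` for `i` even and `c = 2i` for `i` odd, and write `k = n mod c`, `ℓ = m mod i`, `ℓ' = m mod c`, `n' = ⌊n/i⌋`, `m' = ⌊m/i⌋`, `t = (r−1)/i`. Then every element of `T` of order `r` fixes a member of Ω if and only if one of: (i) `r = 2` and (`n ≡ 0 (mod 4)` or `q ≢ 7 (mod 8)`); (ii) `r ≠ p` odd, `i` odd, and `k = 0` or (`c ≤ m` and `k > ℓ' > 0`); (iii) `r ≠ p` odd, `i` even, and either `k = 0` and `n/i` even, or `k > 0`, `i ≤ m` and `k > ℓ' > 0`. (For `r = p` there is always an element of order `p` fixing no member of Ω.) -/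
theorem result {F : Type*} [Field F] [Fintype F] {p : ℕ} [Fact p.Prime] [CharP F p] {q : ℕ} (hq : Fintype.card F = q)
    (hodd : Odd q) (d m : ℕ) (hd : 4 ≤ d) (hm : Odd m) (hmd : m < d) (a b : F) (hab : ∀ x y : F, x ^ 2 + a * x * y + b * y ^ 2 = 0 → x = 0 ∧ y = 0)
    (W₀ : Submodule F ((Fin (d - 1) ⊕ Fin (d - 1)) ⊕ Fin 2 → F)) (hW₀ : Module.finrank F ↥W₀ = m ∧ Cfsg.Geo.IsNondegenerateOn (QuadraticMap.polar (Cfsg.quadFormMinus (d - 1) F a b)) W₀)
    (r : ℕ) [Fact r.Prime]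
    (hrΩ : r ∣ Nat.card {W : Submodule F ((Fin (d - 1) ⊕ Fin (d - 1)) ⊕ Fin 2 → F) // Module.finrank F ↥W = m ∧ Cfsg.Geo.IsNondegenerateOn (QuadraticMap.polar (Cfsg.quadFormMinus (d - 1) F a b)) W ∧ Cfsg.Geo.AreIsometricFor (Cfsg.quadFormMinus (d - 1) F a b) W W₀})
    (i c : ℕ) (hi : i = orderOf (q : ZMod r)) (hc : c = if Even i then i else 2 * i) :
    (∀ x : GL ((Fin (d - 1) ⊕ Fin (d - 1)) ⊕ Fin 2) F, x ∈ Cfsg.Geo.omegaGL (Cfsg.quadFormMinus (d - 1) F a b) →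
      (∃ z : F, ((x ^ r : GL ((Fin (d - 1) ⊕ Fin (d - 1)) ⊕ Fin 2) F) : Matrix ((Fin (d - 1) ⊕ Fin (d - 1)) ⊕ Fin 2) ((Fin (d - 1) ⊕ Fin (d - 1)) ⊕ Fin 2) F) = z • (1 : Matrix ((Fin (d - 1) ⊕ Fin (d - 1)) ⊕ Fin 2) ((Fin (d - 1) ⊕ Fin (d - 1)) ⊕ Fin 2) F)) →
      (∀ z : F, (x : Matrix ((Fin (d - 1) ⊕ Fin (d - 1)) ⊕ Fin 2) ((Fin (d - 1) ⊕ Fin (d - 1)) ⊕ Fin 2) F) ≠ z • (1 : Matrix ((Fin (d - 1) ⊕ Fin (d - 1)) ⊕ Fin 2) ((Fin (d - 1) ⊕ Fin (d - 1)) ⊕ Fin 2) F)) →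
      ∃ W : Submodule F ((Fin (d - 1) ⊕ Fin (d - 1)) ⊕ Fin 2 → F), (Module.finrank F ↥W = m ∧ Cfsg.Geo.IsNondegenerateOn (QuadraticMap.polar (Cfsg.quadFormMinus (d - 1) F a b)) W ∧ Cfsg.Geo.AreIsometricFor (Cfsg.quadFormMinus (d - 1) F a b) W W₀) ∧ W.map (Matrix.toLin' (x : Matrix ((Fin (d - 1) ⊕ Fin (d - 1)) ⊕ Fin 2) ((Fin (d - 1) ⊕ Fin (d - 1)) ⊕ Fin 2) F)) ≤ W) ↔
    ((r = 2 ∧ (Even d ∨ q % 8 ≠ 7)) ∨
     (r ≠ p ∧ 2 < r ∧ Odd i ∧ ((2 * d) % c = 0 ∨ (c ≤ m ∧ 0 < m % c ∧ m % c < (2 * d) % c))) ∨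
     (r ≠ p ∧ 2 < r ∧ Even i ∧ (((2 * d) % c = 0 ∧ Even ((2 * d) / i)) ∨ (0 < (2 * d) % c ∧ i ≤ m ∧ 0 < m % c ∧ m % c < (2 * d) % c)))) := by
  classical
  subst hq
  have hodd' : Odd (Fintype.card F) := hodd
  have hpodd := Cfsg.Agent.Lib.Helper5.UniO.odd_char_of_odd_card p hodd'
  have hp2 : p ≠ 2 := by
    rintro rfl
    exact absurd hpodd (by decide)
  have hcb : c = Cfsg.Agent.Lib.Helper5.OPar.blockDim (orderOf ((Fintype.card F : ℕ) : ZMod r)) := by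
    rw [hc, hi]; rfl
  by_cases hrp : r = p
  · -- r = p : a unipotent derangement
    subst hrp
    constructor
    · intro H
      exfalso
      obtain ⟨x, hxΩ, hxp, hns, hbad⟩ := Cfsg.Agent.Lib.Helper5.OPar.par_minus_unip hodd' r d m hd hm
        hmd a b hab W₀ hW₀
      obtain ⟨W, ⟨hWm, hWn, hWiso⟩, hWx⟩ := H x hxΩ ⟨1, by rw [hxp, one_smul]; rfl⟩ hns
      exact hbad W hWm hWn hWiso hWx
    · rintro (⟨h1, -⟩ | ⟨h1, -⟩ | ⟨h1, -⟩)
      · exact absurd h1 hp2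
      · exact absurd rfl h1
      · exact absurd rfl h1
  by_cases hr2 : r = 2
  · subst hr2
    constructor
    · intro H
      left
      refine ⟨rfl, ?_⟩
      by_contra hcon
      push_neg at hcon
      obtain ⟨hde, h8⟩ := hcon
      obtain ⟨x, hxΩ, hxr, hns, hbad⟩ :=
        Cfsg.Agent.Lib.Helper5.OPar.par_minus_two_bad hodd' d m (by omega) hm a b hab
          (Nat.not_even_iff_odd.1 hde) h8
      obtain ⟨W, ⟨hWm, hWn, -⟩, hWx⟩ := H x hxΩ hxr hns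
      exact hbad W hWm hWn hWx
    · rintro (⟨-, hcase⟩ | ⟨-, h1, -⟩ | ⟨-, h1, -⟩)
      · intro x hxΩ hxr _
        exact Cfsg.Agent.Lib.Helper5.OPar.par_minus_two_fix hodd' d m (by omega) hm hmd a b hab W₀ hW₀
          hcase x hxΩ hxr
      · omega
      · omega
  · -- r odd, r ≠ p
    have hr3 : 2 < r := by
      have := (Fact.out : r.Prime).two_le
      omega
    have hipos : 0 < i := by
      rw [hi]
      exact Cfsg.Agent.Lib.Helper9.H9Elus.order_pos (F := F) r hrp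
    -- the normal form of the condition
    have hnorm : ((r ≠ p ∧ 2 < r ∧ Odd i ∧ ((2 * d) % c = 0 ∨
          (c ≤ m ∧ 0 < m % c ∧ m % c < (2 * d) % c))) ∨
        (r ≠ p ∧ 2 < r ∧ Even i ∧ (((2 * d) % c = 0 ∧ Even ((2 * d) / i)) ∨
          (0 < (2 * d) % c ∧ i ≤ m ∧ 0 < m % c ∧ m % c < (2 * d) % c)))) ↔
        ((c ≤ m ∧ m % c < (2 * d) % c) ∨
          ((2 * d) % c = 0 ∧ (Odd i ∨ Even ((2 * d) / i)))) := by
      have hceven : Even c := by rw [hcb]; exact Cfsg.Agent.Lib.Helper5.OPar.blockDim_even _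
      have hcpos : 0 < c := by
        rw [hc]; split_ifs <;> omega
      have hmodpos : 0 < m % c := by
        obtain ⟨c', hc'⟩ := hceven
        obtain ⟨m', hm'⟩ := hm
        have hmdm := Nat.div_add_mod m c
        rcases Nat.eq_zero_or_pos (m % c) with h | h
        · have e1 : c * (m / c) = 2 * (c' * (m / c)) := by rw [hc']; ring
          omega
        · exact h
      rcases Nat.even_or_odd i with hie | hio
      · have hci : c = i := by rw [hc, if_pos hie]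
        constructor
        · rintro (⟨-, -, h3, -⟩ | ⟨-, -, -, h4 | h4⟩)
          · exact absurd hie (Nat.not_even_iff_odd.2 h3)
          · exact Or.inr ⟨h4.1, Or.inr h4.2⟩
          · exact Or.inl ⟨by rw [hci]; exact h4.2.1, h4.2.2.2⟩
        · rintro (h | h)
          · exact Or.inr ⟨hrp, hr3, hie, Or.inr ⟨by omega, by rw [← hci]; exact h.1, hmodpos, h.2⟩⟩
          · rcases h.2 with h5 | h5
            · exact absurd hie (Nat.not_even_iff_odd.2 h5)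
            · exact Or.inr ⟨hrp, hr3, hie, Or.inl ⟨h.1, h5⟩⟩
      · constructor
        · rintro (⟨-, -, -, h4 | h4⟩ | ⟨-, -, h3, -⟩)
          · exact Or.inr ⟨h4, Or.inl hio⟩
          · exact Or.inl ⟨h4.1, h4.2.2⟩
          · exact absurd h3 (Nat.not_even_iff_odd.2 hio)
        · rintro (h | h)
          · exact Or.inl ⟨hrp, hr3, hio, Or.inr ⟨h.1, hmodpos, h.2⟩⟩
          · exact Or.inl ⟨hrp, hr3, hio, Or.inl h.1⟩
    have hr2' : ¬ (r = 2 ∧ (Even d ∨ Fintype.card F % 8 ≠ 7)) := fun h => hr2 h.1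
    rw [or_iff_right hr2', hnorm, hcb, hi]
    constructor
    · intro H
      by_contra hcon
      obtain ⟨x, hxΩ, hxr, hns, hbad⟩ := Cfsg.Agent.Lib.Helper5.OPar.par_minus_ss_bad hodd' d m
        (by omega) hm hmd a b hab W₀ hW₀ r hrp hr3 hrΩ hcon
      obtain ⟨W, ⟨hWm, hWn, -⟩, hWx⟩ := H x hxΩ hxr hns
      exact hbad W hWm hWn hWx
    · intro hcond x hxΩ hxr hns
      exact Cfsg.Agent.Lib.Helper5.OPar.par_minus_ss_fix hodd' d m (by omega) hm hmd a b hab W₀ hW₀ r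
        hrp hr3 hcond x hxΩ hxr hns


end Cfsg.Agent.S5991
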