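import Cfsg.Statements.S5992
import Cfsg.Agent.Lib.Helper2.OrthNdT

set_option autoImplicit false
open scoped MatrixGroups
open Cfsg

namespace Cfsg.Agent.S5992

/-- Elements of prime order r ≠ p of Ω_n(q), nq odd, with no fixed hyperbolic `m`-space. Here `T = Ω_n(F)`, `n = 2d+1 ≥ 7`, `q` odd, realised as the commutator subgroup of the isometry group of `Q = x₀² + Σ xᵢyᵢ` over the field `F` with `q` elements (trivial centre, so its elements of prime order `r` are used directly); a nondegenerate `m`-space (even `m`) is a subspace on which the polar form of `Q` is nondegenerate; it is hyperbolic if it contains an `m/2`-dimensional subspace on which `Q` vanishes, elliptic otherwise. Let `m` be even with `2 ≤ m ≤ n − 1` (no restriction `m < n/2`) and let `r ≠ p` be a prime dividing the number of hyperbolic `m`-spaces; for `r ≠ p` let `i` be the multiplicative order of `q` modulo `r`, `c = i` for `i` even and `c = 2i` for `i` odd, and write `k = n mod c`, `ℓ' = m mod c`. Then every element of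 `T` of order `r` fixes some hyperbolic `m`-space if and only if `r = 2`, or `r` is odd and one of: (i) `i` odd, `c ≤ m` and either `k > ℓ' > 0` or `ℓ' = 0`; (ii) `i` even, `i ≤ m`, `k > ℓ'`, and `m/i` even whenever `ℓ' = 0`. (`r = p` is not covered by this statement.) -/
theorem result {F : Type*} [Field F] [Fintype F] {p : ℕ} [Fact p.Prime] [CharP F p] {q : ℕ} (hq : Fintype.card F = q) (hqodd : Odd q)
    (d m : ℕ) (hd : 3 ≤ d) (hm : 2 ≤ m) (hme : Even m) (hmn : m ≤ 2 * d)
    (r : ℕ) [Fact r.Prime] (hrp : r ≠ p)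
    (hrΩ : r ∣ Nat.card {W : Submodule F (Unit ⊕ (Fin d ⊕ Fin d) → F) // Module.finrank F ↥W = m ∧ Cfsg.Geo.IsNondegenerateOn (QuadraticMap.polar (Cfsg.quadFormOdd d F)) W ∧ Cfsg.Geo.IsPlusTypeOn (Cfsg.quadFormOdd d F) W})
    (i c : ℕ) (hi : i = orderOf (q : ZMod r)) (hc : c = if Even i then i else 2 * i) :
    (∀ x : GL (Unit ⊕ (Fin d ⊕ Fin d)) F, x ∈ Cfsg.Geo.omegaGL (Cfsg.quadFormOdd d F) → orderOf x = r →
      ∃ W : Submodule F (Unit ⊕ (Fin d ⊕ Fin d) → F), (Module.finrank F ↥W = m ∧ Cfsg.Geo.IsNondegenerateOn (QuadraticMap.polar (Cfsg.quadFormOdd d F)) W ∧ Cfsg.Geo.IsPlusTypeOn (Cfsg.quadFormOdd d F) W) ∧ W.map (Matrix.toLin' (x : Matrix (Unit ⊕ (Fin d ⊕ Fin d)) (Unit ⊕ (Fin d ⊕ Fin d)) F)) ≤ W) ↔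
    (r = 2 ∨
     (2 < r ∧ Odd i ∧ c ≤ m ∧ (m % c = 0 ∨ (0 < m % c ∧ m % c < (2 * d + 1) % c))) ∨
     (2 < r ∧ Even i ∧ i ≤ m ∧ m % c < (2 * d + 1) % c ∧ (0 < m % c ∨ Even (m / i)))) := by
  classical
  have hqodd' : Odd (Fintype.card F) := by rw [hq]; exact hqodd
  have hi' : i = orderOf ((Fintype.card F : ℕ) : ZMod r) := by rw [hq]; exact hi
  obtain ⟨a, ha⟩ := hme
  have hma : m = 2 * a := by omega
  have key : ∀ W : Submodule F (Unit ⊕ (Fin d ⊕ Fin d) → F),
      (Module.finrank F ↥W = m ∧
        Cfsg.Geo.IsNondegenerateOn (QuadraticMap.polar (Cfsg.quadFormOdd d F)) W ∧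
        Cfsg.Geo.IsPlusTypeOn (Cfsg.quadFormOdd d F) W) ↔
      (Module.finrank F ↥W = m ∧
        Cfsg.Agent.Lib.Helper2.OrthEl.NDeg (Cfsg.Agent.Lib.Helper2.OrthCard.QOd d F) W ∧
        (Cfsg.Agent.Lib.Helper2.OrthNd.PlusS (Cfsg.Agent.Lib.Helper2.OrthCard.QOd d F) W ↔
          True)) := by
    intro W
    rw [Cfsg.Agent.Lib.Helper2.OrthNd.ndegOn_odd_iff, Cfsg.Agent.Lib.Helper2.OrthNd.plusOn_odd_iff,
      iff_true]
  have hrΩ' : r ∣ Nat.card {W : Submodule F (Unit ⊕ (Fin d ⊕ Fin d) → F) //
      Module.finrank F ↥W = m ∧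
        Cfsg.Agent.Lib.Helper2.OrthEl.NDeg (Cfsg.Agent.Lib.Helper2.OrthCard.QOd d F) W ∧
        (Cfsg.Agent.Lib.Helper2.OrthNd.PlusS (Cfsg.Agent.Lib.Helper2.OrthCard.QOd d F) W ↔
          True)} := by
    rw [← Nat.card_congr (Equiv.subtypeEquivRight key)]
    exact hrΩ
  simp only [key]
  by_cases hr2 : r = 2
  · constructor
    · intro _
      left
      exact hr2
    · intro _ x hx hxr
      rw [hr2] at hxr
      exact Cfsg.Agent.Lib.Helper2.OrthNd.core_two hqodd' d m a hma (by omega) hmn True x hx hxr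
  · rw [Cfsg.Agent.Lib.Helper2.OrthNd.core_odd hqodd' d m a (by omega) hma (by omega) hmn r hrp hr2
      True hrΩ' i c hi' hc]
    have hr3 : 2 < r := by
      have := (Fact.out : r.Prime).two_le
      omega
    have hceven : Even c := by
      rw [hc]
      split_ifs with h
      · exact h
      · exact even_two_mul i
    have hk0 : 0 < (2 * d + 1) % c :=
      (Cfsg.Agent.Lib.Helper2.OrthNd.odd_mod_of_even hceven d).pos
    by_cases hev : Even i
    · have hci : c = i := by rw [hc, if_pos hev]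
      constructor
      · rintro ⟨h1, h2, h3⟩
        right
        right
        refine ⟨hr3, hev, by rw [← hci]; exact h1, h2, ?_⟩
        rcases h3 with h3 | h3
        · left
          exact h3
        · right
          exact h3.1 trivial hev
      · rintro (h | ⟨-, hodd, -⟩ | ⟨-, -, h1, h2, h3⟩)
        · exact absurd h hr2
        · exact absurd hev (Nat.not_even_iff_odd.2 hodd)
        · refine ⟨by rw [hci]; exact h1, h2, ?_⟩
          rcases h3 with h3 | h3
          · left
            exact h3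
          · right
            exact ⟨fun _ _ => h3, fun _ => trivial⟩
    · have hodd : Odd i := Nat.not_even_iff_odd.1 hev
      constructor
      · rintro ⟨h1, h2, -⟩
        right
        left
        refine ⟨hr3, hodd, h1, ?_⟩
        rcases Nat.eq_zero_or_pos (m % c) with h | h
        · left
          exact h
        · right
          exact ⟨h, h2⟩
      · rintro (h | ⟨-, -, h1, h2⟩ | ⟨-, hev', -⟩)
        · exact absurd h hr2
        · refine ⟨h1, ?_, Or.inr ⟨fun _ hev' => absurd hev' hev, fun _ => trivial⟩⟩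
          rcases h2 with h | ⟨-, h⟩
          · rw [h]
            exact hk0
          · exact h
        · exact absurd hev' hev

end Cfsg.Agent.S5992
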