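import Cfsg.Statements.S5993
import Cfsg.Agent.Lib.Helper2.OrthNdT
import Cfsg.Agent.Lib.Helper2.OrthNdV

set_option autoImplicit false
open scoped MatrixGroups
open Cfsg

namespace Cfsg.Agent.S5993

/-- Elements of prime order of Ω_n(q), nq odd, with no fixed elliptic `m`-space. Here `T = Ω_n(F)`, `n = 2d+1 ≥ 7`, `q` odd, realised as the commutator subgroup of the isometry group of `Q = x₀² + Σ xᵢyᵢ` over the field `F` with `q` elements (trivial centre, so its elements of prime order `r` are used directly); a nondegenerate `m`-space (even `m`) is a subspace on which the polar form of `Q` is nondegenerate; it is hyperbolic if it contains an `m/2`-dimensional subspace on which `Q` vanishes, elliptic otherwise. Let `m` be even with `2 ≤ m ≤ n − 1` (no restriction `m < n/2`) and let `r` be a prime dividing the number of elliptic `m`-spaces; for `r ≠ p` let `i` be the multiplicative order of `q` modulo `r`, `c = i` for `i` even and `c = 2i` for `i` odd, and write `k = n mod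 c`, `ℓ' = m mod c`. Then every element of `T` of order `r` fixes some elliptic `m`-space if and only if `r = 2`, or `r ≠ p` is odd and one of: (i) `i` odd, `c ≤ m` and `k > ℓ' > 0`; (ii) `i` even, `i ≤ m`, `k > ℓ'`, and `m/i` odd whenever `ℓ' = 0`. (For `r = p` there is always an element of order `p` fixing no elliptic `m`-space.) -/
theorem result {F : Type*} [Field F] [Fintype F] {p : ℕ} [Fact p.Prime] [CharP F p] {q : ℕ} (hq : Fintype.card F = q) (hqodd : Odd q)
    (d m : ℕ) (hd : 3 ≤ d) (hm : 2 ≤ m) (hme : Even m) (hmn : m ≤ 2 * d)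
    (r : ℕ) [Fact r.Prime]
    (hrΩ : r ∣ Nat.card {W : Submodule F (Unit ⊕ (Fin d ⊕ Fin d) → F) // Module.finrank F ↥W = m ∧ Cfsg.Geo.IsNondegenerateOn (QuadraticMap.polar (Cfsg.quadFormOdd d F)) W ∧ ¬ Cfsg.Geo.IsPlusTypeOn (Cfsg.quadFormOdd d F) W})
    (i c : ℕ) (hi : i = orderOf (q : ZMod r)) (hc : c = if Even i then i else 2 * i) :
    (∀ x : GL (Unit ⊕ (Fin d ⊕ Fin d)) F, x ∈ Cfsg.Geo.omegaGL (Cfsg.quadFormOdd d F) → orderOf x = r →
      ∃ W : Submodule F (Unit ⊕ (Fin d ⊕ Fin d) → F), (Module.finrank F ↥W = m ∧ Cfsg.Geo.IsNondegenerateOn (QuadraticMap.polar (Cfsg.quadFormOdd d F)) W ∧ ¬ Cfsg.Geo.IsPlusTypeOn (Cfsg.quadFormOdd d F) W) ∧ W.map (Matrix.toLin' (x : Matrix (Unit ⊕ (Fin d ⊕ Fin d)) (Unit ⊕ (Fin d ⊕ Fin d)) F)) ≤ W) ↔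
    (r = 2 ∨
     (r ≠ p ∧ 2 < r ∧ Odd i ∧ c ≤ m ∧ 0 < m % c ∧ m % c < (2 * d + 1) % c) ∨
     (r ≠ p ∧ 2 < r ∧ Even i ∧ i ≤ m ∧ m % c < (2 * d + 1) % c ∧ (0 < m % c ∨ Odd (m / i)))) := by
  classical
  have hqodd' : Odd (Fintype.card F) := by rw [hq]; exact hqodd
  have hi' : i = orderOf ((Fintype.card F : ℕ) : ZMod r) := by rw [hq]; exact hi
  obtain ⟨a, ha⟩ := hme
  have hma : m = 2 * a := by omega
  by_cases hrp : r = p
  · constructor
    · intro h
      exfalso
      obtain ⟨x, hx, hxp, hbad⟩ := Cfsg.Agent.Lib.Helper2.OrthNd.exists_bad_unip p hqodd' d m hd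
        ⟨a, ha⟩
      obtain ⟨W, ⟨hWm, hWnd, hWnp⟩, hWx⟩ := h x hx (by rw [hrp]; exact hxp)
      exact hWnp (hbad W hWm hWnd hWx)
    · rintro (h | ⟨h, -⟩ | ⟨h, -⟩)
      · exfalso
        have hpodd := Cfsg.Agent.Lib.Helper5.UniO.odd_char_of_odd_card (F := F) p hqodd'
        rw [← hrp, h] at hpodd
        exact (Nat.not_even_iff_odd.2 hpodd) even_two
      · exact absurd hrp h
      · exact absurd hrp h
  have key : ∀ W : Submodule F (Unit ⊕ (Fin d ⊕ Fin d) → F),
      (Module.finrank F ↥W = m ∧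
        Cfsg.Geo.IsNondegenerateOn (QuadraticMap.polar (Cfsg.quadFormOdd d F)) W ∧
        ¬ Cfsg.Geo.IsPlusTypeOn (Cfsg.quadFormOdd d F) W) ↔
      (Module.finrank F ↥W = m ∧
        Cfsg.Agent.Lib.Helper2.OrthEl.NDeg (Cfsg.Agent.Lib.Helper2.OrthCard.QOd d F) W ∧
        (Cfsg.Agent.Lib.Helper2.OrthNd.PlusS (Cfsg.Agent.Lib.Helper2.OrthCard.QOd d F) W ↔
          False)) := by
    intro W
    rw [Cfsg.Agent.Lib.Helper2.OrthNd.ndegOn_odd_iff, Cfsg.Agent.Lib.Helper2.OrthNd.plusOn_odd_iff,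
      iff_false]
  have hrΩ' : r ∣ Nat.card {W : Submodule F (Unit ⊕ (Fin d ⊕ Fin d) → F) //
      Module.finrank F ↥W = m ∧
        Cfsg.Agent.Lib.Helper2.OrthEl.NDeg (Cfsg.Agent.Lib.Helper2.OrthCard.QOd d F) W ∧
        (Cfsg.Agent.Lib.Helper2.OrthNd.PlusS (Cfsg.Agent.Lib.Helper2.OrthCard.QOd d F) W ↔
          False)} := by
    rw [← Nat.card_congr (Equiv.subtypeEquivRight key)]
    exact hrΩ
  simp only [key]
  by_cases hr2 : r = 2
  · constructor
    · intro _
      left
      exact hr2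
    · intro _ x hx hxr
      rw [hr2] at hxr
      exact Cfsg.Agent.Lib.Helper2.OrthNd.core_two hqodd' d m a hma (by omega) hmn False x hx hxr
  · rw [Cfsg.Agent.Lib.Helper2.OrthNd.core_odd hqodd' d m a (by omega) hma (by omega) hmn r hrp hr2
      False hrΩ' i c hi' hc]
    have hr3 : 2 < r := by
      have := (Fact.out : r.Prime).two_le
      omega
    by_cases hev : Even i
    · have hci : c = i := by rw [hc, if_pos hev]
      constructor
      · rintro ⟨h1, h2, h3⟩
        right
        right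
        refine ⟨hrp, hr3, hev, by rw [← hci]; exact h1, h2, ?_⟩
        rcases h3 with h3 | h3
        · left
          exact h3
        · right
          exact Nat.not_even_iff_odd.1 (fun he => h3.2 (fun _ => he))
      · rintro (h | ⟨-, -, hodd, -⟩ | ⟨-, -, -, h1, h2, h3⟩)
        · exact absurd h hr2
        · exact absurd hev (Nat.not_even_iff_odd.2 hodd)
        · refine ⟨by rw [hci]; exact h1, h2, ?_⟩
          rcases h3 with h3 | h3
          · left
            exact h3
          · right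
            exact ⟨False.elim, fun h' => (Nat.not_even_iff_odd.2 h3) (h' hev)⟩
    · have hodd : Odd i := Nat.not_even_iff_odd.1 hev
      constructor
      · rintro ⟨h1, h2, h3⟩
        right
        left
        refine ⟨hrp, hr3, hodd, h1, ?_, h2⟩
        rcases h3 with h3 | h3
        · exact h3
        · exact (h3.2 (fun hev' => absurd hev' hev)).elim
      · rintro (h | ⟨-, -, -, h1, h2, h3⟩ | ⟨-, -, hev', -⟩)
        · exact absurd h hr2
        · exact ⟨h1, h3, Or.inl h2⟩
        · exact absurd hev' hev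

end Cfsg.Agent.S5993
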