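import Cfsg.Statements.S5994
import Cfsg.Agent.Lib.Helper5.UniO8

set_option autoImplicit false
open scoped MatrixGroups
open Cfsg

namespace Cfsg.Agent.S5994

/-- A necessary condition for every element of order p of PΩ⁻_n(q), q odd, to fix an elliptic `m`-space. Here `T = PΩ⁻_n(F)`, `n = 2d ≥ 8`, realised through `Ω⁻_n(q)`, the commutator subgroup of the isometry group of `Q = Σ_{i<d−1} xᵢyᵢ + z₁² + a z₁z₂ + b z₂²` with `z₁² + a z₁z₂ + b z₂²` anisotropic, over the field `F` with `q` elements; an element of `T` of prime order `r` is an element `x` of `Ω⁻_n(q)` with `x^r` scalar and `x` not scalar; `q` is odd; a nondegenerate `m`-space (even `m`) is a subspace on which the polar form of `Q` is nondegenerate; it is hyperbolic if it contains an `m/2`-dimensional subspace on which `Q` vanishes, elliptic otherwise. Let `m` be even with `2 ≤ m ≤ n − 2` and suppose `p` divides the number of elliptic `m`-spaces. If every element of `T` of order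 `p` fixes some elliptic `m`-space, then `n ≡ m (mod 4)` and every partition of `n` into parts of size at most `p` in which every even part has even multiplicity contains (as a sub-multiset) a partition of `m` in which every even part has even multiplicity. -/
theorem result {F : Type*} [Field F] [Fintype F] {p : ℕ} [Fact p.Prime] [CharP F p] {q : ℕ} (hq : Fintype.card F = q) (hqodd : Odd q)
    (d m : ℕ) (hd : 4 ≤ d) (hm : 2 ≤ m) (hme : Even m) (hmn : m + 2 ≤ 2 * d) (a b : F) (hab : ∀ x y : F, x ^ 2 + a * x * y + b * y ^ 2 = 0 → x = 0 ∧ y = 0)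
    (hpΩ : p ∣ Nat.card {W : Submodule F ((Fin (d - 1) ⊕ Fin (d - 1)) ⊕ Fin 2 → F) // Module.finrank F ↥W = m ∧ Cfsg.Geo.IsNondegenerateOn (QuadraticMap.polar (Cfsg.quadFormMinus (d - 1) F a b)) W ∧ ¬ Cfsg.Geo.IsPlusTypeOn (Cfsg.quadFormMinus (d - 1) F a b) W}) :
    (∀ x : GL ((Fin (d - 1) ⊕ Fin (d - 1)) ⊕ Fin 2) F, x ∈ Cfsg.Geo.omegaGL (Cfsg.quadFormMinus (d - 1) F a b) →
      (∃ z : F, ((x ^ p : GL ((Fin (d - 1) ⊕ Fin (d - 1)) ⊕ Fin 2) F) : Matrix ((Fin (d - 1) ⊕ Fin (d - 1)) ⊕ Fin 2) ((Fin (d - 1) ⊕ Fin (d - 1)) ⊕ Fin 2) F) = z • (1 : Matrix ((Fin (d - 1) ⊕ Fin (d - 1)) ⊕ Fin 2) ((Fin (d - 1) ⊕ Fin (d - 1)) ⊕ Fin 2) F)) →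
      (∀ z : F, (x : Matrix ((Fin (d - 1) ⊕ Fin (d - 1)) ⊕ Fin 2) ((Fin (d - 1) ⊕ Fin (d - 1)) ⊕ Fin 2) F) ≠ z • (1 : Matrix ((Fin (d - 1) ⊕ Fin (d - 1)) ⊕ Fin 2) ((Fin (d - 1) ⊕ Fin (d - 1)) ⊕ Fin 2) F)) →
      ∃ W : Submodule F ((Fin (d - 1) ⊕ Fin (d - 1)) ⊕ Fin 2 → F), (Module.finrank F ↥W = m ∧ Cfsg.Geo.IsNondegenerateOn (QuadraticMap.polar (Cfsg.quadFormMinus (d - 1) F a b)) W ∧ ¬ Cfsg.Geo.IsPlusTypeOn (Cfsg.quadFormMinus (d - 1) F a b) W) ∧ W.map (Matrix.toLin' (x : Matrix ((Fin (d - 1) ⊕ Fin (d - 1)) ⊕ Fin 2) ((Fin (d - 1) ⊕ Fin (d - 1)) ⊕ Fin 2) F)) ≤ W) →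
    ((2 * d) % 4 = m % 4 ∧ (∀ μ : Multiset ℕ, (∀ e ∈ μ, 0 < e ∧ e ≤ p) → (∀ e : ℕ, Even e → Even (μ.count e)) → μ.sum = 2 * d →
        ∃ ν : Multiset ℕ, ν ≤ μ ∧ ν.sum = m ∧ ∀ e : ℕ, Even e → Even (ν.count e))) := by
  classical
  intro H
  have hqodd' : Odd (Fintype.card F) := by rw [hq]; exact hqodd
  have h2 := Cfsg.Agent.Lib.Helper5.UniO.two_ne_zero_of_odd_card hqodd'
  have hpodd := Cfsg.Agent.Lib.Helper5.UniO.odd_char_of_odd_card (F := F) p hqodd'
  have hp3 : 3 ≤ p := by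
    have := (Fact.out : p.Prime).two_le
    obtain ⟨r, hr⟩ := hpodd
    omega
  have hcard : Fintype.card ((Fin (d - 1) ⊕ Fin (d - 1)) ⊕ Fin 2) = 2 * d := by
    rw [Fintype.card_sum, Fintype.card_sum, Fintype.card_fin, Fintype.card_fin]
    omega
  have hcoe := Cfsg.Agent.Lib.Helper2.QuadStd.QM_coe (F := F) (d - 1) a b
  have hdisc := Cfsg.Agent.Lib.Helper1.DiagForm.disc_ne_zero_of_aniso h2 a b hab
  -- the basic step: a partition with an odd part and a part at least two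
  have key : ∀ μ : Multiset ℕ, (∀ e ∈ μ, 0 < e ∧ e ≤ p) → (∀ e : ℕ, Even e → Even (μ.count e)) →
      μ.sum = 2 * d → (∃ a ∈ μ, Odd a) → (∃ a ∈ μ, 2 ≤ a) →
      ∃ (x : GL ((Fin (d - 1) ⊕ Fin (d - 1)) ⊕ Fin 2) F)
        (W : Submodule F ((Fin (d - 1) ⊕ Fin (d - 1)) ⊕ Fin 2 → F)) (ν : Multiset ℕ),
        x ∈ Cfsg.isometryGroup F ⇑(Cfsg.Agent.Lib.Helper5.QuadGlue.QM (d - 1) F a b) ∧
        Cfsg.Agent.Lib.Helper5.UniO.HasJT (Matrix.toLin' (x : Matrix _ _ F) - 1 :
          Module.End F ((Fin (d - 1) ⊕ Fin (d - 1)) ⊕ Fin 2 → F)) μ ∧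
        Module.finrank F ↥W = m ∧
        ¬ Cfsg.Geo.IsPlusTypeOn (Cfsg.quadFormMinus (d - 1) F a b) W ∧
        W.map (Matrix.toLin' (x : Matrix _ _ F)) ≤ W ∧
        ν ≤ μ ∧ ν.sum = m ∧ (∀ e, Even e → Even (ν.count e)) ∧
        ν.card = Module.finrank F ↥(W ⊓ LinearMap.ker (Matrix.toLin' (x : Matrix _ _ F) - 1 :
          Module.End F ((Fin (d - 1) ⊕ Fin (d - 1)) ⊕ Fin 2 → F))) := by
    intro μ hμ1 hμ2 hμ3 hodd h2le
    obtain ⟨eT, hT⟩ := Cfsg.Agent.Lib.Helper1.DiagForm.minus_diag (F := F) h2 (d - 1) a b hdisc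
      (Sum.inr 0)
    obtain ⟨x, hxO, hjt⟩ := Cfsg.Agent.Lib.Helper5.UniO.exists_unip_of_wss h2
      (Cfsg.quadFormMinus (d - 1) F a b) _ (by
        intro i
        by_cases hi : i = Sum.inr 0
        · rw [hi, Function.update_self]
          exact mul_ne_zero (pow_ne_zero _ (neg_ne_zero.2 one_ne_zero)) hdisc
        · rw [Function.update_of_ne hi]
          exact one_ne_zero) eT hT μ (fun a ha => (hμ1 a ha).1) hμ2 (hμ3.trans hcard.symm) hodd
    have hxO' : x ∈ Cfsg.isometryGroup F ⇑(Cfsg.Agent.Lib.Helper5.QuadGlue.QM (d - 1) F a b) := by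
      rw [hcoe]; exact hxO
    obtain ⟨hΩ, hxp, hns, hnil⟩ := Cfsg.Agent.Lib.Helper5.UniO.unip_facts p hqodd'
      (Cfsg.Agent.Lib.Helper5.QuadGlue.QM (d - 1) F a b)
      (Cfsg.Agent.Lib.Helper2.QuadStd.QM_nondeg h2 (d - 1) a b hab)
      (by omega) x hxO' μ hjt (hμ3.trans hcard.symm) (fun a ha => (hμ1 a ha).2) h2le
    rw [hcoe] at hΩ
    obtain ⟨W, ⟨hWm, hWnd, hWnp⟩, hWx⟩ := H x hΩ ⟨1, by rw [hxp]; simp⟩ hns
    obtain ⟨ν, hle, hs, hev, hc⟩ := Cfsg.Agent.Lib.Helper5.UniO.sub_partition h2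
      (Cfsg.Agent.Lib.Helper5.QuadGlue.QM (d - 1) F a b) x hxO' hnil hjt W
      (by rw [hcoe]; exact hWnd) hWx
    exact ⟨x, W, ν, hxO', hjt, hWm, hWnp, hWx, hle, hs.trans hWm, hev, hc⟩
  have Podd : ∀ μ : Multiset ℕ, (∀ e ∈ μ, 0 < e ∧ e ≤ p) →
      (∀ e : ℕ, Even e → Even (μ.count e)) → μ.sum = 2 * d → (∃ a ∈ μ, Odd a) →
      Cfsg.Agent.Lib.Helper5.UniO.SubOK m μ := by
    intro μ hμ1 hμ2 hμ3 hodd
    by_cases hall : ∀ a ∈ μ, a = 1
    · exact Cfsg.Agent.Lib.Helper5.UniO.subOK_of_all_one m μ hall (by omega)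
    · obtain ⟨x, W, ν, -, -, -, -, -, hle, hs, hev, -⟩ := key μ hμ1 hμ2 hμ3 hodd
        (Cfsg.Agent.Lib.Helper5.UniO.exists_two_le_of_not_all_one μ
          (fun a ha => (hμ1 a ha).1) hall)
      exact ⟨ν, hle, hs, hev⟩
  have P : ∀ μ : Multiset ℕ, (∀ e ∈ μ, 0 < e ∧ e ≤ p) → (∀ e : ℕ, Even e → Even (μ.count e)) →
      μ.sum = 2 * d → Cfsg.Agent.Lib.Helper5.UniO.SubOK m μ :=
    Cfsg.Agent.Lib.Helper5.UniO.subOK_of_odd_case p m (2 * d) hpodd hme (by omega) Podd
  refine ⟨?_, P⟩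
  rcases Nat.even_or_odd d with hde | hdo
  · -- `d` even
    have h4 : m % 4 = 0 := by
      apply Cfsg.Agent.Lib.Helper5.UniO.four_dvd_of_subOK_even d m hme
      apply P
      · intro e he
        rw [Multiset.mem_cons, Multiset.mem_cons] at he
        rcases he with rfl | rfl | he
        · omega
        · omega
        · rw [Multiset.eq_of_mem_replicate he]
          omega
      · intro e he
        rw [Multiset.count_cons_of_ne, Multiset.count_cons_of_ne, Multiset.count_replicate]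
        · split_ifs
          · obtain ⟨r, hr⟩ := hde
            exact ⟨r - 1, by omega⟩
          · exact Even.zero
        · rintro rfl
          exact absurd he (by decide)
        · rintro rfl
          exact absurd he (by decide)
      · rw [Multiset.sum_cons, Multiset.sum_cons, Multiset.sum_replicate, smul_eq_mul]
        omega
    obtain ⟨r, hr⟩ := hde
    omega
  · -- `d` odd
    have hm4 : m % 4 ≠ 0 := by
      intro hm4
      obtain ⟨x, W, ν, hxO', hjt, hWm, hWnp, hWx, hle, hs, hev, hc⟩ :=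
        key (1 ::ₘ 1 ::ₘ Multiset.replicate (d - 1) 2) (by
          intro e he
          rw [Multiset.mem_cons, Multiset.mem_cons] at he
          rcases he with rfl | rfl | he
          · omega
          · omega
          · rw [Multiset.eq_of_mem_replicate he]
            omega) (by
          intro e he
          rw [Multiset.count_cons_of_ne, Multiset.count_cons_of_ne, Multiset.count_replicate]
          · split_ifs
            · obtain ⟨r, hr⟩ := hdo
              exact ⟨r, by omega⟩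
            · exact Even.zero
          · rintro rfl
            exact absurd he (by decide)
          · rintro rfl
            exact absurd he (by decide)) (by
          rw [Multiset.sum_cons, Multiset.sum_cons, Multiset.sum_replicate, smul_eq_mul]
          omega) ⟨1, Multiset.mem_cons_self _ _, odd_one⟩
          ⟨2, Multiset.mem_cons_of_mem (Multiset.mem_cons_of_mem
            (Multiset.mem_replicate.2 ⟨by omega, rfl⟩)), le_rfl⟩
      have hcard2 := Cfsg.Agent.Lib.Helper5.UniO.card_of_le_two_one d m ν hle hs hm4 hev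
      have hsq : (Matrix.toLin' (x : Matrix _ _ F) - 1 :
          Module.End F ((Fin (d - 1) ⊕ Fin (d - 1)) ⊕ Fin 2 → F)) ^ 2 = 0 := by
        apply hjt.pow_eq_zero
        · rw [Module.finrank_fintype_fun_eq_card, hcard, Multiset.sum_cons, Multiset.sum_cons,
            Multiset.sum_replicate, smul_eq_mul]
          omega
        · intro e he
          rw [Multiset.mem_cons, Multiset.mem_cons] at he
          rcases he with rfl | rfl | he
          · omega
          · omega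
          · rw [Multiset.eq_of_mem_replicate he]
      have hplus := Cfsg.Agent.Lib.Helper5.UniO.plusType_of_sq_zero h2
        (Cfsg.Agent.Lib.Helper5.QuadGlue.QM (d - 1) F a b) x hxO' hsq W hWx (by
          rw [← hc, hWm]
          exact hcard2)
      rw [hcoe] at hplus
      exact hWnp hplus
    obtain ⟨r, hr⟩ := hdo
    obtain ⟨s, hs⟩ := hme
    omega

end Cfsg.Agent.S5994
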