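import Cfsg.Statements.S5995
import Cfsg.Agent.Lib.Helper5.UniO8
import Cfsg.Agent.Lib.Helper5.QuadOdd

set_option autoImplicit false
open scoped MatrixGroups
open Cfsg

namespace Cfsg.Agent.S5995

/-- A necessary condition for every element of order p of Ω_n(q), nq odd, to fix a hyperbolic `m`-space. Here `T = Ω_n(F)`, `n = 2d+1 ≥ 7`, `q` odd, realised as the commutator subgroup of the isometry group of `Q = x₀² + Σ xᵢyᵢ` over the field `F` with `q` elements (trivial centre, so its elements of prime order `r` are used directly); a nondegenerate `m`-space (even `m`) is a subspace on which the polar form of `Q` is nondegenerate; it is hyperbolic if it contains an `m/2`-dimensional subspace on which `Q` vanishes, elliptic otherwise. Let `m` be even with `2 ≤ m ≤ n − 1` and suppose `p` divides the number of hyperbolic `m`-spaces. If every element of `T` of order `p` fixes some hyperbolic `m`-space, then `m ≡ 0 (mod 4)` and every partition of `n` into parts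 of size at most `p` in which every even part has even multiplicity contains (as a sub-multiset) a partition of `m` in which every even part has even multiplicity. -/
theorem result {F : Type*} [Field F] [Fintype F] {p : ℕ} [Fact p.Prime] [CharP F p] {q : ℕ} (hq : Fintype.card F = q) (hqodd : Odd q)
    (d m : ℕ) (hd : 3 ≤ d) (hm : 2 ≤ m) (hme : Even m) (hmn : m ≤ 2 * d)
    (hpΩ : p ∣ Nat.card {W : Submodule F (Unit ⊕ (Fin d ⊕ Fin d) → F) // Module.finrank F ↥W = m ∧ Cfsg.Geo.IsNondegenerateOn (QuadraticMap.polar (Cfsg.quadFormOdd d F)) W ∧ Cfsg.Geo.IsPlusTypeOn (Cfsg.quadFormOdd d F) W}) :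
    (∀ x : GL (Unit ⊕ (Fin d ⊕ Fin d)) F, x ∈ Cfsg.Geo.omegaGL (Cfsg.quadFormOdd d F) → orderOf x = p →
      ∃ W : Submodule F (Unit ⊕ (Fin d ⊕ Fin d) → F), (Module.finrank F ↥W = m ∧ Cfsg.Geo.IsNondegenerateOn (QuadraticMap.polar (Cfsg.quadFormOdd d F)) W ∧ Cfsg.Geo.IsPlusTypeOn (Cfsg.quadFormOdd d F) W) ∧ W.map (Matrix.toLin' (x : Matrix (Unit ⊕ (Fin d ⊕ Fin d)) (Unit ⊕ (Fin d ⊕ Fin d)) F)) ≤ W) →
    (m % 4 = 0 ∧ (∀ μ : Multiset ℕ, (∀ e ∈ μ, 0 < e ∧ e ≤ p) → (∀ e : ℕ, Even e → Even (μ.count e)) → μ.sum = 2 * d + 1 →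
        ∃ ν : Multiset ℕ, ν ≤ μ ∧ ν.sum = m ∧ ∀ e : ℕ, Even e → Even (ν.count e))) := by
  classical
  intro H
  have hqodd' : Odd (Fintype.card F) := by rw [hq]; exact hqodd
  have h2 := Cfsg.Agent.Lib.Helper5.UniO.two_ne_zero_of_odd_card hqodd'
  have hpodd := Cfsg.Agent.Lib.Helper5.UniO.odd_char_of_odd_card (F := F) p hqodd'
  have hp3 : 3 ≤ p := by
    have := (Fact.out : p.Prime).two_le
    obtain ⟨r, hr⟩ := hpodd
    omega
  have hcard : Fintype.card (Unit ⊕ (Fin d ⊕ Fin d)) = 2 * d + 1 := by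
    rw [Fintype.card_sum, Fintype.card_sum, Fintype.card_fin, Fintype.card_unit]
    ring
  have hcoe := Cfsg.Agent.Lib.Helper5.QuadOdd.QO_coe (F := F) d
  have P : ∀ μ : Multiset ℕ, (∀ e ∈ μ, 0 < e ∧ e ≤ p) → (∀ e : ℕ, Even e → Even (μ.count e)) →
      μ.sum = 2 * d + 1 → Cfsg.Agent.Lib.Helper5.UniO.SubOK m μ := by
    intro μ hμ1 hμ2 hμ3
    by_cases hall : ∀ a ∈ μ, a = 1
    · exact Cfsg.Agent.Lib.Helper5.UniO.subOK_of_all_one m μ hall (by omega)
    · have h2le := Cfsg.Agent.Lib.Helper5.UniO.exists_two_le_of_not_all_one μ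
        (fun a ha => (hμ1 a ha).1) hall
      have hodd : ∃ a ∈ μ, Odd a := by
        by_contra hno
        have hev : ∀ a ∈ μ, Even a := by
          intro a ha
          by_contra hne
          exact hno ⟨a, ha, Nat.not_even_iff_odd.1 hne⟩
        have := Cfsg.Agent.Lib.Helper5.UniO.sum_even_of_all_even μ hev
        rw [hμ3] at this
        obtain ⟨r, hr⟩ := this
        omega
      obtain ⟨eT, hT⟩ := Cfsg.Agent.Lib.Helper1.DiagForm.odd_diag (F := F) h2 d (Sum.inl ())
      obtain ⟨x, hxO, hjt⟩ := Cfsg.Agent.Lib.Helper5.UniO.exists_unip_of_wss h2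
        (Cfsg.quadFormOdd d F) _ (by
          intro i
          by_cases hi : i = Sum.inl ()
          · rw [hi, Function.update_self]
            exact pow_ne_zero _ (neg_ne_zero.2 one_ne_zero)
          · rw [Function.update_of_ne hi]
            exact one_ne_zero) eT hT μ (fun a ha => (hμ1 a ha).1) hμ2 (hμ3.trans hcard.symm) hodd
      have hxO' : x ∈ Cfsg.isometryGroup F ⇑(Cfsg.Agent.Lib.Helper5.QuadOdd.QO d F) := by
        rw [hcoe]; exact hxO
      obtain ⟨hΩ, hxp, hns, hnil⟩ := Cfsg.Agent.Lib.Helper5.UniO.unip_facts p hqodd'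
        (Cfsg.Agent.Lib.Helper5.QuadOdd.QO d F) (Cfsg.Agent.Lib.Helper5.QuadOdd.QO_nondeg h2 d)
        (by omega) x hxO' μ hjt (hμ3.trans hcard.symm) (fun a ha => (hμ1 a ha).2) h2le
      rw [hcoe] at hΩ
      have hx1 : x ≠ 1 := by
        intro h1
        apply hns 1
        rw [h1, Units.val_one, one_smul]
      obtain ⟨W, ⟨hWm, hWnd, -⟩, hWx⟩ := H x hΩ (orderOf_eq_prime hxp hx1)
      obtain ⟨ν, hle, hs, hev, -⟩ := Cfsg.Agent.Lib.Helper5.UniO.sub_partition h2
        (Cfsg.Agent.Lib.Helper5.QuadOdd.QO d F) x hxO' hnil hjt W (by rw [hcoe]; exact hWnd) hWx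
      exact ⟨ν, hle, hs.trans hWm, hev⟩
  exact ⟨Cfsg.Agent.Lib.Helper5.UniO.four_dvd_of_subOK_odd p d m hp3 hme P, P⟩

end Cfsg.Agent.S5995
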