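import Cfsg.Statements.S5996
import Cfsg.Agent.Lib.Helper5.UniO8

set_option autoImplicit false
open scoped MatrixGroups
open Cfsg

namespace Cfsg.Agent.S5996

/-- A necessary condition for every element of order p of PΩ⁺_n(q), q odd, to fix a hyperbolic `m`-space. Here `T = PΩ⁺_n(F)`, `n = 2d ≥ 8`, realised through `Ω⁺_n(q)`, the commutator subgroup of the isometry group of `Q = Σ xᵢyᵢ` over the field `F` with `q` elements; an element of `T` of prime order `r` is an element `x` of `Ω⁺_n(q)` with `x^r` scalar and `x` not scalar; `q` is odd; a nondegenerate `m`-space (even `m`) is a subspace on which the polar form of `Q` is nondegenerate; it is hyperbolic if it contains an `m/2`-dimensional subspace on which `Q` vanishes, elliptic otherwise. Let `m` be even with `2 ≤ m < n/2` and suppose `p` divides the number of hyperbolic `m`-spaces. If every element of `T` of order `p` fixes some hyperbolic `m`-space, then every partition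 of `n` into parts of size at most `p` in which every even part has even multiplicity contains (as a sub-multiset) a partition of `m` in which every even part has even multiplicity. -/
theorem result {F : Type*} [Field F] [Fintype F] {p : ℕ} [Fact p.Prime] [CharP F p] {q : ℕ} (hq : Fintype.card F = q) (hqodd : Odd q)
    (d m : ℕ) (hd : 4 ≤ d) (hm : 2 ≤ m) (hme : Even m) (hmd : m < d)
    (hpΩ : p ∣ Nat.card {W : Submodule F (Fin d ⊕ Fin d → F) // Module.finrank F ↥W = m ∧ Cfsg.Geo.IsNondegenerateOn (QuadraticMap.polar (Cfsg.quadFormPlus d F)) W ∧ Cfsg.Geo.IsPlusTypeOn (Cfsg.quadFormPlus d F) W}) :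
    (∀ x : GL (Fin d ⊕ Fin d) F, x ∈ Cfsg.Geo.omegaGL (Cfsg.quadFormPlus d F) →
      (∃ z : F, ((x ^ p : GL (Fin d ⊕ Fin d) F) : Matrix (Fin d ⊕ Fin d) (Fin d ⊕ Fin d) F) = z • (1 : Matrix (Fin d ⊕ Fin d) (Fin d ⊕ Fin d) F)) →
      (∀ z : F, (x : Matrix (Fin d ⊕ Fin d) (Fin d ⊕ Fin d) F) ≠ z • (1 : Matrix (Fin d ⊕ Fin d) (Fin d ⊕ Fin d) F)) →
      ∃ W : Submodule F (Fin d ⊕ Fin d → F), (Module.finrank F ↥W = m ∧ Cfsg.Geo.IsNondegenerateOn (QuadraticMap.polar (Cfsg.quadFormPlus d F)) W ∧ Cfsg.Geo.IsPlusTypeOn (Cfsg.quadFormPlus d F) W) ∧ W.map (Matrix.toLin' (x : Matrix (Fin d ⊕ Fin d) (Fin d ⊕ Fin d) F)) ≤ W) →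
    (∀ μ : Multiset ℕ, (∀ e ∈ μ, 0 < e ∧ e ≤ p) → (∀ e : ℕ, Even e → Even (μ.count e)) → μ.sum = 2 * d →
        ∃ ν : Multiset ℕ, ν ≤ μ ∧ ν.sum = m ∧ ∀ e : ℕ, Even e → Even (ν.count e)) := by
  classical
  intro H μ hμ1 hμ2 hμ3
  have hqodd' : Odd (Fintype.card F) := by rw [hq]; exact hqodd
  have h2 := Cfsg.Agent.Lib.Helper5.UniO.two_ne_zero_of_odd_card hqodd'
  by_cases hall : ∀ a ∈ μ, a = 1
  · exact Cfsg.Agent.Lib.Helper5.UniO.subOK_of_all_one m μ hall (by omega)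
  · have h2le := Cfsg.Agent.Lib.Helper5.UniO.exists_two_le_of_not_all_one μ
      (fun a ha => (hμ1 a ha).1) hall
    obtain ⟨x, hxO, hjt⟩ := Cfsg.Agent.Lib.Helper5.UniO.exists_unip_plus h2 d μ
      (fun a ha => (hμ1 a ha).1) hμ2 hμ3
    have hcard : Fintype.card (Fin d ⊕ Fin d) = 2 * d := by
      rw [Fintype.card_sum, Fintype.card_fin, two_mul]
    have hcoe := Cfsg.Agent.Lib.Helper2.QuadStd.QP_coe (F := F) d
    have hxO' : x ∈ Cfsg.isometryGroup F ⇑(Cfsg.Agent.Lib.Helper5.QuadGlue.QP d F) := by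
      rw [hcoe]; exact hxO
    obtain ⟨hΩ, hxp, hns, hnil⟩ := Cfsg.Agent.Lib.Helper5.UniO.unip_facts p hqodd'
      (Cfsg.Agent.Lib.Helper5.QuadGlue.QP d F) (Cfsg.Agent.Lib.Helper2.QuadStd.QP_nondeg d)
      (by omega) x hxO' μ hjt (hμ3.trans hcard.symm) (fun a ha => (hμ1 a ha).2) h2le
    rw [hcoe] at hΩ
    obtain ⟨W, ⟨hWm, hWnd, -⟩, hWx⟩ := H x hΩ ⟨1, by rw [hxp]; simp⟩ hns
    obtain ⟨ν, hle, hs, hev, -⟩ := Cfsg.Agent.Lib.Helper5.UniO.sub_partition h2
      (Cfsg.Agent.Lib.Helper5.QuadGlue.QP d F) x hxO' hnil hjt W (by rw [hcoe]; exact hWnd) hWx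
    exact ⟨ν, hle, hs.trans hWm, hev⟩

end Cfsg.Agent.S5996
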