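import Mathlib
import Cfsg.Statements.S5997
import Cfsg.Agent.Lib.Helper9.QuatSL2d

set_option autoImplicit false
open scoped MatrixGroups
open Cfsg
open Cfsg.Agent.Lib.Helper9.H9Q8

namespace Cfsg.Agent.S5997

/-- Elements of prime order of PSL_2(p) and the normalizer of a quaternion subgroup. Here `T = PSL_2(F)` for the field `F` with `p` elements, `p ≥ 5` prime; `R` is a subgroup of GL_2(F) isomorphic to the quaternion group of order 8 (an absolutely irreducible 2-group of symplectic type), and `H` is the subgroup of matrices of determinant 1 normalizing `R` — a subgroup of type 2^{1+2}.O₂⁻(2), isomorphic modulo scalars to A₄ or S₄ (maximality is not assumed). Ω is the set of cosets of `H` in `T`, so an element of `T` of prime order `r` (a matrix `x` of determinant 1 with `x^r` scalar, `x` not scalar) fixes a point of Ω exactly when some conjugate of `x` by a matrix of determinant 1 normalizes `R`. Let `r` be a prime dividing the index of `H`. Then every element of `T` of order `r` fixes a point of Ω if and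 only if `r = 2` or `r = 3`. -/
theorem result {F : Type*} [Field F] [Fintype F] {p : ℕ} [Fact p.Prime] [CharP F p] (hF : Fintype.card F = p) (hp : 5 ≤ p)
    (R : Subgroup (GL (Fin 2) F)) (hR : Nonempty (↥R ≃* QuaternionGroup 2))
    (r : ℕ) [Fact r.Prime]
    (hΩ : r ∣ (Cfsg.Geo.subgroupNormalizer R).relIndex (Cfsg.Geo.specialLinear (Fin 2) F)) :
    (∀ x ∈ Cfsg.Geo.specialLinear (Fin 2) F, (∃ z : F, ((x ^ r : GL (Fin 2) F) : Matrix (Fin 2) (Fin 2) F) = z • (1 : Matrix (Fin 2) (Fin 2) F)) →
      (∀ z : F, (x : Matrix (Fin 2) (Fin 2) F) ≠ z • (1 : Matrix (Fin 2) (Fin 2) F)) →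
      ∃ g ∈ Cfsg.Geo.specialLinear (Fin 2) F, g⁻¹ * x * g ∈ Cfsg.Geo.subgroupNormalizer R) ↔ (r = 2 ∨ r = 3) := by
  classical
  obtain ⟨e⟩ := hR
  have hpp : p.Prime := Fact.out
  have hrp : r.Prime := Fact.out
  have hodd : Fintype.card F % 2 = 1 := by
    rw [hF]
    rcases hpp.eq_two_or_odd with h | h
    · omega
    · exact h
  have h2 : (2 : F) ≠ 0 := two_ne_zero_of_odd hodd
  have h3 : (3 : F) ≠ 0 := by
    intro h
    have h' : ((3 : ℕ) : F) = 0 := by exact_mod_cast h
    rw [CharP.cast_eq_zero_iff F p] at h'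
    have := Nat.le_of_dvd (by norm_num) h'
    omega
  have h4 : (4 : F) ≠ 0 := by
    have : (4 : F) = 2 * 2 := by norm_num
    rw [this]
    exact mul_ne_zero h2 h2
  -- the generators
  set I : GL (Fin 2) F := ((e.symm (QuaternionGroup.a 1) : R) : GL (Fin 2) F) with hI
  set J : GL (Fin 2) F := ((e.symm (QuaternionGroup.xa 0) : R) : GL (Fin 2) F) with hJ
  have hIR : I ∈ R := (e.symm (QuaternionGroup.a 1)).2
  have hJR : J ∈ R := (e.symm (QuaternionGroup.xa 0)).2
  have r1 : I * I = J * J := by
    have := congrArg (fun t => ((e.symm t : R) : GL (Fin 2) F)) q8_rel1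
    simp only [map_mul, Subgroup.coe_mul] at this
    exact this
  have r2 : (I * I) * (I * I) = 1 := by
    have := congrArg (fun t => ((e.symm t : R) : GL (Fin 2) F)) q8_rel2
    simp only [map_mul, Subgroup.coe_mul, map_one, Subgroup.coe_one] at this
    exact this
  have r3 : I * I ≠ 1 := by
    intro h
    apply q8_rel3
    have h' : e.symm (QuaternionGroup.a 1 * QuaternionGroup.a 1) = 1 := by
      apply Subtype.ext
      rw [map_mul, Subgroup.coe_mul, Subgroup.coe_one]
      exact h
    exact (MulEquiv.map_eq_one_iff e.symm).mp h'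
  have r4 : J * I = (I * I) * (I * J) := by
    have := congrArg (fun t => ((e.symm t : R) : GL (Fin 2) F)) q8_rel4
    simp only [map_mul, Subgroup.coe_mul] at this
    exact this
  have hQP : QuatPair (I : Matrix (Fin 2) (Fin 2) F) (J : Matrix (Fin 2) (Fin 2) F) :=
    quatPair_of_rel h2 I J r1 r2 r3 r4
  set i : Matrix (Fin 2) (Fin 2) F := (I : Matrix (Fin 2) (Fin 2) F) with hi
  set j : Matrix (Fin 2) (Fin 2) F := (J : Matrix (Fin 2) (Fin 2) F) with hj
  have hcardR : Nat.card R = 8 := by
    rw [Nat.card_congr e.toEquiv, Nat.card_eq_fintype_card, QuaternionGroup.card]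
  have hdetSL : ∀ y : GL (Fin 2) F, y ∈ Cfsg.Geo.specialLinear (Fin 2) F ↔
      (y : Matrix (Fin 2) (Fin 2) F).det = 1 := by
    intro y
    constructor
    · intro hy
      have := congrArg Units.val (MonoidHom.mem_ker.mp hy)
      simpa using this
    · intro hy
      apply MonoidHom.mem_ker.mpr
      apply Units.ext
      simpa using hy
  -- criterion for membership in the normalizer
  have hnorm : ∀ g : GL (Fin 2) F, g * I * g⁻¹ ∈ R → g * J * g⁻¹ ∈ R →
      g ∈ Cfsg.Geo.subgroupNormalizer R := by
    intro g hgI hgJ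
    show g ∈ Subgroup.normalizer (R : Set (GL (Fin 2) F))
    apply Subgroup.mem_normalizer_fintype
    intro n hn
    have key : ∀ t : QuaternionGroup 2, g * ((e.symm t : R) : GL (Fin 2) F) * g⁻¹ ∈ R := by
      intro t
      induction q8_gen t using Subgroup.closure_induction with
      | mem x hx =>
        rcases hx with rfl | rfl
        · exact hgI
        · exact hgJ
      | one =>
        rw [map_one, Subgroup.coe_one, mul_one, mul_inv_cancel]
        exact R.one_mem
      | mul x y _ _ hx hy =>
        have : g * ((e.symm (x * y) : R) : GL (Fin 2) F) * g⁻¹ =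
            (g * ((e.symm x : R) : GL (Fin 2) F) * g⁻¹) *
              (g * ((e.symm y : R) : GL (Fin 2) F) * g⁻¹) := by
          rw [map_mul, Subgroup.coe_mul]
          group
        rw [this]
        exact R.mul_mem hx hy
      | inv x _ hx =>
        have : g * ((e.symm x⁻¹ : R) : GL (Fin 2) F) * g⁻¹ =
            (g * ((e.symm x : R) : GL (Fin 2) F) * g⁻¹)⁻¹ := by
          rw [map_inv, Subgroup.coe_inv]
          group
        rw [this]
        exact R.inv_mem hx
    have := key (e ⟨n, hn⟩)
    rwa [e.symm_apply_apply] at this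
  have hconj : ∀ (g a b : GL (Fin 2) F),
      (g : Matrix (Fin 2) (Fin 2) F) * (a : Matrix (Fin 2) (Fin 2) F) =
        (b : Matrix (Fin 2) (Fin 2) F) * (g : Matrix (Fin 2) (Fin 2) F) → g * a * g⁻¹ = b := by
    intro g a b h
    rw [mul_inv_eq_iff_eq_mul]
    apply Units.ext
    simpa using h
  -- the special elements
  have hIdet := (hQP.trace_det_left h2)
  have hISL : I ∈ Cfsg.Geo.specialLinear (Fin 2) F := (hdetSL I).mpr hIdet.2
  have hIN : I ∈ Cfsg.Geo.subgroupNormalizer R := Subgroup.le_normalizer hIR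
  set Gh : GL (Fin 2) F := Matrix.GeneralLinearGroup.mkOfDetNeZero (QuatPair.hh i j)
    (by rw [hQP.det_hh h2]; exact one_ne_zero) with hGh
  have hGhv : (Gh : Matrix (Fin 2) (Fin 2) F) = QuatPair.hh i j := rfl
  have hGhSL : Gh ∈ Cfsg.Geo.specialLinear (Fin 2) F := (hdetSL Gh).mpr (by rw [hGhv, hQP.det_hh h2])
  have hGhN : Gh ∈ Cfsg.Geo.subgroupNormalizer R := by
    apply hnorm
    · rw [hconj Gh I J (by rw [hGhv]; exact hQP.hh_mul_i)]
      exact hJR
    · rw [hconj Gh J (I * J) (by
        rw [hGhv, Units.val_mul]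
        exact hQP.hh_mul_j)]
      exact R.mul_mem hIR hJR
  have hdetneg : (-(QuatPair.hh i j)).det = 1 := by
    rw [Matrix.det_neg, hQP.det_hh h2]
    simp
  set Gn : GL (Fin 2) F := Matrix.GeneralLinearGroup.mkOfDetNeZero (-(QuatPair.hh i j))
    (by rw [hdetneg]; exact one_ne_zero) with hGn
  have hGnv : (Gn : Matrix (Fin 2) (Fin 2) F) = -(QuatPair.hh i j) := rfl
  have hGnSL : Gn ∈ Cfsg.Geo.specialLinear (Fin 2) F := (hdetSL Gn).mpr (by rw [hGnv, hdetneg])
  have hGnN : Gn ∈ Cfsg.Geo.subgroupNormalizer R := by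
    apply hnorm
    · rw [hconj Gn I J (by rw [hGnv, neg_mul, mul_neg, hQP.hh_mul_i])]
      exact hJR
    · rw [hconj Gn J (I * J) (by
        rw [hGnv, Units.val_mul, neg_mul, mul_neg, hQP.hh_mul_j])]
      exact R.mul_mem hIR hJR
  -- scalar elements of SL have order dividing 2
  have hscal : ∀ y : GL (Fin 2) F, y ∈ Cfsg.Geo.specialLinear (Fin 2) F →
      ∀ c : F, (y : Matrix (Fin 2) (Fin 2) F) = c • (1 : Matrix (Fin 2) (Fin 2) F) → y * y = 1 := by
    intro y hy c hc
    have hd := (hdetSL y).mp hy
    rw [hc, Matrix.det_smul, Matrix.det_one] at hd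
    simp only [Fintype.card_fin, mul_one] at hd
    apply Units.ext
    rw [Units.val_mul, hc]
    simp only [smul_mul_assoc, one_mul, smul_smul, Units.val_one]
    rw [← pow_two, hd, one_smul]
  constructor
  · -- every element of order r is conjugate into the normalizer ⇒ r ∈ {2,3}
    intro hall
    by_contra hr23
    push_neg at hr23
    have hr5 : 5 ≤ r := by
      have h2r := hrp.two_le
      by_contra hlt
      have : r = 4 := by omega
      rw [this] at hrp
      exact absurd hrp (by decide)
    have hdvd : r ∣ Nat.card (Cfsg.Geo.specialLinear (Fin 2) F) :=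
      dvd_trans hΩ (Subgroup.relIndex_dvd_card _ _)
    obtain ⟨x, hx⟩ := exists_prime_orderOf_dvd_card' (G := Cfsg.Geo.specialLinear (Fin 2) F) r hdvd
    have hxo : orderOf (x : GL (Fin 2) F) = r := by rw [Subgroup.orderOf_coe, hx]
    have hne2 : ∀ y : GL (Fin 2) F, orderOf y = r → y * y ≠ 1 := by
      intro y hy h
      have : orderOf y ∣ 2 := orderOf_dvd_of_pow_eq_one (by rw [pow_two]; exact h)
      rw [hy] at this
      have := Nat.le_of_dvd (by norm_num) this
      omega
    obtain ⟨g, hg, hgN⟩ := hall (x : GL (Fin 2) F) x.2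
      ⟨1, by rw [← hxo, pow_orderOf_eq_one]; simp⟩
      (fun c hc => hne2 _ hxo (hscal _ x.2 c hc))
    set y : GL (Fin 2) F := g⁻¹ * (x : GL (Fin 2) F) * g with hy
    have hyo : orderOf y = r := by
      have : y = MulAut.conj g⁻¹ (x : GL (Fin 2) F) := by
        rw [MulAut.conj_apply, inv_inv]
      rw [this, MulEquiv.orderOf_eq, hxo]
    have hySL : y ∈ Cfsg.Geo.specialLinear (Fin 2) F :=
      Subgroup.mul_mem _ (Subgroup.mul_mem _ (Subgroup.inv_mem _ hg) x.2) hg
    have hZ : (I * I : GL (Fin 2) F) ∈ R := R.mul_mem hIR hIR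
    have hZc : y * (I * I) = (I * I) * y := by
      have hZm : ((I * I : GL (Fin 2) F) : Matrix (Fin 2) (Fin 2) F) = -1 := by
        rw [Units.val_mul]
        exact hQP.hii
      apply Units.ext
      have e1 : ((y * (I * I) : GL (Fin 2) F) : Matrix (Fin 2) (Fin 2) F) =
          (y : Matrix (Fin 2) (Fin 2) F) * ((I * I : GL (Fin 2) F) : Matrix (Fin 2) (Fin 2) F) :=
        Units.val_mul _ _
      have e2 : (((I * I) * y : GL (Fin 2) F) : Matrix (Fin 2) (Fin 2) F) =
          ((I * I : GL (Fin 2) F) : Matrix (Fin 2) (Fin 2) F) * (y : Matrix (Fin 2) (Fin 2) F) :=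
        Units.val_mul _ _
      rw [e1, e2, hZm]
      simp
    have hcent := centralizes_of_card_eight R hcardR y hgN r hr5 hyo (I * I) hZ r3 hZc
    have hyi : (y : Matrix (Fin 2) (Fin 2) F) * i = i * (y : Matrix (Fin 2) (Fin 2) F) := by
      have := congrArg Units.val (hcent I hIR)
      simpa using this
    have hyj : (y : Matrix (Fin 2) (Fin 2) F) * j = j * (y : Matrix (Fin 2) (Fin 2) F) := by
      have := congrArg Units.val (hcent J hJR)
      simpa using this
    obtain ⟨c, hc⟩ := hQP.scalar_of_comm h2 _ hyi hyj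
    exact hne2 y hyo (hscal y hySL c hc)
  · -- r = 2 or r = 3
    intro hr x hx hpow hns
    have hxdet := (hdetSL x).mp hx
    set m : Matrix (Fin 2) (Fin 2) F := (x : Matrix (Fin 2) (Fin 2) F) with hm
    have hcay := cayley2 m
    rw [hxdet, one_smul] at hcay
    have hnsc : ∀ (t c : F), t • m = c • (1 : Matrix (Fin 2) (Fin 2) F) → t = 0 := by
      intro t c h
      by_contra ht
      apply hns (t⁻¹ * c)
      have := congrArg (fun M => t⁻¹ • M) h
      simp only [smul_smul] at this
      rw [inv_mul_cancel₀ ht, one_smul] at this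
      exact this
    rcases hr with rfl | rfl
    · obtain ⟨z, hz⟩ := hpow
      rw [Units.val_pow_eq_pow_val, pow_two, ← hm, hcay] at hz
      have htr : m.trace = 0 := by
        apply hnsc m.trace (z + 1)
        rw [add_smul, one_smul, ← hz]
        abel
      obtain ⟨g, hg, hgx⟩ := sl2_conj hodd x I hx hISL (by rw [← hm, htr, ← hi, hIdet.1])
        (by rw [← hm, htr]; intro h; apply h4; rw [← h]; ring)
      exact ⟨g, hg, by rw [hgx]; exact hIN⟩
    · obtain ⟨z, hz⟩ := hpow
      have e3 : m ^ 3 = (m * m) * m := by rw [pow_succ, pow_two]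
      rw [Units.val_pow_eq_pow_val, ← hm, e3, hcay] at hz
      rw [sub_mul, smul_mul_assoc, hcay, one_mul] at hz
      have htr : (m.trace ^ 2 - 1) • m = (z + m.trace) • (1 : Matrix (Fin 2) (Fin 2) F) := by
        rw [add_smul, ← hz]
        module
      have ht1 := hnsc _ _ htr
      have ht2 : (m.trace - 1) * (m.trace + 1) = 0 := by linear_combination ht1
      have hτ : m.trace ^ 2 ≠ 4 := by
        intro h
        apply h3
        linear_combination ht1 - h
      rcases mul_eq_zero.mp ht2 with ht | ht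
      · have ht' : m.trace = 1 := by linear_combination ht
        obtain ⟨g, hg, hgx⟩ := sl2_conj hodd x Gh hx hGhSL
          (by rw [← hm, ht', hGhv, hQP.trace_hh h2]) (by rw [← hm]; exact hτ)
        exact ⟨g, hg, by rw [hgx]; exact hGhN⟩
      · have ht' : m.trace = -1 := by linear_combination ht
        obtain ⟨g, hg, hgx⟩ := sl2_conj hodd x Gn hx hGnSL
          (by rw [← hm, ht', hGnv, Matrix.trace_neg, hQP.trace_hh h2]) (by rw [← hm]; exact hτ)
        exact ⟨g, hg, by rw [hgx]; exact hGnN⟩

end Cfsg.Agent.S5997
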