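import Mathlib
import Cfsg.Statements.S5998
import Cfsg.Agent.Lib.Helper9.Ext3SL3j

set_option autoImplicit false
open scoped MatrixGroups
open Cfsg
open Cfsg.Agent.Lib.Helper9.H9E27

namespace Cfsg.Agent.S5998

/-- Elements of prime order of PSL_3(p), p ≡ 1 (mod 3), and the normalizer of an extraspecial subgroup of order 27. Here `T = PSL_3(F)` for the field `F` with `p` elements, `p` a prime with `p ≡ 1 (mod 3)`; `R` is a non-abelian subgroup of GL_3(F) of order 27 and exponent 3 (an extraspecial group 3^{1+2}, acting absolutely irreducibly), and `H` is the subgroup of matrices of determinant 1 normalizing `R` — a subgroup of type 3^{1+2}.Sp₂(3) (maximality is not assumed). Ω is the set of cosets of `H` in `T`, so an element of `T` of prime order `r` (a matrix `x` of determinant 1 with `x^r` scalar, `x` not scalar) fixes a point of Ω exactly when some conjugate of `x` by a matrix of determinant 1 normalizes `R`. Let `r` be a prime dividing the index of `H`.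 Then every element of `T` of order `r` fixes a point of Ω if and only if `r = 2`, or `r = 3` and `p ≡ 1 (mod 9)`. -/
theorem result {F : Type*} [Field F] [Fintype F] {p : ℕ} [Fact p.Prime] [CharP F p] (hF : Fintype.card F = p) (hp3 : p % 3 = 1)
    (R : Subgroup (GL (Fin 3) F)) (hR : Nat.card R = 27) (hRe : Monoid.exponent R = 3) (hRna : ¬ IsMulCommutative R)
    (r : ℕ) [Fact r.Prime]
    (hΩ : r ∣ (Cfsg.Geo.subgroupNormalizer R).relIndex (Cfsg.Geo.specialLinear (Fin 3) F)) :
    (∀ x ∈ Cfsg.Geo.specialLinear (Fin 3) F, (∃ z : F, ((x ^ r : GL (Fin 3) F) : Matrix (Fin 3) (Fin 3) F) = z • (1 : Matrix (Fin 3) (Fin 3) F)) →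
      (∀ z : F, (x : Matrix (Fin 3) (Fin 3) F) ≠ z • (1 : Matrix (Fin 3) (Fin 3) F)) →
      ∃ g ∈ Cfsg.Geo.specialLinear (Fin 3) F, g⁻¹ * x * g ∈ Cfsg.Geo.subgroupNormalizer R) ↔ (r = 2 ∨ (r = 3 ∧ p % 9 = 1)) := by
  classical
  have hpp : p.Prime := Fact.out
  have hrp : r.Prime := Fact.out
  have h2 : (2 : F) ≠ 0 := by
    intro h
    have h' : ((2 : ℕ) : F) = 0 := by exact_mod_cast h
    rw [CharP.cast_eq_zero_iff F p] at h'
    have hle := Nat.le_of_dvd (by norm_num) h'
    have := hpp.two_le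
    omega
  have h3 : (3 : F) ≠ 0 := by
    intro h
    have h' : ((3 : ℕ) : F) = 0 := by exact_mod_cast h
    rw [CharP.cast_eq_zero_iff F p] at h'
    have hle := Nat.le_of_dvd (by norm_num) h'
    have := hpp.two_le
    omega
  have h3dvd : 3 ∣ Fintype.card F - 1 := by rw [hF]; omega
  obtain ⟨ω, hω1, hω3⟩ := exists_prim_cube_root h3dvd
  have hω : ω ^ 2 + ω + 1 = 0 := by
    have : (ω - 1) * (ω ^ 2 + ω + 1) = 0 := by linear_combination hω3
    rcases mul_eq_zero.mp this with h | h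
    · exact absurd (sub_eq_zero.mp h) hω1
    · exact h
  obtain ⟨W, ζ, hζ, haR, hbR⟩ := normal_form h3 ω hω R hR hRe hRna
  have hz1F := zeta_ne_one h3 (ζ : F) hζ
  have hz2F := zeta_sq_ne_one h3 (ζ : F) hζ
  have hζ3 : ζ ^ 3 = 1 := by
    apply Units.ext
    rw [Units.val_pow_eq_pow_val, Units.val_one]
    exact zeta_cube _ hζ
  have hζne1 : ζ ≠ 1 := by
    intro h
    apply hz1F
    rw [h]
    rfl
  haveI : Finite R := Nat.finite_of_card_ne_zero (by rw [hR]; norm_num)
  have hcl : Subgroup.closure ({W * gX * W⁻¹, W * dY ζ * W⁻¹} : Set (GL (Fin 3) F)) = R :=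
    closure_eq_of_noncomm R hR _ _ haR hbR (gX_dY_noncomm ζ hζ3 hζne1 W)
  set R₀ : Subgroup (GL (Fin 3) F) := R.comap (MulAut.conj W).toMonoidHom with hR₀
  have hmemR₀ : ∀ m, m ∈ R₀ ↔ W * m * W⁻¹ ∈ R := by
    intro m
    rw [hR₀, Subgroup.mem_comap]
    rfl
  have hX₀ : gX ∈ R₀ := (hmemR₀ _).mpr haR
  have hY₀ : dY ζ ∈ R₀ := (hmemR₀ _).mpr hbR
  have hdetSL : ∀ y : GL (Fin 3) F, y ∈ Cfsg.Geo.specialLinear (Fin 3) F ↔
      Matrix.GeneralLinearGroup.det y = 1 := fun y => MonoidHom.mem_ker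
  have hcrit : ∀ n₀ : GL (Fin 3) F, n₀ * gX * n₀⁻¹ ∈ R₀ → n₀ * dY ζ * n₀⁻¹ ∈ R₀ →
      W * n₀ * W⁻¹ ∈ Cfsg.Geo.subgroupNormalizer R := by
    intro n₀ h1 h2'
    show W * n₀ * W⁻¹ ∈ Subgroup.normalizer (R : Set (GL (Fin 3) F))
    apply mem_normalizer_of_gens R _ _ hcl
    · have : (W * n₀ * W⁻¹) * (W * gX * W⁻¹) * (W * n₀ * W⁻¹)⁻¹ =
          W * (n₀ * gX * n₀⁻¹) * W⁻¹ := by group
      rw [this]
      exact (hmemR₀ _).mp h1
    · have : (W * n₀ * W⁻¹) * (W * dY ζ * W⁻¹) * (W * n₀ * W⁻¹)⁻¹ =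
          W * (n₀ * dY ζ * n₀⁻¹) * W⁻¹ := by group
      rw [this]
      exact (hmemR₀ _).mp h2'
  constructor
  · intro hall
    by_contra hcon
    rw [not_or, not_and] at hcon
    obtain ⟨hr2, hr3⟩ := hcon
    have hdvdSL : r ∣ Nat.card (Cfsg.Geo.specialLinear (Fin 3) F) :=
      dvd_trans hΩ (Subgroup.relIndex_dvd_card _ _)
    by_cases hr3' : r = 3
    · subst hr3'
      have hp9 := hr3 rfl
      have hp9' : p % 9 = 4 ∨ p % 9 = 7 := by omega
      have hRSL : R ≤ Cfsg.Geo.specialLinear (Fin 3) F := by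
        rw [← hcl, Subgroup.closure_le]
        intro t ht
        rcases ht with rfl | rfl
        · rw [SetLike.mem_coe, hdetSL, map_mul, map_mul, map_inv, det_gX, mul_one, mul_inv_cancel]
        · rw [SetLike.mem_coe, hdetSL, map_mul, map_mul, map_inv, dY, det_dg]
          simp only [Matrix.cons_val_zero, Matrix.cons_val_one, Matrix.cons_val_two,
            Matrix.head_cons, Matrix.tail_cons, one_mul]
          rw [← pow_succ', hζ3, mul_one, mul_inv_cancel]
      have hRN : R ≤ Cfsg.Geo.subgroupNormalizer R := Subgroup.le_normalizer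
      have h27 : 27 ∣ Nat.card ((Cfsg.Geo.subgroupNormalizer R).subgroupOf
          (Cfsg.Geo.specialLinear (Fin 3) F)) := by
        have h1 : R.subgroupOf (Cfsg.Geo.specialLinear (Fin 3) F) ≤
            (Cfsg.Geo.subgroupNormalizer R).subgroupOf (Cfsg.Geo.specialLinear (Fin 3) F) := by
          intro t ht
          rw [Subgroup.mem_subgroupOf] at ht ⊢
          exact hRN ht
        have h2' := Subgroup.card_dvd_of_le h1
        rw [Nat.card_congr (Subgroup.subgroupOfEquivOfLe hRSL).toEquiv, hR] at h2'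
        exact h2'
      have h81 : 81 ∣ Nat.card (Cfsg.Geo.specialLinear (Fin 3) F) := by
        have := Subgroup.card_mul_index ((Cfsg.Geo.subgroupNormalizer R).subgroupOf
          (Cfsg.Geo.specialLinear (Fin 3) F))
        rw [← this]
        have e : (81 : ℕ) = 27 * 3 := by norm_num
        rw [e]
        exact Nat.mul_dvd_mul h27 hΩ
      have h243 : 243 ∣ Nat.card (GL (Fin 3) F) := by
        rw [card_GL_eq p hF]
        have e : (243 : ℕ) = 81 * 3 := by norm_num
        rw [e]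
        exact Nat.mul_dvd_mul h81 (by omega)
      exact not_dvd_card_GL p hF hp9' h243
    · have hr5 : 5 ≤ r := by
        have h2r := hrp.two_le
        by_contra hlt
        have : r = 4 := by omega
        rw [this] at hrp
        exact absurd hrp (by decide)
      obtain ⟨x, hx⟩ := exists_prime_orderOf_dvd_card'
        (G := Cfsg.Geo.specialLinear (Fin 3) F) r hdvdSL
      have hxo : orderOf (x : GL (Fin 3) F) = r := by rw [Subgroup.orderOf_coe, hx]
      have hxns : ∀ c : F, ((x : GL (Fin 3) F) : Matrix (Fin 3) (Fin 3) F) ≠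
          c • (1 : Matrix (Fin 3) (Fin 3) F) := by
        intro c hc
        have hd1 := (hdetSL _).mp x.2
        have hd : ((x : GL (Fin 3) F) : Matrix (Fin 3) (Fin 3) F).det = 1 := by
          have := congrArg Units.val hd1
          simpa using this
        rw [hc, Matrix.det_smul, Matrix.det_one] at hd
        simp only [Fintype.card_fin, mul_one] at hd
        have hx3 : (x : GL (Fin 3) F) ^ 3 = 1 := by
          apply Units.ext
          rw [Units.val_pow_eq_pow_val, hc, smul_pow, one_pow, hd, one_smul, Units.val_one]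
        have hdvd := orderOf_dvd_of_pow_eq_one hx3
        rw [hxo] at hdvd
        have := Nat.le_of_dvd (by norm_num) hdvd
        omega
      obtain ⟨g, hg, hgN⟩ := hall (x : GL (Fin 3) F) x.2
        ⟨1, by rw [← hxo, pow_orderOf_eq_one]; simp⟩ hxns
      have hyo : orderOf (g⁻¹ * (x : GL (Fin 3) F) * g) = r := by
        have : g⁻¹ * (x : GL (Fin 3) F) * g = MulAut.conj g⁻¹ (x : GL (Fin 3) F) := by
          rw [MulAut.conj_apply, inv_inv]
        rw [this, MulEquiv.orderOf_eq, hxo]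
      have hscR₀ : sc ζ ∈ R₀ := sc_mem R₀ ζ hζ hX₀ hY₀
      have hscR : sc ζ ∈ R := by
        have := (hmemR₀ _).mp hscR₀
        rwa [← sc_comm, mul_inv_cancel_right] at this
      have hsc1 : sc ζ ≠ (1 : GL (Fin 3) F) := by
        intro h
        have h3' := congrArg Units.val h
        rw [coe_sc] at h3'
        have h4 := congrFun (congrFun h3' 0) 0
        simp at h4
        exact hζne1 h4
      have hcent := centralizes_of_card_27 R hR (g⁻¹ * (x : GL (Fin 3) F) * g) hgN r hr5 hyo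
        (sc ζ) hscR hsc1 (sc_comm ζ _).symm
      have hy₀X : (W⁻¹ * (g⁻¹ * (x : GL (Fin 3) F) * g) * W) * gX =
          gX * (W⁻¹ * (g⁻¹ * (x : GL (Fin 3) F) * g) * W) := by
        have := hcent _ haR
        calc (W⁻¹ * (g⁻¹ * (x : GL (Fin 3) F) * g) * W) * gX
            = W⁻¹ * ((g⁻¹ * (x : GL (Fin 3) F) * g) * (W * gX * W⁻¹)) * W := by group
          _ = W⁻¹ * ((W * gX * W⁻¹) * (g⁻¹ * (x : GL (Fin 3) F) * g)) * W := by rw [this]
          _ = gX * (W⁻¹ * (g⁻¹ * (x : GL (Fin 3) F) * g) * W) := by group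
      have hy₀Y : (W⁻¹ * (g⁻¹ * (x : GL (Fin 3) F) * g) * W) * dY ζ =
          dY ζ * (W⁻¹ * (g⁻¹ * (x : GL (Fin 3) F) * g) * W) := by
        have := hcent _ hbR
        calc (W⁻¹ * (g⁻¹ * (x : GL (Fin 3) F) * g) * W) * dY ζ
            = W⁻¹ * ((g⁻¹ * (x : GL (Fin 3) F) * g) * (W * dY ζ * W⁻¹)) * W := by group
          _ = W⁻¹ * ((W * dY ζ * W⁻¹) * (g⁻¹ * (x : GL (Fin 3) F) * g)) * W := by rw [this]
          _ = dY ζ * (W⁻¹ * (g⁻¹ * (x : GL (Fin 3) F) * g) * W) := by group
      obtain ⟨c, hc⟩ := scalar_of_comm_std (ζ : F) hz1F hz2F ζ.ne_zero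
        ((W⁻¹ * (g⁻¹ * (x : GL (Fin 3) F) * g) * W : GL (Fin 3) F) : Matrix (Fin 3) (Fin 3) F)
        (by
          have := congrArg Units.val hy₀X
          have e1 := Units.val_mul (W⁻¹ * (g⁻¹ * (x : GL (Fin 3) F) * g) * W) (gX : GL (Fin 3) F)
          have e2 := Units.val_mul (gX : GL (Fin 3) F) (W⁻¹ * (g⁻¹ * (x : GL (Fin 3) F) * g) * W)
          rw [e1, e2, coe_gX] at this
          exact this)
        (by
          have := congrArg Units.val hy₀Y
          have e1 := Units.val_mul (W⁻¹ * (g⁻¹ * (x : GL (Fin 3) F) * g) * W) (dY ζ)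
          have e2 := Units.val_mul (dY ζ) (W⁻¹ * (g⁻¹ * (x : GL (Fin 3) F) * g) * W)
          rw [e1, e2, coe_dY] at this
          exact this)
      apply hxns c
      have hxy : (x : GL (Fin 3) F) =
          (g * W) * (W⁻¹ * (g⁻¹ * (x : GL (Fin 3) F) * g) * W) * (g * W)⁻¹ := by group
      rw [hxy, Units.val_mul, Units.val_mul, hc, Matrix.mul_smul, Matrix.smul_mul, mul_one,
        Units.mul_inv]
  · intro hr x hx hpow hns
    have hxdet1 : Matrix.GeneralLinearGroup.det x = 1 := (hdetSL x).mp hx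
    have hxdet : (x : Matrix (Fin 3) (Fin 3) F).det = 1 := by
      have := congrArg Units.val hxdet1
      simpa using this
    have hmain : ∃ (S' n₀ : GL (Fin 3) F),
        Matrix.GeneralLinearGroup.det S' = Matrix.GeneralLinearGroup.det W ∧
        x * S' = S' * n₀ ∧ n₀ * gX * n₀⁻¹ ∈ R₀ ∧ n₀ * dY ζ * n₀⁻¹ ∈ R₀ := by
      rcases hr with rfl | ⟨rfl, hp9⟩
      · obtain ⟨z, hz⟩ := hpow
        rw [Units.val_pow_eq_pow_val] at hz
        obtain ⟨S', ν, hdet', hxS'⟩ := conj_two h2 x hxdet z hz hns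
          (Matrix.GeneralLinearGroup.det W)
        obtain ⟨h1, h2'⟩ := gT_normalizes R₀ ζ hζ hX₀ hY₀ ν
        exact ⟨S', sc ν * gT, hdet', hxS', h1, h2'⟩
      · obtain ⟨z, hz⟩ := hpow
        rw [Units.val_pow_eq_pow_val] at hz
        have h9 : 9 ∣ Fintype.card F - 1 := by rw [hF]; omega
        obtain ⟨S', d, c', hdet', hd3, hxS'⟩ := conj_three h3 ζ hζ
          (fun c hc => exists_cube_root h9 c hc) x hxdet z hz (Matrix.GeneralLinearGroup.det W)
        obtain ⟨h1, h2'⟩ := diag_normalizes R₀ ζ hζ hX₀ hY₀ d c' hd3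
        exact ⟨S', dg d, hdet', hxS', h1, h2'⟩
    obtain ⟨S', n₀, hdet', hxS', h1, h2'⟩ := hmain
    refine ⟨S' * W⁻¹, ?_, ?_⟩
    · rw [hdetSL, map_mul, map_inv, hdet', mul_inv_cancel]
    · have : (S' * W⁻¹)⁻¹ * x * (S' * W⁻¹) = W * n₀ * W⁻¹ := by
        have hx' : x = S' * n₀ * S'⁻¹ := by rw [← hxS', mul_inv_cancel_right]
        rw [hx']
        group
      rw [this]
      exact hcrit n₀ h1 h2' 

end Cfsg.Agent.S5998
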