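import Mathlib
import Cfsg.Statements.S5999
import Cfsg.Agent.Lib.Helper9.Ext3SU3l

set_option autoImplicit false
open scoped MatrixGroups
open Cfsg
open Cfsg.Agent.Lib.Helper9.H9E27 Cfsg.Agent.Lib.Helper9.H9U27

namespace Cfsg.Agent.S5999

/-- Elements of prime order of PSU_3(p), p ≡ 2 (mod 3), and the normalizer of an extraspecial subgroup of order 27. Here `T = PSU_3(p)` for a prime `p ≥ 5` with `p ≡ 2 (mod 3)`, realised through `SU_3(p)`, the matrices of determinant 1 over the field `F` with `p²` elements preserving the hermitian form `Σ uᵢvᵢ^p`; `R` is a non-abelian subgroup of order 27 and exponent 3 of the full unitary group of that form (an extraspecial group 3^{1+2}, acting absolutely irreducibly), and `H` is the subgroup of `SU_3(p)` normalizing `R` — a subgroup of type 3^{1+2}.Sp₂(3) (maximality is not assumed). Ω is the set of cosets of `H`, so an element of `T` of prime order `r` (`x ∈ SU_3(p)` with `x^r` scalar, `x` not scalar) fixes a point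 of Ω exactly when some `SU_3(p)`-conjugate of `x` normalizes `R`. Let `r` be a prime dividing the index of `H`. Then every element of `T` of order `r` fixes a point of Ω if and only if `r = 2`, or `r = 3` and `p ≡ 8 (mod 9)`. -/
theorem result {F : Type*} [Field F] [Fintype F] {p : ℕ} [Fact p.Prime] [CharP F p] (hF : Fintype.card F = p ^ 2) (hp : 5 ≤ p) (hp3 : p % 3 = 2)
    (R : Subgroup (GL (Fin 3) F)) (hRU : R ≤ Cfsg.GU 3 F p) (hR : Nat.card R = 27) (hRe : Monoid.exponent R = 3) (hRna : ¬ IsMulCommutative R)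
    (r : ℕ) [Fact r.Prime]
    (hΩ : r ∣ (Cfsg.Geo.subgroupNormalizer R).relIndex (Cfsg.GU 3 F p ⊓ Cfsg.Geo.specialLinear (Fin 3) F)) :
    (∀ x ∈ Cfsg.GU 3 F p ⊓ Cfsg.Geo.specialLinear (Fin 3) F, (∃ z : F, ((x ^ r : GL (Fin 3) F) : Matrix (Fin 3) (Fin 3) F) = z • (1 : Matrix (Fin 3) (Fin 3) F)) →
      (∀ z : F, (x : Matrix (Fin 3) (Fin 3) F) ≠ z • (1 : Matrix (Fin 3) (Fin 3) F)) →
      ∃ g ∈ Cfsg.GU 3 F p ⊓ Cfsg.Geo.specialLinear (Fin 3) F, g⁻¹ * x * g ∈ Cfsg.Geo.subgroupNormalizer R) ↔ (r = 2 ∨ (r = 3 ∧ p % 9 = 8)) := by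
  classical
  have hpp : p.Prime := Fact.out
  have hrp : r.Prime := Fact.out
  have hodd : Odd p := by
    rcases hpp.eq_two_or_odd' with h | h
    · omega
    · exact h
  have h2 : (2 : F) ≠ 0 := by
    intro h
    have h' : ((2 : ℕ) : F) = 0 := by exact_mod_cast h
    rw [CharP.cast_eq_zero_iff F p] at h'
    have hle := Nat.le_of_dvd (by norm_num) h'
    omega
  have h3 : (3 : F) ≠ 0 := by
    intro h
    have h' : ((3 : ℕ) : F) = 0 := by exact_mod_cast h
    rw [CharP.cast_eq_zero_iff F p] at h'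
    have hle := Nat.le_of_dvd (by norm_num) h'
    omega
  have h3dvd : 3 ∣ Fintype.card F - 1 := by
    rw [hF]
    obtain ⟨k, hk⟩ : ∃ k, p = 3 * k + 2 := ⟨p / 3, by omega⟩
    rw [hk]
    refine ⟨3 * k ^ 2 + 4 * k + 1, ?_⟩
    apply Nat.sub_eq_of_eq_add
    ring
  obtain ⟨ω, hω1, hω3⟩ := exists_prim_cube_root h3dvd
  have hω : ω ^ 2 + ω + 1 = 0 := by
    have : (ω - 1) * (ω ^ 2 + ω + 1) = 0 := by linear_combination hω3
    rcases mul_eq_zero.mp this with h | h
    · exact absurd (sub_eq_zero.mp h) hω1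
    · exact h
  obtain ⟨a, b, hab, hZc⟩ := exists_noncomm_pair hR hRna
  obtain ⟨W, ζ, k, hWU, hζ, hXa, hYb⟩ := normal_form_U p hF h3 hp3 ω hω R hRU hRe a b hab hZc
  have haR : W * gX * W⁻¹ ∈ R := by rw [hXa]; exact a.2
  have hbR : W * dY ζ * W⁻¹ ∈ R := by rw [hYb]; exact Subtype.property _
  have hz1F := zeta_ne_one h3 (ζ : F) hζ
  have hz2F := zeta_sq_ne_one h3 (ζ : F) hζ
  have hζ3 : ζ ^ 3 = 1 := by
    apply Units.ext
    rw [Units.val_pow_eq_pow_val, Units.val_one]
    exact zeta_cube _ hζ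
  have hζne1 : ζ ≠ 1 := by
    intro h
    apply hz1F
    rw [h]
    rfl
  haveI : Finite R := Nat.finite_of_card_ne_zero (by rw [hR]; norm_num)
  have hcl : Subgroup.closure ({W * gX * W⁻¹, W * dY ζ * W⁻¹} : Set (GL (Fin 3) F)) = R :=
    closure_eq_of_noncomm R hR _ _ haR hbR (gX_dY_noncomm ζ hζ3 hζne1 W)
  set R₀ : Subgroup (GL (Fin 3) F) := R.comap (MulAut.conj W).toMonoidHom with hR₀
  have hmemR₀ : ∀ m, m ∈ R₀ ↔ W * m * W⁻¹ ∈ R := by
    intro m
    rw [hR₀, Subgroup.mem_comap]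
    rfl
  have hX₀ : gX ∈ R₀ := (hmemR₀ _).mpr haR
  have hY₀ : dY ζ ∈ R₀ := (hmemR₀ _).mpr hbR
  have hdetSL : ∀ y : GL (Fin 3) F, y ∈ Cfsg.Geo.specialLinear (Fin 3) F ↔
      Matrix.GeneralLinearGroup.det y = 1 := fun y => MonoidHom.mem_ker
  have hcrit : ∀ n₀ : GL (Fin 3) F, n₀ * gX * n₀⁻¹ ∈ R₀ → n₀ * dY ζ * n₀⁻¹ ∈ R₀ →
      W * n₀ * W⁻¹ ∈ Cfsg.Geo.subgroupNormalizer R := by
    intro n₀ h1 h2'
    show W * n₀ * W⁻¹ ∈ Subgroup.normalizer (R : Set (GL (Fin 3) F))
    apply mem_normalizer_of_gens R _ _ hcl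
    · have : (W * n₀ * W⁻¹) * (W * gX * W⁻¹) * (W * n₀ * W⁻¹)⁻¹ =
          W * (n₀ * gX * n₀⁻¹) * W⁻¹ := by group
      rw [this]
      exact (hmemR₀ _).mp h1
    · have : (W * n₀ * W⁻¹) * (W * dY ζ * W⁻¹) * (W * n₀ * W⁻¹)⁻¹ =
          W * (n₀ * dY ζ * n₀⁻¹) * W⁻¹ := by group
      rw [this]
      exact (hmemR₀ _).mp h2'
  have hRSL : R ≤ Cfsg.Geo.specialLinear (Fin 3) F := by
    rw [← hcl, Subgroup.closure_le]
    intro t ht
    rcases ht with rfl | rfl
    · rw [SetLike.mem_coe, hdetSL, map_mul, map_mul, map_inv, det_gX, mul_one, mul_inv_cancel]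
    · rw [SetLike.mem_coe, hdetSL, map_mul, map_mul, map_inv, dY, det_dg]
      simp only [Matrix.cons_val_zero, Matrix.cons_val_one, Matrix.cons_val_two,
        Matrix.head_cons, Matrix.tail_cons, one_mul]
      rw [← pow_succ', hζ3, mul_one, mul_inv_cancel]
  constructor
  · intro hall
    by_contra hcon
    rw [not_or, not_and] at hcon
    obtain ⟨hr2, hr3⟩ := hcon
    haveI : Finite (Cfsg.GU 3 F p ⊓ Cfsg.Geo.specialLinear (Fin 3) F :
        Subgroup (GL (Fin 3) F)) := inferInstance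
    have hdvdSU : r ∣ Nat.card (Cfsg.GU 3 F p ⊓ Cfsg.Geo.specialLinear (Fin 3) F :
        Subgroup (GL (Fin 3) F)) :=
      dvd_trans hΩ (Subgroup.relIndex_dvd_card _ _)
    by_cases hr3' : r = 3
    · subst hr3'
      have hp9 := hr3 rfl
      have hno9 : ∀ (u : Fˣ) (m : ℕ), u ^ (3 ^ m) = 1 → u ^ 3 = 1 := by
        intro u m hu
        have h1 := orderOf_dvd_of_pow_eq_one hu
        obtain ⟨j, hjm, hj⟩ := (Nat.dvd_prime_pow Nat.prime_three).mp h1
        have h2' : orderOf u ∣ p ^ 2 - 1 := by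
          have := orderOf_dvd_card (x := u)
          rw [Fintype.card_units, hF] at this
          exact this
        have hj1 : j ≤ 1 := by
          by_contra hj2
          push_neg at hj2
          have h9 : 9 ∣ p ^ 2 - 1 := by
            apply dvd_trans _ h2'
            rw [hj]
            have : (9 : ℕ) = 3 ^ 2 := by norm_num
            rw [this]
            exact pow_dvd_pow 3 hj2
          have hcase : p % 9 = 2 ∨ p % 9 = 5 := by omega
          rcases hcase with hc | hc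
          · obtain ⟨q, hq⟩ : ∃ q, p = 9 * q + 2 := ⟨p / 9, by omega⟩
            have : p ^ 2 - 1 = 9 * (9 * q ^ 2 + 4 * q) + 3 := by
              rw [hq]
              apply Nat.sub_eq_of_eq_add
              ring
            omega
          · obtain ⟨q, hq⟩ : ∃ q, p = 9 * q + 5 := ⟨p / 9, by omega⟩
            have : p ^ 2 - 1 = 9 * (9 * q ^ 2 + 10 * q + 2) + 6 := by
              rw [hq]
              apply Nat.sub_eq_of_eq_add
              ring
            omega
        have : orderOf u ∣ 3 := by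
          rw [hj]
          have : (3 : ℕ) = 3 ^ 1 := by norm_num
          conv_rhs => rw [this]
          exact pow_dvd_pow 3 hj1
        exact orderOf_dvd_iff_pow_eq_one.mp this
      exact not_three_dvd_relIndex h3 ω hω hno9 R _ hR hRe hRna (le_inf hRU hRSL)
        inf_le_right hΩ
    · have hr5 : 5 ≤ r := by
        have h2r := hrp.two_le
        by_contra hlt
        have : r = 4 := by omega
        rw [this] at hrp
        exact absurd hrp (by decide)
      obtain ⟨x, hx⟩ := exists_prime_orderOf_dvd_card'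
        (G := (Cfsg.GU 3 F p ⊓ Cfsg.Geo.specialLinear (Fin 3) F : Subgroup (GL (Fin 3) F)))
        r hdvdSU
      have hxo : orderOf (x : GL (Fin 3) F) = r := by rw [Subgroup.orderOf_coe, hx]
      have hxns : ∀ c : F, ((x : GL (Fin 3) F) : Matrix (Fin 3) (Fin 3) F) ≠
          c • (1 : Matrix (Fin 3) (Fin 3) F) := by
        intro c hc
        have hd1 := (hdetSL _).mp x.2.2
        have hd : ((x : GL (Fin 3) F) : Matrix (Fin 3) (Fin 3) F).det = 1 := by
          have := congrArg Units.val hd1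
          simpa using this
        rw [hc, Matrix.det_smul, Matrix.det_one] at hd
        simp only [Fintype.card_fin, mul_one] at hd
        have hx3 : (x : GL (Fin 3) F) ^ 3 = 1 := by
          apply Units.ext
          rw [Units.val_pow_eq_pow_val, hc, smul_pow, one_pow, hd, one_smul, Units.val_one]
        have hdvd := orderOf_dvd_of_pow_eq_one hx3
        rw [hxo] at hdvd
        have := Nat.le_of_dvd (by norm_num) hdvd
        omega
      obtain ⟨g, hg, hgN⟩ := hall (x : GL (Fin 3) F) x.2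
        ⟨1, by rw [← hxo, pow_orderOf_eq_one]; simp⟩ hxns
      have hyo : orderOf (g⁻¹ * (x : GL (Fin 3) F) * g) = r := by
        have : g⁻¹ * (x : GL (Fin 3) F) * g = MulAut.conj g⁻¹ (x : GL (Fin 3) F) := by
          rw [MulAut.conj_apply, inv_inv]
        rw [this, MulEquiv.orderOf_eq, hxo]
      have hscR₀ : sc ζ ∈ R₀ := sc_mem R₀ ζ hζ hX₀ hY₀
      have hscR : sc ζ ∈ R := by
        have := (hmemR₀ _).mp hscR₀
        rwa [← sc_comm, mul_inv_cancel_right] at this
      have hsc1 : sc ζ ≠ (1 : GL (Fin 3) F) := by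
        intro h
        have h3' := congrArg Units.val h
        rw [coe_sc] at h3'
        have h4 := congrFun (congrFun h3' 0) 0
        simp at h4
        exact hζne1 h4
      have hcent := centralizes_of_card_27 R hR (g⁻¹ * (x : GL (Fin 3) F) * g) hgN r hr5 hyo
        (sc ζ) hscR hsc1 (sc_comm ζ _).symm
      obtain ⟨u, hu⟩ := scalar_of_centralizes h3 W ζ hζ _ (hcent _ haR) (hcent _ hbR)
      apply hxns (u : F)
      have hxy : (x : GL (Fin 3) F) = g * (g⁻¹ * (x : GL (Fin 3) F) * g) * g⁻¹ := by group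
      rw [hxy, hu, ← sc_comm, mul_inv_cancel_right, coe_sc]
  · intro hr x hx hpow hns
    have hxU : x ∈ Cfsg.GU 3 F p := hx.1
    have hxdet1 : Matrix.GeneralLinearGroup.det x = 1 := (hdetSL x).mp hx.2
    have hxdet : (x : Matrix (Fin 3) (Fin 3) F).det = 1 := by
      have := congrArg Units.val hxdet1
      simpa using this
    have hd₀ : (Matrix.GeneralLinearGroup.det W) ^ (p + 1) = 1 := det_norm_of_mem p W hWU
    have hmain : ∃ (S' n₀ : GL (Fin 3) F), S' ∈ Cfsg.GU 3 F p ∧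
        Matrix.GeneralLinearGroup.det S' = Matrix.GeneralLinearGroup.det W ∧
        x * S' = S' * n₀ ∧ n₀ * gX * n₀⁻¹ ∈ R₀ ∧ n₀ * dY ζ * n₀⁻¹ ∈ R₀ := by
      rcases hr with rfl | ⟨rfl, hp9⟩
      · obtain ⟨z, hz⟩ := hpow
        rw [Units.val_pow_eq_pow_val] at hz
        obtain ⟨S', ν, hS'U, hdet', hxS'⟩ := conj_two_U p hF h2 hp3 hodd x hxU hxdet z hz hns
          (Matrix.GeneralLinearGroup.det W) hd₀
        obtain ⟨h1, h2'⟩ := gT_normalizes R₀ ζ hζ hX₀ hY₀ ν
        exact ⟨S', sc ν * gT, hS'U, hdet', hxS', h1, h2'⟩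
      · obtain ⟨z, hz⟩ := hpow
        rw [Units.val_pow_eq_pow_val] at hz
        obtain ⟨S', d, c', hS'U, hdet', hd3, hxS'⟩ := conj_three_U p hF h2 h3 hp9 ζ hζ x hxU
          hxdet z hz (Matrix.GeneralLinearGroup.det W) hd₀
        obtain ⟨h1, h2'⟩ := diag_normalizes R₀ ζ hζ hX₀ hY₀ d c' hd3
        exact ⟨S', dg d, hS'U, hdet', hxS', h1, h2'⟩
    obtain ⟨S', n₀, hS'U, hdet', hxS', h1, h2'⟩ := hmain
    refine ⟨S' * W⁻¹, Subgroup.mem_inf.mpr ⟨?_, ?_⟩, ?_⟩
    · exact Subgroup.mul_mem _ hS'U (Subgroup.inv_mem _ hWU)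
    · rw [hdetSL, map_mul, map_inv, hdet', mul_inv_cancel]
    · have : (S' * W⁻¹)⁻¹ * x * (S' * W⁻¹) = W * n₀ * W⁻¹ := by
        have hx' : x = S' * n₀ * S'⁻¹ := by rw [← hxS', mul_inv_cancel_right]
        rw [hx']
        group
      rw [this]
      exact hcrit n₀ h1 h2' 

end Cfsg.Agent.S5999
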