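import Cfsg.Statements.S6000
import Cfsg.Agent.Lib.Helper9.C6L4k

set_option autoImplicit false
open scoped MatrixGroups
open Cfsg

namespace Cfsg.Agent.S6000

open Cfsg.Agent.Lib.Helper9.C6D4 Cfsg.Agent.Lib.Helper9.C6L4 in
/-- Elements of prime order of PSL_4(p), p ≡ 1 (mod 4), and the normalizer of a 2-group of symplectic type of order 2⁶. Here `T = PSL_4(F)` for the field `F` with `p` elements, `p` a prime with `p ≡ 1 (mod 4)`; `R` is an absolutely irreducible subgroup of GL_4(F) of order 2⁶ that is a 2-group of symplectic type of exponent 4 with centre of order 4 (the central product of the scalars of order 4 with an extraspecial group 2^{1+4}), and `H` is the subgroup of matrices of determinant 1 normalizing `R` — a subgroup of type 2⁴.Sp₄(2) (maximality is not assumed). Ω is the set of cosets of `H` in `T`, so an element of `T` of prime order `r` (a matrix `x` of determinant 1 with `x^r` scalar, `x` not scalar) fixes a point of Ω exactly when some conjugate of `x` by a matrix of determinant 1 normalizes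 `R`. Let `r` be a prime dividing the index of `H`. Then every element of `T` of order `r` fixes a point of Ω if and only if `r = 2`, or `r = 3` and `p ≡ 2 (mod 3)`, or `r = 5` and `p ≡ ±2 (mod 5)` (`p` has multiplicative order 4 modulo 5). -/
theorem result {F : Type*} [Field F] [Fintype F] {p : ℕ} [Fact p.Prime] [CharP F p] (hF : Fintype.card F = p) (hp4 : p % 4 = 1)
    (R : Subgroup (GL (Fin 4) F)) (hR : Cfsg.Geo.IsLinearSymplecticTypeData 2 R) (hR6 : Nat.card R = 2 ^ 6)
    (r : ℕ) [Fact r.Prime]
    (hΩ : r ∣ (Cfsg.Geo.subgroupNormalizer R).relIndex (Cfsg.Geo.specialLinear (Fin 4) F)) :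
    (∀ x ∈ Cfsg.Geo.specialLinear (Fin 4) F, (∃ z : F, ((x ^ r : GL (Fin 4) F) : Matrix (Fin 4) (Fin 4) F) = z • (1 : Matrix (Fin 4) (Fin 4) F)) →
      (∀ z : F, (x : Matrix (Fin 4) (Fin 4) F) ≠ z • (1 : Matrix (Fin 4) (Fin 4) F)) →
      ∃ g ∈ Cfsg.Geo.specialLinear (Fin 4) F, g⁻¹ * x * g ∈ Cfsg.Geo.subgroupNormalizer R) ↔ (r = 2 ∨ (r = 3 ∧ p % 3 = 2) ∨ (r = 5 ∧ orderOf (p : ZMod 5) = 4)) := by
  have hp : p.Prime := Fact.out
  have hodd : Odd p := by
    rcases hp.eq_two_or_odd' with h | h
    · subst h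
      omega
    · exact h
  have h2 : (2 : F) ≠ 0 := two_ne_zero_of_odd hodd
  have h3 : (3 : F) ≠ 0 := by
    intro h
    have h' : ((3 : ℕ) : F) = 0 := by exact_mod_cast h
    rw [CharP.cast_eq_zero_iff F p 3] at h'
    have := (Nat.prime_dvd_prime_iff_eq hp Nat.prime_three).1 h'
    subst this
    omega
  have hRs := hR.symplecticType
  have hRi := hR.absIrred
  have hRZ : Nat.card (Subgroup.center R) = 4 := by
    obtain ⟨p', e, hne, hmin, hcases⟩ := hR.field
    rcases hcases with ⟨hodd2, -⟩ | ⟨-, -, hZ, -⟩ | ⟨-, -, hcard, -⟩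
    · exact absurd hodd2 (by decide)
    · exact hZ
    · simp at hcard
  have hR64 : Nat.card R = 64 := by rw [hR6]; norm_num
  haveI : Nonempty (Fin 4) := ⟨0⟩
  obtain ⟨G1, G2, A, B, i, hC⟩ := exists_config4 h2 R hRs hRi hR64 hRZ
  have hr : r.Prime := Fact.out
  constructor
  · intro H
    by_contra hcon
    push Not at hcon
    obtain ⟨hr2, hr3, hr5⟩ := hcon
    by_cases h3' : r = 3
    · subst h3'
      have hp3 : p % 3 = 1 := by
        have hne3 : p % 3 ≠ 2 := hr3 rfl
        have hne0 : p % 3 ≠ 0 := by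
          intro h0
          have := (Nat.prime_dvd_prime_iff_eq Nat.prime_three hp).1 (Nat.dvd_of_mod_eq_zero h0)
          omega
        omega
      have hd3 : 3 ∣ Fintype.card F - 1 := by
        rw [hF]
        omega
      obtain ⟨ω, hω⟩ := Cfsg.Agent.Lib.C6Pk.exists_cube_root_unity hd3
      exact hC.fwd_three h2 h3 hRi hR64 ω hω H
    by_cases h5' : r = 5
    · subst h5'
      obtain ⟨τ, hτ⟩ := exists_tau (F := F) (p := p) h2 (hr5 rfl)
      exact hC.fwd_five h2 hRi hR64 τ hτ H
    · have hr7 : 7 ≤ r := by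
        by_contra hlt
        push Not at hlt
        have h1 := hr.two_le
        interval_cases r
        · exact hr2 rfl
        · exact h3' rfl
        · exact absurd hr (by decide)
        · exact h5' rfl
        · exact absurd hr (by decide)
      have hdvd : r ∣ Nat.card (Cfsg.Geo.specialLinear (Fin 4) F) :=
        dvd_trans hΩ (Subgroup.relIndex_dvd_card _ _)
      exact hC.fwd_large h2 hRi hR64 hRZ r hr hr7 hdvd H
  · rintro (rfl | ⟨rfl, hp3⟩ | ⟨rfl, h5⟩)
    · intro x hx ⟨z, hz⟩ hns
      exact hC.back_two h2 h3 x hx z hz hns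
    · intro x hx ⟨z, hz⟩ hns
      have hd3 : ¬ 3 ∣ Fintype.card F - 1 := by
        rw [hF]
        omega
      exact hC.back_three h2 h3 hd3 x hx z hz hns
    · intro x hx ⟨c, hc⟩ hns
      exact hC.back_five hF h5 h2 hRi x hx c hc hns

end Cfsg.Agent.S6000
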