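import Cfsg.Statements.S6001
import Cfsg.Agent.Lib.Helper9.C6U4f

set_option autoImplicit false
open scoped MatrixGroups
open Cfsg

namespace Cfsg.Agent.S6001

open Cfsg.Agent.Lib.Helper9.C6D4 Cfsg.Agent.Lib.Helper9.C6L4 Cfsg.Agent.Lib.Helper9.C6U4 in
/-- Elements of prime order of PSU_4(p), p ≡ 3 (mod 4), and the normalizer of a 2-group of symplectic type of order 2⁶. Here `T = PSU_4(p)` for a prime `p ≡ 3 (mod 4)`, realised through `SU_4(p)`, the matrices of determinant 1 over the field `F` with `p²` elements preserving the hermitian form `f = Σ uᵢvᵢ^p`; `R` is an absolutely irreducible subgroup of the full unitary group of `f` of order 2⁶ that is a 2-group of symplectic type of exponent 4 with centre of order 4, and `H` is the subgroup of `SU_4(p)` normalizing `R` — a subgroup of type 2⁴.Sp₄(2) (maximality is not assumed). Ω is the set of cosets of `H`, so an element of `T` of prime order `r` (`x ∈ SU_4(p)` with `x^r` scalar, `x` not scalar)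 fixes a point of Ω exactly when some `SU_4(p)`-conjugate of `x` normalizes `R`. Let `r` be a prime dividing the index of `H`. Then every element of `T` of order `r` fixes a point of Ω if and only if `r = 2`, or `r = 3` and `p ≡ 1 (mod 3)`, or `r = 5` and `p ≡ ±2 (mod 5)` (`p` has multiplicative order 4 modulo 5). -/
theorem result {F : Type*} [Field F] [Fintype F] {p : ℕ} [Fact p.Prime] [CharP F p] (hF : Fintype.card F = p ^ 2) (hp4 : p % 4 = 3)
    (R : Subgroup (GL (Fin 4) F)) (hRs : Cfsg.Geo.IsSymplecticTypeGroup 2 R) (hRi : Cfsg.Geo.ActsAbsolutelyIrreducibly (Cfsg.Geo.matrixSet R))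
    (hRU : R ≤ Cfsg.GU 4 F p) (hR6 : Nat.card R = 2 ^ 6) (hRZ : Nat.card (Subgroup.center R) = 4)
    (r : ℕ) [Fact r.Prime]
    (hΩ : r ∣ (Cfsg.Geo.subgroupNormalizer R).relIndex (Cfsg.GU 4 F p ⊓ Cfsg.Geo.specialLinear (Fin 4) F)) :
    (∀ x ∈ Cfsg.GU 4 F p ⊓ Cfsg.Geo.specialLinear (Fin 4) F, (∃ z : F, ((x ^ r : GL (Fin 4) F) : Matrix (Fin 4) (Fin 4) F) = z • (1 : Matrix (Fin 4) (Fin 4) F)) →
      (∀ z : F, (x : Matrix (Fin 4) (Fin 4) F) ≠ z • (1 : Matrix (Fin 4) (Fin 4) F)) →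
      ∃ g ∈ Cfsg.GU 4 F p ⊓ Cfsg.Geo.specialLinear (Fin 4) F, g⁻¹ * x * g ∈ Cfsg.Geo.subgroupNormalizer R) ↔ (r = 2 ∨ (r = 3 ∧ p % 3 = 1) ∨ (r = 5 ∧ orderOf (p : ZMod 5) = 4)) := by
  have hp : p.Prime := Fact.out
  have hodd : Odd p := by
    rcases hp.eq_two_or_odd' with h | h
    · subst h
      omega
    · exact h
  have h2 : (2 : F) ≠ 0 := two_ne_zero_of_odd hodd
  obtain ⟨σ, -, hσq⟩ := Cfsg.Agent.Lib.Helper2.HermDecomp.exists_sigma hF
  have hσ2 : ∀ a : F, σ (σ a) = a := by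
    intro a
    rw [hσq, hσq, ← pow_mul, ← sq, ← hF, FiniteField.pow_card]
  have hRU' : ∀ h ∈ R, IsUn σ ((h : GL (Fin 4) F) : Matrix (Fin 4) (Fin 4) F) :=
    fun h hh => (mem_GU_iff_isUn σ p hσq h).1 (hRU hh)
  have hR64 : Nat.card R = 64 := by rw [hR6]; norm_num
  haveI : Nonempty (Fin 4) := ⟨0⟩
  obtain ⟨G1, G2, A, B, i, hC⟩ := exists_config4 h2 R hRs hRi hR64 hRZ
  have hr : r.Prime := Fact.out
  constructor
  · intro H
    by_contra hcon
    push Not at hcon
    obtain ⟨hr2, hr3, hr5⟩ := hcon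
    by_cases h3' : r = 3
    · subst h3'
      exact Config4.fwd_three_U hF hp4 (hr3 rfl) h2 hC hRi hR64 σ hσq H
    by_cases h5' : r = 5
    · subst h5'
      exact Config4.fwd_five_U hF hp4 (hr5 rfl) h2 hC hRi hR64 σ hσq hσ2 H
    · have hr7 : 7 ≤ r := by
        by_contra hlt
        push Not at hlt
        have h1 := hr.two_le
        interval_cases r
        · exact hr2 rfl
        · exact h3' rfl
        · exact absurd hr (by decide)
        · exact h5' rfl
        · exact absurd hr (by decide)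
      have hdvd : r ∣ Nat.card (Cfsg.GU 4 F p ⊓ Cfsg.Geo.specialLinear (Fin 4) F :
          Subgroup (GL (Fin 4) F)) :=
        dvd_trans hΩ (Subgroup.relIndex_dvd_card _ _)
      exact Config4.fwd_large_U h2 hC hRi hR64 hRZ r hr hr7 hdvd H
  · rintro (rfl | ⟨rfl, hp3⟩ | ⟨rfl, h5⟩)
    · intro x hx ⟨z, hz⟩ hns
      obtain ⟨hxU, hxS⟩ := Subgroup.mem_inf.1 hx
      exact Config4.back_two_U hF hp4 h2 hC σ hσq hRU' x hxU hxS z hz hns
    · intro x hx ⟨z, hz⟩ hns
      obtain ⟨hxU, hxS⟩ := Subgroup.mem_inf.1 hx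
      exact Config4.back_three_U hF hp3 h2 hC σ hσq hRU' x hxU hxS z hz hns
    · intro x hx ⟨c, hc⟩ hns
      obtain ⟨hxU, hxS⟩ := Subgroup.mem_inf.1 hx
      exact Config4.back_five_U hF h5 h2 hC hRi σ hσq hRU' x hxU hxS c hc hns

end Cfsg.Agent.S6001
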