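import Cfsg.Statements.S6002
import Cfsg.Agent.Lib.Helper9.C6D4x

set_option autoImplicit false
open scoped MatrixGroups
open Cfsg

namespace Cfsg.Agent.S6002

open Cfsg.Agent.Lib.Helper9.C6D4 in
/-- Elements of prime order of PSp_4(p), p odd, and the normalizer of an extraspecial 2-group of order 2⁵ of minus type. -/
theorem result {F : Type*} [Field F] [Fintype F] {p : ℕ} [Fact p.Prime] [CharP F p] (hF : Fintype.card F = p) (hodd : Odd p)
    (R : Subgroup (GL (Fin 2 ⊕ Fin 2) F)) (hRs : Cfsg.Geo.IsSymplecticTypeGroup 2 R) (hRi : Cfsg.Geo.ActsAbsolutelyIrreducibly (Cfsg.Geo.matrixSet R))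
    (hRf : R ≤ Cfsg.spGL 2 F) (hR5 : Nat.card R = 2 ^ 5) (hRZ : Nat.card (Subgroup.center R) = 2) (hRm : Cfsg.Geo.IsOfMinusType 2 R)
    (r : ℕ) [Fact r.Prime]
    (hΩ : r ∣ (Cfsg.Geo.subgroupNormalizer R).relIndex (Cfsg.spGL 2 F)) :
    (∀ x ∈ Cfsg.spGL 2 F, (∃ z : F, ((x ^ r : GL (Fin 2 ⊕ Fin 2) F) : Matrix (Fin 2 ⊕ Fin 2) (Fin 2 ⊕ Fin 2) F) = z • (1 : Matrix (Fin 2 ⊕ Fin 2) (Fin 2 ⊕ Fin 2) F)) →
      (∀ z : F, (x : Matrix (Fin 2 ⊕ Fin 2) (Fin 2 ⊕ Fin 2) F) ≠ z • (1 : Matrix (Fin 2 ⊕ Fin 2) (Fin 2 ⊕ Fin 2) F)) →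
      ∃ g ∈ Cfsg.spGL 2 F, g⁻¹ * x * g ∈ Cfsg.Geo.subgroupNormalizer R) ↔ (r = 2 ∨ (r = 5 ∧ orderOf (p : ZMod 5) = 4)) := by
  have h2 : (2 : F) ≠ 0 := two_ne_zero_of_odd hodd
  obtain ⟨G1, G2, A, B, hC⟩ := exists_config h2 R hRs hRi hR5 hRZ hRm
  have hR32 : Nat.card R = 32 := by rw [hR5]; norm_num
  have hr : r.Prime := Fact.out
  constructor
  · intro H
    by_contra hcon
    push Not at hcon
    obtain ⟨hr2, hr5⟩ := hcon
    by_cases h3 : r = 3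
    · subst h3
      exact hC.fwd_three h2 hRi hR32 H
    by_cases h5 : r = 5
    · subst h5
      obtain ⟨τ, hτ⟩ := exists_tau (F := F) (p := p) h2 (hr5 rfl)
      exact hC.fwd_five h2 hRi hR32 τ hτ H
    · have hr7 : 7 ≤ r := by
        by_contra hlt
        push Not at hlt
        have h1 := hr.two_le
        interval_cases r
        · exact hr2 rfl
        · exact h3 rfl
        · exact absurd hr (by decide)
        · exact h5 rfl
        · exact absurd hr (by decide)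
      have hdvd : r ∣ Nat.card (Cfsg.spGL 2 F) :=
        dvd_trans hΩ (Subgroup.relIndex_dvd_card _ _)
      exact hC.fwd_large h2 hRi r hr hr7 hdvd H
  · rintro (rfl | ⟨rfl, h5⟩)
    · intro x hx ⟨z, hz⟩ hns
      exact hC.back_two h2 hRf x hx z hz hns
    · intro x hx ⟨c, hc⟩ hns
      exact hC.back_five hF h5 h2 hRi hRf x hx c hc hns

end Cfsg.Agent.S6002
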